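import Groth.Agent.EGAProj74.Dom
import Mathlib.Algebra.Category.Ring.Constructions
import Mathlib.AlgebraicGeometry.Pullbacks

/-!
Base change of Proj along degree zero.
-/

set_option autoImplicit false

universe u

open CategoryTheory CategoryTheory.Limits AlgebraicGeometry TopologicalSpace Opposite
open HomogeneousLocalization TensorProduct
open scoped HomogeneousIdeal

noncomputable section

namespace Groth.Agent.EGAProj74

variable {A σ : Type u} [CommRing A] [SetLike σ A] [AddSubgroupClass σ A] {𝒜 : ℕ → σ} [GradedRing 𝒜]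
variable {B τ : Type u} [CommRing B] [SetLike τ B] [AddSubgroupClass τ B] {ℬ : ℕ → τ} [GradedRing ℬ]
variable (ψ : 𝒜 →+*ᵍ ℬ)

/-- The homogeneous component as an additive map. -/
def compHom (i : ℕ) : A →+ A where
  toFun a := (DirectSum.decompose 𝒜 a i : A)
  map_zero' := by simp
  map_add' a b := by simp

theorem compHom_apply (i : ℕ) (a : A) :
    compHom (𝒜 := 𝒜) i a = (DirectSum.decompose 𝒜 a i : A) := rfl

theorem decompose_zero_mul (i : ℕ) {c : A} (hc : c ∈ 𝒜 0) (a : A) :
    (DirectSum.decompose 𝒜 (c * a) i : A) = c * (DirectSum.decompose 𝒜 a i : A) :=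
  DirectSum.coe_decompose_mul_of_left_mem_zero 𝒜 hc

theorem mk_decompose_map {d n : ℕ} {f : A} (hf : f ∈ 𝒜 d) (a : A) :
    Away.map ψ f (Away.mk 𝒜 hf n _ (DirectSum.decompose 𝒜 a (n • d)).2) =
      Away.mk ℬ (ψ.map_mem hf) n _ (DirectSum.decompose ℬ (ψ a) (n • d)).2 := by
  apply val_injective
  simp only [Away.map_mk, Away.val_mk, GradedRingHom.map_directSumDecompose]
  rfl

/-- `a ↦ a_(nd) / f ^ n` as an additive map. -/
def divHom {d : ℕ} {f : A} (hf : f ∈ 𝒜 d) (n : ℕ) : A →+ Away 𝒜 f where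
  toFun a := Away.mk 𝒜 hf n _ (DirectSum.decompose 𝒜 a (n • d)).2
  map_zero' := by
    apply val_injective
    simp [Localization.mk_zero]
  map_add' a b := by
    apply val_injective
    simp only [val_add, Away.val_mk, DirectSum.decompose_add, DirectSum.add_apply,
      AddMemClass.coe_add, Localization.add_mk_self]

theorem val_divHom {d : ℕ} {f : A} (hf : f ∈ 𝒜 d) (n : ℕ) (a : A) :
    (divHom hf n a).val =
      Localization.mk (DirectSum.decompose 𝒜 a (n • d) : A) ⟨f ^ n, pow_mem (Submonoid.mem_powers f) n⟩ :=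
  Away.val_mk 𝒜 n hf _ (DirectSum.decompose 𝒜 a (n • d)).2

theorem divHom_zero_mul {d : ℕ} {f : A} (hf : f ∈ 𝒜 d) (n : ℕ) (c : 𝒜 0) (a : A) :
    divHom hf n ((c : A) * a) = fromZeroRingHom 𝒜 (Submonoid.powers f) c * divHom hf n a := by
  apply val_injective
  rw [val_mul, val_divHom, val_divHom, decompose_zero_mul _ c.2]
  change _ = Localization.mk (c : A) ⟨1, _⟩ * _
  rw [Localization.mk_mul]
  congr 1
  ext
  simp

section linear

variable {R : Type u} [CommRing R] [Algebra R A] (h0 : ∀ r : R, algebraMap R A r ∈ 𝒜 0)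
variable {d : ℕ} {f : A} (hf : f ∈ 𝒜 d) [Algebra R (Away 𝒜 f)]
  (hv : ∀ r : R, (algebraMap R (Away 𝒜 f) r).val =
    algebraMap A (Localization.Away f) (algebraMap R A r))

/-- `a ↦ a_(nd) / f ^ n`. -/
def awayDiv (n : ℕ) : A →ₗ[R] Away 𝒜 f where
  toFun a := Away.mk 𝒜 hf n _ (DirectSum.decompose 𝒜 a (n • d)).2
  map_add' a b := by
    apply val_injective
    simp only [val_add, Away.val_mk, DirectSum.decompose_add, DirectSum.add_apply,
      AddMemClass.coe_add, Localization.add_mk_self]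
  map_smul' r a := by
    apply val_injective
    rw [RingHom.id_apply, Algebra.smul_def r (Away.mk 𝒜 hf n _ _), val_mul, hv, Away.val_mk,
      Away.val_mk, Algebra.smul_def r a, decompose_zero_mul _ (h0 r),
      ← Localization.mk_one_eq_algebraMap, Localization.mk_mul, one_mul]

include h0 in
theorem compHom_smul (i : ℕ) (r : R) (a : A) :
    compHom (𝒜 := 𝒜) i (r • a) = r • compHom (𝒜 := 𝒜) i a := by
  rw [compHom_apply, compHom_apply, Algebra.smul_def, Algebra.smul_def, decompose_zero_mul _ (h0 r)]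

/-- The homogeneous component as a linear map. -/
def compLin (i : ℕ) : A →ₗ[R] A where
  __ := compHom (𝒜 := 𝒜) i
  map_smul' := compHom_smul h0 i

theorem awayDiv_compLin (n : ℕ) :
    (awayDiv h0 hf hv n).comp (compLin h0 (n • d)) = awayDiv h0 hf hv n := by
  ext a
  simp [awayDiv, compLin, compHom_apply]

theorem awayDiv_pow_mul (n k : ℕ) (a : A) :
    awayDiv h0 hf hv (k + n) (f ^ k * a) = awayDiv h0 hf hv n a := by
  apply val_injective
  have e : (k + n) • d = k • d + n • d := add_smul k n d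
  simp only [awayDiv, LinearMap.coe_mk, AddHom.coe_mk, Away.val_mk]
  rw [e, DirectSum.coe_decompose_mul_add_of_left_mem 𝒜 (SetLike.pow_mem_graded k hf)]
  rw [Localization.mk_eq_mk_iff, Localization.r_iff_exists]
  exact ⟨1, by simp [pow_add]; ring⟩

end linear

theorem opensRange_of_isPullback {X Y Z W : Scheme.{u}} {fst : W ⟶ X} {snd : W ⟶ Y}
    {f : X ⟶ Z} {g : Y ⟶ Z} (h : IsPullback fst snd f g) [IsOpenImmersion f] [IsOpenImmersion snd] :
    snd.opensRange = g ⁻¹ᵁ f.opensRange := by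
  ext1
  change Set.range snd.base = g.base ⁻¹' Set.range f.base
  have e : Set.range (pullback.snd f g).base = g.base ⁻¹' Set.range f.base :=
    IsOpenImmersion.range_pullbackSnd f g
  rw [← h.isoPullback_hom_snd, Scheme.Hom.comp_base,
    TopCat.coe_comp, Set.range_comp,
    Set.range_eq_univ.mpr (show Function.Surjective h.isoPullback.hom from
      h.isoPullback.hom.homeomorph.surjective), Set.image_univ, e]

section main

variable {R R' : CommRingCat.{u}} (θ : R ⟶ R') (ρ : R ⟶ CommRingCat.of (𝒜 0))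
  (ρ' : R' ⟶ CommRingCat.of (ℬ 0))
  (hsq : IsPushout θ (ρ ≫ CommRingCat.ofHom (algebraMap (𝒜 0) A))
    (ρ' ≫ CommRingCat.ofHom (algebraMap (ℬ 0) B)) (CommRingCat.ofHom (ψ : A →+* B)))

include hsq in
theorem mem_span_of_pushout (b : B) :
    b ∈ AddSubgroup.closure {x : B | ∃ (r : R') (a : A), x = (ρ'.hom r : B) * ψ a} := by
  algebraize [θ.hom, ((algebraMap (𝒜 0) A).comp ρ.hom), ((algebraMap (ℬ 0) B).comp ρ'.hom),
    (ψ : A →+* B), ((algebraMap (ℬ 0) B).comp ρ'.hom).comp θ.hom]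
  have hc : (ψ : A →+* B).comp ((algebraMap (𝒜 0) A).comp ρ.hom) =
      ((algebraMap (ℬ 0) B).comp ρ'.hom).comp θ.hom := congr(($(hsq.w)).hom).symm
  have : IsScalarTower R A B := .of_algebraMap_eq' hc.symm
  have := CommRingCat.isPushout_iff_isPushout (R' := R') (S := A) (S' := B) |>.mp hsq
  obtain ⟨t, rfl⟩ := (Algebra.IsPushout.equiv R R' A B).surjective b
  induction t using TensorProduct.induction_on with
  | zero => rw [map_zero]; exact zero_mem _
  | tmul r a =>
    rw [Algebra.IsPushout.equiv_tmul]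
    exact AddSubgroup.subset_closure ⟨r, a, rfl⟩
  | add x y hx hy => rw [map_add]; exact add_mem hx hy

include hsq in
theorem irrelevant_le_map_of_pushout : ℬ₊ ≤ (𝒜₊).map ψ := by
  rw [HomogeneousIdeal.irrelevant_le]
  intro i hi b hb
  have key : ∀ x : B, x ∈ AddSubgroup.closure {x : B | ∃ (r : R') (a : A), x = (ρ'.hom r : B) * ψ a} →
      compHom (𝒜 := ℬ) i x ∈ ((𝒜₊).map ψ).toIdeal := by
    intro x hx
    induction hx using AddSubgroup.closure_induction with
    | mem x hx =>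
      obtain ⟨r, a, rfl⟩ := hx
      rw [compHom_apply, decompose_zero_mul _ (ρ'.hom r).2, ← GradedRingHom.map_directSumDecompose]
      exact Ideal.mul_mem_left _ _ (Ideal.mem_map_of_mem _
        (HomogeneousIdeal.mem_irrelevant_of_mem _ hi (SetLike.coe_mem _)))
    | zero => rw [map_zero]; exact zero_mem _
    | add x y _ _ hx hy => rw [map_add]; exact add_mem hx hy
    | neg x _ hx => rw [map_neg]; exact neg_mem hx
  have h := key b (mem_span_of_pushout ψ θ ρ ρ' hsq b)
  rwa [compHom_apply, DirectSum.decompose_of_mem_same ℬ hb] at h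

include hsq in
/-- Degree-zero homogeneous localizations commute with base change. -/
theorem isPushout_away {d : ℕ} {f : A} (hf : f ∈ 𝒜 d) :
    IsPushout θ (ρ ≫ CommRingCat.ofHom (fromZeroRingHom 𝒜 (Submonoid.powers f)))
      (ρ' ≫ CommRingCat.ofHom (fromZeroRingHom ℬ (Submonoid.powers (ψ f))))
      (CommRingCat.ofHom (Away.map ψ f)) := by
  algebraize [θ.hom, ((algebraMap (𝒜 0) A).comp ρ.hom), ((algebraMap (ℬ 0) B).comp ρ'.hom),
    (ψ : A →+* B), ((algebraMap (ℬ 0) B).comp ρ'.hom).comp θ.hom]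
  have hc : (ψ : A →+* B).comp ((algebraMap (𝒜 0) A).comp ρ.hom) =
      ((algebraMap (ℬ 0) B).comp ρ'.hom).comp θ.hom := congr(($(hsq.w)).hom).symm
  have : IsScalarTower R A B := .of_algebraMap_eq' hc.symm
  have := CommRingCat.isPushout_iff_isPushout (R' := R') (S := A) (S' := B) |>.mp hsq
  let e := Algebra.IsPushout.equiv R R' A B
  let Af := Away 𝒜 f
  let Bf := Away ℬ (ψ f)
  algebraize [((fromZeroRingHom 𝒜 (Submonoid.powers f)).comp ρ.hom),
    ((fromZeroRingHom ℬ (Submonoid.powers (ψ f))).comp ρ'.hom), Away.map ψ f,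
    (((fromZeroRingHom ℬ (Submonoid.powers (ψ f))).comp ρ'.hom).comp θ.hom)]
  have hcf : (Away.map ψ f).comp ((fromZeroRingHom 𝒜 (Submonoid.powers f)).comp ρ.hom) =
      ((fromZeroRingHom ℬ (Submonoid.powers (ψ f))).comp ρ'.hom).comp θ.hom := by
    ext r : 1
    apply val_injective
    change val (Away.map ψ f (HomogeneousLocalization.mk _)) = val (HomogeneousLocalization.mk _)
    rw [Away.map, HomogeneousLocalization.map_mk]
    simp only [val_mk, SetLike.GradeZero.coe_one, map_one]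
    exact congrArg (fun b : B => Localization.mk b _) congr($hc r)
  have : IsScalarTower R Af Bf := .of_algebraMap_eq' hcf.symm
  refine (CommRingCat.isPushout_iff_isPushout (R' := R') (S := Af) (S' := Bf)).mpr ?_
  have hvA : ∀ r : R, (algebraMap R Af r).val =
      algebraMap A (Localization.Away f) (algebraMap R A r) := fun r => by
    rw [← Localization.mk_one_eq_algebraMap]; rfl
  let Φ : R' ⊗[R] Af →ₐ[R'] Bf :=
    Algebra.TensorProduct.lift (Algebra.ofId R' Bf) (IsScalarTower.toAlgHom R Af Bf)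
      fun _ _ => Commute.all _ _
  have hΦ : ∀ (r : R') (x : Af), Φ (r ⊗ₜ x) = algebraMap R' Bf r * Away.map ψ f x := fun r x => rfl
  have h0 : ∀ r : R, algebraMap R A r ∈ 𝒜 0 := fun r => (ρ.hom r).2
  let D : ℕ → R' ⊗[R] A →ₗ[R] R' ⊗[R] Af := fun n => (awayDiv h0 hf hvA n).lTensor R'
  let DB : ℕ → B →+ Bf := fun n => divHom (ψ.map_mem hf) n
  have hDB : ∀ n (s : R' ⊗[R] A), Φ (D n s) = DB n (e s) := by
    intro n s
    induction s using TensorProduct.induction_on with
    | zero => simp only [map_zero]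
    | add x y hx hy => simp only [map_add, hx, hy]
    | tmul r a =>
      change Φ (r ⊗ₜ Away.mk 𝒜 hf n _ _) = _
      rw [hΦ, Algebra.IsPushout.equiv_tmul, mk_decompose_map]
      exact (divHom_zero_mul (ψ.map_mem hf) n (ρ'.hom r) (ψ a)).symm
  have hlift : ∀ t : R' ⊗[R] Af, ∃ n₀, ∀ n, n₀ ≤ n → ∃ s, D n s = t := by
    intro t
    induction t using TensorProduct.induction_on with
    | zero => exact ⟨0, fun n _ => ⟨0, map_zero _⟩⟩
    | add x y hx hy =>
      obtain ⟨a, ha⟩ := hx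
      obtain ⟨b, hb⟩ := hy
      refine ⟨max a b, fun n hn => ?_⟩
      obtain ⟨s, rfl⟩ := ha n (le_trans (le_max_left _ _) hn)
      obtain ⟨s', rfl⟩ := hb n (le_trans (le_max_right _ _) hn)
      exact ⟨s + s', map_add _ _ _⟩
    | tmul r x =>
      obtain ⟨n, a, ha, rfl⟩ := Away.mk_surjective 𝒜 hf x
      refine ⟨n, fun m hm => ⟨r ⊗ₜ (f ^ (m - n) * a), ?_⟩⟩
      change r ⊗ₜ awayDiv h0 hf hvA m (f ^ (m - n) * a) = _
      rw [show awayDiv h0 hf hvA m (f ^ (m - n) * a) =
          awayDiv h0 hf hvA (m - n + n) (f ^ (m - n) * a) by rw [Nat.sub_add_cancel hm],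
        awayDiv_pow_mul]
      congr 1
      apply val_injective
      simp only [awayDiv, LinearMap.coe_mk, AddHom.coe_mk, Away.val_mk]
      rw [DirectSum.decompose_of_mem_same 𝒜 ha]
  have hinj : Function.Injective Φ := by
    rw [injective_iff_map_eq_zero]
    intro t ht
    obtain ⟨n, hn⟩ := hlift t
    obtain ⟨s, rfl⟩ := hn n le_rfl
    rw [hDB] at ht
    have ht' := congr_arg val ht
    simp only [DB] at ht'
    erw [val_divHom, val_zero] at ht'
    rw [← Localization.mk_zero 1, Localization.mk_eq_mk_iff, Localization.r_iff_exists] at ht'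
    obtain ⟨⟨_, k, rfl⟩, hk⟩ := ht'
    simp only [OneMemClass.coe_one, one_mul, mul_zero] at hk
    let P : R' ⊗[R] A →ₗ[R] R' ⊗[R] A := (compLin h0 (n • d)).lTensor R'
    let M : R' ⊗[R] A →ₗ[R] R' ⊗[R] A := (LinearMap.mulLeft R (f ^ k)).lTensor R'
    have h1 : ∀ s, D (k + n) (M (P s)) = D n s := by
      intro s
      rw [← LinearMap.comp_apply, ← LinearMap.comp_apply]
      congr 1
      simp only [D, M, P, ← LinearMap.lTensor_comp]
      congr 1
      refine LinearMap.ext fun a => ?_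
      simp only [LinearMap.comp_apply, LinearMap.mulLeft_apply]
      rw [awayDiv_pow_mul]
      exact congr($(awayDiv_compLin h0 hf hvA n) a)
    have h2 : ∀ s, e (M (P s)) = ψ f ^ k * (DirectSum.decompose ℬ (e s) (n • d) : B) := by
      intro s
      induction s using TensorProduct.induction_on with
      | zero => simp
      | add x y hx hy => simp [hx, hy, mul_add]
      | tmul r a =>
        change e (r ⊗ₜ (f ^ k * compLin h0 (n • d) a)) = _
        simp only [e, Algebra.IsPushout.equiv_tmul]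
        change (ρ'.hom r : B) * ψ (f ^ k * (DirectSum.decompose 𝒜 a (n • d) : A)) =
          ψ f ^ k * (DirectSum.decompose ℬ ((ρ'.hom r : B) * ψ a) (n • d) : B)
        rw [decompose_zero_mul _ (ρ'.hom r).2, map_mul, map_pow, GradedRingHom.map_directSumDecompose]
        ring
    rw [← h1, (e.injective ((h2 s).trans (hk.trans (map_zero e).symm))), map_zero]
  have hsurj : Function.Surjective Φ := by
    intro y
    obtain ⟨n, b, hb, rfl⟩ := Away.mk_surjective ℬ (ψ.map_mem hf) y
    obtain ⟨s, rfl⟩ := e.surjective b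
    refine ⟨D n s, ?_⟩
    rw [hDB]
    apply val_injective
    erw [val_divHom]
    rw [DirectSum.decompose_of_mem_same ℬ hb, Away.val_mk]
    rfl
  let : Algebra Af (R' ⊗[R] Af) := Algebra.TensorProduct.rightAlgebra
  refine Algebra.IsPushout.of_equiv (AlgEquiv.ofBijective Φ ⟨hinj, hsurj⟩) ?_
  refine RingHom.ext fun x => ?_
  exact (hΦ 1 x).trans (by rw [map_one, one_mul]; rfl)

include hsq in
/-- `Proj` commutes with base change of the degree-zero coefficients. -/
theorem isPullback_map (hψ : ℬ₊ ≤ (𝒜₊).map ψ) :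
    IsPullback (Proj.map ψ hψ) (Proj.toSpecZero ℬ ≫ Spec.map ρ')
      (Proj.toSpecZero 𝒜 ≫ Spec.map ρ) (Spec.map θ) := by
  have hw0 : ∀ (d : ℕ) (hd : 0 < d) (f : A) (hf : f ∈ 𝒜 d),
      Proj.awayι ℬ (ψ f) (ψ.map_mem hf) hd ≫ Proj.map ψ hψ ≫ Proj.toSpecZero 𝒜 ≫ Spec.map ρ =
      Proj.awayι ℬ (ψ f) (ψ.map_mem hf) hd ≫ (Proj.toSpecZero ℬ ≫ Spec.map ρ') ≫ Spec.map θ := by
    intro d hd f hf
    simp only [Category.assoc]
    rw [Proj.awayι_comp_map_assoc _ _ hd _ hf, Proj.awayι_toSpecZero_assoc, Proj.awayι_toSpecZero_assoc]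
    simp only [← Spec.map_comp]
    rw [← (isPushout_away ψ θ ρ ρ' hsq hf).w]
    simp only [Category.assoc]
  have hw : Proj.map ψ hψ ≫ Proj.toSpecZero 𝒜 ≫ Spec.map ρ =
      (Proj.toSpecZero ℬ ≫ Spec.map ρ') ≫ Spec.map θ := by
    exact (Proj.mapAffineOpenCover ψ hψ).openCover.hom_ext _ _ fun s => hw0 _ s.1.2 _ s.2.2
  let Q := Proj.toSpecZero 𝒜 ≫ Spec.map ρ
  let k : Proj ℬ ⟶ pullback Q (Spec.map θ) :=
    pullback.lift (Proj.map ψ hψ) (Proj.toSpecZero ℬ ≫ Spec.map ρ') hw
  have hkfst : k ≫ pullback.fst _ _ = Proj.map ψ hψ := pullback.lift_fst _ _ _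
  have hksnd : k ≫ pullback.snd _ _ = Proj.toSpecZero ℬ ≫ Spec.map ρ' := pullback.lift_snd _ _ _
  have hpb : ∀ (d : ℕ) (hd : 0 < d) (f : A) (hf : f ∈ 𝒜 d),
      IsPullback (Spec.map (CommRingCat.ofHom (Away.map ψ f)))
        (Proj.awayι ℬ (ψ f) (ψ.map_mem hf) hd ≫ k) (Proj.awayι 𝒜 f hf hd)
        (pullback.fst Q (Spec.map θ)) := by
    intro d hd f hf
    refine IsPullback.of_bot ?_ ?_ (IsPullback.of_hasPullback Q (Spec.map θ))
    · have h := isPullback_SpecMap_of_isPushout _ _ _ _ (isPushout_away ψ θ ρ ρ' hsq hf).flip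
      rw [Category.assoc, hksnd]
      convert! h using 1 <;>
        simp only [Q, Proj.awayι_toSpecZero_assoc, Spec.map_comp]
    · rw [Category.assoc, hkfst, Proj.awayι_comp_map]
  have hoi : ∀ (d : ℕ) (hd : 0 < d) (f : A) (hf : f ∈ 𝒜 d),
      IsOpenImmersion (Proj.awayι ℬ (ψ f) (ψ.map_mem hf) hd ≫ k) := fun d hd f hf =>
    MorphismProperty.of_isPullback (P := @IsOpenImmersion.{u}) (hpb d hd f hf)
      (inferInstance : IsOpenImmersion (Proj.awayι 𝒜 f hf hd))
  have hloc : ∀ (d : ℕ) (hd : 0 < d) (f : A) (hf : f ∈ 𝒜 d),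
      IsIso (pullback.snd k (Proj.awayι ℬ (ψ f) (ψ.map_mem hf) hd ≫ k)) := by
    intro d hd f hf
    have := hoi d hd f hf
    have h2 : IsPullback (𝟙 _) (Proj.awayι ℬ (ψ f) (ψ.map_mem hf) hd)
        (Proj.awayι ℬ (ψ f) (ψ.map_mem hf) hd ≫ k) k := by
      refine IsOpenImmersion.isPullback _ _ _ _ (by simp) ?_
      rw [opensRange_of_isPullback (hpb d hd f hf), ← Scheme.Hom.comp_preimage, hkfst,
        Proj.opensRange_awayι, Proj.opensRange_awayι, Proj.map_preimage_basicOpen]
    rw [← h2.flip.isoPullback_inv_snd]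
    infer_instance
  have hiso : IsIso k := by
    let 𝒰 : (pullback Q (Spec.map θ)).OpenCover :=
      { I₀ := Σ d : {d : ℕ // 0 < d}, 𝒜 d.1
        X s := Spec (CommRingCat.of (Away ℬ (ψ s.2)))
        f s := Proj.awayι ℬ (ψ s.2) (ψ.map_mem s.2.2) s.1.2 ≫ k
        mem₀ := by
          rw [Scheme.presieve₀_mem_precoverage_iff]
          refine ⟨fun x => ?_, fun s => hoi _ s.1.2 _ s.2.2⟩
          obtain ⟨s, y, hy⟩ : ∃ (s : (Proj.affineOpenCover 𝒜).openCover.I₀) (y : _),
              ((Proj.affineOpenCover 𝒜).openCover.f s).base y = (pullback.fst Q (Spec.map θ)).base x :=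
            ⟨_, Scheme.Cover.covers _ _⟩
          refine ⟨⟨⟨s.1, s.1.2⟩, s.2⟩, ?_⟩
          obtain ⟨z, -, hz⟩ := Scheme.exists_preimage_of_isPullback (hpb _ s.1.2 _ s.2.2) y x hy
          exact ⟨z, hz⟩ }
    refine IsZariskiLocalAtTarget.of_openCover (P := MorphismProperty.isomorphisms Scheme.{u}) 𝒰
      fun s => ?_
    change IsIso (pullback.snd k (Proj.awayι ℬ (ψ (s.2 : A)) (ψ.map_mem s.2.2) s.1.2 ≫ k))
    exact hloc _ s.1.2 _ s.2.2
  exact IsPullback.of_iso_pullback ⟨hw⟩ (asIso k) hkfst hksnd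

include hsq in
theorem isOpenImmersion_map (hψ : ℬ₊ ≤ (𝒜₊).map ψ) [IsOpenImmersion (Spec.map θ)] :
    IsOpenImmersion (Proj.map ψ hψ) :=
  MorphismProperty.of_isPullback (P := @IsOpenImmersion) (isPullback_map ψ θ ρ ρ' hsq hψ).flip
    inferInstance

end main

end Groth.Agent.EGAProj74
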