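import Groth.Agent.EGAProj74.BaseChange

/-!
Graded rings generated in degree one.
-/

set_option autoImplicit false

universe u

open CategoryTheory CategoryTheory.Limits AlgebraicGeometry TopologicalSpace
open HomogeneousLocalization
open scoped HomogeneousIdeal

noncomputable section

namespace Groth.Agent.EGAProj74

variable {A σ : Type u} [CommRing A] [SetLike σ A] [AddSubgroupClass σ A] {𝒜 : ℕ → σ} [GradedRing 𝒜]
variable (hgen : Subring.closure ((𝒜 0 : Set A) ∪ (𝒜 1 : Set A)) = ⊤)
include hgen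

theorem mem_closure_mul_of_gen {n : ℕ} {x : A} (hx : x ∈ 𝒜 (n + 1)) :
    x ∈ AddSubgroup.closure {z : A | ∃ a ∈ 𝒜 n, ∃ b ∈ 𝒜 1, z = a * b} := by
  classical
  have hm : ∀ z ∈ Submonoid.closure ((𝒜 0 : Set A) ∪ (𝒜 1 : Set A)),
      ∃ m, z ∈ 𝒜 m ∧ ∀ k, m = k + 1 → ∃ a ∈ 𝒜 k, ∃ b ∈ 𝒜 1, z = a * b := by
    intro z hz
    induction hz using Submonoid.closure_induction with
    | mem z hz =>
      rcases hz with hz | hz
      · exact ⟨0, hz, fun k hk => absurd hk (by omega)⟩
      · exact ⟨1, hz, fun k hk => ⟨1, by simpa [show k = 0 by omega] using SetLike.one_mem_graded 𝒜,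
          z, hz, (one_mul z).symm⟩⟩
    | one => exact ⟨0, SetLike.one_mem_graded 𝒜, fun k hk => absurd hk (by omega)⟩
    | mul x y _ _ hx hy =>
      obtain ⟨i, hi, hi'⟩ := hx
      obtain ⟨j, hj, hj'⟩ := hy
      refine ⟨i + j, SetLike.mul_mem_graded hi hj, fun k hk => ?_⟩
      rcases j with - | j
      · obtain ⟨a, ha, b, hb, rfl⟩ := hi' k (by omega)
        exact ⟨a * y, by simpa using SetLike.mul_mem_graded ha hj, b, hb, by ring⟩
      · obtain ⟨a, ha, b, hb, rfl⟩ := hj' j rfl
        refine ⟨x * a, ?_, b, hb, by ring⟩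
        rw [show k = i + j by omega]
        exact SetLike.mul_mem_graded hi ha
  have hall : ∀ y : A, (DirectSum.decompose 𝒜 y (n + 1) : A) ∈
      AddSubgroup.closure {z : A | ∃ a ∈ 𝒜 n, ∃ b ∈ 𝒜 1, z = a * b} := by
    intro y
    have hy : y ∈ Subring.closure ((𝒜 0 : Set A) ∪ (𝒜 1 : Set A)) := by rw [hgen]; trivial
    rw [Subring.mem_closure_iff] at hy
    induction hy using AddSubgroup.closure_induction with
    | mem z hz =>
      obtain ⟨m, hm1, hm2⟩ := hm z hz
      by_cases h : m = n + 1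
      · subst h
        rw [DirectSum.decompose_of_mem_same 𝒜 hm1]
        exact AddSubgroup.subset_closure (hm2 n rfl)
      · rw [DirectSum.decompose_of_mem_ne 𝒜 hm1 h]
        exact zero_mem _
    | zero => simp
    | add a b _ _ ha hb => simpa using add_mem ha hb
    | neg a _ ha =>
      rw [← compHom_apply, map_neg]
      exact neg_mem ha
  simpa [DirectSum.decompose_of_mem_same 𝒜 hx] using hall x

theorem irrelevant_le_span_one_of_gen :
    (HomogeneousIdeal.irrelevant 𝒜).toIdeal ≤ Ideal.span (𝒜 1 : Set A) := by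
  refine (HomogeneousIdeal.toIdeal_irrelevant_le _).mpr fun i hi x hx => ?_
  obtain ⟨k, rfl⟩ := Nat.exists_eq_succ_of_ne_zero hi.ne'
  refine (AddSubgroup.closure_le (K := (Ideal.span (𝒜 1 : Set A)).toAddSubgroup)).mpr ?_
    (mem_closure_mul_of_gen hgen hx)
  rintro _ ⟨a, -, b, hb, rfl⟩
  exact Ideal.mul_mem_left _ a (Ideal.subset_span hb)

variable {R : Type u} [CommRing R] (ρ : R →+* 𝒜 0) (T : Finset A)
  (hT : (↑T : Set A) ⊆ (𝒜 1 : Set A))
  (hspan : ∀ x ∈ 𝒜 1, ∃ c : A → R, x = ∑ t ∈ T, (ρ (c t) : A) * t)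
include hT hspan

omit hT in
theorem irrelevant_le_span_finset :
    (HomogeneousIdeal.irrelevant 𝒜).toIdeal ≤ Ideal.span (↑T : Set A) := by
  refine (irrelevant_le_span_one_of_gen hgen).trans (Ideal.span_le.mpr fun x hx => ?_)
  obtain ⟨c, rfl⟩ := hspan x hx
  exact Ideal.sum_mem _ fun t ht => Ideal.mul_mem_left _ _ (Ideal.subset_span ht)

theorem away_finiteType_of_gen {t : A} (ht : t ∈ T) :
    ((fromZeroRingHom 𝒜 (Submonoid.powers t)).comp ρ).FiniteType := by
  classical
  let := ((fromZeroRingHom 𝒜 (Submonoid.powers t)).comp ρ).toAlgebra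
  have ht1 : t ∈ 𝒜 1 := hT ht
  let q : T → Away 𝒜 t := fun s => Away.mk 𝒜 ht1 1 s.1 (by simpa using hT s.2)
  let B := Algebra.adjoin R (Set.range q)
  have h1 : ∀ x (hx : x ∈ 𝒜 1), Away.mk 𝒜 ht1 1 x (by simpa using hx) ∈ B := by
    intro x hx
    obtain ⟨c, hc⟩ := hspan x hx
    have e : Away.mk 𝒜 ht1 1 x (by simpa using hx) =
        ∑ s ∈ T.attach, algebraMap R (Away 𝒜 t) (c s.1) * q s := by
      apply val_injective
      rw [← HomogeneousLocalization.algebraMap_apply, ← HomogeneousLocalization.algebraMap_apply, map_sum, HomogeneousLocalization.algebraMap_apply, Away.val_mk, hc]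
      rw [← Finset.sum_attach T, Localization.mk_sum]
      refine Finset.sum_congr rfl fun s _ => ?_
      rw [HomogeneousLocalization.algebraMap_apply, val_mul, Away.val_mk]
      change _ = Localization.mk (ρ (c s.1) : A) _ * _
      rw [Localization.mk_mul]
      congr 1
      ext
      simp
    rw [e]
    exact sum_mem fun s _ => mul_mem (B.algebraMap_mem _) (Algebra.subset_adjoin ⟨s, rfl⟩)
  have hn : ∀ (n : ℕ) (a : A), a ∈ 𝒜 n → divHom ht1 n a ∈ B := by
    intro n
    induction n with
    | zero =>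
      intro a ha
      have hat : a * t ∈ 𝒜 1 := by simpa using SetLike.mul_mem_graded ha ht1
      convert h1 (a * t) hat using 1
      apply val_injective
      rw [val_divHom, zero_smul, DirectSum.decompose_of_mem_same 𝒜 ha, Away.val_mk,
        Localization.mk_eq_mk_iff, Localization.r_iff_exists]
      exact ⟨1, by simp [mul_comm]⟩
    | succ n ih =>
      intro a ha
      refine (AddSubgroup.closure_le (K := (B.toSubring.toAddSubgroup.comap (divHom ht1 (n + 1))))).mpr
        ?_ (mem_closure_mul_of_gen hgen ha)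
      rintro _ ⟨x, hx, y, hy, rfl⟩
      have e : divHom ht1 (n + 1) (x * y) =
          divHom ht1 n x * Away.mk 𝒜 ht1 1 y (by simpa using hy) := by
        apply val_injective
        rw [val_mul, val_divHom, val_divHom, Away.val_mk, smul_eq_mul, smul_eq_mul, mul_one, mul_one, DirectSum.decompose_of_mem_same 𝒜 hx,
          DirectSum.decompose_of_mem_same 𝒜 (SetLike.mul_mem_graded hx hy), Localization.mk_mul]
        congr 1
        ext
        simp [pow_succ]
      change divHom ht1 (n + 1) (x * y) ∈ B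
      rw [e]
      exact mul_mem (ih x hx) (h1 y hy)
  refine ⟨⟨Finset.univ.image q, ?_⟩⟩
  rw [Finset.coe_image, Finset.coe_univ, Set.image_univ]
  refine eq_top_iff.mpr fun z _ => ?_
  obtain ⟨n, a, ha, rfl⟩ := Away.mk_surjective 𝒜 ht1 z
  have := hn n a (by simpa using ha)
  convert this using 1
  apply val_injective
  rw [val_divHom, smul_eq_mul, mul_one, DirectSum.decompose_of_mem_same 𝒜 (by simpa using ha), Away.val_mk]

end Groth.Agent.EGAProj74
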