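import Groth.Agent.EGAProj74.RelBasic

/-!
Existence of relative homogeneous spectra.
-/

set_option autoImplicit false

universe u

open CategoryTheory CategoryTheory.Limits AlgebraicGeometry TopologicalSpace Opposite
open scoped HomogeneousIdeal

noncomputable section

namespace Groth.Agent.EGAProj74

variable {S : Scheme.{u}} (𝒮 : RelProj.QCGrAlg S)

/-- `U ↦ Proj 𝒮(U)`. -/
def projFunctor : S.AffineZariskiSite ⥤ Scheme.{u} where
  obj U := Proj (𝒮.deg U.1 U.2)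
  map {V U} i := Proj.map (𝒮.res U.2 V.2 (Scheme.AffineZariskiSite.toOpens_mono i.le))
    (irrelevant_le_map_res 𝒮 U.2 V.2 _)
  map_id U := by
    refine (map_congr (g := GradedRingHom.id (𝒮.deg U.1 U.2)) ?_ _ (by simp)).trans Proj.map_id
    ext x
    exact congr($(𝒮.presheaf.map_id (op U.1)).hom x)
  map_comp {W V U} i j := by
    rw [← Proj.map_comp]
    exact map_congr (res_comp 𝒮 U.2 V.2 W.2 _ _).symm _ _

/-- `Proj 𝒮(U) ⟶ U`. -/
def projToOpen (U : S.AffineZariskiSite) : (projFunctor 𝒮).obj U ⟶ (U.1 : Scheme.{u}) :=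
  Proj.toSpecZero (𝒮.deg U.1 U.2) ≫ Spec.map (𝒮.strZero U.1 U.2) ≫ U.2.isoSpec.inv

@[reassoc]
theorem projToOpen_ι (U : S.AffineZariskiSite) :
    projToOpen 𝒮 U ≫ U.1.ι =
      Proj.toSpecZero (𝒮.deg U.1 U.2) ≫ Spec.map (𝒮.strZero U.1 U.2) ≫ U.2.fromSpec := by
  change (Proj.toSpecZero (𝒮.deg U.1 U.2) ≫ Spec.map (𝒮.strZero U.1 U.2) ≫ U.2.isoSpec.inv) ≫ U.1.ι = _
  exact ((Category.assoc _ _ _).trans (congrArg _ (Category.assoc _ _ _))).trans
    (congrArg _ (congrArg _ U.2.isoSpec_inv_ι))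

theorem isPullback_toSpec {U : S.Opens} (hU : IsAffineOpen U) (r : Γ(S, U)) :
    IsPullback (Proj.map (𝒮.res hU (hU.basicOpen r) (S.basicOpen_le r)) (𝒮.irrelevant_le_map U hU r))
      (Proj.toSpecZero _ ≫ Spec.map (𝒮.strZero (S.basicOpen r) (hU.basicOpen r)))
      (Proj.toSpecZero _ ≫ Spec.map (𝒮.strZero U hU))
      (Spec.map (S.presheaf.map (homOfLE (S.basicOpen_le r)).op)) :=
  isPullback_map _ _ _ _ (isPushout_res 𝒮 hU r) _

theorem isPullback_projToOpen {U : S.Opens} (hU : IsAffineOpen U) (r : Γ(S, U)) :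
    IsPullback ((projFunctor 𝒮).map (homOfLE (Scheme.AffineZariskiSite.basicOpen_le ⟨U, hU⟩ r)))
      (projToOpen 𝒮 (Scheme.AffineZariskiSite.basicOpen ⟨U, hU⟩ r)) (projToOpen 𝒮 ⟨U, hU⟩)
      (S.homOfLE (S.basicOpen_le r)) := by
  have h1 : IsPullback (Spec.map (S.presheaf.map (homOfLE (S.basicOpen_le r)).op))
      (hU.basicOpen r).isoSpec.inv hU.isoSpec.inv (S.homOfLE (S.basicOpen_le r)) := by
    refine IsPullback.of_vert_isIso ⟨?_⟩
    rw [← cancel_mono U.ι]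
    simp
    exact hU.map_fromSpec (hU.basicOpen r) _
  have h2 := (isPullback_toSpec 𝒮 hU r).paste_vert h1
  simpa only [Category.assoc] using! h2

theorem projToOpen_natural {V U : S.AffineZariskiSite} (i : V ⟶ U) :
    (projFunctor 𝒮).map i ≫ projToOpen 𝒮 U =
      projToOpen 𝒮 V ≫ S.homOfLE (Scheme.AffineZariskiSite.toOpens_mono i.le) := by
  obtain ⟨U, hU⟩ := U
  obtain ⟨r, hr⟩ := i.le
  obtain rfl : Scheme.AffineZariskiSite.basicOpen ⟨U, hU⟩ r = V := Subtype.ext hr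
  exact (isPullback_projToOpen 𝒮 hU r).w

/-- The gluing data of the relative Proj. -/
def projGlueData : (Scheme.AffineZariskiSite.directedCover S).RelativeGluingData where
  functor := projFunctor 𝒮
  natTrans :=
    { app := fun U => projToOpen 𝒮 U
      naturality := fun V U i => projToOpen_natural 𝒮 i }
  equifibered := by
    rintro V ⟨U, hU⟩ i
    obtain ⟨r, hr⟩ := i.le
    obtain rfl : Scheme.AffineZariskiSite.basicOpen ⟨U, hU⟩ r = V := Subtype.ext hr
    exact isPullback_projToOpen 𝒮 hU r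

instance : ((projGlueData 𝒮).functor ⋙ Scheme.forget).IsLocallyDirected :=
  Scheme.Cover.RelativeGluingData.instIsLocallyDirectedI₀CompFunctorForgetOfIsThin ..

/-- The relative Proj. -/
def relProj : Scheme.{u} := (projGlueData 𝒮).glued

/-- Its structure morphism. -/
def relProjTo : relProj 𝒮 ⟶ S := (projGlueData 𝒮).toBase

/-- The immersion of `Proj 𝒮(U)`. -/
def relProjι (U : S.Opens) (hU : IsAffineOpen U) : Proj (𝒮.deg U hU) ⟶ relProj 𝒮 :=
  (projGlueData 𝒮).cover.f ⟨U, hU⟩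

instance (U : S.Opens) (hU : IsAffineOpen U) : IsOpenImmersion (relProjι 𝒮 U hU) :=
  (projGlueData 𝒮).cover.map_prop _

theorem relProjι_to (U : S.Opens) (hU : IsAffineOpen U) :
    relProjι 𝒮 U hU ≫ relProjTo 𝒮 =
      Proj.toSpecZero (𝒮.deg U hU) ≫ Spec.map (𝒮.strZero U hU) ≫ hU.fromSpec :=
  ((projGlueData 𝒮).ι_toBase ⟨U, hU⟩).trans (projToOpen_ι 𝒮 ⟨U, hU⟩)

theorem relProjTo_preimage (U : S.Opens) (hU : IsAffineOpen U) :
    relProjTo 𝒮 ⁻¹ᵁ U = (relProjι 𝒮 U hU).opensRange := by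
  simpa using! (projGlueData 𝒮).toBase_preimage_eq_opensRange_ι ⟨U, hU⟩

/-- The charts. -/
def relProjChart (U : S.Opens) (hU : IsAffineOpen U) :
    ((relProjTo 𝒮 ⁻¹ᵁ U : (relProj 𝒮).Opens) : Scheme.{u}) ≅ Proj (𝒮.deg U hU) :=
  (relProj 𝒮).isoOfEq (relProjTo_preimage 𝒮 U hU) ≪≫ (relProjι 𝒮 U hU).isoOpensRange.symm

@[reassoc]
theorem relProjChart_hom_ι (U : S.Opens) (hU : IsAffineOpen U) :
    (relProjChart 𝒮 U hU).hom ≫ relProjι 𝒮 U hU = (relProjTo 𝒮 ⁻¹ᵁ U).ι := by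
  simp [relProjChart]

theorem map_res_relProjι (U : S.Opens) (hU : IsAffineOpen U) (r : Γ(S, U)) :
    Proj.map (𝒮.res hU (hU.basicOpen r) (S.basicOpen_le r)) (𝒮.irrelevant_le_map U hU r) ≫
      relProjι 𝒮 U hU = relProjι 𝒮 (S.basicOpen r) (hU.basicOpen r) :=
  colimit.w (projGlueData 𝒮).functor (homOfLE (Scheme.AffineZariskiSite.basicOpen_le ⟨U, hU⟩ r))

theorem isRelProj_relProj : RelProj.IsRelProj 𝒮 (relProjTo 𝒮) (relProjChart 𝒮) where
  chart_over U hU := by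
    rw [← relProjι_to 𝒮 U hU, relProjChart_hom_ι_assoc]
  chart_res U hU r := by
    rw [← cancel_mono (relProjι 𝒮 U hU), Category.assoc, Category.assoc, relProjChart_hom_ι,
      Scheme.homOfLE_ι, map_res_relProjι, relProjChart_hom_ι]

end Groth.Agent.EGAProj74
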