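import Groth.Agent.EGAProj74.AffGlue

/-!
A module identified with a direct image over the image of an open immersion restricts to the given module.
-/

set_option autoImplicit false
set_option backward.isDefEq.respectTransparency.types false

universe u

open CategoryTheory CategoryTheory.Limits AlgebraicGeometry TopologicalSpace Opposite

noncomputable section

namespace Groth.Agent.EGAProj74

variable {P Q : Scheme.{u}} (e : Q ⟶ P) [IsOpenImmersion e] {F : P.Modules} {G : Q.Modules}
  (φ : F ⟶ (Scheme.Modules.pushforward e).obj G)

/-- The adjoint of `φ : F ⟶ e_* G`. -/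
def restrictHom : F.restrict e ⟶ G :=
  (Scheme.Modules.restrictFunctor e).map φ ≫ (Scheme.Modules.restrictAdjunction e).counit.app G

theorem isIso_restrictHom (hφ : ∀ W : P.Opens, W ≤ e.opensRange → Function.Bijective (φ.app W)) :
    IsIso (restrictHom e φ) := by
  have : IsIso ((Scheme.Modules.restrictFunctor e).map φ) := by
    rw [Scheme.Modules.Hom.isIso_iff_isIso_app]
    intro W
    rw [ConcreteCategory.isIso_iff_bijective]
    exact hφ (e ''ᵁ W) (e.image_le_opensRange W)
  exact IsIso.comp_isIso

end Groth.Agent.EGAProj74
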