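import Groth.Agent.EGAProj74.TildeSys
import Groth.Agent.EGAProj74.RestrictChart
import Groth.Agent.EGAProj74.GrT.TildeQCoh

/-!
`𝒮` as a graded module over itself; twisting sheaves as modules attached to it; quasi-coherence.
-/

set_option autoImplicit false
set_option backward.isDefEq.respectTransparency.types false

universe u

open CategoryTheory CategoryTheory.Limits AlgebraicGeometry TopologicalSpace Opposite
open Groth.Agent.QC70
open scoped HomogeneousIdeal

noncomputable section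

namespace Groth.Agent.EGAProj74

variable {S : Scheme.{u}} (𝒮 : RelProj.QCGrAlg S)

/-- `𝒮` as a graded module over itself. -/
def selfModule : RelProj.GrModule 𝒮 where
  mod := SheafOfModules.unit (AMod.ringSheaf 𝒮.toQCAlg)
  deg U hU := 𝒮.deg U hU
  decomp U hU := (inferInstance : DirectSum.Decomposition (𝒮.deg U hU))
  gradedSMul U hU := ⟨fun {i j a m} ha hm => SetLike.mul_mem_graded (A := 𝒮.deg U hU) ha hm⟩
  map_mem hU hV i := fun h => 𝒮.map_mem hU hV i h

theorem isQCoh_selfModule : Coh.IsQCoh ((AMod.toOS 𝒮.toQCAlg).obj (selfModule 𝒮).mod) := by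
  refine isQuasicoherent_of_forall_isLocAt _ fun U hU => ⟨fun r s => ?_, fun r t ht => ?_⟩
  · let := (𝒮.presheaf.map (homOfLE (S.basicOpen_le r)).op).hom.toAlgebra
    have : IsLocalization.Away ((𝒮.str.app (op U)).hom r) (𝒮.presheaf.obj (op (S.basicOpen r))) := 𝒮.isQC U hU r
    let s' : 𝒮.presheaf.obj (op (S.basicOpen r)) := s
    obtain ⟨k, b, hb⟩ := IsLocalization.Away.surj ((𝒮.str.app (op U)).hom r) s'
    refine ⟨k, b, ?_⟩
    change (𝒮.presheaf.map (homOfLE (S.basicOpen_le r)).op).hom b =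
      (𝒮.str.app (op (S.basicOpen r))).hom (resO S (S.basicOpen_le r) r ^ k) * s'
    rw [show (𝒮.presheaf.map (homOfLE (S.basicOpen_le r)).op).hom b = _ from hb.symm, map_pow, mul_comm]
    exact congrArg (fun c => c ^ k * s')
      (congr($(𝒮.str.naturality (homOfLE (S.basicOpen_le r)).op).hom r)).symm
  · let := (𝒮.presheaf.map (homOfLE (S.basicOpen_le r)).op).hom.toAlgebra
    have : IsLocalization.Away ((𝒮.str.app (op U)).hom r) (𝒮.presheaf.obj (op (S.basicOpen r))) := 𝒮.isQC U hU r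
    obtain ⟨⟨_, k, rfl⟩, hk⟩ := (IsLocalization.map_eq_zero_iff (Submonoid.powers ((𝒮.str.app (op U)).hom r))
      (𝒮.presheaf.obj (op (S.basicOpen r))) (show 𝒮.presheaf.obj (op U) from t)).mp ht
    refine ⟨k, ?_⟩
    change (𝒮.str.app (op U)).hom (r ^ k) * (show 𝒮.presheaf.obj (op U) from t) = 0
    rw [map_pow]
    exact hk

variable {𝒮} {P : Scheme.{u}} {p : P ⟶ S}
  {chart : ∀ (U : S.Opens) (hU : IsAffineOpen U), (((p ⁻¹ᵁ U : P.Opens) : Scheme.{u}) ≅ Proj (𝒮.deg U hU))}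

variable (p chart) in
/-- `(emb U)_* O(n) ≅ (emb U)_* 𝒮(U)(n)~`. -/
def twistToTilde (n : ℤ) (U : S.Opens) (hU : IsAffineOpen U) :
    (Scheme.Modules.pushforward (RelProj.emb p chart U hU)).obj (GrTwist.twist (𝒮.deg U hU) n) ≅
      tildeObj p chart (selfModule 𝒮) n U hU :=
  (Scheme.Modules.pushforward (RelProj.emb p chart U hU)).mapIso (GrT.twistIsoTilde (𝒮.deg U hU) n)

theorem val_twistToTilde (n : ℤ) (U : S.Opens) (hU : IsAffineOpen U) (W : P.Opens)
    (s : Γ((Scheme.Modules.pushforward (RelProj.emb p chart U hU)).obj (GrTwist.twist (𝒮.deg U hU) n), W))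
    (y : (RelProj.emb p chart U hU ⁻¹ᵁ W : (Proj (𝒮.deg U hU)).Opens)) :
    GrMod.val (V := RelProj.emb p chart U hU ⁻¹ᵁ W) (((twistToTilde p chart n U hU).hom.app W) s) y =
      GrTwist.val (V := RelProj.emb p chart U hU ⁻¹ᵁ W) s y := rfl

theorem locModMap_self {U V : S.Opens} (hU : IsAffineOpen U) (hV : IsAffineOpen V) (i : V ≤ U)
    (y : Proj (𝒮.deg V hV))
    (q : GrTwist.Loc (𝒮.deg U hU) (ProjectiveSpectrum.comap (𝒮.res hU hV i) (irrelevant_le_map_res 𝒮 hU hV i) y)) :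
    GrMod.locModMap (𝒮.res hU hV i) (irrelevant_le_map_res 𝒮 hU hV i) ((selfModule 𝒮).res hU hV i) y q =
      GrTwist.locMap (𝒮.res hU hV i) (irrelevant_le_map_res 𝒮 hU hV i) y q := by
  induction q using Localization.induction_on with
  | H m => exact (GrTwist.locMap_mk _ _ y m.1 m.2).symm

variable {hP : RelProj.IsRelProj 𝒮 p chart} {n : ℤ} {L : P.Modules}
  {lam : ∀ (U : S.Opens) (hU : IsAffineOpen U),
    L ⟶ (Scheme.Modules.pushforward (RelProj.emb p chart U hU)).obj (GrTwist.twist (𝒮.deg U hU) n)}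

include hP in
theorem isRelTilde_of_isRelTwist (hL : RelProj.IsRelTwist 𝒮 p chart n L lam) :
    RelProj.IsRelTilde 𝒮 p chart (selfModule 𝒮) n L fun U hU => lam U hU ≫ (twistToTilde p chart n U hU).hom where
  bijective U hU W hW := (ConcreteCategory.bijective_of_isIso ((twistToTilde p chart n U hU).hom.app W)).comp
    (hL.bijective U hU W hW)
  compat U hU r W s y hy hy' :=
    (hL.compat U hU r W s y hy hy').trans (locModMap_self hU (hU.basicOpen r) (S.basicOpen_le r) y _).symm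

include hP in
theorem exists_isRelTwist (n : ℤ) :
    ∃ (L : P.Modules) (lam : ∀ (U : S.Opens) (hU : IsAffineOpen U),
      L ⟶ (Scheme.Modules.pushforward (RelProj.emb p chart U hU)).obj (GrTwist.twist (𝒮.deg U hU) n)),
      RelProj.IsRelTwist 𝒮 p chart n L lam := by
  obtain ⟨F, mu, hF⟩ := exists_isRelTilde (hP := hP) (n := n) (isQCoh_selfModule 𝒮)
  refine ⟨F, fun U hU => mu U hU ≫ (twistToTilde p chart n U hU).inv,
    ⟨fun U hU W hW => (ConcreteCategory.bijective_of_isIso ((twistToTilde p chart n U hU).inv.app W)).comp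
      (hF.bijective U hU W hW), fun U hU r W s y hy hy' => ?_⟩⟩
  exact (hF.compat U hU r W s y hy hy').trans (locModMap_self hU (hU.basicOpen r) (S.basicOpen_le r) y _)

theorem isQCoh_of_chart {F : P.Modules} (G : ∀ (U : S.Opens) (hU : IsAffineOpen U), (Proj (𝒮.deg U hU)).Modules)
    (hG : ∀ (U : S.Opens) (hU : IsAffineOpen U), Coh.IsQCoh (G U hU))
    (mu : ∀ (U : S.Opens) (hU : IsAffineOpen U),
      F ⟶ (Scheme.Modules.pushforward (RelProj.emb p chart U hU)).obj (G U hU))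
    (hmu : ∀ (U : S.Opens) (hU : IsAffineOpen U) (W : P.Opens), W ≤ p ⁻¹ᵁ U →
      Function.Bijective ((mu U hU).app W)) : Coh.IsQCoh F := by
  refine isQuasicoherent_of_isOpenCover F (fun U : S.affineOpens => p ⁻¹ᵁ U.1) ?_ fun U => ?_
  · change ⨆ U : S.affineOpens, p ⁻¹ᵁ U.1 = ⊤
    rw [← Scheme.Hom.preimage_iSup, iSup_affineOpens_eq_top, Scheme.Hom.preimage_top]
  have := isIso_restrictHom (RelProj.emb p chart U.1 U.2) (mu U.1 U.2)
    (fun W hW => hmu U.1 U.2 W (hW.trans_eq (opensRange_emb U.1 U.2)))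
  have h1 : (F.restrict (RelProj.emb p chart U.1 U.2)).IsQuasicoherent :=
    ObjectProperty.prop_of_iso (fun N : (Proj (𝒮.deg U.1 U.2)).Modules => N.IsQuasicoherent) (asIso (restrictHom _ (mu U.1 U.2))).symm (hG U.1 U.2)
  have h2 : ((F.restrict (RelProj.emb p chart U.1 U.2)).restrict (chart U.1 U.2).hom).IsQuasicoherent :=
    inferInstance
  exact ObjectProperty.prop_of_iso (fun N : ((p ⁻¹ᵁ U.1 : P.Opens) : Scheme.{u}).Modules => N.IsQuasicoherent)
    (((Scheme.Modules.restrictFunctorComp (chart U.1 U.2).hom (RelProj.emb p chart U.1 U.2)).app F).symm ≪≫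
      (Scheme.Modules.restrictFunctorCongr (chart_hom_emb (chart := chart) U.1 U.2)).app F) h2

theorem isQCoh_of_isRelTilde {ℳ : RelProj.GrModule 𝒮} {F : P.Modules} {n : ℤ}
    {mu : ∀ (U : S.Opens) (hU : IsAffineOpen U),
      F ⟶ (Scheme.Modules.pushforward (RelProj.emb p chart U hU)).obj (GrMod.tilde (𝒮.deg U hU) (ℳ.deg U hU) n)}
    (hF : RelProj.IsRelTilde 𝒮 p chart ℳ n F mu) : Coh.IsQCoh F :=
  isQCoh_of_chart (fun U hU => GrMod.tilde (𝒮.deg U hU) (ℳ.deg U hU) n)
    (fun U hU => GrT.isQCoh_tilde (𝒮.deg U hU) (ℳ.deg U hU) n) mu hF.bijective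

theorem isQCoh_of_isRelTwist (hL : RelProj.IsRelTwist 𝒮 p chart n L lam) : Coh.IsQCoh L :=
  isQCoh_of_chart (fun U hU => GrTwist.twist (𝒮.deg U hU) n)
    (fun U hU => GrT.isQCoh_twist (𝒮.deg U hU) n) lam hL.bijective

end Groth.Agent.EGAProj74
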