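import Groth.Agent.EGAProj74.SymAlg
import Groth.Prelude.Def_RelProj2

/-!
Local shape of any symmetric algebra, and of its grading.
-/

set_option autoImplicit false
set_option backward.isDefEq.respectTransparency.types false

universe u

open CategoryTheory CategoryTheory.Limits AlgebraicGeometry TopologicalSpace Opposite

noncomputable section

namespace Groth.Agent.EGAProj74

variable {S : Scheme.{u}} {E : S.Modules}

theorem toModuleMap_comp {A B C : RelSpec.QCAlg S} (φ : A ⟶ B) (ψ : B ⟶ C) :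
    RelSpec.QCAlg.Hom.toModuleMap (φ ≫ ψ) =
      RelSpec.QCAlg.Hom.toModuleMap φ ≫ RelSpec.QCAlg.Hom.toModuleMap ψ := rfl

theorem toModuleMap_id (A : RelSpec.QCAlg S) :
    RelSpec.QCAlg.Hom.toModuleMap (𝟙 A) = 𝟙 A.toModule := rfl

/-- Two symmetric algebras of the same module are isomorphic under it. -/
theorem exists_symAlg_iso {A B : RelSpec.QCAlg S} {j : E ⟶ A.toModule} {k : E ⟶ B.toModule}
    (hA : RelSpec.IsSymAlg E A j) (hB : RelSpec.IsSymAlg E B k) :
    ∃ i : A ≅ B, j ≫ RelSpec.QCAlg.Hom.toModuleMap i.hom = k := by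
  obtain ⟨a, ha, -⟩ := hA B k
  obtain ⟨b, hb, -⟩ := hB A j
  refine ⟨⟨a, b, (hA A j).unique ?_ ?_, (hB B k).unique ?_ ?_⟩, ha⟩
  · rw [toModuleMap_comp, reassoc_of% ha, hb]
  · rw [toModuleMap_id, Category.comp_id]
  · rw [toModuleMap_comp, reassoc_of% hb, ha]
  · rw [toModuleMap_id, Category.comp_id]

/-- Over an affine open a symmetric algebra is the symmetric algebra of the sections. -/
theorem exists_symAlg_equiv (hE : E.IsQuasicoherent) {A : RelSpec.QCAlg S} {j : E ⟶ A.toModule}
    (hA : RelSpec.IsSymAlg E A j) (U : S.Opens) (hU : IsAffineOpen U) :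
    ∃ e : A.presheaf.obj (op U) ≃+* SymmetricAlgebra Γ(S, U) Γ(E, U),
      (∀ r, e ((A.str.app (op U)).hom r) = algebraMap _ _ r) ∧
        ∀ m, e (j.app U m) = SymmetricAlgebra.ι _ _ m := by
  obtain ⟨B, k, hB, hloc⟩ := exists_isSymAlg hE
  obtain ⟨i, hi⟩ := exists_symAlg_iso hA hB
  obtain ⟨e, he, hek⟩ := hloc U hU
  let a : A.presheaf.obj (op U) ≃+* B.presheaf.obj (op U) :=
    RingEquiv.ofRingHom (i.hom.hom.app (op U)).hom (i.inv.hom.app (op U)).hom
      (RingHom.ext fun x => congr((RelSpec.QCAlg.Hom.hom $(i.inv_hom_id)).app (op U) x))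
      (RingHom.ext fun x => congr((RelSpec.QCAlg.Hom.hom $(i.hom_inv_id)).app (op U) x))
  refine ⟨a.trans e, fun r => ?_, fun m => ?_⟩
  · exact (congrArg e congr(($(i.hom.comm)).app (op U) r)).trans (he r)
  · exact (congrArg e congr(($hi).app U m)).trans (hek m)

variable {𝒮 : RelProj.QCGrAlg S} {j : E ⟶ 𝒮.toModule}

/-- A graded symmetric algebra is generated in degree one by the module. -/
theorem closure_grSym (hE : E.IsQuasicoherent) (hj : RelProj.IsGrSymAlg E 𝒮 j) (U : S.Opens) (hU : IsAffineOpen U) :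
    Subring.closure (Set.range (𝒮.str.app (op U)).hom ∪ Set.range fun m : Γ(E, U) => j.app U m) = ⊤ := by
  obtain ⟨e, he, hej⟩ := exists_symAlg_equiv hE hj.1 U hU
  refine top_le_iff.mp fun x _ => ?_
  obtain ⟨y, rfl⟩ := e.symm.surjective x
  induction y using SymmetricAlgebra.induction with
  | algebraMap r => exact Subring.subset_closure (Or.inl ⟨r, by rw [← he, e.symm_apply_apply]⟩)
  | ι m =>
    refine Subring.subset_closure (Or.inr ⟨m, ?_⟩)
    show j.app U m = e.symm _
    exact ((e.symm_apply_eq).mpr (hej m).symm).symm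
  | mul a b ha hb => rw [map_mul]; exact mul_mem (ha trivial) (hb trivial)
  | add a b ha hb => rw [map_add]; exact add_mem (ha trivial) (hb trivial)

theorem isGenDegOne_grSym (hE : E.IsQuasicoherent) (hj : RelProj.IsGrSymAlg E 𝒮 j) : 𝒮.IsGenDegOne := by
  intro U hU
  rw [← top_le_iff, ← closure_grSym hE hj U hU]
  refine Subring.closure_mono (Set.union_subset_union ?_ ?_)
  · rintro _ ⟨r, rfl⟩; exact 𝒮.str_mem U hU r
  · rintro _ ⟨m, rfl⟩; exact hj.2 U hU m

end Groth.Agent.EGAProj74
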