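import Groth.Agent.EGAProj74.SymGrading
import Groth.Agent.EGAProj74.SymAlgUnique
import Groth.Agent.EGAProj74.Exists
import Groth.Agent.EGAProj74.SelfModule

/-!
The graded symmetric algebra of a quasi-coherent module and its projective bundle.
-/

set_option autoImplicit false
set_option backward.isDefEq.respectTransparency.types false

universe u

open CategoryTheory CategoryTheory.Limits AlgebraicGeometry TopologicalSpace Opposite
open scoped HomogeneousIdeal

noncomputable section

namespace Groth.Agent.EGAProj74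

variable {S : Scheme.{u}} (E : S.Modules)

/-- The algebra structure of an algebra over an affine open. -/
@[reducible] def secAlgebra (A : RelSpec.QCAlg S) (U : S.Opens) : Algebra Γ(S, U) (A.presheaf.obj (op U)) :=
  (A.str.app (op U)).hom.toAlgebra

variable {E} {A : RelSpec.QCAlg S} (j : E ⟶ A.toModule)

/-- The generating map over an affine open. -/
def symGen (U : S.Opens) :
    letI := secAlgebra A U
    Γ(E, U) →ₗ[Γ(S, U)] A.presheaf.obj (op U) :=
  let := secAlgebra A U
  { toFun := fun m => j.app U m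
    map_add' := fun a b => map_add _ a b
    map_smul' := fun r a => j.app_smul r a }

variable {j}

theorem isSymmetricAlgebra_symGen (hE : E.IsQuasicoherent) (hA : RelSpec.IsSymAlg E A j) (U : S.Opens)
    (hU : IsAffineOpen U) :
    letI := secAlgebra A U
    IsSymmetricAlgebra (symGen j U) := by
  let := secAlgebra A U
  obtain ⟨e, he, hej⟩ := exists_symAlg_equiv hE hA U hU
  refine IsSymmetricAlgebra.of_equiv (AlgEquiv.ofRingEquiv (f := e.symm) fun r => ?_) ?_
  · exact (e.symm_apply_eq).mpr (he r).symm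
  · exact LinearMap.ext fun m => (e.symm_apply_eq).mpr (hej m).symm

/-- The degree `n` part. -/
def grSymDeg (j : E ⟶ A.toModule) (U : S.Opens) (_ : IsAffineOpen U) (n : ℕ) :
    AddSubgroup (A.presheaf.obj (op U)) :=
  let := secAlgebra A U
  symDeg (symGen j U) n

theorem grSymDeg_map_mem {U V : S.Opens} (hU : IsAffineOpen U) (hV : IsAffineOpen V) (i : V ≤ U) (n : ℕ)
    {x : A.presheaf.obj (op U)} (hx : x ∈ grSymDeg j U hU n) :
    (A.presheaf.map (homOfLE i).op).hom x ∈ grSymDeg j V hV n := by
  let := secAlgebra A U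
  let := secAlgebra A V
  change x ∈ symPart (symGen j U) n at hx
  change _ ∈ symPart (symGen j V) n
  induction n generalizing x with
  | zero =>
    rw [symPart, pow_zero, Submodule.mem_one] at hx
    obtain ⟨r, rfl⟩ := hx
    have e := congr($(A.str.naturality (homOfLE i).op).hom r)
    exact e ▸ algebraMap_mem_symPart (symGen j V) _
  | succ n ih =>
    rw [← symPart_mul] at hx ⊢
    refine Submodule.mul_induction_on hx (fun a ha b hb => ?_) (fun a b ha hb => ?_)
    · rw [map_mul]
      refine Submodule.mul_mem_mul (ih ha) ?_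
      rw [symPart, pow_one] at hb ⊢
      obtain ⟨m, rfl⟩ := hb
      exact ⟨mres E i m, mres_app j i m⟩
    · rw [map_add]; exact add_mem ha hb

/-- The graded symmetric algebra of a symmetric algebra. -/
def grSym (hE : E.IsQuasicoherent) (hA : RelSpec.IsSymAlg E A j) : RelProj.QCGrAlg S :=
  { A with
    deg := grSymDeg j
    graded := fun U hU =>
      letI := secAlgebra A U
      symGradedRing (symGen j U) (isSymmetricAlgebra_symGen hE hA U hU)
    map_mem := fun {_ _} hU hV i {_ _} h => grSymDeg_map_mem hU hV i _ h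
    str_mem := fun U _ r =>
      letI := secAlgebra A U
      algebraMap_mem_symPart (symGen j U) r }

/-- Every quasi-coherent module has a graded symmetric algebra. -/
theorem exists_isGrSymAlg (hE : Coh.IsQCoh E) :
    ∃ (𝒮 : RelProj.QCGrAlg S) (j : E ⟶ 𝒮.toModule), RelProj.IsGrSymAlg E 𝒮 j := by
  obtain ⟨A, j, hA, -⟩ := exists_isSymAlg (E := E) hE
  exact ⟨grSym hE hA, j, hA, fun U _ m =>
    letI := secAlgebra A U
    ι_mem_symPart (symGen j U) m⟩

/-- Every quasi-coherent module has a projective bundle with its fundamental sheaf. -/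
theorem exists_projBundle (hE : Coh.IsQCoh E) :
    ∃ (𝒮 : RelProj.QCGrAlg S) (j : E ⟶ 𝒮.toModule) (_ : RelProj.IsGrSymAlg E 𝒮 j) (P : Scheme.{u}) (p : P ⟶ S)
      (chart : ∀ (U : S.Opens) (hU : IsAffineOpen U), (((p ⁻¹ᵁ U : P.Opens) : Scheme.{u}) ≅ Proj (𝒮.deg U hU)))
      (_ : RelProj.IsRelProj 𝒮 p chart) (O1 : P.Modules)
      (lam : ∀ (U : S.Opens) (hU : IsAffineOpen U),
        O1 ⟶ (Scheme.Modules.pushforward (RelProj.emb p chart U hU)).obj (GrTwist.twist (𝒮.deg U hU) 1)),
      RelProj.IsRelTwist 𝒮 p chart 1 O1 lam := by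
  obtain ⟨𝒮, j, hj⟩ := exists_isGrSymAlg hE
  obtain ⟨O1, lam, h⟩ := exists_isRelTwist (hP := isRelProj_relProj 𝒮) 1
  exact ⟨𝒮, j, hj, _, _, _, isRelProj_relProj 𝒮, O1, lam, h⟩

end Groth.Agent.EGAProj74
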