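import Groth.Prelude.Def_RelSpec2
import Mathlib.AlgebraicGeometry.ProjectiveSpectrum.Functor

/-!
Proj of a graded homomorphism on its domain of definition.
-/

set_option autoImplicit false

universe u

open CategoryTheory CategoryTheory.Limits AlgebraicGeometry TopologicalSpace Opposite
open HomogeneousLocalization
open scoped HomogeneousIdeal

noncomputable section

namespace Groth.Agent.EGAProj74

variable {A σ : Type u} [CommRing A] [SetLike σ A] [AddSubgroupClass σ A] {𝒜 : ℕ → σ} [GradedRing 𝒜]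
variable {B τ : Type u} [CommRing B] [SetLike τ B] [AddSubgroupClass τ B] {ℬ : ℕ → τ} [GradedRing ℬ]
variable (ψ : 𝒜 →+*ᵍ ℬ)

theorem irrelevant_toIdeal_le_span :
    (HomogeneousIdeal.irrelevant 𝒜).toIdeal ≤ Ideal.span {a : A | ∃ d, 0 < d ∧ a ∈ 𝒜 d} :=
  (HomogeneousIdeal.toIdeal_irrelevant_le _).mpr fun i hi _ ha => Ideal.subset_span ⟨i, hi, ha⟩

theorem basicOpen_le_domOpen {d : ℕ} (hd : 0 < d) {f : A} (hf : f ∈ 𝒜 d) :
    Proj.basicOpen ℬ (ψ f) ≤ RelCone.domOpen ψ := fun _ hx =>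
  (RelCone.mem_domOpen ψ _).mpr ⟨f, HomogeneousIdeal.mem_irrelevant_of_mem _ hd hf, hx⟩

theorem exists_of_mem_domOpen {x : Proj ℬ} (hx : x ∈ RelCone.domOpen ψ) :
    ∃ (d : ℕ) (f : A), 0 < d ∧ f ∈ 𝒜 d ∧ x ∈ Proj.basicOpen ℬ (ψ f) := by
  obtain ⟨f, hf, hfx⟩ := (RelCone.mem_domOpen ψ x).mp hx
  by_contra! h
  refine hfx (?_ : f ∈ x.asHomogeneousIdeal.toIdeal.comap ψ)
  refine irrelevant_toIdeal_le_span.trans (Ideal.span_le.mpr ?_) hf
  rintro a ⟨d, hd, ha⟩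
  exact not_not.mp (h d a hd ha)

theorem domOpen_eq_iSup :
    RelCone.domOpen ψ = ⨆ s : Σ d : {d : ℕ // 0 < d}, 𝒜 d.1, Proj.basicOpen ℬ (ψ s.2) := by
  refine le_antisymm (fun x hx => ?_) (iSup_le fun s => basicOpen_le_domOpen ψ s.1.2 s.2.2)
  obtain ⟨d, f, hd, hf, hfx⟩ := exists_of_mem_domOpen ψ hx
  exact Opens.mem_iSup.mpr ⟨⟨⟨d, hd⟩, f, hf⟩, hfx⟩

/-- `Spec B_(ψ f)` as an open of the domain. -/
def domChart {d : ℕ} (hd : 0 < d) (f : A) (hf : f ∈ 𝒜 d) :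
    Spec (CommRingCat.of (Away ℬ (ψ f))) ⟶ (RelCone.domOpen ψ : Scheme.{u}) :=
  IsOpenImmersion.lift (RelCone.domOpen ψ).ι (Proj.awayι ℬ (ψ f) (ψ.map_mem hf) hd) (by
    rw [Scheme.Opens.range_ι]
    exact ((Proj.opensRange_awayι ℬ _ (ψ.map_mem hf) hd).le.trans (basicOpen_le_domOpen ψ hd hf)))

variable {d : ℕ} (hd : 0 < d) (f : A) (hf : f ∈ 𝒜 d)

@[reassoc (attr := simp)]
theorem domChart_ι :
    domChart ψ hd f hf ≫ (RelCone.domOpen ψ).ι = Proj.awayι ℬ (ψ f) (ψ.map_mem hf) hd :=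
  IsOpenImmersion.lift_fac ..

instance : IsOpenImmersion (domChart ψ hd f hf) :=
  have : IsOpenImmersion (domChart ψ hd f hf ≫ (RelCone.domOpen ψ).ι) := by
    rw [domChart_ι]; infer_instance
  IsOpenImmersion.of_comp _ (RelCone.domOpen ψ).ι

theorem image_opensRange_domChart :
    (RelCone.domOpen ψ).ι ''ᵁ (domChart ψ hd f hf).opensRange = Proj.basicOpen ℬ (ψ f) := by
  rw [← Scheme.Hom.opensRange_comp]
  simp only [domChart_ι]
  exact Proj.opensRange_awayι ..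

theorem opensRange_domChart :
    (domChart ψ hd f hf).opensRange = (RelCone.domOpen ψ).ι ⁻¹ᵁ Proj.basicOpen ℬ (ψ f) := by
  rw [← image_opensRange_domChart ψ hd f hf, Scheme.Hom.preimage_image_eq]

/-- The standard charts cover the domain. -/
def domCover : (RelCone.domOpen ψ : Scheme.{u}).OpenCover where
  I₀ := Σ d : {d : ℕ // 0 < d}, 𝒜 d.1
  X s := Spec (CommRingCat.of (Away ℬ (ψ s.2)))
  f s := domChart ψ s.1.2 s.2 s.2.2
  mem₀ := by
    rw [Scheme.presieve₀_mem_precoverage_iff]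
    refine ⟨fun x => ?_, fun _ => inferInstance⟩
    obtain ⟨d, f, hd, hf, hfx⟩ := exists_of_mem_domOpen ψ x.2
    refine ⟨⟨⟨d, hd⟩, f, hf⟩, ?_⟩
    change x ∈ (domChart ψ hd f hf).opensRange
    rw [opensRange_domChart]
    exact hfx

include hf in
theorem map_comp_awayMap {m : ℕ} {g : A} (hg : g ∈ 𝒜 m) :
    (Away.map ψ (f * g)).comp (awayMap 𝒜 hg (rfl : f * g = f * g)) =
      (awayMap ℬ (ψ.map_mem hg) (map_mul ψ f g)).comp (Away.map ψ f) := by
  ext x : 1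
  obtain ⟨n, a, ha, rfl⟩ := Away.mk_surjective 𝒜 hf x
  apply val_injective
  simp

theorem map_comp_awayMap' {m : ℕ} {g : A} (hg : g ∈ 𝒜 m) :
    (Away.map ψ (f * g)).comp (awayMap 𝒜 hf (mul_comm f g)) =
      (awayMap ℬ (ψ.map_mem hf) ((map_mul ψ f g).trans (mul_comm _ _))).comp (Away.map ψ g) := by
  ext x : 1
  obtain ⟨n, a, ha, rfl⟩ := Away.mk_surjective 𝒜 hg x
  apply val_injective
  simp

theorem awayι_congr {f : A} {i j : ℕ} (hi : f ∈ 𝒜 i) (hi0 : 0 < i) (hj : f ∈ 𝒜 j) (hj0 : 0 < j) :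
    Proj.awayι 𝒜 f hi hi0 = Proj.awayι 𝒜 f hj hj0 := by
  have e : Proj.basicOpenIsoSpec 𝒜 f hi hi0 = Proj.basicOpenIsoSpec 𝒜 f hj hj0 := by
    ext1
    rw [Proj.basicOpenIsoSpec_hom, Proj.basicOpenIsoSpec_hom]
  rw [Proj.awayι, Proj.awayι, e]

/-- The candidate map on a standard chart. -/
abbrev chartMap : Spec (CommRingCat.of (Away ℬ (ψ f))) ⟶ Proj 𝒜 :=
  Spec.map (CommRingCat.ofHom (Away.map ψ f)) ≫ Proj.awayι 𝒜 f hf hd

theorem chartMap_compat {m : ℕ} (hm : 0 < m) (g : A) (hg : g ∈ 𝒜 m) :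
    pullback.fst (domChart ψ hd f hf) (domChart ψ hm g hg) ≫ chartMap ψ hd f hf =
      pullback.snd (domChart ψ hd f hf) (domChart ψ hm g hg) ≫ chartMap ψ hm g hg := by
  let κ := pullback.lift (f := Proj.awayι ℬ (ψ f) (ψ.map_mem hf) hd)
    (g := Proj.awayι ℬ (ψ g) (ψ.map_mem hg) hm)
    (pullback.fst (domChart ψ hd f hf) (domChart ψ hm g hg))
    (pullback.snd (domChart ψ hd f hf) (domChart ψ hm g hg))
    (by rw [← domChart_ι ψ hd f hf, ← domChart_ι ψ hm g hg, pullback.condition_assoc])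
  let e := (Proj.pullbackAwayιIso ℬ (ψ.map_mem hf) hd (ψ.map_mem hg) hm (map_mul ψ f g))
  have h1 : pullback.fst (domChart ψ hd f hf) (domChart ψ hm g hg) =
      (κ ≫ e.hom) ≫ Spec.map (CommRingCat.ofHom (awayMap ℬ (ψ.map_mem hg) (map_mul ψ f g))) := by
    rw [Category.assoc, Proj.pullbackAwayιIso_hom_SpecMap_awayMap_left]; exact (pullback.lift_fst _ _ _).symm
  have h2 : pullback.snd (domChart ψ hd f hf) (domChart ψ hm g hg) =
      (κ ≫ e.hom) ≫ Spec.map (CommRingCat.ofHom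
        (awayMap ℬ (ψ.map_mem hf) ((map_mul ψ f g).trans (mul_comm _ _)))) := by
    rw [Category.assoc, Proj.pullbackAwayιIso_hom_SpecMap_awayMap_right]; exact (pullback.lift_snd _ _ _).symm
  rw [h1, h2]
  simp only [Category.assoc]
  congr 2
  simp only [chartMap, ← Spec.map_comp_assoc, ← CommRingCat.ofHom_comp]
  rw [← map_comp_awayMap ψ f hf hg, ← map_comp_awayMap' ψ f hf hg]
  simp only [CommRingCat.ofHom_comp, Spec.map_comp, Category.assoc]
  rw [Proj.SpecMap_awayMap_awayι, Proj.SpecMap_awayMap_awayι]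
  congr 1

/-- `Proj ψ` on its domain. -/
def domMap : (RelCone.domOpen ψ : Scheme.{u}) ⟶ Proj 𝒜 :=
  (domCover ψ).glueMorphisms (fun s => chartMap ψ s.1.2 s.2 s.2.2)
    fun s t => chartMap_compat ψ s.1.2 s.2 s.2.2 t.1.2 t.2 t.2.2

@[reassoc]
theorem domChart_domMap : domChart ψ hd f hf ≫ domMap ψ = chartMap ψ hd f hf :=
  (domCover ψ).ι_glueMorphisms _ _ ⟨⟨d, hd⟩, f, hf⟩

theorem dom_hom_ext {Z : Scheme.{u}} (r r' : (RelCone.domOpen ψ : Scheme.{u}) ⟶ Z)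
    (h : ∀ (d : ℕ) (hd : 0 < d) (f : A) (hf : f ∈ 𝒜 d),
      domChart ψ hd f hf ≫ r = domChart ψ hd f hf ≫ r') : r = r' :=
  (domCover ψ).hom_ext _ _ fun s => h _ s.1.2 s.2 s.2.2

theorem domMap_eq {r : (RelCone.domOpen ψ : Scheme.{u}) ⟶ Proj 𝒜}
    (h : ∀ (d : ℕ) (hd : 0 < d) (f : A) (hf : f ∈ 𝒜 d),
      domChart ψ hd f hf ≫ r = chartMap ψ hd f hf) : r = domMap ψ :=
  dom_hom_ext ψ _ _ fun d hd f hf => by rw [h, domChart_domMap]

theorem away_map_isLocalizationElem {m : ℕ} {g : A} (hg : g ∈ 𝒜 m) :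
    Away.map ψ f (Away.isLocalizationElem hf hg) =
      Away.isLocalizationElem (ψ.map_mem hf) (ψ.map_mem hg) := by
  apply val_injective
  simp

include hd hf in
theorem domMap_preimage_basicOpen :
    domMap ψ ⁻¹ᵁ Proj.basicOpen 𝒜 f = (RelCone.domOpen ψ).ι ⁻¹ᵁ Proj.basicOpen ℬ (ψ f) := by
  have key : ∀ (m : ℕ) (hm : 0 < m) (g : A) (hg : g ∈ 𝒜 m),
      domChart ψ hm g hg ⁻¹ᵁ (domMap ψ ⁻¹ᵁ Proj.basicOpen 𝒜 f) =
      domChart ψ hm g hg ⁻¹ᵁ ((RelCone.domOpen ψ).ι ⁻¹ᵁ Proj.basicOpen ℬ (ψ f)) := by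
    intro m hm g hg
    rw [← Scheme.Hom.comp_preimage, ← Scheme.Hom.comp_preimage]
    simp only [domChart_domMap, domChart_ι, chartMap, Scheme.Hom.comp_preimage]
    rw [Proj.awayι_preimage_basicOpen 𝒜 hg hm hf hd]
    refine Eq.trans ?_ (Proj.awayι_preimage_basicOpen ℬ (ψ.map_mem hg) hm (ψ.map_mem hf) hd).symm
    rw [← away_map_isLocalizationElem ψ g hg hf]
    rfl
  ext x
  obtain ⟨m, g, hm, hg, hgx⟩ := exists_of_mem_domOpen ψ x.2
  have hx : x ∈ (domChart ψ hm g hg).opensRange := by rw [opensRange_domChart]; exact hgx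
  obtain ⟨y, rfl⟩ := hx
  exact SetLike.ext_iff.mp (key m hm g hg) y

theorem isPullback_domChart :
    IsPullback (Spec.map (CommRingCat.ofHom (Away.map ψ f))) (domChart ψ hd f hf)
      (Proj.awayι 𝒜 f hf hd) (domMap ψ) := by
  refine IsOpenImmersion.isPullback _ _ _ _ (domChart_domMap ψ hd f hf) ?_
  rw [Proj.opensRange_awayι, domMap_preimage_basicOpen ψ hd f hf, opensRange_domChart]

/-- A property local at the target holds for `domMap ψ` once it holds on the standard charts. -/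
theorem domMap_of_away {P : MorphismProperty Scheme.{u}} [IsZariskiLocalAtTarget P]
    (h : ∀ (d : ℕ), 0 < d → ∀ f ∈ 𝒜 d, P (Spec.map (CommRingCat.ofHom (Away.map ψ f)))) :
    P (domMap ψ) := by
  have key : ∀ (d : ℕ) (hd : 0 < d) (f : A) (hf : f ∈ 𝒜 d),
      P (pullback.snd (domMap ψ) (Proj.awayι 𝒜 f hf hd)) := fun d hd f hf => by
    have e := (isPullback_domChart ψ hd f hf).flip
    rw [← e.isoPullback_inv_snd]
    exact (P.cancel_left_of_respectsIso _ _).mpr (h d hd f hf)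
  exact IsZariskiLocalAtTarget.of_openCover (Proj.affineOpenCover 𝒜).openCover fun s =>
    key _ s.1.2 _ s.2.2

set_option backward.isDefEq.respectTransparency false in
instance : IsAffineHom (domMap ψ) :=
  domMap_of_away (P := @IsAffineHom.{u}) ψ fun _ _ _ _ => inferInstance

/-- The degree-zero part of a graded homomorphism. -/
def zeroHom : 𝒜 0 →+* ℬ 0 where
  toFun x := ⟨ψ x.1, ψ.map_mem x.2⟩
  map_one' := Subtype.ext (map_one ψ)
  map_mul' _ _ := Subtype.ext (map_mul ψ _ _)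
  map_zero' := Subtype.ext (map_zero ψ)
  map_add' _ _ := Subtype.ext (map_add ψ _ _)

theorem domMap_toSpecZero :
    domMap ψ ≫ Proj.toSpecZero 𝒜 = (RelCone.domOpen ψ).ι ≫ Proj.toSpecZero ℬ ≫
      Spec.map (CommRingCat.ofHom (zeroHom ψ)) := by
  refine dom_hom_ext ψ _ _ fun d hd f hf => ?_
  rw [domChart_domMap_assoc, domChart_ι_assoc, Proj.awayι_toSpecZero]
  erw [Proj.awayι_toSpecZero_assoc]
  rw [← Spec.map_comp, ← Spec.map_comp]
  congr 1
  ext x : 2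
  apply val_injective
  change val (Away.map ψ f (HomogeneousLocalization.mk _)) = val (HomogeneousLocalization.mk _)
  rw [Away.map, HomogeneousLocalization.map_mk]
  simp
  rfl

theorem domOpen_eq_top (h : ∀ (e : ℕ), 0 < e → ∀ b ∈ ℬ e, ∃ N : ℕ,
    b ^ N ∈ Ideal.map ψ (HomogeneousIdeal.irrelevant 𝒜).toIdeal) :
    RelCone.domOpen ψ = ⊤ := by
  refine top_le_iff.mp fun x _ => (RelCone.mem_domOpen ψ x).mpr ?_
  by_contra! hx
  refine x.not_irrelevant_le ?_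
  rw [HomogeneousIdeal.irrelevant_le]
  intro e he b hb
  obtain ⟨N, hN⟩ := h e he b hb
  exact x.isPrime.mem_of_pow_mem N
    (Ideal.map_le_iff_le_comap.mpr (fun a ha => hx a ha) hN)

theorem domOpen_eq_top_of_le (hψ : ℬ₊ ≤ (𝒜₊).map ψ) : RelCone.domOpen ψ = ⊤ :=
  domOpen_eq_top ψ fun _ he _ hb =>
    ⟨1, by rw [pow_one]; exact hψ (HomogeneousIdeal.mem_irrelevant_of_mem _ he hb)⟩

theorem ι_map_eq_domMap (hψ : ℬ₊ ≤ (𝒜₊).map ψ) :
    (RelCone.domOpen ψ).ι ≫ Proj.map ψ hψ = domMap ψ :=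
  domMap_eq ψ fun d hd f hf => by rw [domChart_ι_assoc, Proj.awayι_comp_map]

theorem map_of_away {P : MorphismProperty Scheme.{u}} [IsZariskiLocalAtTarget P]
    (hψ : ℬ₊ ≤ (𝒜₊).map ψ)
    (h : ∀ (d : ℕ), 0 < d → ∀ f ∈ 𝒜 d, P (Spec.map (CommRingCat.ofHom (Away.map ψ f)))) :
    P (Proj.map ψ hψ) := by
  have : IsIso (RelCone.domOpen ψ).ι := by
    rw [domOpen_eq_top_of_le ψ hψ]; exact inferInstanceAs (IsIso (Proj ℬ).topIso.hom)
  rw [← P.cancel_left_of_respectsIso (RelCone.domOpen ψ).ι, ι_map_eq_domMap]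
  exact domMap_of_away ψ h

section TN

variable (N : ℕ)

theorem exists_big_pow {d : ℕ} (hd : 0 < d) (n : ℕ) : ∃ M, N ≤ (n + M) • d :=
  ⟨N, le_trans (Nat.le_add_left N n) (Nat.le_mul_of_pos_right _ hd)⟩

include hd hf in
theorem away_map_surjective (hs : ∀ n, N ≤ n → Set.SurjOn ψ (𝒜 n) (ℬ n)) :
    Function.Surjective (Away.map ψ f) := by
  intro y
  obtain ⟨n, b, hb, rfl⟩ := Away.mk_surjective ℬ (ψ.map_mem hf) y
  obtain ⟨M, hM⟩ := exists_big_pow N hd n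
  have hb' : b * ψ f ^ M ∈ ℬ ((n + M) • d) := by
    rw [add_smul]; exact SetLike.mul_mem_graded hb (SetLike.pow_mem_graded M (ψ.map_mem hf))
  obtain ⟨a, ha, hab⟩ := hs _ hM hb'
  refine ⟨Away.mk 𝒜 hf (n + M) a ha, ?_⟩
  apply val_injective
  simp only [Away.map_mk, Away.val_mk]
  rw [Localization.mk_eq_mk_iff, Localization.r_iff_exists]
  exact ⟨1, by simp only [hab]; simp [pow_add]; ring⟩

include hd hf in
theorem away_map_injective (hi : ∀ n, N ≤ n → ∀ a ∈ 𝒜 n, ψ a = 0 → a = 0) :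
    Function.Injective (Away.map ψ f) := by
  rw [injective_iff_map_eq_zero]
  intro x hx
  obtain ⟨n, a, ha, rfl⟩ := Away.mk_surjective 𝒜 hf x
  have hx' := congr_arg val hx
  simp only [Away.map_mk, Away.val_mk, val_zero] at hx'
  rw [← Localization.mk_zero 1, Localization.mk_eq_mk_iff, Localization.r_iff_exists] at hx'
  obtain ⟨⟨_, k, rfl⟩, hc⟩ := hx'
  simp only [OneMemClass.coe_one, one_mul, mul_zero] at hc
  obtain ⟨M, hM⟩ := exists_big_pow N hd n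
  have hM' : N ≤ (n + (M + k)) • d :=
    hM.trans (Nat.mul_le_mul_right d (by omega : n + M ≤ n + (M + k)))
  have hz : f ^ (M + k) * a = 0 := by
    refine hi _ hM' _ ?_ (by rw [map_mul, map_pow, pow_add, mul_assoc, hc, mul_zero])
    rw [add_smul, add_comm]
    exact SetLike.mul_mem_graded (SetLike.pow_mem_graded _ hf) ha
  apply val_injective
  rw [val_zero, Away.val_mk, ← Localization.mk_zero 1, Localization.mk_eq_mk_iff,
    Localization.r_iff_exists]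
  exact ⟨⟨f ^ (M + k), M + k, rfl⟩, by simpa using hz⟩

theorem domOpen_eq_top_of_surjOn (hs : ∀ n, N ≤ n → Set.SurjOn ψ (𝒜 n) (ℬ n)) :
    RelCone.domOpen ψ = ⊤ := by
  refine domOpen_eq_top ψ fun e he b hb => ⟨N + 1, ?_⟩
  have h1 : b ^ (N + 1) ∈ ℬ ((N + 1) • e) := SetLike.pow_mem_graded _ hb
  have h2 : N ≤ (N + 1) • e := (Nat.le_succ N).trans (Nat.le_mul_of_pos_right _ he)
  obtain ⟨a, ha, hab⟩ := hs _ h2 h1
  rw [← hab]
  exact Ideal.mem_map_of_mem _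
    (HomogeneousIdeal.mem_irrelevant_of_mem _ (Nat.mul_pos N.succ_pos he) ha)

theorem isClosedImmersion_domMap (hs : ∀ n, N ≤ n → Set.SurjOn ψ (𝒜 n) (ℬ n)) :
    IsClosedImmersion (domMap ψ) :=
  domMap_of_away (P := @IsClosedImmersion) ψ fun _ hd f hf =>
    IsClosedImmersion.spec_of_surjective _ (away_map_surjective ψ hd f hf N hs)

theorem isIso_domMap (hs : ∀ n, N ≤ n → Set.SurjOn ψ (𝒜 n) (ℬ n))
    (hi : ∀ n, N ≤ n → ∀ a ∈ 𝒜 n, ψ a = 0 → a = 0) : IsIso (domMap ψ) :=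
  domMap_of_away (P := MorphismProperty.isomorphisms _) ψ fun _ hd f hf => by
    have : IsIso (CommRingCat.ofHom (Away.map ψ f)) :=
      (ConcreteCategory.isIso_iff_bijective _).mpr
        ⟨away_map_injective ψ hd f hf N hi, away_map_surjective ψ hd f hf N hs⟩
    exact (inferInstance : IsIso (Spec.map (CommRingCat.ofHom (Away.map ψ f))))

end TN

end Groth.Agent.EGAProj74
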