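import Mathlib.AlgebraicGeometry.AffineScheme
import Mathlib.AlgebraicGeometry.Gluing
import Mathlib.AlgebraicGeometry.Restrict

/-!
Gluing morphisms out of a scheme over the affine subschemes of a base.
-/

set_option autoImplicit false

universe u

open CategoryTheory CategoryTheory.Limits AlgebraicGeometry TopologicalSpace Opposite

noncomputable section

namespace Groth.Agent.EGAProj74

variable {P Y T : Scheme.{u}} (p : P ⟶ Y)

/-- The preimages of the affine opens of the base. -/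
def preimageCover : P.OpenCover :=
  P.openCoverOfIsOpenCover (fun U : Y.affineOpens => p ⁻¹ᵁ U.1) <| by
    rw [TopologicalSpace.IsOpenCover, ← Scheme.Hom.preimage_iSup, iSup_affineOpens_eq_top,
      Scheme.Hom.preimage_top]

theorem hom_ext_over {e e' : P ⟶ T}
    (h : ∀ (U : Y.Opens), IsAffineOpen U → (p ⁻¹ᵁ U).ι ≫ e = (p ⁻¹ᵁ U).ι ≫ e') : e = e' :=
  (preimageCover p).hom_ext _ _ fun U => h U.1 U.2

variable (g : ∀ (U : Y.Opens), IsAffineOpen U → (((p ⁻¹ᵁ U : P.Opens) : Scheme.{u}) ⟶ T))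

theorem glue_compat_le
    (hg : ∀ (U : Y.Opens) (hU : IsAffineOpen U) (r : Γ(Y, U)),
      P.homOfLE (p.preimage_mono (Y.basicOpen_le r)) ≫ g U hU =
        g (Y.basicOpen r) (hU.basicOpen r))
    {U V : Y.Opens} (hU : IsAffineOpen U) (hV : IsAffineOpen V) (h : V ≤ U) :
    P.homOfLE (p.preimage_mono h) ≫ g U hU = g V hV := by
  refine Scheme.hom_ext_of_forall _ _ fun x => ?_
  have hx : p.base x.1 ∈ V ⊓ U := ⟨x.2, h x.2⟩
  obtain ⟨r, s, hrs, hxr⟩ := exists_basicOpen_le_affine_inter hV hU _ hx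
  have hle : p ⁻¹ᵁ Y.basicOpen r ≤ p ⁻¹ᵁ V := p.preimage_mono (Y.basicOpen_le r)
  refine ⟨(p ⁻¹ᵁ V).ι ⁻¹ᵁ (p ⁻¹ᵁ Y.basicOpen r), hxr, ?_⟩
  set W := (p ⁻¹ᵁ V).ι ⁻¹ᵁ (p ⁻¹ᵁ Y.basicOpen r) with hW
  let m : (W : Scheme.{u}) ⟶ (p ⁻¹ᵁ Y.basicOpen r : P.Opens) :=
    IsOpenImmersion.lift (p ⁻¹ᵁ Y.basicOpen r).ι (W.ι ≫ (p ⁻¹ᵁ V).ι) (by
      rw [Scheme.Opens.range_ι]
      rintro _ ⟨y, rfl⟩
      exact y.2)
  have hm : W.ι = m ≫ P.homOfLE hle := by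
    rw [← cancel_mono (p ⁻¹ᵁ V).ι, Category.assoc, Scheme.homOfLE_ι]
    exact (IsOpenImmersion.lift_fac ..).symm
  rw [hm, Category.assoc, Category.assoc, Scheme.homOfLE_homOfLE_assoc, hg V hV r]
  congr 1
  have key : ∀ (D : Y.Opens) (hD : IsAffineOpen D) (hDU : D ≤ U), D = Y.basicOpen s →
      P.homOfLE (p.preimage_mono hDU) ≫ g U hU = g D hD := by
    rintro D hD hDU rfl
    exact hg U hU s
  exact key _ (hV.basicOpen r) ((Y.basicOpen_le r).trans h) hrs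

theorem existsUnique_glue
    (hg : ∀ (U : Y.Opens) (hU : IsAffineOpen U) (r : Γ(Y, U)),
      P.homOfLE (p.preimage_mono (Y.basicOpen_le r)) ≫ g U hU =
        g (Y.basicOpen r) (hU.basicOpen r)) :
    ∃! e : P ⟶ T, ∀ (U : Y.Opens) (hU : IsAffineOpen U), (p ⁻¹ᵁ U).ι ≫ e = g U hU := by
  have hcompat : ∀ x y : Y.affineOpens,
      pullback.fst ((p ⁻¹ᵁ x.1).ι) ((p ⁻¹ᵁ y.1).ι) ≫ g x.1 x.2 =
        pullback.snd ((p ⁻¹ᵁ x.1).ι) ((p ⁻¹ᵁ y.1).ι) ≫ g y.1 y.2 := by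
    intro x y
    let W := pullback ((p ⁻¹ᵁ x.1).ι) ((p ⁻¹ᵁ y.1).ι)
    let q : W ⟶ P := pullback.fst ((p ⁻¹ᵁ x.1).ι) ((p ⁻¹ᵁ y.1).ι) ≫ (p ⁻¹ᵁ x.1).ι
    refine Scheme.hom_ext_of_forall _ _ fun w => ?_
    have hw : p.base (q.base w) ∈ (x.1 : Y.Opens) ⊓ y.1 := by
      refine ⟨(pullback.fst ((p ⁻¹ᵁ x.1).ι) ((p ⁻¹ᵁ y.1).ι) w).2, ?_⟩
      have e : q = pullback.snd _ _ ≫ (p ⁻¹ᵁ y.1).ι := pullback.condition
      rw [e]
      exact (pullback.snd ((p ⁻¹ᵁ x.1).ι) ((p ⁻¹ᵁ y.1).ι) w).2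
    obtain ⟨r, s, hrs, hxr⟩ := exists_basicOpen_le_affine_inter x.2 y.2 _ hw
    have hrx : p ⁻¹ᵁ Y.basicOpen r ≤ p ⁻¹ᵁ x.1 := p.preimage_mono (Y.basicOpen_le r)
    have hry : Y.basicOpen r ≤ y.1 := hrs ▸ Y.basicOpen_le s
    refine ⟨q ⁻¹ᵁ (p ⁻¹ᵁ Y.basicOpen r), hxr, ?_⟩
    set V := q ⁻¹ᵁ (p ⁻¹ᵁ Y.basicOpen r) with hV
    let m : (V : Scheme.{u}) ⟶ (p ⁻¹ᵁ Y.basicOpen r : P.Opens) :=
      IsOpenImmersion.lift (p ⁻¹ᵁ Y.basicOpen r).ι (V.ι ≫ q) (by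
        rw [Scheme.Opens.range_ι]
        rintro _ ⟨z, rfl⟩
        exact z.2)
    have hm : m ≫ (p ⁻¹ᵁ Y.basicOpen r).ι = V.ι ≫ q := IsOpenImmersion.lift_fac ..
    have h1 : V.ι ≫ pullback.fst _ _ = m ≫ P.homOfLE hrx := by
      rw [← cancel_mono (p ⁻¹ᵁ x.1).ι]
      simp only [Category.assoc, Scheme.homOfLE_ι]
      exact hm.symm
    have h2 : V.ι ≫ pullback.snd _ _ = m ≫ P.homOfLE (p.preimage_mono hry) := by
      rw [← cancel_mono (p ⁻¹ᵁ y.1).ι]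
      simp only [Category.assoc, Scheme.homOfLE_ι, ← pullback.condition]
      exact hm.symm
    rw [← Category.assoc, ← Category.assoc, h1, h2, Category.assoc, Category.assoc,
      glue_compat_le p g hg x.2 (x.2.basicOpen r) (Y.basicOpen_le r),
      glue_compat_le p g hg y.2 (x.2.basicOpen r) hry]
  refine ⟨(preimageCover p).glueMorphisms (fun U => g U.1 U.2) hcompat, fun U hU => ?_, fun e he => ?_⟩
  · exact (preimageCover p).ι_glueMorphisms (fun U => g U.1 U.2) hcompat ⟨U, hU⟩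
  · refine (preimageCover p).hom_ext _ _ fun U => ?_
    exact (he U.1 U.2).trans
      ((preimageCover p).ι_glueMorphisms (fun U => g U.1 U.2) hcompat U).symm

end Groth.Agent.EGAProj74
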