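import Groth.Agent.EGAProj74.QC
import Groth.Agent.EGAProj74.Glue

/-!
Basic API of relative homogeneous spectra.
-/

set_option autoImplicit false

universe u

open CategoryTheory CategoryTheory.Limits AlgebraicGeometry TopologicalSpace Opposite
open scoped HomogeneousIdeal

noncomputable section

namespace Groth.Agent.EGAProj74

theorem map_congr {A B σ τ : Type u} [CommRing A] [SetLike σ A] [AddSubgroupClass σ A]
    [CommRing B] [SetLike τ B] [AddSubgroupClass τ B] {𝒜 : ℕ → σ} {ℬ : ℕ → τ}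
    [GradedRing 𝒜] [GradedRing ℬ] {f g : 𝒜 →+*ᵍ ℬ} (e : f = g)
    (hf : ℬ₊ ≤ (𝒜₊).map f) (hg : ℬ₊ ≤ (𝒜₊).map g) : Proj.map f hf = Proj.map g hg := by
  subst e; rfl

variable {S P T : Scheme.{u}} {𝒮 : RelProj.QCGrAlg S} {p : P ⟶ S}
  {chart : ∀ (U : S.Opens) (hU : IsAffineOpen U), (((p ⁻¹ᵁ U : P.Opens) : Scheme.{u}) ≅ Proj (𝒮.deg U hU))}

theorem opensRange_emb (U : S.Opens) (hU : IsAffineOpen U) :
    (RelProj.emb p chart U hU).opensRange = p ⁻¹ᵁ U := by
  change ((chart U hU).inv ≫ (p ⁻¹ᵁ U).ι).opensRange = _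
  rw [Scheme.Hom.opensRange_comp_of_isIso, Scheme.Opens.opensRange_ι]

@[reassoc]
theorem chart_hom_emb (U : S.Opens) (hU : IsAffineOpen U) :
    (chart U hU).hom ≫ RelProj.emb p chart U hU = (p ⁻¹ᵁ U).ι := by
  rw [RelProj.emb, Iso.hom_inv_id_assoc]

theorem hom_ext_emb {e e' : P ⟶ T}
    (h : ∀ (U : S.Opens) (hU : IsAffineOpen U),
      RelProj.emb p chart U hU ≫ e = RelProj.emb p chart U hU ≫ e') : e = e' :=
  hom_ext_over p fun U hU => by
    rw [← chart_hom_emb (chart := chart) U hU, Category.assoc, Category.assoc, h]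

theorem exists_emb_apply (x : P) :
    ∃ (U : S.Opens) (hU : IsAffineOpen U) (y : Proj (𝒮.deg U hU)),
      (RelProj.emb p chart U hU).base y = x := by
  obtain ⟨_, ⟨U, hU, rfl⟩, hxU, -⟩ :=
    (Scheme.isBasis_affineOpens S).exists_subset_of_mem_open (Set.mem_univ (p.base x)) isOpen_univ
  have hx : x ∈ (RelProj.emb p chart U hU).opensRange := by rw [opensRange_emb]; exact hxU
  exact ⟨U, hU, hx⟩

variable (h : RelProj.IsRelProj 𝒮 p chart)
include h

@[reassoc]
theorem emb_p (U : S.Opens) (hU : IsAffineOpen U) :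
    RelProj.emb p chart U hU ≫ p =
      Proj.toSpecZero (𝒮.deg U hU) ≫ Spec.map (𝒮.strZero U hU) ≫ hU.fromSpec := by
  rw [RelProj.emb, Category.assoc, Iso.inv_comp_eq]
  exact (h.chart_over U hU).symm

theorem existsUnique_desc (g : ∀ (U : S.Opens) (hU : IsAffineOpen U), (Proj (𝒮.deg U hU) ⟶ T))
    (hg : ∀ (U : S.Opens) (hU : IsAffineOpen U) (r : Γ(S, U)),
      Proj.map (𝒮.res hU (hU.basicOpen r) (S.basicOpen_le r)) (𝒮.irrelevant_le_map U hU r) ≫
        g U hU = g (S.basicOpen r) (hU.basicOpen r)) :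
    ∃! e : P ⟶ T, ∀ (U : S.Opens) (hU : IsAffineOpen U), RelProj.emb p chart U hU ≫ e = g U hU := by
  obtain ⟨e, he, hu⟩ := existsUnique_glue p (fun U hU => (chart U hU).hom ≫ g U hU) (by
    intro U hU r
    rw [reassoc_of% (h.chart_res U hU r), hg])
  refine ⟨e, fun U hU => ?_, fun e' he' => hu e' fun U hU => ?_⟩
  · rw [RelProj.emb, Category.assoc, he, Iso.inv_hom_id_assoc]
  · rw [← chart_hom_emb (chart := chart) U hU, Category.assoc, he']

theorem map_res_emb' {U V : S.Opens} (hU : IsAffineOpen U) (hV : IsAffineOpen V) (i : V ≤ U) :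
    Proj.map (𝒮.res hU hV i) (irrelevant_le_map_res 𝒮 hU hV i) ≫ RelProj.emb p chart U hU =
      RelProj.emb p chart V hV := by
  refine Scheme.hom_ext_of_forall _ _ fun y => ?_
  have hy : p.base ((RelProj.emb p chart V hV).base y) ∈ V := by
    have : (RelProj.emb p chart V hV).base y ∈ (RelProj.emb p chart V hV).opensRange := ⟨y, rfl⟩
    rwa [opensRange_emb] at this
  obtain ⟨r, s, hrs, hxr⟩ := exists_basicOpen_le_affine_inter hV hU _ ⟨hy, i hy⟩
  have key : ∀ (D : S.Opens) (hD : IsAffineOpen D) (hDU : D ≤ U), D = S.basicOpen s →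
      Proj.map (𝒮.res hU hD hDU) (irrelevant_le_map_res 𝒮 hU hD hDU) ≫ RelProj.emb p chart U hU =
        RelProj.emb p chart D hD := by
    rintro D hD hDU rfl
    exact RelProj.map_res_emb h U hU s
  have e2 := key (S.basicOpen r) (hV.basicOpen r) ((S.basicOpen_le r).trans i) hrs
  have e1 := RelProj.map_res_emb h V hV r
  let m := Proj.map (𝒮.res hV (hV.basicOpen r) (S.basicOpen_le r)) (𝒮.irrelevant_le_map V hV r)
  have : IsOpenImmersion (m ≫ RelProj.emb p chart V hV) := by rw [e1]; infer_instance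
  have : IsOpenImmersion m := IsOpenImmersion.of_comp m (RelProj.emb p chart V hV)
  refine ⟨m.opensRange, ?_, ?_⟩
  · have hmem : (RelProj.emb p chart V hV).base y ∈ (m ≫ RelProj.emb p chart V hV).opensRange := by
      simp only [m, e1]
      rw [opensRange_emb]
      exact hxr
    obtain ⟨z, hz⟩ := hmem
    exact ⟨z, (RelProj.emb p chart V hV).isOpenEmbedding.injective hz⟩
  · have : m ≫ Proj.map (𝒮.res hU hV i) (irrelevant_le_map_res 𝒮 hU hV i) ≫
        RelProj.emb p chart U hU = m ≫ RelProj.emb p chart V hV := by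
      rw [e1, ← e2, ← Category.assoc, ← Proj.map_comp,
        map_congr (res_comp 𝒮 hU hV (hV.basicOpen r) i (S.basicOpen_le r))]
    rw [← cancel_epi m.isoOpensRange.hom]
    simpa only [← Category.assoc, Scheme.Hom.isoOpensRange_hom_ι] using this

theorem isPullback_emb (U : S.Opens) (hU : IsAffineOpen U) :
    IsPullback (Proj.toSpecZero (𝒮.deg U hU) ≫ Spec.map (𝒮.strZero U hU))
      (RelProj.emb p chart U hU) hU.fromSpec p := by
  refine IsOpenImmersion.isPullback _ _ _ _ ?_ ?_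
  · rw [emb_p h, Category.assoc]
  · rw [opensRange_emb, hU.opensRange_fromSpec]

theorem restrict_of_chart {Q : MorphismProperty Scheme.{u}} [IsZariskiLocalAtTarget Q]
    (hQ : ∀ (U : S.Opens) (hU : IsAffineOpen U),
      Q (Proj.toSpecZero (𝒮.deg U hU) ≫ Spec.map (𝒮.strZero U hU))) : Q p := by
  refine IsZariskiLocalAtTarget.of_iSup_eq_top (fun U : S.affineOpens => U.1)
    (iSup_affineOpens_eq_top S) fun U => ?_
  refine (Q.arrow_mk_iso_iff (morphismRestrictEq p U.2.opensRange_fromSpec).symm).mpr ?_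
  refine (Q.arrow_mk_iso_iff (morphismRestrictOpensRange p U.2.fromSpec)).mpr ?_
  rw [← (isPullback_emb h U.1 U.2).flip.isoPullback_inv_snd]
  exact (Q.cancel_left_of_respectsIso _ _).mpr (hQ U.1 U.2)

end Groth.Agent.EGAProj74
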