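import Groth.Agent.EGAProj74.RelBasic
import Groth.Agent.EGAProj74.GenDegOne

/-!
Finiteness of relative Proj.
-/

set_option autoImplicit false

universe u

open CategoryTheory CategoryTheory.Limits AlgebraicGeometry TopologicalSpace Opposite
open HomogeneousLocalization
open scoped HomogeneousIdeal

noncomputable section

namespace Groth.Agent.EGAProj74

variable {A σ : Type u} [CommRing A] [SetLike σ A] [AddSubgroupClass σ A] {𝒜 : ℕ → σ} [GradedRing 𝒜]

theorem finiteType_projTo_of_gen {R : CommRingCat.{u}}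
    (hgen : Subring.closure ((𝒜 0 : Set A) ∪ (𝒜 1 : Set A)) = ⊤)
    (ρ : R ⟶ CommRingCat.of (𝒜 0)) (T : Finset A) (hT : (↑T : Set A) ⊆ (𝒜 1 : Set A))
    (hspan : ∀ x ∈ 𝒜 1, ∃ c : A → R, x = ∑ t ∈ T, (ρ.hom (c t) : A) * t) :
    LocallyOfFiniteType (Proj.toSpecZero 𝒜 ≫ Spec.map ρ) ∧
      QuasiCompact (Proj.toSpecZero 𝒜 ≫ Spec.map ρ) := by
  let 𝒰 := Proj.affineOpenCoverOfIrrelevantLESpan 𝒜 (fun t : T => (t : A)) (m := fun _ => 1)
    (fun t => hT t.2) (fun _ => one_pos)
    (by simpa using irrelevant_le_span_finset hgen ρ.hom T hspan)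
  refine ⟨IsZariskiLocalAtSource.of_openCover (P := @LocallyOfFiniteType) 𝒰.openCover fun t => ?_, ?_⟩
  · change LocallyOfFiniteType (Proj.awayι 𝒜 (t.1 : A) (hT t.2) one_pos ≫ _)
    rw [Proj.awayι_toSpecZero_assoc, ← Spec.map_comp]
    refine HasRingHomProperty.Spec_iff.mpr ?_
    exact away_finiteType_of_gen hgen ρ.hom T hT hspan t.2
  · have : CompactSpace ↥(Proj 𝒜) := by
      have : Finite 𝒰.openCover.I₀ := inferInstanceAs (Finite T)
      have : ∀ i, CompactSpace (𝒰.openCover.X i) := fun i => inferInstanceAs (CompactSpace (Spec _))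
      exact 𝒰.openCover.compactSpace
    exact (quasiCompact_iff_compactSpace _).mpr this

theorem isReduced_away (hred : ∀ x ∈ (HomogeneousIdeal.irrelevant 𝒜).toIdeal, IsNilpotent x → x = 0)
    {d : ℕ} (hd : 0 < d) {f : A} (hf : f ∈ 𝒜 d) : _root_.IsReduced (Away 𝒜 f) := by
  refine ⟨fun z hz => ?_⟩
  obtain ⟨n, a, ha, rfl⟩ := Away.mk_surjective 𝒜 hf z
  obtain ⟨k, hk⟩ := hz
  replace hk := congr_arg val hk
  rw [val_pow, val_zero, Away.val_mk, Localization.mk_pow, ← Localization.mk_zero 1,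
    Localization.mk_eq_mk_iff, Localization.r_iff_exists] at hk
  obtain ⟨⟨_, m, rfl⟩, hm⟩ := hk
  simp only [OneMemClass.coe_one, one_mul, mul_zero] at hm
  have h1 : (f ^ (m + 1) * a) ^ (k + 1) = 0 := by
    calc (f ^ (m + 1) * a) ^ (k + 1) = f ^ (m * k + m + k + 1 - m) * a * (f ^ m * a ^ k) := by
          rw [show m * k + m + k + 1 - m = m * k + k + 1 by omega, mul_pow, ← pow_mul]
          ring
      _ = 0 := by rw [hm, mul_zero]
  have h2 : f ^ (m + 1) * a = 0 := by
    refine hred _ ?_ ⟨k + 1, h1⟩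
    refine Ideal.mul_mem_right _ _ (Ideal.pow_mem_of_mem _ ?_ _ m.succ_pos)
    exact HomogeneousIdeal.mem_irrelevant_of_mem _ hd hf
  apply val_injective
  rw [val_zero, Away.val_mk, ← Localization.mk_zero 1, Localization.mk_eq_mk_iff,
    Localization.r_iff_exists]
  exact ⟨⟨f ^ (m + 1), m + 1, rfl⟩, by simpa using h2⟩

theorem isReduced_proj (hred : ∀ x ∈ (HomogeneousIdeal.irrelevant 𝒜).toIdeal, IsNilpotent x → x = 0) :
    AlgebraicGeometry.IsReduced (Proj 𝒜) := by
  have : ∀ i, AlgebraicGeometry.IsReduced ((Proj.affineOpenCover 𝒜).openCover.X i) := fun i => by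
    have := isReduced_away hred i.1.2 i.2.2
    exact inferInstanceAs (AlgebraicGeometry.IsReduced (Spec (CommRingCat.of (Away 𝒜 (i.2 : A)))))
  exact IsReduced.of_openCover _ (Proj.affineOpenCover 𝒜).openCover

variable {S P : Scheme.{u}} {𝒮 : RelProj.QCGrAlg S} {p : P ⟶ S}
  {chart : ∀ (U : S.Opens) (hU : IsAffineOpen U), (((p ⁻¹ᵁ U : P.Opens) : Scheme.{u}) ≅ Proj (𝒮.deg U hU))}

theorem isReduced_relProj
    (hred : ∀ (U : S.Opens) (hU : IsAffineOpen U), AlgebraicGeometry.IsReduced (Proj (𝒮.deg U hU))) :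
    (RelProj.IsRelProj 𝒮 p chart) → AlgebraicGeometry.IsReduced P := by
  intro _
  have : ∀ i, AlgebraicGeometry.IsReduced ((preimageCover p).X i) := fun U =>
    have := hred U.1 U.2
    isReduced_of_isOpenImmersion (chart U.1 U.2).hom
  exact IsReduced.of_openCover _ (preimageCover p)

end Groth.Agent.EGAProj74
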