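import Groth.Prelude.Def_RelSpec
import Mathlib.CategoryTheory.Sites.DenseSubsite.Basic

/-!
`π_* O_{Spec A} = A`.
-/

set_option autoImplicit false

universe u

open CategoryTheory CategoryTheory.Limits AlgebraicGeometry TopologicalSpace Opposite

noncomputable section

namespace Groth.Agent.EGAProj74

variable {S : Scheme.{u}} (A : RelSpec.QCAlg S)

theorem isIso_gammaAff (U : S.Opens) (hU : IsAffineOpen U) : IsIso (A.gammaAff U hU) := by
  have h : IsIso ((A.ι U hU).app (A.π ⁻¹ᵁ U)) :=
    Scheme.Hom.isIso_app (A.ι U hU) _ (A.π_preimage U hU).le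
  have h' : IsIso (homOfLE (A.top_le_preimage U hU)) :=
    ⟨homOfLE le_top, Subsingleton.elim _ _, Subsingleton.elim _ _⟩
  unfold RelSpec.QCAlg.gammaAff Scheme.Hom.appLE
  infer_instance

theorem isIso_gammaMap : IsIso A.gammaMap := by
  let ℱ : Sheaf (Opens.grothendieckTopology (S.carrier : Type u)) CommRingCat.{u} :=
    ⟨A.π.base _* A.spec.presheaf, TopCat.Sheaf.pushforward_sheaf_of_sheaf _ A.spec.sheaf.property⟩
  let α : ℱ ⟶ (⟨A.presheaf, A.isSheaf⟩ : Sheaf (Opens.grothendieckTopology (S.carrier : Type u)) CommRingCat.{u}) := ⟨A.gammaMap⟩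
  have h : IsIso (Functor.whiskerLeft (Scheme.AffineZariskiSite.toOpensFunctor S).op A.gammaMap) := by
    rw [A.gammaMap_restrict]
    have : ∀ U, IsIso (A.gammaRestrict.app U) := fun U => isIso_gammaAff A U.unop.1 U.unop.2
    exact NatIso.isIso_of_isIso_app _
  have : IsIso α := Functor.IsCoverDense.iso_of_restrict_iso (G := Scheme.AffineZariskiSite.toOpensFunctor S)
    (K := Opens.grothendieckTopology S) α h
  exact inferInstanceAs (IsIso ((sheafToPresheaf _ _).map α))

end Groth.Agent.EGAProj74
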