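import Groth.Agent.EGAProj74.GluePairs
import Groth.Prelude.Def_RelProj4

/-!
Basic API of the relative spectrum.
-/

set_option autoImplicit false

universe u

open CategoryTheory CategoryTheory.Limits AlgebraicGeometry TopologicalSpace Opposite

noncomputable section

namespace Groth.Agent.EGAProj74

variable {S : Scheme.{u}} (A : RelSpec.QCAlg S)

theorem opensRange_specι (U : S.Opens) (hU : IsAffineOpen U) :
    (A.ι U hU).opensRange = A.π ⁻¹ᵁ U := (A.π_preimage U hU).symm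

/-- The chart `π⁻¹(U) ≅ Spec A(U)`. -/
def specChart (U : S.Opens) (hU : IsAffineOpen U) :
    ((A.π ⁻¹ᵁ U : A.spec.Opens) : Scheme.{u}) ≅ Spec (A.presheaf.obj (op U)) :=
  A.spec.isoOfEq (A.π_preimage U hU) ≪≫ (A.ι U hU).isoOpensRange.symm

@[reassoc]
theorem specChart_hom_ι (U : S.Opens) (hU : IsAffineOpen U) :
    (specChart A U hU).hom ≫ A.ι U hU = (A.π ⁻¹ᵁ U).ι := by
  simp [specChart]

theorem map_res_specι {U V : S.Opens} (hU : IsAffineOpen U) (hV : IsAffineOpen V) (i : V ≤ U) :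
    Spec.map (A.presheaf.map (homOfLE i).op) ≫ A.ι U hU = A.ι V hV := by
  let g : ∀ (U : S.Opens), IsAffineOpen U → (((A.π ⁻¹ᵁ U : A.spec.Opens) : Scheme.{u}) ⟶ A.spec) :=
    fun U _ => (A.π ⁻¹ᵁ U).ι
  refine Scheme.hom_ext_of_forall _ _ fun y => ?_
  have hy : A.π.base ((A.ι V hV).base y) ∈ V := by
    change (A.ι V hV).base y ∈ A.π ⁻¹ᵁ V
    rw [← opensRange_specι A V hV]
    exact ⟨y, rfl⟩
  obtain ⟨r, s, hrs, hxr⟩ := exists_basicOpen_le_affine_inter hV hU _ ⟨hy, i hy⟩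
  have key : ∀ (D : S.Opens) (hD : IsAffineOpen D) (hDU : D ≤ U), D = S.basicOpen s →
      Spec.map (A.presheaf.map (homOfLE hDU).op) ≫ A.ι U hU = A.ι D hD := by
    rintro D hD hDU rfl
    exact A.ι_res (U := ⟨U, hU⟩) (homOfLE (Scheme.AffineZariskiSite.basicOpen_le ⟨U, hU⟩ s))
  have e1 : Spec.map (A.presheaf.map (homOfLE (S.basicOpen_le r)).op) ≫ A.ι V hV =
      A.ι (S.basicOpen r) (hV.basicOpen r) :=
    A.ι_res (U := ⟨V, hV⟩) (homOfLE (Scheme.AffineZariskiSite.basicOpen_le ⟨V, hV⟩ r))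
  have e2 := key (S.basicOpen r) (hV.basicOpen r) ((S.basicOpen_le r).trans i) hrs
  let m := Spec.map (A.presheaf.map (homOfLE (S.basicOpen_le r)).op)
  have : IsOpenImmersion (m ≫ A.ι V hV) := by rw [e1]; infer_instance
  have : IsOpenImmersion m := IsOpenImmersion.of_comp m (A.ι V hV)
  refine ⟨m.opensRange, ?_, ?_⟩
  · have hmem : (A.ι V hV).base y ∈ (m ≫ A.ι V hV).opensRange := by
      simp only [m, e1]
      rw [opensRange_specι]
      exact hxr
    obtain ⟨z, hz⟩ := hmem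
    exact ⟨z, (A.ι V hV).isOpenEmbedding.injective hz⟩
  · have : m ≫ Spec.map (A.presheaf.map (homOfLE i).op) ≫ A.ι U hU = m ≫ A.ι V hV := by
      rw [e1, ← e2, ← Spec.map_comp_assoc, ← Functor.map_comp]
      rfl
    rw [← cancel_epi m.isoOpensRange.hom]
    simpa only [← Category.assoc, Scheme.Hom.isoOpensRange_hom_ι] using this

theorem isPullback_specι (U : S.Opens) (hU : IsAffineOpen U) :
    IsPullback (Spec.map (A.str.app (op U))) (A.ι U hU) hU.fromSpec A.π := by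
  refine IsOpenImmersion.isPullback _ _ _ _ (A.ι_π U hU) ?_
  rw [hU.opensRange_fromSpec, opensRange_specι]

theorem spec_hom_ext {T : Scheme.{u}} {f f' : A.spec ⟶ T}
    (h : ∀ (U : S.Opens) (hU : IsAffineOpen U), A.ι U hU ≫ f = A.ι U hU ≫ f') : f = f' :=
  colimit.hom_ext fun U => h U.1 U.2

variable {S' : Scheme.{u}} {g : S' ⟶ S} {A} {B : RelSpec.QCAlg S'} (u : RelSpec.QHom g A B)

theorem existsUnique_specQMap : ∃! h : B.spec ⟶ A.spec, RelSpec.IsSpecQMap u h := by
  obtain ⟨e, he, hu⟩ := existsUnique_glue_pairs B.π g (T := A.spec)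
    (fun V => (specChart B V.U' V.hU').hom ≫ Spec.map (u.appLE V.U V.U' V.hle) ≫ A.ι V.U V.hU) (by
      intro V D i i'
      have e : B.spec.homOfLE (B.π.preimage_mono i') ≫ (specChart B V.U' V.hU').hom =
          (specChart B D.U' D.hU').hom ≫ Spec.map (B.presheaf.map (homOfLE i').op) := by
        rw [← cancel_mono (B.ι V.U' V.hU'), Category.assoc, Category.assoc, specChart_hom_ι,
          Scheme.homOfLE_ι, map_res_specι B V.hU' D.hU' i', specChart_hom_ι]
      rw [reassoc_of% e, ← Spec.map_comp_assoc, u.appLE_map, ← u.map_appLE i D.hle, Spec.map_comp,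
        Category.assoc, map_res_specι A V.hU D.hU i])
  refine ⟨e, fun U hU U' hU' hle => ?_, fun h hh => hu h fun V => ?_⟩
  · rw [← cancel_epi (specChart B U' hU').hom, specChart_hom_ι_assoc, he ⟨U, hU, U', hU', hle⟩]
  · rw [← specChart_hom_ι B V.U' V.hU', Category.assoc, hh V.U V.hU V.U' V.hU' V.hle]

variable {u}

theorem specQMap_over {h : B.spec ⟶ A.spec} (hh : RelSpec.IsSpecQMap u h) : h ≫ A.π = B.π ≫ g := by
  refine spec_hom_ext B fun U' hU' => Scheme.hom_ext_of_forall _ _ fun y => ?_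
  obtain ⟨_, ⟨U, hU, rfl⟩, hxU, -⟩ := (Scheme.isBasis_affineOpens S).exists_subset_of_mem_open
    (Set.mem_univ (g.base (B.π.base ((B.ι U' hU').base y)))) isOpen_univ
  have hy : B.π.base ((B.ι U' hU').base y) ∈ U' := by
    change (B.ι U' hU').base y ∈ B.π ⁻¹ᵁ U'
    rw [← opensRange_specι B U' hU']
    exact ⟨y, rfl⟩
  obtain ⟨_, ⟨V, hV, rfl⟩, hxV, hVle⟩ := (Scheme.isBasis_affineOpens S').exists_subset_of_mem_open
    (show B.π.base ((B.ι U' hU').base y) ∈ ((U' ⊓ g ⁻¹ᵁ U : S'.Opens) : Set S') from ⟨hy, hxU⟩)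
    (U' ⊓ g ⁻¹ᵁ U).2
  have i : V ≤ U' := fun x hx => (hVle hx).1
  have hle : V ≤ g ⁻¹ᵁ U := fun x hx => (hVle hx).2
  let m := Spec.map (B.presheaf.map (homOfLE i).op)
  have hm : m ≫ B.ι U' hU' = B.ι V hV := map_res_specι B hU' hV i
  have : IsOpenImmersion (m ≫ B.ι U' hU') := by rw [hm]; infer_instance
  have : IsOpenImmersion m := IsOpenImmersion.of_comp m (B.ι U' hU')
  refine ⟨m.opensRange, ?_, ?_⟩
  · have hmem : (B.ι U' hU').base y ∈ (m ≫ B.ι U' hU').opensRange := by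
      simp only [hm]
      rw [opensRange_specι]
      exact hxV
    obtain ⟨z, hz⟩ := hmem
    exact ⟨z, (B.ι U' hU').isOpenEmbedding.injective hz⟩
  · rw [← cancel_epi m.isoOpensRange.hom]
    simp only [← Category.assoc, Scheme.Hom.isoOpensRange_hom_ι, hm]
    rw [hh U hU V hV hle]
    simp only [Category.assoc]
    rw [A.ι_π, ← reassoc_of% (B.ι_π V hV).symm, ← IsAffineOpen.SpecMap_appLE_fromSpec g hU hV hle,
      ← Spec.map_comp_assoc, ← Spec.map_comp_assoc, u.str_appLE]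

theorem isPullback_specQMap {h : B.spec ⟶ A.spec} (hh : RelSpec.IsSpecQMap u h)
    (hu : RelSpec.IsQBaseChange u) : IsPullback h B.π A.π g := by
  refine isPullback_of_pairs B.π g h (specQMap_over hh) fun V =>
    ⟨_, B.ι V.U' V.hU', Spec.map (B.str.app (op V.U')), inferInstance,
      opensRange_specι B _ _, B.ι_π _ _, ?_⟩
  rw [hh V.U V.hU V.U' V.hU' V.hle, ← IsAffineOpen.SpecMap_appLE_fromSpec g V.hU V.hU' V.hle]
  exact (isPullback_SpecMap_of_isPushout _ _ _ _ (hu V.U V.hU V.U' V.hU' V.hle)).flip.paste_horiz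
    (isPullback_specι A V.U V.hU).flip

end Groth.Agent.EGAProj74
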