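import Groth.Agent.EGAProj74.SymAlgUnique
import Groth.Agent.EGAProj74.RelSpecBasic
import Groth.Agent.QC70.Closure
import Groth.Agent.QC70.FiniteType

/-!
Vector bundles: finite type, closed immersions from epimorphisms.
-/

set_option autoImplicit false
set_option backward.isDefEq.respectTransparency.types false

universe u

open CategoryTheory CategoryTheory.Limits AlgebraicGeometry TopologicalSpace Opposite

noncomputable section

namespace Groth.Agent.EGAProj74

variable {S : Scheme.{u}}

theorem affine_iSup_eq_top (S : Scheme.{u}) : (⨆ U : S.AffineZariskiSite, U.1) = ⊤ := top_le_iff.mp fun x _ => by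
  obtain ⟨_, ⟨V, hV, rfl⟩, hxV, -⟩ :=
    S.isBasis_affineOpens.exists_subset_of_mem_open (Set.mem_univ x) isOpen_univ
  exact Opens.mem_iSup.mpr ⟨⟨V, hV⟩, hxV⟩

theorem closure_symAlg {E : S.Modules} (hE : E.IsQuasicoherent) {A : RelSpec.QCAlg S} {j : E ⟶ A.toModule}
    (hA : RelSpec.IsSymAlg E A j) (U : S.Opens) (hU : IsAffineOpen U) :
    Subring.closure (Set.range (A.str.app (op U)).hom ∪ Set.range fun m : Γ(E, U) => j.app U m) = ⊤ := by
  obtain ⟨e, he, hej⟩ := exists_symAlg_equiv hE hA U hU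
  refine top_le_iff.mp fun x _ => ?_
  obtain ⟨y, rfl⟩ := e.symm.surjective x
  induction y using SymmetricAlgebra.induction with
  | algebraMap r => exact Subring.subset_closure (Or.inl ⟨r, by rw [← he, e.symm_apply_apply]⟩)
  | ι m =>
    exact Subring.subset_closure (Or.inr ⟨m, (((e.symm_apply_eq).mpr (hej m).symm)).symm⟩)
  | mul a b ha hb => rw [map_mul]; exact mul_mem (ha trivial) (hb trivial)
  | add a b ha hb => rw [map_add]; exact add_mem (ha trivial) (hb trivial)

/-- A relative spectrum is locally of finite type when the sections over affine opens are. -/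
theorem locallyOfFiniteType_specπ (A : RelSpec.QCAlg S)
    (h : ∀ (U : S.Opens), IsAffineOpen U → (A.str.app (op U)).hom.FiniteType) : LocallyOfFiniteType A.π := by
  refine (IsZariskiLocalAtSource.iff_of_openCover A.glueData.cover).mpr fun U => ?_
  change LocallyOfFiniteType (A.ι U.1 U.2 ≫ A.π)
  rw [A.ι_π]
  have : LocallyOfFiniteType (Spec.map (A.str.app (op U.1))) :=
    (HasRingHomProperty.Spec_iff (P := @LocallyOfFiniteType)).mpr (h U.1 U.2)
  infer_instance

theorem finiteType_symAlg {E : S.Modules} (hE : E.IsQuasicoherent) (hft : E.IsFiniteType)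
    {A : RelSpec.QCAlg S} {j : E ⟶ A.toModule} (hA : RelSpec.IsSymAlg E A j) : LocallyOfFiniteType A.π := by
  refine locallyOfFiniteType_specπ A fun U hU => ?_
  have := Groth.Agent.QC70.finite_sections_of_isFiniteType E hU
  obtain ⟨T, hT⟩ := Module.Finite.fg_top (R := Γ(S, U)) (M := Γ(E, U))
  classical
  letI : Algebra Γ(S, U) (A.presheaf.obj (op U)) := (A.str.app (op U)).hom.toAlgebra
  let J : Γ(E, U) → A.presheaf.obj (op U) := fun m => j.app U m
  refine ⟨⟨T.image J, top_le_iff.mp ?_⟩⟩
  rintro x -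
  have hx : x ∈ Subring.closure (Set.range (A.str.app (op U)).hom ∪ Set.range fun m : Γ(E, U) => j.app U m) :=
    (closure_symAlg hE hA U hU).symm ▸ trivial
  refine (Subring.closure_le (t := (Algebra.adjoin Γ(S, U) _).toSubring)).mpr ?_ hx
  rintro y (⟨r, rfl⟩ | ⟨m, rfl⟩)
  · exact Subalgebra.algebraMap_mem _ r
  · have hm : m ∈ Submodule.span Γ(S, U) (T : Set Γ(E, U)) := hT.symm ▸ Submodule.mem_top
    show J m ∈ Algebra.adjoin Γ(S, U) (T.image J : Set (A.presheaf.obj (op U)))
    induction hm using Submodule.span_induction with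
    | mem m hm => exact Algebra.subset_adjoin (Finset.mem_coe.mpr (Finset.mem_image_of_mem _ hm))
    | zero =>
      have : J 0 = 0 := map_zero _
      rw [this]; exact zero_mem _
    | add a b _ _ ha hb =>
      have : J (a + b) = J a + J b := map_add _ a b
      rw [this]; exact add_mem ha hb
    | smul r a _ ha =>
      have : J (r • a) = r • J a := j.app_smul r a
      rw [this]; exact Subalgebra.smul_mem _ ha r

/-- `Spec` of an affinely surjective algebra map is a closed immersion. -/
theorem isClosedImmersion_specMap {A B : RelSpec.QCAlg S} (ψ : A ⟶ B)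
    (h : ∀ (U : S.Opens), IsAffineOpen U → Function.Surjective (ψ.hom.app (op U)).hom) :
    IsClosedImmersion (RelSpec.QCAlg.specMap ψ) := by
  refine (IsZariskiLocalAtTarget.iff_of_iSup_eq_top (P := @IsClosedImmersion)
    (fun U : S.AffineZariskiSite => A.π ⁻¹ᵁ U.1) ?_).mpr fun U => ?_
  · rw [← Scheme.Hom.preimage_iSup]; exact congrArg (A.π ⁻¹ᵁ ·) (affine_iSup_eq_top S)
  have hpb : IsPullback (Spec.map (ψ.hom.app (op U.1))) (B.ι U.1 U.2) (A.ι U.1 U.2) (RelSpec.QCAlg.specMap ψ) := by
    refine IsOpenImmersion.isPullback _ _ _ _ (RelSpec.QCAlg.ι_specMap U.1 U.2 ψ) ?_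
    rw [opensRange_specι A U.1 U.2, opensRange_specι B U.1 U.2, ← Scheme.Hom.comp_preimage,
      RelSpec.QCAlg.specMap_π]
  have : IsClosedImmersion (Spec.map (ψ.hom.app (op U.1))) := IsClosedImmersion.spec_of_surjective _ (h U.1 U.2)
  refine (MorphismProperty.arrow_mk_iso_iff @IsClosedImmersion ?_).mp this
  refine (Arrow.isoMk (g := Arrow.mk (pullback.snd (RelSpec.QCAlg.specMap ψ) (A.ι U.1 U.2))) hpb.flip.isoPullback (Iso.refl _) ?_) ≪≫
    (morphismRestrictOpensRange (RelSpec.QCAlg.specMap ψ) (A.ι U.1 U.2)).symm ≪≫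
    morphismRestrictEq (RelSpec.QCAlg.specMap ψ) (opensRange_specι A U.1 U.2)
  simp

theorem isClosedImmersion_specMap_of_epi {E F : S.Modules} (hE : E.IsQuasicoherent) (hF : F.IsQuasicoherent)
    (v : E ⟶ F) [Epi v] {A B : RelSpec.QCAlg S} {j : E ⟶ A.toModule} {k : F ⟶ B.toModule}
    (hB : RelSpec.IsSymAlg F B k) (ψ : A ⟶ B) (hψ : j ≫ RelSpec.QCAlg.Hom.toModuleMap ψ = v ≫ k) :
    IsClosedImmersion (RelSpec.QCAlg.specMap ψ) := by
  refine isClosedImmersion_specMap ψ fun U hU => ?_
  have := Groth.Agent.QC70.isQuasicoherent_kernel v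
  have hS : (ShortComplex.mk (kernel.ι v) v (kernel.condition v)).ShortExact :=
    { exact := ShortComplex.exact_of_f_is_kernel _ (kernelIsKernel v)
      mono_f := (inferInstance : Mono (kernel.ι v))
      epi_g := ‹Epi v› }
  have : (ShortComplex.mk (kernel.ι v) v (kernel.condition v)).X₁.IsQuasicoherent := by assumption
  have hv : Function.Surjective (v.app U) := Groth.Agent.QC70.app_surjective_of_isAffineOpen _ hS hU
  rw [← RingHom.range_eq_top, ← top_le_iff, ← closure_symAlg hF hB U hU, Subring.closure_le]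
  rintro y (⟨r, rfl⟩ | ⟨m, rfl⟩)
  · exact ⟨(A.str.app (op U)).hom r, congr(($(ψ.comm)).app (op U) r)⟩
  · obtain ⟨m, rfl⟩ := hv m
    exact ⟨j.app U m, congr(($hψ).app U m)⟩

end Groth.Agent.EGAProj74
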