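import Mathlib.AlgebraicGeometry.Modules.Sheaf

/-!
A morphism of modules that is bijective on the sections over a basis is an isomorphism.
-/

set_option autoImplicit false
set_option backward.isDefEq.respectTransparency.types false

universe u

open CategoryTheory CategoryTheory.Limits AlgebraicGeometry TopologicalSpace Opposite

noncomputable section

namespace Groth.Agent.EGAProj74

variable {P : Scheme.{u}} {M N : P.Modules} (φ : M ⟶ N)

theorem app_naturality_apply {W W' : P.Opens} (h : W' ≤ W) (x : Γ(M, W)) :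
    φ.app W' ((M.presheaf.map (homOfLE h).op).hom x) = (N.presheaf.map (homOfLE h).op).hom (φ.app W x) :=
  congr($(φ.mapPresheaf.naturality (homOfLE h).op).hom x)

/-- A morphism bijective on a basis of opens is an isomorphism. -/
theorem isIso_of_basis (B : Set P.Opens)
    (hB : ∀ (W : P.Opens) (z : P), z ∈ W → ∃ V ∈ B, z ∈ V ∧ V ≤ W)
    (h : ∀ V ∈ B, Function.Bijective (φ.app V)) : IsIso φ := by
  rw [Scheme.Modules.Hom.isIso_iff_isIso_app]
  have hinj : ∀ W, Function.Injective (φ.app W) := by
    intro W a b e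
    choose V hV hzV hVW using fun z : W => hB W z.1 z.2
    refine TopCat.Sheaf.eq_of_locally_eq' (F := ⟨M.presheaf, M.isSheaf⟩) V W (fun z => homOfLE (hVW z))
      (fun z hz => Opens.mem_iSup.mpr ⟨⟨z, hz⟩, hzV _⟩) _ _ fun z => (h _ (hV z)).injective ?_
    change φ.app _ ((M.presheaf.map _).hom a) = φ.app _ ((M.presheaf.map _).hom b)
    rw [app_naturality_apply, app_naturality_apply]
    exact congrArg _ e
  intro W
  rw [ConcreteCategory.isIso_iff_bijective]
  refine ⟨hinj W, fun b => ?_⟩
  choose V hV hzV hVW using fun z : W => hB W z.1 z.2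
  choose a ha using fun z : W => (h _ (hV z)).surjective ((N.presheaf.map (homOfLE (hVW z)).op).hom b)
  have hcov : W ≤ ⨆ z : W, V z := fun z hz => Opens.mem_iSup.mpr ⟨⟨z, hz⟩, hzV _⟩
  obtain ⟨t, ht, -⟩ := TopCat.Sheaf.existsUnique_gluing' ⟨M.presheaf, M.isSheaf⟩ V W
    (fun z => homOfLE (hVW z)) hcov a fun i j => by
      refine hinj _ ?_
      change φ.app _ ((M.presheaf.map (homOfLE (inf_le_left : V i ⊓ V j ≤ V i)).op).hom (a i)) =
        φ.app _ ((M.presheaf.map (homOfLE (inf_le_right : V i ⊓ V j ≤ V j)).op).hom (a j))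
      rw [app_naturality_apply, app_naturality_apply, ha, ha, ← ConcreteCategory.comp_apply,
        ← ConcreteCategory.comp_apply, ← Functor.map_comp, ← Functor.map_comp]
      rfl
  refine ⟨t, ?_⟩
  refine TopCat.Sheaf.eq_of_locally_eq' (F := ⟨N.presheaf, N.isSheaf⟩) V W (fun z => homOfLE (hVW z))
    hcov _ _ fun z => ?_
  change (N.presheaf.map (homOfLE (hVW z)).op).hom (φ.app W t) = (N.presheaf.map (homOfLE (hVW z)).op).hom b
  rw [← app_naturality_apply, ← ha z]
  exact congrArg _ (ht z)

end Groth.Agent.EGAProj74
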