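import Groth.Agent.EGAProj74.BundleUP
import Groth.Agent.Props58.PullTensor
import Groth.Agent.Amp73.FrameGlue

/-!
The universal property of a projective bundle.
-/

set_option autoImplicit false
set_option backward.isDefEq.respectTransparency.types false

universe u

open CategoryTheory CategoryTheory.Limits AlgebraicGeometry TopologicalSpace Opposite
open scoped HomogeneousIdeal

noncomputable section

namespace Groth.Agent.EGAProj74

open Var76.LineBundle Var76.ZeroScheme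

variable {S P X : Scheme.{u}} {E : S.Modules} {L : X.Modules}
  {𝒮 : RelProj.QCGrAlg S} {j : E ⟶ 𝒮.toModule} {p : P ⟶ S}
  {chart : ∀ (U : S.Opens) (hU : IsAffineOpen U), ((p ⁻¹ᵁ U : P.Opens) : Scheme.{u}) ≅ Proj (𝒮.deg U hU)}
  {O1 : P.Modules}
  {lam : ∀ (U : S.Opens) (hU : IsAffineOpen U),
    O1 ⟶ (Scheme.Modules.pushforward (RelProj.emb p chart U hU)).obj (GrTwist.twist (𝒮.deg U hU) 1)}
  (hE : E.IsQuasicoherent) (hj : RelProj.IsGrSymAlg E 𝒮 j) (hP : RelProj.IsRelProj 𝒮 p chart)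
  (hO1 : RelProj.IsRelTwist 𝒮 p chart 1 O1 lam) {φ : E ⟶ (Scheme.Modules.pushforward p).obj O1}
  (hφ : IsCanonical lam j φ)

variable (chart) in
/-- `r` is classified by `v`. -/
structure Classifies {g : X ⟶ S} (v : E ⟶ (Scheme.Modules.pushforward g).obj L) (r : X ⟶ P) : Prop where
  comp_eq : r ≫ p = g
  coord : ∀ (U : S.affineOpens) (e : Γ(E, U.1)) (V : X.Opens) (hV : V ≤ g ⁻¹ᵁ U.1),
    IsFrame L V (res L hV (v.app U.1 e)) →
      ∃ hD : V ≤ r ⁻¹ᵁ dOpen j chart U e, IsCoord v chart hj U e V hV (r.appLE _ V hD)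

variable {g : X ⟶ S} {v : E ⟶ (Scheme.Modules.pushforward g).obj L}

include hE hP in
theorem Classifies.unique (hv : IsGenerating v) {r r' : X ⟶ P} (h : Classifies chart hj v r)
    (h' : Classifies chart hj v r') : r = r' := by
  refine Scheme.hom_ext_of_forall r r' fun x => ?_
  obtain ⟨U, e, V, hV, hx, hfr⟩ := hv x
  obtain ⟨hD, hc⟩ := h.coord U e V hV hfr
  obtain ⟨hD', hc'⟩ := h'.coord U e V hV hfr
  refine ⟨V, hx, ?_⟩
  rw [ι_comp_eq_affMor r (isAffineOpen_dOpen chart hj U e) hD,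
    ι_comp_eq_affMor r' (isAffineOpen_dOpen chart hj U e) hD', hc.unique hE hj hP hfr hc']

include hE hP hO1 hφ in
theorem affMor_eq_of_coord {U U' : S.affineOpens} {e : Γ(E, U.1)} {e' : Γ(E, U'.1)} {V : X.Opens}
    {hV : V ≤ g ⁻¹ᵁ U.1} {hV' : V ≤ g ⁻¹ᵁ U'.1} (hfr : IsFrame L V (res L hV (v.app U.1 e)))
    (hfr' : IsFrame L V (res L hV' (v.app U'.1 e')))
    {θ : Γ(P, dOpen j chart U e) ⟶ Γ(X, V)} (hθ : IsCoord v chart hj U e V hV θ)
    {θ' : Γ(P, dOpen j chart U' e') ⟶ Γ(X, V)} (hθ' : IsCoord v chart hj U' e' V hV' θ') :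
    affMor (isAffineOpen_dOpen chart hj U e) θ = affMor (isAffineOpen_dOpen chart hj U' e') θ' := by
  refine Scheme.hom_ext_of_forall _ _ fun x => ?_
  obtain ⟨_, ⟨W, hW, rfl⟩, hxW, hWU⟩ := (Scheme.isBasis_affineOpens S).exists_subset_of_mem_open
    (show g x.1 ∈ ((U.1 ⊓ U'.1 : S.Opens) : Set S) from ⟨hV x.2, hV' x.2⟩) (U.1 ⊓ U'.1).isOpen
  let V₀ : X.Opens := V ⊓ g ⁻¹ᵁ W
  have i : V₀ ≤ V := inf_le_left
  have hV₀ : V₀ ≤ g ⁻¹ᵁ W := inf_le_right
  have h : W ≤ U.1 := fun z hz => (hWU hz).1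
  have h' : W ≤ U'.1 := fun z hz => (hWU hz).2
  refine ⟨V.ι ⁻¹ᵁ V₀, ⟨x.2, hxW⟩, ?_⟩
  suffices H : X.homOfLE i ≫ affMor (isAffineOpen_dOpen chart hj U e) θ =
      X.homOfLE i ≫ affMor (isAffineOpen_dOpen chart hj U' e') θ' by
    let m : ((V.ι ⁻¹ᵁ V₀ : (V : Scheme.{u}).Opens) : Scheme.{u}) ⟶ (V₀ : Scheme.{u}) :=
      IsOpenImmersion.lift V₀.ι ((V.ι ⁻¹ᵁ V₀).ι ≫ V.ι) (by
        rw [Scheme.Opens.range_ι]
        rintro _ ⟨y, rfl⟩
        exact y.2)
    have hm : (V.ι ⁻¹ᵁ V₀).ι = m ≫ X.homOfLE i := by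
      rw [← cancel_mono V.ι, Category.assoc, Scheme.homOfLE_ι]
      exact (IsOpenImmersion.lift_fac ..).symm
    rw [hm, Category.assoc, H, Category.assoc]
  rw [homOfLE_affMor, homOfLE_affMor]
  have hf1 : IsFrame L V₀ (res L (i.trans hV) (v.app U.1 e)) := by
    have := hfr.res i; rwa [res_res] at this
  have hf2 : IsFrame L V₀ (res L (i.trans hV') (v.app U'.1 e')) := by
    have := hfr'.res i; rwa [res_res] at this
  have hw1 : IsFrame L V₀ (res L hV₀ (v.app W (res E h e))) := by rwa [vres_nat v h hV₀ e]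
  have hw2 : IsFrame L V₀ (res L hV₀ (v.app W (res E h' e'))) := by rwa [vres_nat v h' hV₀ e']
  obtain ⟨a, ha⟩ := exists_isCoord hE hj hP (chart := chart) (U := ⟨W, hW⟩) (e := res E h e) (hV := hV₀) hw1
  obtain ⟨b, hb⟩ := exists_isCoord hE hj hP (chart := chart) (U := ⟨W, hW⟩) hw2
  rw [IsCoord.refine_open hE hj hP hO1 hφ (W := ⟨W, hW⟩) h hf1 (hθ.res' hj i) ha,
    IsCoord.refine_open hE hj hP hO1 hφ (W := ⟨W, hW⟩) h' hf2 (hθ'.res' hj i) hb,
    IsCoord.change hE hj hP hO1 hφ (U := ⟨W, hW⟩) (e := res E h e) (e₂ := res E h' e') hw1 hw2 ha hb]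

include hE hP hO1 hφ in
theorem exists_classifies (hv : IsGenerating v) : ∃ r : X ⟶ P, Classifies chart hj v r := by
  let J : Type u := Σ U : S.affineOpens, Γ(E, U.1)
  let G : J → X.Opens := fun i =>
    sSup {V | ∃ hV : V ≤ g ⁻¹ᵁ i.1.1, IsFrame L V (res L hV (v.app i.1.1 i.2))}
  have hG : ∀ i, G i ≤ g ⁻¹ᵁ i.1.1 := fun i => sSup_le fun V hV => hV.1
  have hfr : ∀ i, IsFrame L (G i) (res L (hG i) (v.app i.1.1 i.2)) := fun i =>
    Amp73.isFrame_of_locally _ fun x hx => by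
      obtain ⟨V, hV, hxV⟩ := Opens.mem_sSup.mp hx
      refine ⟨V, le_sSup hV, hxV, ?_⟩
      rw [res_res]
      exact hV.2
  have hcov : ⨆ i, G i = ⊤ := eq_top_iff.mpr fun x _ => by
    obtain ⟨U, e, V, hV, hx, h⟩ := hv x
    exact Opens.mem_iSup.mpr ⟨⟨U, e⟩, Opens.mem_sSup.mpr ⟨V, ⟨hV, h⟩, hx⟩⟩
  have hex : ∀ i : J, ∃ θ : Γ(P, dOpen j chart i.1 i.2) ⟶ Γ(X, G i), IsCoord v chart hj i.1 i.2 (G i) (hG i) θ :=
    fun i => exists_isCoord hE hj hP (chart := chart) (U := i.1) (e := i.2) (hV := hG i) (hfr i)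
  let θ : ∀ i : J, Γ(P, dOpen j chart i.1 i.2) ⟶ Γ(X, G i) := fun i => (hex i).choose
  have hθ : ∀ i : J, IsCoord v chart hj i.1 i.2 (G i) (hG i) (θ i) := fun i => (hex i).choose_spec
  let m : ∀ i, (G i : Scheme.{u}) ⟶ P := fun i => affMor (isAffineOpen_dOpen chart hj i.1 i.2) (θ i)
  have key : ∀ a b, X.homOfLE (inf_le_left : G a ⊓ G b ≤ G a) ≫ m a =
      X.homOfLE (inf_le_right : G a ⊓ G b ≤ G b) ≫ m b := fun a b => by
    simp only [m]
    rw [homOfLE_affMor, homOfLE_affMor]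
    refine affMor_eq_of_coord hE hj hP hO1 hφ ?_ ?_ ((hθ a).res' hj inf_le_left) ((hθ b).res' hj inf_le_right)
    · have := (hfr a).res (inf_le_left : G a ⊓ G b ≤ G a); rwa [res_res] at this
    · have := (hfr b).res (inf_le_right : G a ⊓ G b ≤ G b); rwa [res_res] at this
  let 𝒰 := X.openCoverOfIsOpenCover G hcov
  let r : X ⟶ P := 𝒰.glueMorphisms m fun (a b : J) => by
    show pullback.fst (G a).ι (G b).ι ≫ m a = pullback.snd (G a).ι (G b).ι ≫ m b
    rw [← cancel_epi (isPullback_opens_inf (G a) (G b)).isoPullback.hom,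
      IsPullback.isoPullback_hom_fst_assoc, IsPullback.isoPullback_hom_snd_assoc]
    exact key a b
  have hι : ∀ i, (G i).ι ≫ r = m i := fun i => 𝒰.ι_glueMorphisms m _ i
  refine ⟨r, 𝒰.hom_ext _ _ fun i => ?_, fun U e V hV h => ?_⟩
  · show (G i).ι ≫ r ≫ p = (G i).ι ≫ g
    rw [reassoc_of% (hι i), affMor_comp p i.1.2 (isAffineOpen_dOpen chart hj i.1 i.2) (dOpen_le (j := j) chart i.1 i.2),
      (hθ i).base, ← ι_comp_eq_affMor g i.1.2 (hG i)]
  · obtain ⟨hle, heq⟩ := le_preimage_of_affMor r (isAffineOpen_dOpen chart hj U e) (θ ⟨U, e⟩) (hι ⟨U, e⟩)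
    have hVG : V ≤ G ⟨U, e⟩ := le_sSup ⟨hV, h⟩
    refine ⟨hVG.trans hle, ?_⟩
    rw [← Scheme.Hom.appLE_map r hle (homOfLE hVG).op, heq]
    exact (hθ ⟨U, e⟩).res' hj hVG

variable {r : X ⟶ P} {w : E ⟶ (Scheme.Modules.pushforward (r ≫ p)).obj L}

/-- The inverse image of `φ e` along `r`, on `V`. -/
abbrev pullCan (φ : E ⟶ (Scheme.Modules.pushforward p).obj O1) (r : X ⟶ P) (U : S.Opens) (e : Γ(E, U))
    (V : X.Opens) (hV : V ≤ r ⁻¹ᵁ (p ⁻¹ᵁ U)) : Γ((Scheme.Modules.pullback r).obj O1, V) :=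
  res _ hV (Amp73.pullS r O1 (p ⁻¹ᵁ U) (φ.app U e))

theorem pullCan_res {U W : S.Opens} (h : W ≤ U) (e : Γ(E, U)) {V : X.Opens} (hV : V ≤ r ⁻¹ᵁ (p ⁻¹ᵁ W)) :
    pullCan φ r W (res E h e) V hV = pullCan φ r U e V (hV.trans (r.preimage_mono (p.preimage_mono h))) := by
  show res _ hV (Amp73.pullS r O1 (p ⁻¹ᵁ W) (φ.app W (res E h e))) = _
  rw [show φ.app W (res E h e) = res O1 (p.preimage_mono h) (φ.app U e) from mres_app φ h e,
    ← Amp73.res_pullS, res_res]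

include hO1 hφ in
theorem pullCan_frac {U : S.affineOpens} (e e' : Γ(E, U.1)) {V : X.Opens}
    (hD : V ≤ r ⁻¹ᵁ dOpen j chart U e) :
    r.appLE _ V hD (dFrac chart hj U e e') • pullCan φ r U.1 e V (hD.trans (r.preimage_mono (dOpen_le (j := j) chart U e))) =
      pullCan φ r U.1 e' V (hD.trans (r.preimage_mono (dOpen_le (j := j) chart U e))) := by
  have h1 := congrArg (fun q => res _ hD (Amp73.pullS r O1 (dOpen j chart U e) q)) (dFrac_smul chart hj hO1 hφ U e e')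
  dsimp only at h1
  rw [Amp73.pullS_smul, res_smul] at h1
  have h2 : ∀ m : Γ(E, U.1), res _ hD (Amp73.pullS r O1 (dOpen j chart U e) (mres O1 (dOpen_le (j := j) chart U e) (φ.app U.1 m))) =
      pullCan φ r U.1 m V (hD.trans (r.preimage_mono (dOpen_le (j := j) chart U e))) := fun m => by
    show res _ hD (Amp73.pullS r O1 (dOpen j chart U e) (res O1 (dOpen_le (j := j) chart U e) (φ.app U.1 m))) = _
    rw [← Amp73.res_pullS, res_res]
  rw [h2, h2] at h1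
  exact h1

include hj hO1 hφ in
theorem isFrame_pullCan (hinv : PicF.IsInvertible O1) {U : S.affineOpens} (e : Γ(E, U.1)) {V : X.Opens}
    (hD : V ≤ r ⁻¹ᵁ dOpen j chart U e) :
    IsFrame _ V (pullCan φ r U.1 e V (hD.trans (r.preimage_mono (dOpen_le (j := j) chart U e)))) := by
  have h := (Amp73.isFrame_pullS r hinv (isFrame_dOpen chart hj hO1 hφ U e)).res hD
  rw [show mres O1 (dOpen_le (j := j) chart U e) (φ.app U.1 e) = res O1 (dOpen_le (j := j) chart U e) (φ.app U.1 e) from rfl,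
    ← Amp73.res_pullS, res_res] at h
  exact h

include hE hO1 hφ in
theorem exists_iso_of_classifies (hw : IsGenerating w) (h : Classifies chart hj w r) :
    ∃ τ : (Scheme.Modules.pullback r).obj O1 ≅ L, ∀ (U : S.Opens) (e : Γ(E, U)),
      τ.hom.app (r ⁻¹ᵁ (p ⁻¹ᵁ U)) (Amp73.pullS r O1 (p ⁻¹ᵁ U) (φ.app U e)) = w.app U e := by
  have hinv : PicF.IsInvertible O1 :=
    isInvertible_of_isGenDegOne hO1 (isGenDegOne_grSym hE hj)
  let J : Type u := Σ U : S.affineOpens, Γ(E, U.1)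
  let G : J → X.Opens := fun i =>
    sSup {V | ∃ hV : V ≤ (r ≫ p) ⁻¹ᵁ i.1.1, IsFrame L V (res L hV (w.app i.1.1 i.2))}
  have hG : ∀ i, G i ≤ (r ≫ p) ⁻¹ᵁ i.1.1 := fun i => sSup_le fun V hV => hV.1
  have hfr : ∀ i, IsFrame L (G i) (res L (hG i) (w.app i.1.1 i.2)) := fun i =>
    Amp73.isFrame_of_locally _ fun x hx => by
      obtain ⟨V, hV, hxV⟩ := Opens.mem_sSup.mp hx
      refine ⟨V, le_sSup hV, hxV, ?_⟩
      rw [res_res]
      exact hV.2
  have hcov : ⨆ i, G i = ⊤ := eq_top_iff.mpr fun x _ => by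
    obtain ⟨U, e, V, hV, hx, h⟩ := hw x
    exact Opens.mem_iSup.mpr ⟨⟨U, e⟩, Opens.mem_sSup.mpr ⟨V, ⟨hV, h⟩, hx⟩⟩
  let σ : ∀ i, Γ((Scheme.Modules.pullback r).obj O1, G i) := fun i => pullCan φ r i.1.1 i.2 (G i) (hG i)
  have hσfr : ∀ i, IsFrame _ (G i) (σ i) := fun i =>
    isFrame_pullCan hj hO1 hφ hinv i.2 (h.coord i.1 i.2 (G i) (hG i) (hfr i)).1
  -- on a small affine, both families of sections are given by the same coefficient
  have hrel : ∀ (i : J) (W : S.affineOpens) (hW : W.1 ≤ i.1.1) (e' : Γ(E, W.1)) (V : X.Opens) (hV : V ≤ G i)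
      (hVW : V ≤ (r ≫ p) ⁻¹ᵁ W.1), ∃ a : Γ(X, V),
        a • res L hV (res L (hG i) (w.app i.1.1 i.2)) = res L hVW (w.app W.1 e') ∧
          a • res _ hV (σ i) = pullCan φ r W.1 e' V hVW := by
    intro i W hW e' V hV hVW
    have hfrV : IsFrame L V (res L hVW (w.app W.1 (res E hW i.2))) := by
      have := (hfr i).res hV
      rw [res_res] at this
      rwa [vres_nat w hW hVW i.2]
    obtain ⟨hD, hc⟩ := h.coord W (res E hW i.2) V hVW hfrV
    refine ⟨r.appLE _ V hD (dFrac chart hj W (res E hW i.2) e'), ?_, ?_⟩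
    · have h1 := hc.frac e'
      rw [vres_nat w hW hVW i.2] at h1
      rw [res_res]
      exact h1
    · have h1 := pullCan_frac hj hO1 hφ (r := r) (res E hW i.2) e' hD
      rw [pullCan_res] at h1
      simp only [σ, pullCan, res_res]
      exact h1
  obtain ⟨ψ, hψ⟩ := Amp73.exists_hom_of_frames (M := (Scheme.Modules.pullback r).obj O1) G hcov
    (fun i => res L (hG i) (w.app i.1.1 i.2)) hfr σ (by
      intro a b V ha hb c hc
      refine eq_of_locally _ _ _ fun x hx => ?_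
      obtain ⟨_, ⟨W, hW, rfl⟩, hxW, hWU⟩ := (Scheme.isBasis_affineOpens S).exists_subset_of_mem_open
        (show p (r x) ∈ ((a.1.1 ⊓ b.1.1 : S.Opens) : Set S) from ⟨hG a (ha hx), hG b (hb hx)⟩)
        (a.1.1 ⊓ b.1.1).isOpen
      let V₀ : X.Opens := V ⊓ (r ≫ p) ⁻¹ᵁ W
      have i₀ : V₀ ≤ V := inf_le_left
      obtain ⟨t, ht1, ht2⟩ := hrel a ⟨W, hW⟩ (fun z hz => (hWU hz).1) (res E (fun z hz => (hWU hz).2) b.2) V₀
        (i₀.trans ha) inf_le_right
      refine ⟨V₀, i₀, ⟨hx, hxW⟩, ?_⟩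
      rw [vres_nat w (fun z hz => (hWU hz).2) inf_le_right b.2] at ht1
      rw [pullCan_res] at ht2
      have hct : X.presheaf.map (homOfLE i₀).op c = t := by
        refine ((hfr a) V₀ (i₀.trans ha)).1 ?_
        dsimp only
        rw [ht1]
        have h1 := congrArg (res L i₀) hc
        rw [res_smul, res_res, res_res, res_res] at h1
        exact h1.symm
      simp only [σ, pullCan, res_res] at ht2
      simp only [σ, pullCan, res_smul, res_res, hct]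
      exact ht2.symm)
  have : IsIso ψ := Amp73.isIso_of_frames ψ fun x => by
    obtain ⟨i, hi⟩ := Opens.mem_iSup.1 (hcov.ge (trivial : x ∈ (⊤ : X.Opens)))
    refine ⟨G i, res L (hG i) (w.app i.1.1 i.2), hi, hfr i, ?_⟩
    rw [hψ]
    exact hσfr i
  have key : ∀ (U : S.Opens) (e : Γ(E, U)),
      ψ.app (r ⁻¹ᵁ (p ⁻¹ᵁ U)) (w.app U e) = Amp73.pullS r O1 (p ⁻¹ᵁ U) (φ.app U e) := by
    intro U e
    refine eq_of_locally _ _ _ fun x hx => ?_
    obtain ⟨i, hi⟩ := Opens.mem_iSup.1 (hcov.ge (trivial : x ∈ (⊤ : X.Opens)))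
    obtain ⟨_, ⟨W, hW, rfl⟩, hxW, hWU⟩ := (Scheme.isBasis_affineOpens S).exists_subset_of_mem_open
      (show p (r x) ∈ ((i.1.1 ⊓ U : S.Opens) : Set S) from ⟨hG i hi, hx⟩) (i.1.1 ⊓ U).isOpen
    have hWU' : W ≤ U := fun z hz => (hWU hz).2
    let V₀ : X.Opens := G i ⊓ (r ≫ p) ⁻¹ᵁ W
    have hV₀ : V₀ ≤ r ⁻¹ᵁ (p ⁻¹ᵁ U) := inf_le_right.trans ((r ≫ p).preimage_mono hWU')
    obtain ⟨t, ht1, ht2⟩ := hrel i ⟨W, hW⟩ (fun z hz => (hWU hz).1) (res E hWU' e) V₀ inf_le_left inf_le_right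
    rw [vres_nat w hWU' inf_le_right e] at ht1
    rw [pullCan_res] at ht2
    refine ⟨V₀, hV₀, ⟨hi, hxW⟩, ?_⟩
    rw [← Mero90.app_res]
    refine (congrArg (ψ.app V₀) ht1).symm.trans ?_
    rw [Scheme.Modules.Hom.app_smul, Mero90.app_res, hψ]
    exact ht2
  refine ⟨(asIso ψ).symm, fun U e => ?_⟩
  show (inv ψ).app _ _ = _
  rw [← key]
  exact ConcreteCategory.congr_hom
    (congrArg (fun g => Scheme.Modules.Hom.app g _) (IsIso.hom_inv_id ψ)) (w.app U e)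

include hE hO1 hφ in
theorem classifies_of_iso (τ : (Scheme.Modules.pullback r).obj O1 ≅ L) (hτ : ∀ (U : S.Opens) (e : Γ(E, U)),
      τ.hom.app (r ⁻¹ᵁ (p ⁻¹ᵁ U)) (Amp73.pullS r O1 (p ⁻¹ᵁ U) (φ.app U e)) = w.app U e) :
    Classifies chart hj w r := by
  refine ⟨rfl, fun U e V hV hfr => ?_⟩
  have hval : ∀ (m : Γ(E, U.1)) (V' : X.Opens) (hV' : V' ≤ r ⁻¹ᵁ (p ⁻¹ᵁ U.1)),
      τ.hom.app V' (pullCan φ r U.1 m V' hV') = res L hV' (w.app U.1 m) := fun m V' hV' => by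
    rw [pullCan, Mero90.app_res, hτ]
  have hpf : IsFrame _ V (pullCan φ r U.1 e V hV) := (Amp73.isFrame_app_iff τ.hom _).1 (by rwa [hval])
  have hD : V ≤ r ⁻¹ᵁ dOpen j chart U e := fun x hx => by
    show r x ∈ dOpen j chart U e
    have hpr : r x ∈ (RelProj.emb p chart U.1 U.2).opensRange := by rw [opensRange_emb]; exact hV hx
    obtain ⟨y, hy⟩ := hpr
    obtain ⟨e₂, he₂⟩ := exists_gen_notMem hE hj U.2 y
    have hx₂ : r x ∈ dOpen j chart U e₂ := ⟨y, he₂, hy⟩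
    let V₂ : X.Opens := V ⊓ r ⁻¹ᵁ dOpen j chart U e₂
    have hinv : PicF.IsInvertible O1 := isInvertible_of_isGenDegOne hO1 (isGenDegOne_grSym hE hj)
    have h1 := pullCan_frac hj hO1 hφ (r := r) e₂ e (V := V₂) inf_le_right
    have h2 : IsFrame _ V₂ (pullCan φ r U.1 e V₂ (inf_le_left.trans hV)) := by
      have := hpf.res (inf_le_left : V₂ ≤ V)
      rwa [res_res] at this
    rw [show pullCan φ r U.1 e V₂ (inf_le_left.trans hV) = r.appLE _ V₂ inf_le_right (dFrac chart hj U e₂ e) •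
      pullCan φ r U.1 e₂ V₂ (inf_le_left.trans hV) from h1.symm,
      Amp73.isFrame_smul_iff (isFrame_pullCan hj hO1 hφ hinv e₂ (V := V₂) inf_le_right)] at h2
    refine basicOpen_dFrac_le (chart := chart) hj U e₂ e ?_
    have hmem : x ∈ X.basicOpen (r.appLE _ V₂ inf_le_right (dFrac chart hj U e₂ e)) := by
      rw [X.basicOpen_of_isUnit h2]
      exact ⟨hx, hx₂⟩
    rw [Scheme.Hom.appLE, CommRingCat.comp_apply, Scheme.basicOpen_res, ← Scheme.preimage_basicOpen] at hmem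
    exact hmem.2
  refine ⟨hD, Scheme.Hom.appLE_comp_appLE .. , fun e' => ?_⟩
  have h1 := congrArg (τ.hom.app V) (pullCan_frac hj hO1 hφ (r := r) e e' hD)
  rw [Scheme.Modules.Hom.app_smul, hval, hval] at h1
  exact h1

end Groth.Agent.EGAProj74
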