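import Groth.Agent.EGAProj74.BundleClass
import Groth.Agent.SchBasics.PullSpan

/-!
Functoriality of classifying maps and base change of projective bundles.
-/

set_option autoImplicit false
set_option backward.isDefEq.respectTransparency.types false

universe u

open CategoryTheory CategoryTheory.Limits AlgebraicGeometry TopologicalSpace Opposite
open scoped HomogeneousIdeal

noncomputable section

namespace Groth.Agent.EGAProj74

open Var76.LineBundle Var76.ZeroScheme

theorem pullbackComp_map_pullS {T X Y : Scheme.{u}} (f : T ⟶ X) (r : X ⟶ Y) {M : Y.Modules} {N : X.Modules}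
    (a : (Scheme.Modules.pullback r).obj M ⟶ N) (U : Y.Opens) (m : Γ(M, U)) :
    ((Scheme.Modules.pullback f).map a).app (f ⁻¹ᵁ (r ⁻¹ᵁ U))
        (((Scheme.Modules.pullbackComp f r).inv.app M).app ((f ≫ r) ⁻¹ᵁ U) (Amp73.pullS (f ≫ r) M U m)) =
      Amp73.pullS f N (r ⁻¹ᵁ U) (a.app (r ⁻¹ᵁ U) (Amp73.pullS r M U m)) := by
  rw [← Amp73.map_app_pullS]
  exact congrArg _ (Props58.PullTensor.pullS_comp f r M U m)

variable {S P : Scheme.{u}} {E : S.Modules}
  {𝒮 : RelProj.QCGrAlg S} {j : E ⟶ 𝒮.toModule} {p : P ⟶ S}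
  {chart : ∀ (U : S.Opens) (hU : IsAffineOpen U), ((p ⁻¹ᵁ U : P.Opens) : Scheme.{u}) ≅ Proj (𝒮.deg U hU)}
  {O1 : P.Modules}
  {lam : ∀ (U : S.Opens) (hU : IsAffineOpen U),
    O1 ⟶ (Scheme.Modules.pushforward (RelProj.emb p chart U hU)).obj (GrTwist.twist (𝒮.deg U hU) 1)}
  (hE : E.IsQuasicoherent) (hj : RelProj.IsGrSymAlg E 𝒮 j) (hP : RelProj.IsRelProj 𝒮 p chart)
  (hO1 : RelProj.IsRelTwist 𝒮 p chart 1 O1 lam) {φ : E ⟶ (Scheme.Modules.pushforward p).obj O1}
  (hφ : IsCanonical lam j φ)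

variable (φ) in
/-- The data pulled back from the bundle along `r`. -/
def canData {X : Scheme.{u}} (r : X ⟶ P) :
    E ⟶ (Scheme.Modules.pushforward (r ≫ p)).obj ((Scheme.Modules.pullback r).obj O1) :=
  φ ≫ (Scheme.Modules.pushforward p).map ((Scheme.Modules.pullbackPushforwardAdjunction r).unit.app O1)

theorem canData_app {X : Scheme.{u}} (r : X ⟶ P) (U : S.Opens) (e : Γ(E, U)) :
    (canData φ r).app U e = Amp73.pullS r O1 (p ⁻¹ᵁ U) (φ.app U e) := rfl

include hE hO1 hφ in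
theorem classifies_canData {X : Scheme.{u}} (r : X ⟶ P) : Classifies chart hj (canData φ r) r :=
  classifies_of_iso hE hj hO1 hφ (w := canData φ r) (Iso.refl _) fun _ _ => rfl

include hE hO1 hφ in
theorem classifies_of_iso' {X : Scheme.{u}} {L : X.Modules} {r : X ⟶ P} {g : X ⟶ S} (hg : r ≫ p = g)
    {v : E ⟶ (Scheme.Modules.pushforward g).obj L} (τ : (Scheme.Modules.pullback r).obj O1 ≅ L)
    (hτ : ∀ (U : S.Opens) (e : Γ(E, U)) (V : X.Opens) (hV : V ≤ r ⁻¹ᵁ (p ⁻¹ᵁ U)) (hV' : V ≤ g ⁻¹ᵁ U),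
      τ.hom.app V (pullCan φ r U e V hV) = res L hV' (v.app U e)) :
    Classifies chart hj v r := by
  subst hg
  refine classifies_of_iso hE hj hO1 hφ (w := v) τ fun U e => ?_
  have h := hτ U e (r ⁻¹ᵁ (p ⁻¹ᵁ U)) le_rfl le_rfl
  rw [pullCan, Amp73.res_self] at h
  exact h.trans (Amp73.res_self L (U := r ⁻¹ᵁ (p ⁻¹ᵁ U)) (v.app U e))

include hE hj hO1 hφ in
theorem isGenerating_can : IsGenerating (g := p) φ := fun x => by
  obtain ⟨U, hU, y, rfl⟩ := exists_emb_apply (chart := chart) x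
  obtain ⟨e, he⟩ := exists_gen_notMem hE hj hU y
  let W : S.affineOpens := ⟨U, hU⟩
  have hfr := isFrame_dOpen chart hj hO1 hφ W e
  refine ⟨W, e, dOpen j chart W e, dOpen_le chart W e, ⟨y, he, rfl⟩, ?_⟩
  exact hfr

section comp

variable {X T : Scheme.{u}} {g : X ⟶ S} {L : X.Modules} (f : T ⟶ X) (v : E ⟶ (Scheme.Modules.pushforward g).obj L)

/-- Data pulled back along `f`. -/
def pullData : E ⟶ (Scheme.Modules.pushforward (f ≫ g)).obj ((Scheme.Modules.pullback f).obj L) :=
  v ≫ (Scheme.Modules.pushforward g).map ((Scheme.Modules.pullbackPushforwardAdjunction f).unit.app L)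

theorem pullData_app (U : S.Opens) (e : Γ(E, U)) :
    (pullData f v).app U e = Amp73.pullS f L (g ⁻¹ᵁ U) (v.app U e) := rfl

theorem IsGenerating.pull (hv : IsGenerating v) : IsGenerating (pullData f v) := fun x => by
  have hv' := hv (f x)
  rcases hv' with ⟨U, e, V, hV, hx, hfr⟩
  have h := Props58.PullTensor.isFrame_pullS f hfr
  rw [← Amp73.res_pullS] at h
  refine ⟨U, e, f ⁻¹ᵁ V, f.preimage_mono hV, hx, ?_⟩
  show IsFrame _ (f ⁻¹ᵁ V) (res _ (f.preimage_mono hV) (Amp73.pullS f L (g ⁻¹ᵁ U.1) (v.app U.1 e)))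
  exact h

variable {f v}

set_option maxHeartbeats 800000 in
include hE hO1 hφ in
theorem Classifies.pull (hv : IsGenerating v) {r : X ⟶ P} (h : Classifies chart hj v r) :
    Classifies chart hj (pullData f v) (f ≫ r) := by
  obtain rfl := h.comp_eq
  obtain ⟨τ, hτ⟩ := exists_iso_of_classifies hE hj hO1 hφ hv h
  refine classifies_of_iso' hE hj hO1 hφ (r := f ≫ r) (Category.assoc f r p)
    (((Scheme.Modules.pullbackComp f r).app O1).symm ≪≫ (Scheme.Modules.pullback f).mapIso τ) fun U e V hV hV' => ?_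
  rw [pullCan, Mero90.app_res]
  refine congrArg (res _ hV') ?_
  exact (pullbackComp_map_pullS f r τ.hom _ _).trans (congrArg (Amp73.pullS f L _) (hτ U e))

variable {L' : X.Modules}

theorem IsGenerating.map (hv : IsGenerating v) (α : L ≅ L') :
    IsGenerating (v ≫ (Scheme.Modules.pushforward g).map α.hom) := fun x => by
  obtain ⟨U, e, V, hV, hx, hfr⟩ := hv x
  refine ⟨U, e, V, hV, hx, ?_⟩
  have h := (Amp73.isFrame_app_iff α.hom _).2 hfr
  rw [Mero90.app_res] at h
  exact h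

include hE hO1 hφ in
theorem Classifies.map (hv : IsGenerating v) {r : X ⟶ P} (h : Classifies chart hj v r) (α : L ≅ L') :
    Classifies chart hj (v ≫ (Scheme.Modules.pushforward g).map α.hom) r := by
  obtain rfl := h.comp_eq
  obtain ⟨τ, hτ⟩ := exists_iso_of_classifies hE hj hO1 hφ hv h
  exact classifies_of_iso hE hj hO1 hφ (r := r) (w := v ≫ (Scheme.Modules.pushforward (r ≫ p)).map α.hom)
    (τ ≪≫ α) fun U e => congrArg (α.hom.app _) (hτ U e)

end comp

section baseChange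

variable {S' T : Scheme.{u}} {ψ : S' ⟶ S} {h : T ⟶ S'} {M : T.Modules}

theorem isGenerating_adjunct (hE : E.IsQuasicoherent)
    (w : (Scheme.Modules.pullback ψ).obj E ⟶ (Scheme.Modules.pushforward h).obj M) (hw : IsGenerating w) :
    IsGenerating (g := h ≫ ψ) (L := M)
      ((Scheme.Modules.pullbackPushforwardAdjunction ψ).homEquiv E ((Scheme.Modules.pushforward h).obj M) w) := by
  have := hE
  intro x
  obtain ⟨U', e', V', hV', hx, hfr⟩ := hw x
  obtain ⟨_, ⟨U, hU, rfl⟩, hxU, -⟩ :=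
    (Scheme.isBasis_affineOpens S).exists_subset_of_mem_open (Set.mem_univ (ψ (h x))) isOpen_univ
  obtain ⟨_, ⟨W, hW, rfl⟩, hxW, hWsub⟩ := (Scheme.isBasis_affineOpens S').exists_subset_of_mem_open
    (show h x ∈ ((U'.1 ⊓ ψ ⁻¹ᵁ U : S'.Opens) : Set S') from ⟨hV' hx, hxU⟩) (U'.1 ⊓ ψ ⁻¹ᵁ U).isOpen
  have hWU : W ≤ ψ ⁻¹ᵁ U := fun z hz => (hWsub hz).2
  have hWU' : W ≤ U'.1 := fun z hz => (hWsub hz).1
  let V : T.Opens := V' ⊓ h ⁻¹ᵁ W
  have hVW : V ≤ h ⁻¹ᵁ W := inf_le_right
  have hfrV : IsFrame M V (res M hVW (w.app W (res _ hWU' e'))) := by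
    have := hfr.res (inf_le_left : V ≤ V')
    rw [res_res] at this
    rwa [vres_nat w hWU' hVW e']
  let ev := res M hVW (w.app W (res _ hWU' e'))
  have coord : ∀ z, ∃ c : Γ(T, V), c • ev = res M hVW (w.app W z) := fun z => by
    obtain ⟨c, hc⟩ := (hfrV V le_rfl).2 (res M hVW (w.app W z))
    exact ⟨c, by rw [Amp73.res_self] at hc; exact hc⟩
  choose c hc using coord
  have hinj : ∀ a b : Γ(T, V), a • ev = b • ev → a = b := fun a b hab =>
    (hfrV V le_rfl).1 (by rw [Amp73.res_self]; exact hab)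
  have hxV : x ∈ V := ⟨hx, hxW⟩
  obtain ⟨m, hm⟩ : ∃ m : Γ(E, U), x ∈ T.basicOpen (c (res _ hWU (Amp73.pullS ψ E U m))) := by
    by_contra H
    push Not at H
    have key : ∀ z, x ∉ T.basicOpen (c z) := by
      intro z
      have hz : z ∈ Submodule.span Γ(S', W) (Set.range fun m : Γ(E, U) =>
          res ((Scheme.Modules.pullback ψ).obj E) hWU (Amp73.pullS ψ E U m)) :=
        (SchBasics.span_pullSect ψ E hW hU hWU).ge Submodule.mem_top
      simp only [T.mem_basicOpen _ x hxV]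
      induction hz using Submodule.span_induction with
      | mem y hy =>
        obtain ⟨m, rfl⟩ := hy
        exact fun hu => H m ((T.mem_basicOpen _ x hxV).2 hu)
      | zero =>
        rw [show c 0 = 0 from hinj _ _ (by rw [hc, zero_smul, map_zero]; exact map_zero (M.presheaf.map _).hom),
          map_zero]
        exact not_isUnit_zero
      | add a b _ _ ha hb =>
        rw [show c (a + b) = c a + c b from hinj _ _ (by
          rw [add_smul, hc, hc, hc, map_add]; exact map_add (M.presheaf.map _).hom _ _), map_add]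
        exact IsLocalRing.nonunits_add ha hb
      | smul r a _ ha =>
        rw [show c (r • a) = h.appLE W V hVW r * c a from hinj _ _ (by
          rw [mul_smul, hc, hc]; exact vres_smul w hVW r a), map_mul]
        exact fun hu => ha (isUnit_of_mul_isUnit_right hu)
    refine key (res _ hWU' e') ((T.mem_basicOpen _ x hxV).2 ?_)
    rw [show c (res _ hWU' e') = 1 from hinj _ _ (by rw [hc, one_smul]), map_one]
    exact isUnit_one
  let V₀ := T.basicOpen (c (res _ hWU (Amp73.pullS ψ E U m)))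
  have hV₀ : V₀ ≤ V := T.basicOpen_le _
  refine ⟨⟨U, hU⟩, m, V₀, hV₀.trans (hVW.trans (h.preimage_mono hWU)), hm, ?_⟩
  have h1 := congrArg (res M hV₀) (hc (res _ hWU (Amp73.pullS ψ E U m)))
  rw [res_smul, vres_nat w hWU hVW] at h1
  simp only [res_res] at h1
  rw [Adjunction.homEquiv_unit]
  refine Eq.subst (motive := fun q => IsFrame M V₀ q) h1 ?_
  rw [Amp73.isFrame_smul_iff (hfrV.res hV₀)]
  exact RingedSpace.isUnit_res_basicOpen _ _

end baseChange

end Groth.Agent.EGAProj74
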