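import Groth.Agent.EGAProj74.RelMap
import Groth.Agent.EGAProj74.GenDegOne

/-!
Closed subschemes of projective bundles given by quotients of symmetric algebras.
-/

set_option autoImplicit false
set_option backward.isDefEq.respectTransparency.types false

universe u

open CategoryTheory CategoryTheory.Limits AlgebraicGeometry TopologicalSpace Opposite
open scoped HomogeneousIdeal

noncomputable section

namespace Groth.Agent.EGAProj74

/-- A graded homomorphism hitting every element of degree one of a ring generated in degree one is surjective in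
positive degrees. -/
theorem surjOn_pos_of_gen {A σ : Type u} [CommRing A] [SetLike σ A] [AddSubgroupClass σ A] {𝒜 : ℕ → σ}
    [GradedRing 𝒜] {B σ' : Type u} [CommRing B] [SetLike σ' B] [AddSubgroupClass σ' B] {ℬ : ℕ → σ'} [GradedRing ℬ]
    (ψ : 𝒜 →+*ᵍ ℬ) (hgen : Subring.closure ((ℬ 0 : Set B) ∪ (ℬ 1 : Set B)) = ⊤)
    (h1 : Set.SurjOn ψ (𝒜 1) (ℬ 1)) (n : ℕ) (hn : 1 ≤ n) : Set.SurjOn ψ (𝒜 n) (ℬ n) := by
  induction n, hn using Nat.le_induction with
  | base => exact h1
  | succ n hn ih =>
    intro x hx
    have hmem := mem_closure_mul_of_gen hgen hx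
    clear hx
    induction hmem using AddSubgroup.closure_induction with
    | mem z hz =>
      obtain ⟨a, ha, b, hb, rfl⟩ := hz
      obtain ⟨a', ha', rfl⟩ := ih ha
      obtain ⟨b', hb', rfl⟩ := h1 hb
      exact ⟨a' * b', SetLike.mul_mem_graded ha' hb', map_mul ψ _ _⟩
    | zero => exact ⟨0, zero_mem _, map_zero ψ⟩
    | add a b _ _ ha hb =>
      obtain ⟨a', ha', ha''⟩ := ha
      obtain ⟨b', hb', hb''⟩ := hb
      exact ⟨a' + b', add_mem ha' hb', by rw [map_add, ha'', hb'']⟩
    | neg a _ ha =>
      obtain ⟨a', ha', ha''⟩ := ha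
      exact ⟨-a', neg_mem ha', by rw [map_neg, ha'']⟩

end Groth.Agent.EGAProj74
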