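import Groth.Agent.EGAProj74.RelBasic

/-!
Morphisms of relative homogeneous spectra over one base.
-/

set_option autoImplicit false

universe u

open CategoryTheory CategoryTheory.Limits AlgebraicGeometry TopologicalSpace Opposite
open scoped HomogeneousIdeal

noncomputable section

namespace Groth.Agent.EGAProj74

variable {S : Scheme.{u}} {𝒜 ℬ : RelProj.QCGrAlg S} {φ : 𝒜.toQCAlg ⟶ ℬ.toQCAlg} {hφ : RelProj.IsGradedHom φ}

theorem gradedHomAt_res {U V : S.Opens} (hU : IsAffineOpen U) (hV : IsAffineOpen V) (i : V ≤ U) :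
    (ℬ.res hU hV i).comp (RelProj.gradedHomAt φ hφ U hU) =
      (RelProj.gradedHomAt φ hφ V hV).comp (𝒜.res hU hV i) := by
  ext x
  exact (congr($(φ.hom.naturality (homOfLE i).op).hom x)).symm

theorem strZero_gradedHomAt (U : S.Opens) (hU : IsAffineOpen U) :
    𝒜.strZero U hU ≫ CommRingCat.ofHom (zeroHom (RelProj.gradedHomAt φ hφ U hU)) = ℬ.strZero U hU := by
  ext x : 2
  exact Subtype.ext congr($(NatTrans.congr_app φ.comm (op U)).hom x)

variable {PA PB : Scheme.{u}} {pA : PA ⟶ S} {pB : PB ⟶ S}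
  {chartA : ∀ (U : S.Opens) (hU : IsAffineOpen U), ((pA ⁻¹ᵁ U : PA.Opens) : Scheme.{u}) ≅ Proj (𝒜.deg U hU)}
  {chartB : ∀ (U : S.Opens) (hU : IsAffineOpen U), ((pB ⁻¹ᵁ U : PB.Opens) : Scheme.{u}) ≅ Proj (ℬ.deg U hU)}
  {hirr : ∀ (U : S.Opens) (hU : IsAffineOpen U),
    (ℬ.deg U hU)₊ ≤ ((𝒜.deg U hU)₊).map (RelProj.gradedHomAt φ hφ U hU)}

theorem isRelProjMap_iff (h : PB ⟶ PA) :
    RelProj.IsRelProjMap φ hφ hirr chartA chartB h ↔
      ∀ (U : S.Opens) (hU : IsAffineOpen U), RelProj.emb pB chartB U hU ≫ h =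
        Proj.map (RelProj.gradedHomAt φ hφ U hU) (hirr U hU) ≫ RelProj.emb pA chartA U hU := by
  refine forall₂_congr fun U hU => ?_
  rw [RelProj.emb, Category.assoc, Iso.inv_comp_eq]
  rfl

variable (hA : RelProj.IsRelProj 𝒜 pA chartA) (hB : RelProj.IsRelProj ℬ pB chartB)
include hA hB

theorem existsUnique_relProjMap :
    ∃! h : PB ⟶ PA, RelProj.IsRelProjMap φ hφ hirr chartA chartB h := by
  obtain ⟨e, he, hu⟩ := existsUnique_desc hB
    (fun U hU => Proj.map (RelProj.gradedHomAt φ hφ U hU) (hirr U hU) ≫ RelProj.emb pA chartA U hU)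
    (by
      intro U hU r
      rw [← RelProj.map_res_emb hA U hU r, ← Category.assoc, ← Category.assoc, ← Proj.map_comp,
        ← Proj.map_comp, map_congr (gradedHomAt_res (φ := φ) (hφ := hφ) hU (hU.basicOpen r) (S.basicOpen_le r))])
  exact ⟨e, (isRelProjMap_iff e).mpr he, fun e' he' => hu e' ((isRelProjMap_iff e').mp he')⟩

variable {h : PB ⟶ PA} (hh : RelProj.IsRelProjMap φ hφ hirr chartA chartB h)
include hh

theorem relProjMap_over : h ≫ pA = pB := by
  refine hom_ext_emb (chart := chartB) fun U hU => ?_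
  have hz : Proj.map (RelProj.gradedHomAt φ hφ U hU) (hirr U hU) ≫ Proj.toSpecZero (𝒜.deg U hU) =
      Proj.toSpecZero (ℬ.deg U hU) ≫
        Spec.map (CommRingCat.ofHom (zeroHom (RelProj.gradedHomAt φ hφ U hU))) := by
    have : IsIso (RelCone.domOpen (RelProj.gradedHomAt φ hφ U hU)).ι := by
      rw [domOpen_eq_top_of_le _ (hirr U hU)]
      exact inferInstanceAs (IsIso (Scheme.topIso _).hom)
    rw [← cancel_epi (RelCone.domOpen (RelProj.gradedHomAt φ hφ U hU)).ι,
      ← Category.assoc, ι_map_eq_domMap, domMap_toSpecZero]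
  rw [reassoc_of% ((isRelProjMap_iff h).mp hh U hU), emb_p hA, emb_p hB, reassoc_of% hz,
    ← Spec.map_comp_assoc, strZero_gradedHomAt]

theorem relProjMap_preimage (U : S.Opens) : h ⁻¹ᵁ (pA ⁻¹ᵁ U) = pB ⁻¹ᵁ U := by
  rw [← Scheme.Hom.comp_preimage]
  exact congrArg (· ⁻¹ᵁ U) (relProjMap_over hA hB hh)

theorem relProjMap_of_away {Q : MorphismProperty Scheme.{u}} [IsZariskiLocalAtTarget Q]
    (hQ : ∀ (U : S.Opens) (hU : IsAffineOpen U),
      Q (Proj.map (RelProj.gradedHomAt φ hφ U hU) (hirr U hU))) : Q h := by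
  refine IsZariskiLocalAtTarget.of_iSup_eq_top (fun U : S.affineOpens => pA ⁻¹ᵁ U.1) (by
    rw [← Scheme.Hom.preimage_iSup, iSup_affineOpens_eq_top, Scheme.Hom.preimage_top]) fun U => ?_
  refine (Q.arrow_mk_iso_iff (morphismRestrictEq h (opensRange_emb (chart := chartA) U.1 U.2)).symm).mpr ?_
  refine (Q.arrow_mk_iso_iff (morphismRestrictOpensRange h (RelProj.emb pA chartA U.1 U.2))).mpr ?_
  have hsq : IsPullback (Proj.map (RelProj.gradedHomAt φ hφ U.1 U.2) (hirr U.1 U.2))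
      (RelProj.emb pB chartB U.1 U.2) (RelProj.emb pA chartA U.1 U.2) h := by
    refine IsOpenImmersion.isPullback _ _ _ _ ((isRelProjMap_iff h).mp hh U.1 U.2) ?_
    rw [opensRange_emb, opensRange_emb, relProjMap_preimage hA hB hh]
  rw [← hsq.flip.isoPullback_inv_snd]
  exact (Q.cancel_left_of_respectsIso _ _).mpr (hQ U.1 U.2)

end Groth.Agent.EGAProj74
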