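import Groth.Agent.EGAProj74.RelTensor
import Groth.Agent.EGAProj74.RelMap
import Groth.Agent.Amp73.PullTensor

/-!
The comparison of twisting sheaves along the morphism of relative Proj induced by a graded homomorphism.
-/

set_option autoImplicit false
set_option backward.isDefEq.respectTransparency.types false

universe u

open CategoryTheory CategoryTheory.Limits AlgebraicGeometry TopologicalSpace Opposite
open scoped HomogeneousIdeal

noncomputable section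

namespace Groth.Agent.EGAProj74

theorem map_section_congr {A σ : Type u} [CommRing A] [SetLike σ A] [AddSubgroupClass σ A] {𝒜 : ℕ → σ}
    [GradedRing 𝒜] {n : ℤ} {W : (Proj 𝒜).Opens} (s : Γ(GrTwist.twist 𝒜 n, W))
    {B σ' : Type u} [CommRing B] [SetLike σ' B] [AddSubgroupClass σ' B] {ℬ : ℕ → σ'} [GradedRing ℬ]
    {C σ₁ : Type u} [CommRing C] [SetLike σ₁ C] [AddSubgroupClass σ₁ C] {𝒞 : ℕ → σ₁} [GradedRing 𝒞]
    {D σ₂ : Type u} [CommRing D] [SetLike σ₂ D] [AddSubgroupClass σ₂ D] {𝒟 : ℕ → σ₂} [GradedRing 𝒟]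
    (f : 𝒜 →+*ᵍ ℬ) (hf : ℬ₊ ≤ (𝒜₊).map f) (g : ℬ →+*ᵍ 𝒟) (hg : 𝒟₊ ≤ (ℬ₊).map g)
    (f' : 𝒜 →+*ᵍ 𝒞) (hf' : 𝒞₊ ≤ (𝒜₊).map f') (g' : 𝒞 →+*ᵍ 𝒟) (hg' : 𝒟₊ ≤ (𝒞₊).map g')
    (hcomm : ∀ a, g (f a) = g' (f' a)) (y : ProjectiveSpectrum 𝒟)
    (h₁ : ProjectiveSpectrum.comap f hf (ProjectiveSpectrum.comap g hg y) ∈ W)
    (h₂ : ProjectiveSpectrum.comap f' hf' (ProjectiveSpectrum.comap g' hg' y) ∈ W) :
    GrTwist.locMap g hg y (GrTwist.locMap f hf _ (GrTwist.val (V := W) s ⟨_, h₁⟩)) =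
      GrTwist.locMap g' hg' y (GrTwist.locMap f' hf' _ (GrTwist.val (V := W) s ⟨_, h₂⟩)) := by
  obtain ⟨N, hN, iN, d, j, m, a, nin, -, w⟩ :=
    (GrT.toTildeFun n (op W) (s : GrTwist.sectN (𝒜 := 𝒜) n (op W)) : GrMod.sect 𝒜 𝒜 n (op W)).2 ⟨_, h₁⟩
  have e : ProjectiveSpectrum.comap f hf (ProjectiveSpectrum.comap g hg y) =
      ProjectiveSpectrum.comap f' hf' (ProjectiveSpectrum.comap g' hg' y) := by
    refine ProjectiveSpectrum.ext (HomogeneousIdeal.ext ?_)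
    ext c
    exact Iff.of_eq (congrArg (· ∈ y.asHomogeneousIdeal) (hcomm c))
  have hN₂ : _ ∈ N := Eq.subst (motive := fun t => t ∈ N) e hN
  have w₁ : GrTwist.val (V := W) s ⟨_, h₁⟩ = Localization.mk (m : A) ⟨(a : A), nin ⟨_, hN⟩⟩ := w ⟨_, hN⟩
  have w₂ : GrTwist.val (V := W) s ⟨_, h₂⟩ = Localization.mk (m : A) ⟨(a : A), nin ⟨_, hN₂⟩⟩ := w ⟨_, hN₂⟩
  rw [w₁, w₂, GrTwist.locMap_mk, GrTwist.locMap_mk, GrTwist.locMap_mk, GrTwist.locMap_mk]
  congr 1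
  · exact hcomm _
  · exact Subtype.ext (hcomm _)

theorem app_val_congr {A σ : Type u} [CommRing A] [SetLike σ A] [AddSubgroupClass σ A] {𝒜 : ℕ → σ}
    [GradedRing 𝒜] {X : Scheme.{u}} {e₁ e₂ : Proj 𝒜 ⟶ X} (he : e₁ = e₂) (W : X.Opens) (r : Γ(X, W))
    (y : Proj 𝒜) (h₁ : y ∈ e₁ ⁻¹ᵁ W) (h₂ : y ∈ e₂ ⁻¹ᵁ W) :
    (((e₁.app W r).1 ⟨y, h₁⟩)).val = (((e₂.app W r).1 ⟨y, h₂⟩)).val := by
  subst he; rfl

theorem map_app_val {A σ : Type u} [CommRing A] [SetLike σ A] [AddSubgroupClass σ A] {𝒜 : ℕ → σ}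
    [GradedRing 𝒜] {B σ' : Type u} [CommRing B] [SetLike σ' B] [AddSubgroupClass σ' B] {ℬ : ℕ → σ'} [GradedRing ℬ]
    (ψ : 𝒜 →+*ᵍ ℬ) (hψ : ℬ₊ ≤ (𝒜₊).map ψ) (W : (Proj 𝒜).Opens) (r : Γ(Proj 𝒜, W))
    (y : ProjectiveSpectrum ℬ) (hy : ProjectiveSpectrum.comap ψ hψ y ∈ W) :
    ((((Proj.map ψ hψ).app W r)).1 ⟨y, hy⟩).val = GrTwist.locMap ψ hψ y ((r.1 ⟨_, hy⟩).val) :=
  HomogeneousLocalization.val_localRingHom _

variable {S PA PB : Scheme.{u}} {𝒜 ℬ : RelProj.QCGrAlg S} {φ : 𝒜.toQCAlg ⟶ ℬ.toQCAlg} {hφ : RelProj.IsGradedHom φ}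
  {hirr : ∀ (U : S.Opens) (hU : IsAffineOpen U),
    (ℬ.deg U hU)₊ ≤ ((𝒜.deg U hU)₊).map (RelProj.gradedHomAt φ hφ U hU)}
  {pA : PA ⟶ S} {pB : PB ⟶ S}
  {chartA : ∀ (U : S.Opens) (hU : IsAffineOpen U), (((pA ⁻¹ᵁ U : PA.Opens) : Scheme.{u}) ≅ Proj (𝒜.deg U hU))}
  {chartB : ∀ (U : S.Opens) (hU : IsAffineOpen U), (((pB ⁻¹ᵁ U : PB.Opens) : Scheme.{u}) ≅ Proj (ℬ.deg U hU))}
  {h : PB ⟶ PA} (hh : RelProj.IsRelProjMap φ hφ hirr chartA chartB h) {n : ℤ}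
  {LA : PA.Modules}
  {lamA : ∀ (U : S.Opens) (hU : IsAffineOpen U),
    LA ⟶ (Scheme.Modules.pushforward (RelProj.emb pA chartA U hU)).obj (GrTwist.twist (𝒜.deg U hU) n)}
  {LB : PB.Modules}
  {lamB : ∀ (U : S.Opens) (hU : IsAffineOpen U),
    LB ⟶ (Scheme.Modules.pushforward (RelProj.emb pB chartB U hU)).obj (GrTwist.twist (ℬ.deg U hU) n)}

include hh in
theorem emb_relProjMap (U : S.Opens) (hU : IsAffineOpen U) (y : Proj (ℬ.deg U hU)) :
    h.base ((RelProj.emb pB chartB U hU).base y) = (RelProj.emb pA chartA U hU).base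
      (ProjectiveSpectrum.comap (RelProj.gradedHomAt φ hφ U hU) (hirr U hU) y) :=
  congr($((isRelProjMap_iff h).mp hh U hU).base y)

variable (lamA) in
/-- The comparison on one chart. -/
def chartPush (U : S.affineOpens) (W : PA.Opens) (s : Γ(LA, W)) :
    Γ(tildeObj pB chartB (selfModule ℬ) n U.1 U.2, h ⁻¹ᵁ W) :=
  (twistToTilde pB chartB n U.1 U.2).hom.app (h ⁻¹ᵁ W)
    (GrTwist.comapApp (RelProj.gradedHomAt φ hφ U.1 U.2) (hirr U.1 U.2) n (RelProj.emb pA chartA U.1 U.2 ⁻¹ᵁ W)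
      (RelProj.emb pB chartB U.1 U.2 ⁻¹ᵁ (h ⁻¹ᵁ W))
      (fun y hy => show _ ∈ W from Eq.subst (motive := fun t => t ∈ W) (emb_relProjMap hh U.1 U.2 y) hy)
      ((lamA U.1 U.2).app W s))

theorem val_chartPush (U : S.affineOpens) (W : PA.Opens) (s : Γ(LA, W)) (y : Proj (ℬ.deg U.1 U.2))
    (hy : (RelProj.emb pB chartB U.1 U.2).base y ∈ h ⁻¹ᵁ W) :
    GrMod.val (V := RelProj.emb pB chartB U.1 U.2 ⁻¹ᵁ (h ⁻¹ᵁ W)) (chartPush hh lamA U W s) ⟨y, hy⟩ =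
      GrTwist.locMap (RelProj.gradedHomAt φ hφ U.1 U.2) (hirr U.1 U.2) y
        (GrTwist.val (V := RelProj.emb pA chartA U.1 U.2 ⁻¹ᵁ W) ((lamA U.1 U.2).app W s)
          ⟨_, show _ ∈ W from Eq.subst (motive := fun t => t ∈ W) (emb_relProjMap hh U.1 U.2 y) hy⟩) := rfl

variable (hA : RelProj.IsRelProj 𝒜 pA chartA) (hB : RelProj.IsRelProj ℬ pB chartB)
  (hLA : RelProj.IsRelTwist 𝒜 pA chartA n LA lamA) (hLB : RelProj.IsRelTwist ℬ pB chartB n LB lamB)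

include hA hLA in
theorem chartPush_comm (W : PA.Opens) (s : Γ(LA, W)) {U V : S.affineOpens} (i : V ⟶ U) :
    ((tildeSys hB (selfModule ℬ) (isQCoh_selfModule ℬ) n).D.map i.op).app (h ⁻¹ᵁ W) (chartPush hh lamA U W s) =
      chartPush hh lamA V W s := by
  refine tildeObj_ext (selfModule ℬ) n V.2 _ _ fun y hy => ?_
  refine (tildeMap_val hB (selfModule ℬ) n U.2 V.2 i.le _ (chartPush hh lamA U W s) y hy).trans ?_
  refine (locModMap_self U.2 V.2 i.le y _).trans ?_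
  refine (congrArg _ (val_chartPush hh U W s _ _)).trans ?_
  refine Eq.trans ?_ (val_chartPush hh V W s y hy).symm
  have h1 := congr($((isSol_of_isRelTilde (hP := hA) (isQCoh_selfModule 𝒜)
    (isRelTilde_of_isRelTwist (hP := hA) hLA)).comm i).app W s)
  have hy' : (RelProj.emb pA chartA V.1 V.2).base
      (ProjectiveSpectrum.comap (RelProj.gradedHomAt φ hφ V.1 V.2) (hirr V.1 V.2) y) ∈ W :=
    Eq.subst (motive := fun t => t ∈ W) (emb_relProjMap hh V.1 V.2 y) hy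
  refine Eq.trans ?_ (congrArg (GrTwist.locMap _ _ y)
    (((locModMap_self U.2 V.2 i.le _ _).symm.trans
      ((tildeMap_val hA (selfModule 𝒜) n U.2 V.2 i.le W _ _ hy').symm.trans
        (congrArg (fun q => GrMod.val (V := RelProj.emb pA chartA V.1 V.2 ⁻¹ᵁ W) q ⟨_, hy'⟩) h1)))))
  exact map_section_congr ((lamA U.1 U.2).app W s) _ _ _ _ _ _ _ _
    (fun a => congr($(gradedHomAt_res (φ := φ) (hφ := hφ) U.2 V.2 i.le) a)) y _ _

/-- The comparison on sections. -/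
def pushSect (W : PA.Opens) (s : Γ(LA, W)) : Γ(LB, h ⁻¹ᵁ W) :=
  ((isSol_of_isRelTilde (hP := hB) (isQCoh_selfModule ℬ) (isRelTilde_of_isRelTwist (hP := hB) hLB)).existsUnique_section
    (h ⁻¹ᵁ W) (fun U => chartPush hh lamA U W s) (fun i => chartPush_comm hh hA hB hLA W s i)).choose

theorem val_pushSect (W : PA.Opens) (s : Γ(LA, W)) (U : S.affineOpens) (y : Proj (ℬ.deg U.1 U.2))
    (hy : (RelProj.emb pB chartB U.1 U.2).base y ∈ h ⁻¹ᵁ W) :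
    GrTwist.val (V := RelProj.emb pB chartB U.1 U.2 ⁻¹ᵁ (h ⁻¹ᵁ W))
      ((lamB U.1 U.2).app (h ⁻¹ᵁ W) (pushSect hh hA hB hLA hLB W s)) ⟨y, hy⟩ =
      GrTwist.locMap (RelProj.gradedHomAt φ hφ U.1 U.2) (hirr U.1 U.2) y
        (GrTwist.val (V := RelProj.emb pA chartA U.1 U.2 ⁻¹ᵁ W) ((lamA U.1 U.2).app W s)
          ⟨_, show _ ∈ W from Eq.subst (motive := fun t => t ∈ W) (emb_relProjMap hh U.1 U.2 y) hy⟩) := by
  have e := ((isSol_of_isRelTilde (hP := hB) (isQCoh_selfModule ℬ) (isRelTilde_of_isRelTwist (hP := hB) hLB)).existsUnique_section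
    (h ⁻¹ᵁ W) (fun U => chartPush hh lamA U W s) (fun i => chartPush_comm hh hA hB hLA W s i)).choose_spec.1 U
  exact (congrArg (fun q => GrMod.val (V := RelProj.emb pB chartB U.1 U.2 ⁻¹ᵁ (h ⁻¹ᵁ W)) q ⟨y, hy⟩) e).trans
    (val_chartPush hh U W s y hy)

include hB hLB in
theorem twist_section_ext {W : PB.Opens} {s t : Γ(LB, W)}
    (e : ∀ (U : S.affineOpens) (y : Proj (ℬ.deg U.1 U.2)) (hy : (RelProj.emb pB chartB U.1 U.2).base y ∈ W),
      GrTwist.val (V := RelProj.emb pB chartB U.1 U.2 ⁻¹ᵁ W) ((lamB U.1 U.2).app W s) ⟨y, hy⟩ =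
        GrTwist.val (V := RelProj.emb pB chartB U.1 U.2 ⁻¹ᵁ W) ((lamB U.1 U.2).app W t) ⟨y, hy⟩) : s = t :=
  (isSol_of_isRelTilde (hP := hB) (isQCoh_selfModule ℬ) (isRelTilde_of_isRelTwist (hP := hB) hLB)).section_ext
    fun U => tildeObj_ext (selfModule ℬ) n U.2 _ _ fun y hy => e U y hy

theorem pushSect_add (W : PA.Opens) (s t : Γ(LA, W)) :
    pushSect hh hA hB hLA hLB W (s + t) = pushSect hh hA hB hLA hLB W s + pushSect hh hA hB hLA hLB W t := by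
  refine twist_section_ext hB hLB fun U y hy => ?_
  refine (val_pushSect hh hA hB hLA hLB W _ U y hy).trans ?_
  refine (congrArg (fun q => GrTwist.locMap (RelProj.gradedHomAt φ hφ U.1 U.2) (hirr U.1 U.2) y
    (GrTwist.val (V := RelProj.emb pA chartA U.1 U.2 ⁻¹ᵁ W) q ⟨_, _⟩))
      (map_add ((lamA U.1 U.2).app W).hom s t)).trans ?_
  refine (map_add (GrTwist.locMap (RelProj.gradedHomAt φ hφ U.1 U.2) (hirr U.1 U.2) y) _ _).trans ?_
  refine (congrArg₂ (· + ·) (val_pushSect hh hA hB hLA hLB W s U y hy).symm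
    (val_pushSect hh hA hB hLA hLB W t U y hy).symm).trans ?_
  exact (congrArg (fun q => GrTwist.val (V := RelProj.emb pB chartB U.1 U.2 ⁻¹ᵁ (h ⁻¹ᵁ W)) q ⟨y, hy⟩)
    (map_add ((lamB U.1 U.2).app (h ⁻¹ᵁ W)).hom _ _)).symm

theorem pushSect_mres {W V : PA.Opens} (i : V ≤ W) (s : Γ(LA, W)) :
    pushSect hh hA hB hLA hLB V (mres LA i s) =
      mres LB (h.preimage_mono i) (pushSect hh hA hB hLA hLB W s) := by
  refine twist_section_ext hB hLB fun U y hy => ?_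
  refine (val_pushSect hh hA hB hLA hLB V _ U y hy).trans ?_
  refine Eq.trans ?_ (congrArg (fun q => GrTwist.val (V := RelProj.emb pB chartB U.1 U.2 ⁻¹ᵁ (h ⁻¹ᵁ V)) q ⟨y, hy⟩)
    (mres_app (lamB U.1 U.2) (h.preimage_mono i) (pushSect hh hA hB hLA hLB W s))).symm
  refine Eq.trans ?_ ((val_mres_pushforward _ (h.preimage_mono i) _ ⟨y, hy⟩).trans
    (val_pushSect hh hA hB hLA hLB W s U y (h.preimage_mono i hy))).symm
  refine congrArg (GrTwist.locMap (RelProj.gradedHomAt φ hφ U.1 U.2) (hirr U.1 U.2) y) ?_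
  exact (congrArg (fun q => GrTwist.val (V := RelProj.emb pA chartA U.1 U.2 ⁻¹ᵁ V) q ⟨_, _⟩)
    (mres_app (lamA U.1 U.2) i s)).trans (val_mres_pushforward _ i _ _)

theorem pushSect_smul (W : PA.Opens) (r : Γ(PA, W)) (s : Γ(LA, W)) :
    pushSect hh hA hB hLA hLB W (r • s) = h.app W r • pushSect hh hA hB hLA hLB W s := by
  refine twist_section_ext hB hLB fun U y hy => ?_
  refine (val_pushSect hh hA hB hLA hLB W _ U y hy).trans ?_
  refine (congrArg (fun q => GrTwist.locMap (RelProj.gradedHomAt φ hφ U.1 U.2) (hirr U.1 U.2) y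
      (GrTwist.val (V := RelProj.emb pA chartA U.1 U.2 ⁻¹ᵁ W) q ⟨_, _⟩))
        (Scheme.Modules.Hom.app_smul (lamA U.1 U.2) r s)).trans ?_
  refine Eq.trans ?_ (congrArg (fun q => GrTwist.val (V := RelProj.emb pB chartB U.1 U.2 ⁻¹ᵁ (h ⁻¹ᵁ W)) q ⟨y, hy⟩)
    (Scheme.Modules.Hom.app_smul (lamB U.1 U.2) (h.app W r) (pushSect hh hA hB hLA hLB W s))).symm
  refine (congrArg _ (GrTwist.coe_smul_val n _ _ _)).trans ?_
  refine (map_mul _ _ _).trans ?_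
  refine Eq.trans ?_ (GrTwist.coe_smul_val n y _ _).symm
  refine congrArg₂ (· * ·) ?_ (val_pushSect hh hA hB hLA hLB W s U y hy).symm
  have hy' : y ∈ (RelProj.emb pB chartB U.1 U.2 ≫ h) ⁻¹ᵁ W := hy
  refine Eq.trans ?_ ((app_val_congr ((isRelProjMap_iff h).mp hh U.1 U.2) W r y hy'
    (((isRelProjMap_iff h).mp hh U.1 U.2) ▸ hy')).symm)
  exact (map_app_val _ _ _ _ y _).symm

/-- The comparison `O_A(n) → h_* O_B(n)`. -/
def twistPush : LA ⟶ (Scheme.Modules.pushforward h).obj LB :=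
  ⟨PresheafOfModules.homMk
    { app := fun W => AddCommGrpCat.ofHom
        (AddMonoidHom.mk' (pushSect hh hA hB hLA hLB W.unop) (pushSect_add hh hA hB hLA hLB W.unop))
      naturality := fun {W V} i => AddCommGrpCat.hom_ext (AddMonoidHom.ext fun s =>
        pushSect_mres hh hA hB hLA hLB i.unop.le s) }
    fun W r s => pushSect_smul hh hA hB hLA hLB W.unop r s⟩

theorem twistPush_app (W : PA.Opens) (s : Γ(LA, W)) :
    (twistPush hh hA hB hLA hLB).app W s = pushSect hh hA hB hLA hLB W s := rfl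

include hh hA hB hLA hLB in
theorem existsUnique_twistPush :
    ∃! θ : LA ⟶ (Scheme.Modules.pushforward h).obj LB,
      ∀ (U : S.Opens) (hU : IsAffineOpen U) (W : PA.Opens) (s : Γ(LA, W))
        (y : ProjectiveSpectrum (ℬ.deg U hU))
        (hy : (RelProj.emb pB chartB U hU).base y ∈ h ⁻¹ᵁ W)
        (hy' : (RelProj.emb pA chartA U hU).base
          (ProjectiveSpectrum.comap (RelProj.gradedHomAt φ hφ U hU) (hirr U hU) y) ∈ W),
        GrTwist.val (V := RelProj.emb pB chartB U hU ⁻¹ᵁ (h ⁻¹ᵁ W)) ((lamB U hU).app (h ⁻¹ᵁ W) (θ.app W s)) ⟨y, hy⟩ =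
          GrTwist.locMap (RelProj.gradedHomAt φ hφ U hU) (hirr U hU) y
            (GrTwist.val (V := RelProj.emb pA chartA U hU ⁻¹ᵁ W) ((lamA U hU).app W s) ⟨_, hy'⟩) := by
  refine ⟨twistPush hh hA hB hLA hLB, fun U hU W s y hy hy' => val_pushSect hh hA hB hLA hLB W s ⟨U, hU⟩ y hy,
    fun θ hθ => ?_⟩
  ext W s
  exact twist_section_ext hB hLB fun U y hy =>
    (hθ U.1 U.2 W s y hy (Eq.subst (motive := fun t => t ∈ W) (emb_relProjMap hh U.1 U.2 y) hy)).trans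
      (val_pushSect hh hA hB hLA hLB W s U y hy).symm

end Groth.Agent.EGAProj74

namespace Groth.Agent.EGAProj74

open Var76.LineBundle Amp73

/-- A morphism to a direct image of an invertible module sending frames to frames has invertible adjoint. -/
theorem isIso_adjunct_of_frames {X Y : Scheme.{u}} (f : X ⟶ Y) {L : Y.Modules} (hL : PicF.IsInvertible L)
    {M : X.Modules} (θ : L ⟶ (Scheme.Modules.pushforward f).obj M)
    (hθ : ∀ y : Y, ∃ (U : Y.Opens) (e : Γ(L, U)), y ∈ U ∧ IsFrame L U e ∧ IsFrame M (f ⁻¹ᵁ U) (θ.app U e)) :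
    IsIso (((Scheme.Modules.pullbackPushforwardAdjunction f).homEquiv _ _).symm θ) := by
  set α := ((Scheme.Modules.pullbackPushforwardAdjunction f).homEquiv _ _).symm θ
  have hα : ∀ (U : Y.Opens) (e : Γ(L, U)), α.app (f ⁻¹ᵁ U) (pullS f L U e) = θ.app U e := by
    intro U e
    have h := Equiv.apply_symm_apply ((Scheme.Modules.pullbackPushforwardAdjunction f).homEquiv L M) θ
    rw [Adjunction.homEquiv_unit] at h
    exact ConcreteCategory.congr_hom (congrArg (fun a => Scheme.Modules.Hom.app a U) h) e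
  choose U e hy he hfe using hθ
  refine isIso_of_basis α {V | ∃ y, V ≤ f ⁻¹ᵁ U y} ?_ ?_
  · intro W z hz
    exact ⟨W ⊓ f ⁻¹ᵁ U (f z), ⟨f z, inf_le_right⟩, ⟨hz, hy (f z)⟩, inf_le_left⟩
  · rintro V ⟨y, hV⟩
    have h1 := (isFrame_pullS f hL (he y)) V hV
    have h2 := hfe y V hV
    have hcomp : (α.app V) ∘ (fun c : Γ(X, V) => c • res _ hV (pullS f L (U y) (e y))) =
        fun c : Γ(X, V) => c • res M hV (θ.app (U y) (e y)) := by
      funext c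
      show α.app V (c • _) = _
      rw [Scheme.Modules.Hom.app_smul, Mero90.app_res, hα]
    exact (Function.Bijective.of_comp_iff _ h1).mp (hcomp ▸ h2)

variable {S PA PB : Scheme.{u}} {𝒜 ℬ : RelProj.QCGrAlg S} {φ : 𝒜.toQCAlg ⟶ ℬ.toQCAlg} {hφ : RelProj.IsGradedHom φ}
  {hirr : ∀ (U : S.Opens) (hU : IsAffineOpen U),
    (ℬ.deg U hU)₊ ≤ ((𝒜.deg U hU)₊).map (RelProj.gradedHomAt φ hφ U hU)}
  {pA : PA ⟶ S} {pB : PB ⟶ S}
  {chartA : ∀ (U : S.Opens) (hU : IsAffineOpen U), (((pA ⁻¹ᵁ U : PA.Opens) : Scheme.{u}) ≅ Proj (𝒜.deg U hU))}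
  {chartB : ∀ (U : S.Opens) (hU : IsAffineOpen U), (((pB ⁻¹ᵁ U : PB.Opens) : Scheme.{u}) ≅ Proj (ℬ.deg U hU))}
  {h : PB ⟶ PA} (hh : RelProj.IsRelProjMap φ hφ hirr chartA chartB h) {n : ℤ}
  {LA : PA.Modules}
  {lamA : ∀ (U : S.Opens) (hU : IsAffineOpen U),
    LA ⟶ (Scheme.Modules.pushforward (RelProj.emb pA chartA U hU)).obj (GrTwist.twist (𝒜.deg U hU) n)}
  {LB : PB.Modules}
  {lamB : ∀ (U : S.Opens) (hU : IsAffineOpen U),
    LB ⟶ (Scheme.Modules.pushforward (RelProj.emb pB chartB U hU)).obj (GrTwist.twist (ℬ.deg U hU) n)}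
  (hA : RelProj.IsRelProj 𝒜 pA chartA) (hB : RelProj.IsRelProj ℬ pB chartB)
  (hLA : RelProj.IsRelTwist 𝒜 pA chartA n LA lamA) (hLB : RelProj.IsRelTwist ℬ pB chartB n LB lamB)

/-- The image of a unit section. -/
theorem exists_map_unit {A σ : Type u} [CommRing A] [SetLike σ A] [AddSubgroupClass σ A] {𝒜 : ℕ → σ}
    [GradedRing 𝒜] {B σ' : Type u} [CommRing B] [SetLike σ' B] [AddSubgroupClass σ' B] {ℬ : ℕ → σ'} [GradedRing ℬ]
    (ψ : 𝒜 →+*ᵍ ℬ) (hψ : ℬ₊ ≤ (𝒜₊).map ψ) {n : ℤ} {D : (Proj 𝒜).Opens} (e : GrT.TwistUnit (𝒜 := 𝒜) n D) :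
    ∃ e' : GrT.TwistUnit (𝒜 := ℬ) n (Proj.map ψ hψ ⁻¹ᵁ D),
      ∀ y : (Proj.map ψ hψ ⁻¹ᵁ D : (Proj ℬ).Opens),
        (e'.fwd.1 y).1 = GrTwist.locMap ψ hψ y.1 (e.fwd.1 ⟨ProjectiveSpectrum.comap ψ hψ y.1, y.2⟩).1 :=
  ⟨⟨GrTwist.comapApp ψ hψ n D _ Set.Subset.rfl e.fwd, GrTwist.comapApp ψ hψ (-n) D _ Set.Subset.rfl e.bwd,
    fun y => (map_mul (GrTwist.locMap ψ hψ y.1) _ _).symm.trans
      ((congrArg _ (e.mul_eq ⟨_, y.2⟩)).trans (map_one _))⟩, fun _ => rfl⟩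

include hh hA hB hLA hLB in
theorem nonempty_pullback_twist_iso (hgen : 𝒜.IsGenDegOne) :
    Nonempty ((Scheme.Modules.pullback h).obj LA ≅ LB) := by
  have : IsIso (((Scheme.Modules.pullbackPushforwardAdjunction h).homEquiv _ _).symm
      (twistPush hh hA hB hLA hLB)) := by
    refine isIso_adjunct_of_frames h (isInvertible_of_isGenDegOne hLA hgen) _ fun x => ?_
    obtain ⟨U, hU, y, rfl⟩ := exists_emb_apply (chart := chartA) x
    obtain ⟨D, hyD, ⟨e⟩⟩ := GrT.exists_unit_of_generated (𝒜 := 𝒜.deg U hU) (le_antisymm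
      (irrelevant_le_span_one_of_gen (hgen U hU))
      (Ideal.span_le.mpr fun a ha => HomogeneousIdeal.mem_irrelevant_of_mem _ one_pos ha)) n y
    obtain ⟨e', he'⟩ := exists_map_unit (RelProj.gradedHomAt φ hφ U hU) (hirr U hU) e
    let O := RelProj.emb pA chartA U hU ''ᵁ D
    have hOU : O ≤ pA ⁻¹ᵁ U := ((RelProj.emb pA chartA U hU).image_le_opensRange D).trans_eq (opensRange_emb U hU)
    have hpre : RelProj.emb pA chartA U hU ⁻¹ᵁ O ≤ D := ((RelProj.emb pA chartA U hU).preimage_image_eq D).le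
    obtain ⟨g, hg⟩ := (hLA.bijective U hU O hOU).surjective (e.res hpre).fwd
    have hvalA : ∀ (w : (RelProj.emb pA chartA U hU ⁻¹ᵁ O : (Proj (𝒜.deg U hU)).Opens)),
        GrTwist.val (V := RelProj.emb pA chartA U hU ⁻¹ᵁ O) ((lamA U hU).app O g) w = (e.fwd.1 ⟨w.1, hpre w.2⟩).1 :=
      fun w => congrArg (fun q => GrTwist.val (V := RelProj.emb pA chartA U hU ⁻¹ᵁ O) q w) hg
    refine ⟨O, g, ⟨y, hyD, rfl⟩, fun V hV => bijective_smul_of_unit hLA hU e (hV.trans hOU)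
      (fun w hw => hpre (hV hw)) _ fun w => ?_, fun V hV => ?_⟩
    · refine (congrArg (fun q => GrTwist.val (V := RelProj.emb pA chartA U hU ⁻¹ᵁ V) q w) (mres_app (lamA U hU) hV g)).trans ?_
      exact (val_mres_pushforward _ hV _ w).trans (hvalA ⟨w.1, hV w.2⟩)
    have hVU : V ≤ pB ⁻¹ᵁ U := hV.trans ((h.preimage_mono hOU).trans_eq (relProjMap_preimage hA hB hh U))
    have hVD : RelProj.emb pB chartB U hU ⁻¹ᵁ V ≤ Proj.map (RelProj.gradedHomAt φ hφ U hU) (hirr U hU) ⁻¹ᵁ D :=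
      fun w hw => hpre (Eq.subst (motive := fun t => t ∈ O) (emb_relProjMap hh U hU w) (hV hw))
    refine bijective_smul_of_unit hLB hU e' hVU hVD _ fun w => ?_
    refine (congrArg (fun q => GrTwist.val (V := RelProj.emb pB chartB U hU ⁻¹ᵁ V) q w) (mres_app (lamB U hU) hV _)).trans ?_
    refine (val_mres_pushforward _ hV _ w).trans ?_
    refine (val_pushSect hh hA hB hLA hLB O g ⟨U, hU⟩ w.1 (hV w.2)).trans ?_
    exact (congrArg _ (hvalA _)).trans (he' ⟨w.1, hVD w.2⟩).symm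
  exact ⟨asIso (((Scheme.Modules.pullbackPushforwardAdjunction h).homEquiv _ _).symm
    (twistPush hh hA hB hLA hLB))⟩

end Groth.Agent.EGAProj74
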