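import Groth.Agent.EGAProj74.GrSymExists
import Groth.Agent.EGAProj74.PBundle
import Groth.Agent.EGAProj74.RelTwistMap
import Groth.Agent.AlgSub72.Basic

/-!
Immersions into the relative Proj of an algebra generated in degree one give very ampleness.
-/

set_option autoImplicit false
set_option backward.isDefEq.respectTransparency.types false

universe u

open CategoryTheory CategoryTheory.Limits AlgebraicGeometry TopologicalSpace Opposite
open scoped HomogeneousIdeal

noncomputable section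

namespace Groth.Agent.EGAProj74

variable {S : Scheme.{u}}

/-- A homomorphism out of a graded symmetric algebra sending the module into degree one preserves degrees. -/
theorem isGradedHom_of_grSym {E : S.Modules} (hE : E.IsQuasicoherent) {𝒯 𝒮 : RelProj.QCGrAlg S}
    {j : E ⟶ 𝒯.toModule} (hj : RelProj.IsGrSymAlg E 𝒯 j) (φ : 𝒯.toQCAlg ⟶ 𝒮.toQCAlg)
    (h1 : ∀ (U : S.Opens) (hU : IsAffineOpen U) (m : Γ(E, U)),
      (φ.hom.app (op U)).hom (j.app U m) ∈ 𝒮.deg U hU 1) : RelProj.IsGradedHom φ := by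
  classical
  intro U hU d x hx
  let f : 𝒯.presheaf.obj (op U) →+* 𝒮.presheaf.obj (op U) := (φ.hom.app (op U)).hom
  suffices key : ∀ (y : 𝒯.presheaf.obj (op U)) (n : ℕ),
      f (DirectSum.decompose (𝒯.deg U hU) y n : 𝒯.presheaf.obj (op U)) ∈ 𝒮.deg U hU n by
    simpa [f, DirectSum.decompose_of_mem_same (𝒯.deg U hU) hx] using key x d
  have hhom : ∀ (k : ℕ) (z : 𝒯.presheaf.obj (op U)), z ∈ 𝒯.deg U hU k → f z ∈ 𝒮.deg U hU k → ∀ n,
      f (DirectSum.decompose (𝒯.deg U hU) z n : 𝒯.presheaf.obj (op U)) ∈ 𝒮.deg U hU n := by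
    intro k z hz hfz n
    by_cases hn : n = k
    · subst hn
      rwa [DirectSum.decompose_of_mem_same (𝒯.deg U hU) hz]
    · rw [DirectSum.decompose_of_mem_ne (𝒯.deg U hU) hz (Ne.symm hn), map_zero]
      exact zero_mem _
  intro y
  have hy : y ∈ Subring.closure (Set.range (𝒯.str.app (op U)).hom ∪ Set.range fun m : Γ(E, U) => j.app U m) :=
    (closure_grSym hE hj U hU).ge trivial
  induction hy using Subring.closure_induction with
  | mem z hz =>
    rcases hz with ⟨r, rfl⟩ | ⟨m, rfl⟩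
    · refine hhom 0 _ (𝒯.str_mem U hU r) ?_
      rw [show f ((𝒯.str.app (op U)).hom r) = (𝒮.str.app (op U)).hom r from congr($(φ.comm).app (op U) r)]
      exact 𝒮.str_mem U hU r
    · exact hhom 1 _ (hj.2 U hU m) (h1 U hU m)
  | zero => simp
  | one =>
    refine hhom 0 1 SetLike.GradedOne.one_mem ?_
    rw [map_one]
    exact SetLike.GradedOne.one_mem
  | add a b _ _ ha hb =>
    intro n
    rw [DirectSum.decompose_add, DirectSum.add_apply, AddSubgroup.coe_add, map_add]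
    exact add_mem (ha n) (hb n)
  | neg a _ ha =>
    intro n
    rw [DirectSum.decompose_neg, DFinsupp.neg_apply, AddSubgroup.coe_neg, map_neg]
    exact neg_mem (ha n)
  | mul a b _ _ ha hb =>
    intro n
    rw [DirectSum.decompose_mul, DirectSum.coe_mul_apply, map_sum]
    refine sum_mem fun ij hij => ?_
    rw [← (Finset.mem_filter.1 hij).2, map_mul]
    exact SetLike.mul_mem_graded (ha _) (hb _)

/-- The projection to the degree-one part as a map of modules. -/
theorem exists_degOneProj (𝒮 : RelProj.QCGrAlg S) :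
    ∃ π : 𝒮.toModule ⟶ 𝒮.toModule, ∀ (U : S.Opens) (hU : IsAffineOpen U) (x : 𝒮.presheaf.obj (op U)),
      π.app U x = (DirectSum.decompose (𝒮.deg U hU) x 1 : 𝒮.presheaf.obj (op U)) := by
  classical
  let l : ∀ U : S.AffineZariskiSite, Γ(𝒮.toModule, U.1) →ₗ[Γ(S, U.1)] Γ(𝒮.toModule, U.1) := fun U =>
    { toFun := fun x => (DirectSum.decompose (𝒮.deg U.1 U.2) (show 𝒮.presheaf.obj (op U.1) from x) 1 : 𝒮.presheaf.obj (op U.1))
      map_add' := fun a b => by
        refine (congrArg (fun q : DirectSum ℕ fun i => 𝒮.deg U.1 U.2 i => (q 1 : 𝒮.presheaf.obj (op U.1)))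
          (DirectSum.decompose_add (𝒮.deg U.1 U.2) (show 𝒮.presheaf.obj (op U.1) from a) b)).trans ?_
        rw [DirectSum.add_apply]
        rfl
      map_smul' := fun r a => by
        change (DirectSum.decompose (𝒮.deg U.1 U.2) ((𝒮.str.app (op U.1)).hom r * (show 𝒮.presheaf.obj (op U.1) from a)) 1 : 𝒮.presheaf.obj (op U.1)) =
          (𝒮.str.app (op U.1)).hom r * (DirectSum.decompose (𝒮.deg U.1 U.2) (show 𝒮.presheaf.obj (op U.1) from a) 1 : 𝒮.presheaf.obj (op U.1))
        exact DirectSum.coe_decompose_mul_of_left_mem_zero (𝒮.deg U.1 U.2) (𝒮.str_mem U.1 U.2 r) }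
  obtain ⟨π, hπ, -⟩ := existsUnique_hom_of_affine (M := 𝒮.toModule) l fun U r m => by
    exact (map_decompose_of_mem (𝒮.deg U.1 U.2) (𝒮.deg (S.basicOpen r) (U.2.basicOpen r))
      (𝒮.presheaf.map (homOfLE (S.basicOpen_le r)).op).hom.toAddMonoidHom (fun d m' hm' => 𝒮.map_mem U.2 (U.2.basicOpen r) (S.basicOpen_le r) hm')
      (show 𝒮.presheaf.obj (op U.1) from m) 1).symm
  exact ⟨π, fun U hU x => hπ ⟨U, hU⟩ x⟩

theorem isRelVeryAmple_of_immersion_genDegOne {X P : Scheme.{u}} (q : X ⟶ S) (L : X.Modules)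
    {𝒮 : RelProj.QCGrAlg S} (hgen : 𝒮.IsGenDegOne) {p : P ⟶ S}
    {chart : ∀ (U : S.Opens) (hU : IsAffineOpen U), ((p ⁻¹ᵁ U : P.Opens) : Scheme.{u}) ≅ Proj (𝒮.deg U hU)}
    (hP : RelProj.IsRelProj 𝒮 p chart) {O1 : P.Modules}
    {lam : ∀ (U : S.Opens) (hU : IsAffineOpen U),
      O1 ⟶ (Scheme.Modules.pushforward (RelProj.emb p chart U hU)).obj (GrTwist.twist (𝒮.deg U hU) 1)}
    (hO1 : RelProj.IsRelTwist 𝒮 p chart 1 O1 lam) (i : X ⟶ P) [IsImmersion i] (hi : i ≫ p = q)
    (e : L ≅ (Scheme.Modules.pullback i).obj O1) : RelProj.IsRelVeryAmple q L := by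
  classical
  have hq : Coh.IsQCoh 𝒮.toModule := AlgSub72.isQuasicoherent_toModule 𝒮.toQCAlg
  obtain ⟨π, hπ⟩ := exists_degOneProj 𝒮
  obtain ⟨𝒯, j, hj, PT, pT, chartT, hPT, O1T, lamT, hO1T⟩ := exists_projBundle hq
  obtain ⟨ubar, hju, -⟩ := hj.1 𝒮.toQCAlg π
  have happ : ∀ (U : S.Opens) (hU : IsAffineOpen U) (m : Γ(𝒮.toModule, U)),
      (ubar.hom.app (op U)).hom (j.app U m) =
        (DirectSum.decompose (𝒮.deg U hU) (show 𝒮.presheaf.obj (op U) from m) 1 : 𝒮.presheaf.obj (op U)) :=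
    fun U hU m => (congr($(hju).app U m)).trans (hπ U hU m)
  have hgr : RelProj.IsGradedHom ubar := isGradedHom_of_grSym hq hj ubar fun U hU m => by
    rw [happ U hU m]; exact SetLike.coe_mem _
  have hsurj : ∀ (U : S.Opens) (hU : IsAffineOpen U),
      Set.SurjOn (RelProj.gradedHomAt ubar hgr U hU) (𝒯.deg U hU 1) (𝒮.deg U hU 1) := fun U hU x hx =>
    ⟨j.app U x, hj.2 U hU x, (happ U hU x).trans (DirectSum.decompose_of_mem_same _ hx)⟩
  have hirr : ∀ (U : S.Opens) (hU : IsAffineOpen U),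
      (𝒮.deg U hU)₊ ≤ ((𝒯.deg U hU)₊).map (RelProj.gradedHomAt ubar hgr U hU) := by
    intro U hU
    rw [← SetLike.coe_subset_coe]
    change (𝒮.deg U hU)₊.toIdeal ≤ _
    refine (irrelevant_le_span_one_of_gen (hgen U hU)).trans (Ideal.span_le.mpr fun x hx => ?_)
    obtain ⟨a, ha, rfl⟩ := hsurj U hU hx
    exact Ideal.mem_map_of_mem _ (HomogeneousIdeal.mem_irrelevant_of_mem _ one_pos ha)
  obtain ⟨h, hh, -⟩ := existsUnique_relProjMap (hirr := hirr) hPT hP
  have : IsClosedImmersion h := relProjMap_of_away hPT hP hh (Q := @IsClosedImmersion) fun U hU =>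
    map_of_away (P := @IsClosedImmersion) _ _ fun _ hd f hf =>
      IsClosedImmersion.spec_of_surjective _ (away_map_surjective _ hd f hf 1
        (surjOn_pos_of_gen _ (hgen U hU) (hsurj U hU)))
  obtain ⟨eh⟩ := nonempty_pullback_twist_iso hh hPT hP hO1T hO1 (isGenDegOne_grSym hq hj)
  exact ⟨_, hq, 𝒯, j, hj, PT, pT, chartT, hPT, O1T, lamT, hO1T, i ≫ h, inferInstance,
    by rw [Category.assoc, relProjMap_over hPT hP hh, hi],
    ⟨e ≪≫ (Scheme.Modules.pullback i).mapIso eh.symm ≪≫ (Scheme.Modules.pullbackComp i h).app O1T⟩⟩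

end Groth.Agent.EGAProj74
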