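import Groth.Agent.EGAProj74.ComapIso
import Groth.Agent.EGAProj74.RestrictChart
import Groth.Agent.EGAProj74.Dom

/-!
The comparison maps of twisting sheaves.
-/

set_option autoImplicit false
set_option backward.isDefEq.respectTransparency.types false

universe u

open CategoryTheory CategoryTheory.Limits AlgebraicGeometry TopologicalSpace Opposite
open scoped HomogeneousIdeal

noncomputable section

namespace Groth.Agent.EGAProj74

/-- Along an open immersion, the adjoint of a map that is bijective inside the image is an isomorphism. -/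
theorem isIso_pullback_adjunct {P Q : Scheme.{u}} (e : Q ⟶ P) [IsOpenImmersion e] {F : P.Modules} {G : Q.Modules}
    (θ : F ⟶ (Scheme.Modules.pushforward e).obj G)
    (hθ : ∀ W : P.Opens, W ≤ e.opensRange → Function.Bijective (θ.app W)) :
    IsIso (((Scheme.Modules.pullbackPushforwardAdjunction e).homEquiv _ _).symm θ) := by
  rw [Adjunction.homEquiv_counit]
  have h1 : IsIso ((Scheme.Modules.restrictFunctor e).map θ) := by
    rw [Scheme.Modules.Hom.isIso_iff_isIso_app]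
    intro W
    rw [ConcreteCategory.isIso_iff_bijective]
    exact hθ (e ''ᵁ W) (e.image_le_opensRange W)
  have h2 : IsIso ((Scheme.Modules.pullback e).map θ) :=
    (NatIso.isIso_map_iff (Scheme.Modules.restrictFunctorIsoPullback e) θ).mp h1
  infer_instance

variable {A σ : Type u} [CommRing A] [SetLike σ A] [AddSubgroupClass σ A] {𝒜 : ℕ → σ}
  [GradedRing 𝒜] {B σ' : Type u} [CommRing B] [SetLike σ' B] [AddSubgroupClass σ' B] {ℬ : ℕ → σ'} [GradedRing ℬ]
  (ψ : 𝒜 →+*ᵍ ℬ) (hψ : ℬ₊ ≤ (𝒜₊).map ψ)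

/-- A graded homomorphism as a semilinear map. -/
def ringSemi : A →ₛₗ[ψ.toRingHom] B where
  toFun a := ψ a
  map_add' := map_add ψ
  map_smul' a b := map_mul ψ a b

theorem locModMap_ringSemi (y : ProjectiveSpectrum ℬ) (q : GrTwist.Loc 𝒜 (ProjectiveSpectrum.comap ψ hψ y)) :
    GrMod.locModMap ψ hψ (ringSemi ψ) y q = GrTwist.locMap ψ hψ y q := by
  induction q using Localization.induction_on with
  | H m => exact (GrTwist.locMap_mk ψ hψ y m.1 m.2).symm

theorem bijective_twist_comap (n : ℤ)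
    (h : IsIso (GrMod.comap (ℳ := 𝒜) (𝒩 := ℬ) ψ hψ (ringSemi ψ) (fun _ _ ha => ψ.map_mem ha) n)) (W : (Proj 𝒜).Opens) :
    Function.Bijective ((GrTwist.comap ψ hψ n).app W) := by
  have h0 : Function.Bijective ((GrMod.comap (ℳ := 𝒜) (𝒩 := ℬ) ψ hψ (ringSemi ψ) (fun _ _ ha => ψ.map_mem ha) n).app W) :=
    ConcreteCategory.bijective_of_isIso _
  have key : ∀ s : Γ(GrTwist.twist 𝒜 n, W),
      (GrT.twistIsoTilde ℬ n).hom.app (Proj.map ψ hψ ⁻¹ᵁ W) ((GrTwist.comap ψ hψ n).app W s) =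
        (GrMod.comap (ℳ := 𝒜) (𝒩 := ℬ) ψ hψ (ringSemi ψ) (fun _ _ ha => ψ.map_mem ha) n).app W ((GrT.twistIsoTilde 𝒜 n).hom.app W s) :=
    fun s => GrT.sect_ext fun y => (locModMap_ringSemi ψ hψ y.1 _).symm
  have hB : Function.Bijective ((GrT.twistIsoTilde ℬ n).hom.app (Proj.map ψ hψ ⁻¹ᵁ W)) :=
    ConcreteCategory.bijective_of_isIso _
  have h2 : Function.Bijective fun s : Γ(GrTwist.twist 𝒜 n, W) =>
      (GrT.twistIsoTilde ℬ n).hom.app (Proj.map ψ hψ ⁻¹ᵁ W) ((GrTwist.comap ψ hψ n).app W s) := by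
    rw [funext key]
    exact h0.comp (ConcreteCategory.bijective_of_isIso ((GrT.twistIsoTilde 𝒜 n).hom.app W))
  exact (Function.Bijective.of_comp_iff' hB ((GrTwist.comap ψ hψ n).app W)).mp h2

include hψ in
theorem isIso_twist_adjunct_of_eventually_bijective (d₀ : ℕ)
    (hbij : ∀ d : ℕ, d₀ ≤ d → Set.BijOn ψ (𝒜 d) (ℬ d)) (n : ℤ) :
    IsIso (((Scheme.Modules.pullbackPushforwardAdjunction (Proj.map ψ hψ)).homEquiv _ _).symm
      (GrTwist.comap ψ hψ n)) := by
  have : IsIso (Proj.map ψ hψ) := by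
    have : IsIso (domMap ψ) := isIso_domMap ψ d₀ (fun m hm => (hbij m hm).surjOn) fun m hm a ha h0 =>
      (hbij m hm).injOn ha (zero_mem _) (by rw [h0, map_zero])
    have hι : IsIso (RelCone.domOpen ψ).ι := by
      rw [domOpen_eq_top_of_le ψ hψ]; exact inferInstanceAs (IsIso (Proj ℬ).topIso.hom)
    have : IsIso ((RelCone.domOpen ψ).ι ≫ Proj.map ψ hψ) := by rwa [ι_map_eq_domMap]
    exact IsIso.of_isIso_comp_left (RelCone.domOpen ψ).ι _
  refine isIso_pullback_adjunct _ _ fun W _ => bijective_twist_comap ψ hψ n ?_ W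
  refine isIso_comap_of ψ hψ _ _ (fun d hd g hg i m hm K hK => ⟨K + d₀, ?_⟩) (fun d hd g hg i n' hn' => ?_) n
  · have hmem : g ^ (K + d₀) • m ∈ 𝒜 ((K + d₀) * d + i) :=
      SetLike.mul_mem_graded (by simpa using SetLike.pow_mem_graded (K + d₀) hg) hm
    refine (hbij _ (by nlinarith)).injOn hmem (zero_mem _) ?_
    rw [map_zero, smul_eq_mul, map_mul, map_pow, add_comm K d₀, pow_add, mul_assoc]
    rw [show ψ g ^ K * ψ m = 0 from hK, mul_zero]
  · have hgK : ψ g ^ d₀ * n' ∈ ℬ (d₀ * d + i) :=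
      SetLike.mul_mem_graded (by simpa using SetLike.pow_mem_graded d₀ (ψ.map_mem hg)) hn'
    obtain ⟨m, hm, hmn⟩ := (hbij _ (by nlinarith)).surjOn hgK
    exact ⟨d₀, m, hm, hmn⟩

end Groth.Agent.EGAProj74
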