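import Groth.Agent.EGAProj74.BundleBase

/-!
Base change of projective bundles.
-/

set_option autoImplicit false
set_option backward.isDefEq.respectTransparency.types false

universe u

open CategoryTheory CategoryTheory.Limits AlgebraicGeometry TopologicalSpace Opposite
open scoped HomogeneousIdeal

noncomputable section

namespace Groth.Agent.EGAProj74

open Var76.LineBundle Var76.ZeroScheme

variable {S P : Scheme.{u}} {E : S.Modules}
  {𝒮 : RelProj.QCGrAlg S} {j : E ⟶ 𝒮.toModule} {p : P ⟶ S}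
  {chart : ∀ (U : S.Opens) (hU : IsAffineOpen U), ((p ⁻¹ᵁ U : P.Opens) : Scheme.{u}) ≅ Proj (𝒮.deg U hU)}
  {O1 : P.Modules}
  {lam : ∀ (U : S.Opens) (hU : IsAffineOpen U),
    O1 ⟶ (Scheme.Modules.pushforward (RelProj.emb p chart U hU)).obj (GrTwist.twist (𝒮.deg U hU) 1)}
  (hE : E.IsQuasicoherent) (hj : RelProj.IsGrSymAlg E 𝒮 j) (hP : RelProj.IsRelProj 𝒮 p chart)
  (hO1 : RelProj.IsRelTwist 𝒮 p chart 1 O1 lam) {φ : E ⟶ (Scheme.Modules.pushforward p).obj O1}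
  (hφ : IsCanonical lam j φ)

include hE hO1 hφ in
theorem exists_data_of_hom {X : Scheme.{u}} {g : X ⟶ S} (r : X ⟶ P) (hg : r ≫ p = g) :
    ∃ v : E ⟶ (Scheme.Modules.pushforward g).obj ((Scheme.Modules.pullback r).obj O1),
      IsGenerating v ∧ Classifies chart hj v r := by
  subst hg
  exact ⟨canData φ r, (isGenerating_can hE hj hO1 hφ).pull r φ, classifies_canData hE hj hO1 hφ r⟩

include hE hO1 hφ in
theorem exists_iso_of_classifies' {X : Scheme.{u}} {L : X.Modules} {g : X ⟶ S}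
    {v : E ⟶ (Scheme.Modules.pushforward g).obj L} (hv : IsGenerating v) {r : X ⟶ P}
    (h : Classifies chart hj v r) :
    ∃ τ : (Scheme.Modules.pullback r).obj O1 ≅ L, ∀ (U : S.Opens) (e : Γ(E, U)) (V : X.Opens)
      (hV : V ≤ r ⁻¹ᵁ (p ⁻¹ᵁ U)) (hV' : V ≤ g ⁻¹ᵁ U),
      τ.hom.app V (pullCan φ r U e V hV) = res L hV' (v.app U e) := by
  obtain rfl := h.comp_eq
  obtain ⟨τ, hτ⟩ := exists_iso_of_classifies hE hj hO1 hφ hv h
  refine ⟨τ, fun U e V hV hV' => ?_⟩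
  rw [pullCan, Mero90.app_res]
  exact congrArg (res L hV) (hτ U e)

theorem pullbackComp_map_res {T X Y : Scheme.{u}} (f : T ⟶ X) (r : X ⟶ Y) {M : Y.Modules} {N : X.Modules}
    (a : (Scheme.Modules.pullback r).obj M ⟶ N) (U : Y.Opens) (m : Γ(M, U)) {V : T.Opens}
    (hV : V ≤ (f ≫ r) ⁻¹ᵁ U) :
    ((Scheme.Modules.pullback f).map a).app V
        (((Scheme.Modules.pullbackComp f r).inv.app M).app V (res _ hV (Amp73.pullS (f ≫ r) M U m))) =
      res _ (show V ≤ f ⁻¹ᵁ (r ⁻¹ᵁ U) from hV) (Amp73.pullS f N (r ⁻¹ᵁ U) (a.app (r ⁻¹ᵁ U) (Amp73.pullS r M U m))) := by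
  rw [← pullbackComp_map_pullS f r a U m]
  refine (congrArg (((Scheme.Modules.pullback f).map a).app V)
    (Mero90.app_res ((Scheme.Modules.pullbackComp f r).inv.app M) hV _)).trans ?_
  exact Mero90.app_res ((Scheme.Modules.pullback f).map a) (U := f ⁻¹ᵁ (r ⁻¹ᵁ U)) hV _

theorem preimage_eq_of_comm {X Y Y' Z : Scheme.{u}} {a : X ⟶ Y} {b : Y ⟶ Z} {a' : X ⟶ Y'} {b' : Y' ⟶ Z}
    (h : a ≫ b = a' ≫ b') (U : Z.Opens) : a ⁻¹ᵁ (b ⁻¹ᵁ U) = a' ⁻¹ᵁ (b' ⁻¹ᵁ U) :=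
  congrArg (fun q : X ⟶ Z => q ⁻¹ᵁ U) h

section square

variable {S' P' : Scheme.{u}} {ψ : S' ⟶ S}
  {𝒮' : RelProj.QCGrAlg S'} {j' : (Scheme.Modules.pullback ψ).obj E ⟶ 𝒮'.toModule} {p' : P' ⟶ S'}
  {chart' : ∀ (U : S'.Opens) (hU : IsAffineOpen U), ((p' ⁻¹ᵁ U : P'.Opens) : Scheme.{u}) ≅ Proj (𝒮'.deg U hU)}
  {O1' : P'.Modules}
  {lam' : ∀ (U : S'.Opens) (hU : IsAffineOpen U),
    O1' ⟶ (Scheme.Modules.pushforward (RelProj.emb p' chart' U hU)).obj (GrTwist.twist (𝒮'.deg U hU) 1)}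
  (hj' : RelProj.IsGrSymAlg ((Scheme.Modules.pullback ψ).obj E) 𝒮' j') (hP' : RelProj.IsRelProj 𝒮' p' chart')
  (hO1' : RelProj.IsRelTwist 𝒮' p' chart' 1 O1' lam')
  {φ' : (Scheme.Modules.pullback ψ).obj E ⟶ (Scheme.Modules.pushforward p').obj O1'}
  (hφ' : IsCanonical lam' j' φ')

/-- The adjunct of data on the base change. -/
abbrev adjData {T : Scheme.{u}} {h : T ⟶ S'} {M : T.Modules}
    (w : (Scheme.Modules.pullback ψ).obj E ⟶ (Scheme.Modules.pushforward h).obj M) :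
    E ⟶ (Scheme.Modules.pushforward (h ≫ ψ)).obj M :=
  (Scheme.Modules.pullbackPushforwardAdjunction ψ).homEquiv E ((Scheme.Modules.pushforward h).obj M) w

theorem adjData_app {T : Scheme.{u}} {h : T ⟶ S'} {M : T.Modules}
    (w : (Scheme.Modules.pullback ψ).obj E ⟶ (Scheme.Modules.pushforward h).obj M) (U : S.Opens) (e : Γ(E, U)) :
    (adjData w).app U e = w.app (ψ ⁻¹ᵁ U) (Amp73.pullS ψ E U e) := by
  rw [adjData, Adjunction.homEquiv_unit]
  rfl

theorem isGenerating_of_adjData {T : Scheme.{u}} {h : T ⟶ S'} {M : T.Modules}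
    (w : (Scheme.Modules.pullback ψ).obj E ⟶ (Scheme.Modules.pushforward h).obj M)
    (hw : IsGenerating (adjData w)) : IsGenerating w := by
  intro x
  obtain ⟨U, e, V, hV, hx, hfr⟩ := hw x
  obtain ⟨_, ⟨W, hW, rfl⟩, hxW, hWU⟩ := (Scheme.isBasis_affineOpens S').exists_subset_of_mem_open
    (show h x ∈ ((ψ ⁻¹ᵁ U.1 : S'.Opens) : Set S') from hV hx) (ψ ⁻¹ᵁ U.1).isOpen
  have hWU' : W ≤ ψ ⁻¹ᵁ U.1 := hWU
  let V₀ : T.Opens := V ⊓ h ⁻¹ᵁ W
  refine ⟨⟨W, hW⟩, res _ hWU' (Amp73.pullS ψ E U.1 e), V₀, inf_le_right, ⟨hx, hxW⟩, ?_⟩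
  have h1 := hfr.res (inf_le_left : V₀ ≤ V)
  rw [res_res, adjData_app] at h1
  rw [vres_nat w hWU' (inf_le_right : V₀ ≤ h ⁻¹ᵁ W)]
  exact h1

variable {g : P' ⟶ P} (hg : Classifies (g := p' ≫ ψ) chart hj (adjData φ') g)
include hE hO1 hφ hj' hO1' hφ' hg

theorem classifies_comp_square {T : Scheme.{u}} {h : T ⟶ S'} {M : T.Modules}
    (w : (Scheme.Modules.pullback ψ).obj E ⟶ (Scheme.Modules.pushforward h).obj M) (hw : IsGenerating w)
    {r' : T ⟶ P'} (hr : Classifies chart' hj' w r') : Classifies chart hj (adjData w) (r' ≫ g) := by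
  have := hE
  have hE' : ((Scheme.Modules.pullback ψ).obj E).IsQuasicoherent := QCPull72.isQuasicoherent_pullback ψ E
  obtain ⟨τ', hτ'⟩ := exists_iso_of_classifies' hE' hj' hO1' hφ' hw hr
  obtain ⟨τ₀, hτ₀⟩ := exists_iso_of_classifies' hE hj hO1 hφ
    (isGenerating_adjunct hE φ' (isGenerating_can hE' hj' hO1' hφ')) hg
  refine classifies_of_iso' hE hj hO1 hφ (r := r' ≫ g)
    (by rw [Category.assoc, hg.comp_eq, ← Category.assoc, hr.comp_eq])
    (((Scheme.Modules.pullbackComp r' g).app O1).symm ≪≫ (Scheme.Modules.pullback r').mapIso τ₀ ≪≫ τ')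
    fun U e V hV hV' => ?_
  have hgU : p' ⁻¹ᵁ (ψ ⁻¹ᵁ U) ≤ g ⁻¹ᵁ (p ⁻¹ᵁ U) := (preimage_eq_of_comm hg.comp_eq U).ge
  have hVr : V ≤ r' ⁻¹ᵁ (p' ⁻¹ᵁ (ψ ⁻¹ᵁ U)) :=
    hV.trans ((r'.preimage_mono (preimage_eq_of_comm hg.comp_eq U).le))
  rw [adjData_app]
  refine Eq.trans ?_ (hτ' (ψ ⁻¹ᵁ U) (Amp73.pullS ψ E U e) V hVr hV')
  refine congrArg (τ'.hom.app V) ?_
  show ((Scheme.Modules.pullback r').map τ₀.hom).app V
    (((Scheme.Modules.pullbackComp r' g).inv.app O1).app V (pullCan φ (r' ≫ g) U e V hV)) = _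
  refine (pullbackComp_map_res r' g τ₀.hom _ _ hV).trans ?_
  have h1 := hτ₀ U e (p' ⁻¹ᵁ (ψ ⁻¹ᵁ U)) hgU le_rfl
  rw [pullCan, Mero90.app_res, adjData_app] at h1
  have h2 := congrArg (fun q => res _ hVr (Amp73.pullS r' O1' _ q)) h1
  dsimp only at h2
  rw [← Amp73.res_pullS, ← Amp73.res_pullS, res_res, res_res] at h2
  exact h2

include hP hP' in
theorem isPullback_of_classifies : IsPullback g p' p ψ := by
  have := hE
  have hE' : ((Scheme.Modules.pullback ψ).obj E).IsQuasicoherent := QCPull72.isQuasicoherent_pullback ψ E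
  have key : ∀ c : PullbackCone p ψ, ∃! r' : c.pt ⟶ P', r' ≫ g = c.fst ∧ r' ≫ p' = c.snd := by
    intro c
    obtain ⟨v, hv, hcl⟩ := exists_data_of_hom hE hj hO1 hφ c.fst c.condition
    let w := ((Scheme.Modules.pullbackPushforwardAdjunction ψ).homEquiv E
      ((Scheme.Modules.pushforward c.snd).obj _)).symm v
    have hwv : adjData w = v := Equiv.apply_symm_apply _ v
    have hw : IsGenerating w := isGenerating_of_adjData w (by rw [hwv]; exact hv)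
    obtain ⟨r', hr'⟩ := exists_classifies hE' hj' hP' hO1' hφ' hw
    have hfst : r' ≫ g = c.fst := by
      have h := classifies_comp_square hE hj hO1 hφ hj' hO1' hφ' hg w hw hr'
      rw [hwv] at h
      exact h.unique hE hj hP hv hcl
    refine ⟨r', ⟨hfst, hr'.comp_eq⟩, fun b hb => ?_⟩
    obtain ⟨hb1, hb2⟩ := hb
    obtain ⟨wa, hwa, hca⟩ := exists_data_of_hom hE' hj' hO1' hφ' r' hr'.comp_eq
    obtain ⟨wb, hwb, hcb⟩ := exists_data_of_hom hE' hj' hO1' hφ' b hb2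
    have ta := classifies_comp_square hE hj hO1 hφ hj' hO1' hφ' hg wa hwa hca
    have tb := classifies_comp_square hE hj hO1 hφ hj' hO1' hφ' hg wb hwb hcb
    rw [hfst] at ta
    rw [hb1] at tb
    obtain ⟨τa, hτa⟩ := exists_iso_of_classifies' hE hj hO1 hφ (isGenerating_adjunct hE wa hwa) ta
    obtain ⟨τb, hτb⟩ := exists_iso_of_classifies' hE hj hO1 hφ (isGenerating_adjunct hE wb hwb) tb
    let α := τa.symm ≪≫ τb
    have h1 : adjData wa ≫ (Scheme.Modules.pushforward (c.snd ≫ ψ)).map α.hom = adjData wb := by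
      refine Scheme.Modules.hom_ext _ _ fun U => ConcreteCategory.hom_ext _ _ fun e => ?_
      show τb.hom.app _ (τa.inv.app _ ((adjData wa).app U e)) = (adjData wb).app U e
      have hle : c.snd ⁻¹ᵁ (ψ ⁻¹ᵁ U) ≤ c.fst ⁻¹ᵁ (p ⁻¹ᵁ U) := (preimage_eq_of_comm c.condition U).ge
      have ha := hτa U e (c.snd ⁻¹ᵁ (ψ ⁻¹ᵁ U)) hle le_rfl
      have hb' := hτb U e (c.snd ⁻¹ᵁ (ψ ⁻¹ᵁ U)) hle le_rfl
      refine (congrArg (τb.hom.app _) ((congrArg (τa.inv.app _) (ha.trans (Amp73.res_self _ _)).symm).trans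
        (congr($(τa.hom_inv_id).app _ (pullCan φ c.fst U e _ hle))))).trans ?_
      exact hb'.trans (Amp73.res_self _ _)
    have h2 : wa ≫ (Scheme.Modules.pushforward c.snd).map α.hom = wb := by
      apply ((Scheme.Modules.pullbackPushforwardAdjunction ψ).homEquiv E _).injective
      rw [Adjunction.homEquiv_naturality_right]
      exact h1
    have h3 := hca.map hE' hj' hO1' hφ' hwa α
    rw [h2] at h3
    exact (h3.unique hE' hj' hP' hwb hcb).symm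
  refine IsPullback.of_isLimit (c := PullbackCone.mk g p' hg.comp_eq) (PullbackCone.IsLimit.mk _
    (fun c => (key c).exists.choose) (fun c => (key c).exists.choose_spec.1)
    (fun c => (key c).exists.choose_spec.2) fun c m h₁ h₂ => (key c).unique ⟨h₁, h₂⟩ (key c).exists.choose_spec)

end square

include hE hj hP hO1 hφ in
theorem exists_baseChange {S' P' : Scheme.{u}} (ψ : S' ⟶ S) (𝒮' : RelProj.QCGrAlg S')
    (j' : (Scheme.Modules.pullback ψ).obj E ⟶ 𝒮'.toModule)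
    (hj' : RelProj.IsGrSymAlg ((Scheme.Modules.pullback ψ).obj E) 𝒮' j') (p' : P' ⟶ S')
    (chart' : ∀ (U : S'.Opens) (hU : IsAffineOpen U), ((p' ⁻¹ᵁ U : P'.Opens) : Scheme.{u}) ≅ Proj (𝒮'.deg U hU))
    (hP' : RelProj.IsRelProj 𝒮' p' chart') (O1' : P'.Modules)
    (lam' : ∀ (U : S'.Opens) (hU : IsAffineOpen U),
      O1' ⟶ (Scheme.Modules.pushforward (RelProj.emb p' chart' U hU)).obj (GrTwist.twist (𝒮'.deg U hU) 1))
    (hO1' : RelProj.IsRelTwist 𝒮' p' chart' 1 O1' lam') :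
    ∃ g : P' ⟶ P, IsPullback g p' p ψ ∧ Nonempty ((Scheme.Modules.pullback g).obj O1 ≅ O1') := by
  have := hE
  have hE' : ((Scheme.Modules.pullback ψ).obj E).IsQuasicoherent := QCPull72.isQuasicoherent_pullback ψ E
  obtain ⟨φ', hφ'⟩ := exists_canonical hE' hj' hO1' hP'
  have hgen := isGenerating_adjunct hE φ' (isGenerating_can hE' hj' hO1' hφ')
  obtain ⟨g, hg⟩ := exists_classifies hE hj hP hO1 hφ hgen
  obtain ⟨τ, -⟩ := exists_iso_of_classifies' hE hj hO1 hφ hgen hg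
  exact ⟨g, isPullback_of_classifies hE hj hP hO1 hφ hj' hP' hO1' hφ' hg, ⟨τ⟩⟩

end Groth.Agent.EGAProj74
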