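import Groth.Agent.EGAProj74.BundleSquare

/-!
Invertible quotients of the inverse image and generating maps.
-/

set_option autoImplicit false
set_option backward.isDefEq.respectTransparency.types false

universe u

open CategoryTheory CategoryTheory.Limits AlgebraicGeometry TopologicalSpace Opposite
open scoped HomogeneousIdeal

noncomputable section

namespace Groth.Agent.EGAProj74

open Var76.LineBundle Var76.ZeroScheme

theorem isGenerating_homEquiv {X S : Scheme.{u}} {E : S.Modules} (hE : E.IsQuasicoherent) {g : X ⟶ S}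
    {L : X.Modules} (hL : PicF.IsInvertible L) (s : (Scheme.Modules.pullback g).obj E ⟶ L) [Epi s] :
    IsGenerating (g := g) ((Scheme.Modules.pullbackPushforwardAdjunction g).homEquiv E L s) := by
  let w : (Scheme.Modules.pullback g).obj E ⟶ (Scheme.Modules.pushforward (𝟙 X)).obj L :=
    s ≫ (Scheme.Modules.pushforwardId X).inv.app L
  have hw : IsGenerating w := fun x => by
    obtain ⟨U, hxU, e, he⟩ := Mero90.exists_frame' hL x
    obtain ⟨V, hVU, t, hxV, ht⟩ := QC70.exists_local_lift s e hxU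
    obtain ⟨_, ⟨W, hW, rfl⟩, hxW, hWV⟩ := (Scheme.isBasis_affineOpens X).exists_subset_of_mem_open
      (show x ∈ (V : Set X) from hxV) V.isOpen
    have hWV' : W ≤ V := hWV
    refine ⟨⟨W, hW⟩, res _ hWV' t, W, le_rfl, hxW, ?_⟩
    have h1 := he.res (hWV'.trans hVU)
    refine Eq.subst (motive := fun q => IsFrame L W q) ?_ h1
    show res L _ e = res L le_rfl (s.app W (res _ hWV' t))
    rw [Amp73.res_self, Mero90.app_res, ht]
    exact (res_res L hVU hWV' e).symm
  have h := isGenerating_adjunct (ψ := g) (h := 𝟙 X) hE w hw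
  intro x
  obtain ⟨U, e, V, hV, hxV, hfr⟩ := h x
  refine ⟨U, e, V, hV, hxV, ?_⟩
  rw [Adjunction.homEquiv_unit] at hfr ⊢
  exact hfr

theorem pullbackCongr_inv_pullS {X Y : Scheme.{u}} {f g : X ⟶ Y} (h : f = g) (M : Y.Modules) {U : Y.Opens}
    (m : Γ(M, U)) {V : X.Opens} (hf : V ≤ f ⁻¹ᵁ U) (hg : V ≤ g ⁻¹ᵁ U) :
    ((Scheme.Modules.pullbackCongr h).inv.app M).app V (res _ hg (Amp73.pullS g M U m)) =
      res _ hf (Amp73.pullS f M U m) := by
  subst h; rfl

variable {S P : Scheme.{u}} {E : S.Modules}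
  {𝒮 : RelProj.QCGrAlg S} {j : E ⟶ 𝒮.toModule} {p : P ⟶ S}
  {chart : ∀ (U : S.Opens) (hU : IsAffineOpen U), ((p ⁻¹ᵁ U : P.Opens) : Scheme.{u}) ≅ Proj (𝒮.deg U hU)}
  {O1 : P.Modules}
  {lam : ∀ (U : S.Opens) (hU : IsAffineOpen U),
    O1 ⟶ (Scheme.Modules.pushforward (RelProj.emb p chart U hU)).obj (GrTwist.twist (𝒮.deg U hU) 1)}
  (hE : E.IsQuasicoherent) (hj : RelProj.IsGrSymAlg E 𝒮 j) (hP : RelProj.IsRelProj 𝒮 p chart)
  (hO1 : RelProj.IsRelTwist 𝒮 p chart 1 O1 lam) {φ : E ⟶ (Scheme.Modules.pushforward p).obj O1}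
  (hφ : IsCanonical lam j φ)

theorem comp_app_pullS {X : Scheme.{u}} (r : X ⟶ P) {L : X.Modules}
    (τ : (Scheme.Modules.pullback r).obj O1 ⟶ L) (U : S.Opens) (e : Γ(E, U)) :
    ((Scheme.Modules.pullbackComp r p).inv.app E ≫ (Scheme.Modules.pullback r).map
        (((Scheme.Modules.pullbackPushforwardAdjunction p).homEquiv E O1).symm φ) ≫ τ).app (r ⁻¹ᵁ (p ⁻¹ᵁ U))
        (Amp73.pullS (r ≫ p) E U e) = τ.app (r ⁻¹ᵁ (p ⁻¹ᵁ U)) (Amp73.pullS r O1 (p ⁻¹ᵁ U) (φ.app U e)) := by
  have h := Equiv.apply_symm_apply ((Scheme.Modules.pullbackPushforwardAdjunction p).homEquiv E O1) φ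
  rw [Adjunction.homEquiv_unit] at h
  refine congrArg (τ.app (r ⁻¹ᵁ (p ⁻¹ᵁ U))) ((pullbackComp_map_pullS r p _ U e).trans ?_)
  exact congrArg (Amp73.pullS r O1 _) (ConcreteCategory.congr_hom (congrArg (fun a => Scheme.Modules.Hom.app a U) h) e)

include hE hj hP hO1 hφ in
theorem existsUnique_of_epi {X : Scheme.{u}} (g : X ⟶ S) (L : X.Modules) (hL : PicF.IsInvertible L)
    (s : (Scheme.Modules.pullback g).obj E ⟶ L) [Epi s] :
    ∃! r : X ⟶ P, ∃ (hr : r ≫ p = g) (τ : (Scheme.Modules.pullback r).obj O1 ≅ L),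
      (Scheme.Modules.pullbackCongr hr).inv.app E ≫ (Scheme.Modules.pullbackComp r p).inv.app E ≫
        (Scheme.Modules.pullback r).map
          (((Scheme.Modules.pullbackPushforwardAdjunction p).homEquiv E O1).symm φ) ≫ τ.hom = s := by
  let v : E ⟶ (Scheme.Modules.pushforward g).obj L :=
    (Scheme.Modules.pullbackPushforwardAdjunction g).homEquiv E L s
  have hv : IsGenerating v := isGenerating_homEquiv hE hL s
  obtain ⟨r, hr⟩ := exists_classifies hE hj hP hO1 hφ hv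
  have happ : ∀ (U : S.Opens) (e : Γ(E, U)), v.app U e = s.app (g ⁻¹ᵁ U) (Amp73.pullS g E U e) := fun U e => by
    simp only [v, Adjunction.homEquiv_unit]
    rfl
  refine ⟨r, ?_, fun r' h' => ?_⟩
  · obtain rfl := hr.comp_eq
    obtain ⟨τ, hτ⟩ := exists_iso_of_classifies hE hj hO1 hφ hv hr
    refine ⟨rfl, τ, ?_⟩
    apply ((Scheme.Modules.pullbackPushforwardAdjunction (r ≫ p)).homEquiv E L).injective
    refine Scheme.Modules.hom_ext _ _ fun U => ConcreteCategory.hom_ext _ _ fun e => ?_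
    rw [Adjunction.homEquiv_unit, Adjunction.homEquiv_unit]
    refine (comp_app_pullS (p := p) r τ.hom U e).trans ((hτ U e).trans ?_)
    exact happ U e
  · obtain ⟨hr', τ, hτ⟩ := h'
    subst hr'
    refine Classifies.unique hE hj hP hv (classifies_of_iso hE hj hO1 hφ τ fun U e => ?_) hr
    rw [happ, ← comp_app_pullS (p := p) r' τ.hom U e]
    exact congr($(hτ).app _ (Amp73.pullS (r' ≫ p) E U e))

end Groth.Agent.EGAProj74
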