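import Groth.Agent.EGAProj74.SelfModule
import Groth.Agent.EGAProj74.BasisIso
import Groth.Agent.EGAProj74.GenDegOne
import Groth.Agent.EGAProj74.GrT.TwistInvertible
import Groth.Agent.EGA73.Invertible

/-!
Trivializations of twisting sheaves on a relative Proj.
-/

set_option autoImplicit false
set_option backward.isDefEq.respectTransparency.types false

universe u

open CategoryTheory CategoryTheory.Limits AlgebraicGeometry TopologicalSpace Opposite
open scoped HomogeneousIdeal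

noncomputable section

namespace Groth.Agent.EGAProj74

section general

variable {X : Scheme.{u}}

/-- A section that freely generates near every point of `U` trivializes `M` on `U`. -/
theorem nonempty_restrict_iso_unit_local (M : X.Modules) (U : X.Opens) (g : Γ(M, U))
    (h : ∀ z ∈ U, ∃ O : X.Opens, z ∈ O ∧ ∀ (V : X.Opens) (hV : V ≤ U), V ≤ O →
      Function.Bijective (fun c : Γ(X, V) => c • mres M hV g)) :
    Nonempty (M.restrict U.ι ≅ Coh.structureModule U) := by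
  have hU : U.ι ''ᵁ ⊤ ≤ U := U.ι_image_top.le
  let g' : Γ(M.restrict U.ι, ⊤) := mres M hU g
  have : IsIso (EGA73.unitHom (M.restrict U.ι) g') := by
    refine isIso_of_basis _ {W : (U : Scheme.{u}).Opens | ∃ O : X.Opens, U.ι ''ᵁ W ≤ O ∧
      ∀ (V : X.Opens) (hV : V ≤ U), V ≤ O → Function.Bijective (fun c : Γ(X, V) => c • mres M hV g)} ?_ ?_
    · intro W z hz
      obtain ⟨O, hzO, hO⟩ := h z.1 z.2
      refine ⟨W ⊓ U.ι ⁻¹ᵁ O, ⟨O, ?_, hO⟩, ⟨hz, hzO⟩, inf_le_left⟩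
      rintro _ ⟨w, hw, rfl⟩
      exact hw.2
    · rintro W ⟨O, hWO, hO⟩
      have hV : U.ι ''ᵁ W ≤ U := (U.ι.image_mono le_top).trans hU
      have hfun : ((EGA73.unitHom (M.restrict U.ι) g').app W : Γ(U, W) → Γ(M.restrict U.ι, W)) =
          (fun c : Γ(X, U.ι ''ᵁ W) => c • mres M hV g) ∘ (U.ι.appIso W).inv := by
        funext c
        refine (EGA73.unitHom_app _ g' W c).trans ?_
        show (U.ι.appIso W).inv c • mres M (U.ι.image_mono (le_top (a := W))) (mres M hU g) = _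
        rw [mres_mres]
        rfl
      rw [show ((EGA73.unitHom (M.restrict U.ι) g').app W :
        Γ(Coh.structureModule (U : Scheme.{u}), W) → Γ(M.restrict U.ι, W)) = _ from hfun]
      exact (hO _ hV hWO).comp (ConcreteCategory.bijective_of_isIso (U.ι.appIso W).inv)
  exact ⟨(asIso (EGA73.unitHom (M.restrict U.ι) g')).symm⟩

/-- Free generation is read on a chart. -/
theorem bijective_smul_of_chart {P Q : Scheme.{u}} (e : Q ⟶ P) [IsOpenImmersion e] {L : P.Modules}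
    {G : Q.Modules} (φ : L ⟶ (Scheme.Modules.pushforward e).obj G) {V : P.Opens} (hV : V ≤ e.opensRange)
    (hφ : Function.Bijective (φ.app V)) (g : Γ(L, V)) (t : Γ(G, e ⁻¹ᵁ V)) (hg : φ.app V g = t)
    (h : Function.Bijective (fun c : Γ(Q, e ⁻¹ᵁ V) => c • t)) :
    Function.Bijective (fun c : Γ(P, V) => c • g) := by
  have hf : (φ.app V) ∘ (fun c : Γ(P, V) => c • g) = (fun c => c • t) ∘ (e.app V) := by
    funext c
    change φ.app V (c • g) = _
    refine (Scheme.Modules.Hom.app_smul φ c g).trans ?_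
    rw [hg]
    rfl
  refine (Function.Bijective.of_comp_iff' hφ _).mp ?_
  rw [hf]
  have : IsIso (e.app V) := Scheme.Hom.isIso_app e V hV
  exact h.comp (ConcreteCategory.bijective_of_isIso (e.app V))

theorem val_mres_pushforward {σ A : Type u} [CommRing A] [SetLike σ A] [AddSubgroupClass σ A] {𝒜 : ℕ → σ}
    [GradedRing 𝒜] {n : ℤ} (e : Proj 𝒜 ⟶ X) {V W : X.Opens} (h : W ≤ V)
    (s : Γ(GrTwist.twist 𝒜 n, e ⁻¹ᵁ V)) (y : (e ⁻¹ᵁ W : (Proj 𝒜).Opens)) :
    GrTwist.val (V := e ⁻¹ᵁ W) (mres ((Scheme.Modules.pushforward e).obj (GrTwist.twist 𝒜 n)) h s) y =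
      GrTwist.val (V := e ⁻¹ᵁ V) s ⟨y.1, h y.2⟩ := rfl

end general

variable {S P : Scheme.{u}} {𝒮 : RelProj.QCGrAlg S} {p : P ⟶ S}
  {chart : ∀ (U : S.Opens) (hU : IsAffineOpen U), (((p ⁻¹ᵁ U : P.Opens) : Scheme.{u}) ≅ Proj (𝒮.deg U hU))}
  {n : ℤ} {L : P.Modules}
  {lam : ∀ (U : S.Opens) (hU : IsAffineOpen U),
    L ⟶ (Scheme.Modules.pushforward (RelProj.emb p chart U hU)).obj (GrTwist.twist (𝒮.deg U hU) n)}
  (hL : RelProj.IsRelTwist 𝒮 p chart n L lam)

include hL in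
theorem bijective_smul_of_unit {U : S.Opens} (hU : IsAffineOpen U) {D : (Proj (𝒮.deg U hU)).Opens}
    (e : GrT.TwistUnit (𝒜 := 𝒮.deg U hU) n D) {V : P.Opens} (hVU : V ≤ p ⁻¹ᵁ U)
    (hVD : RelProj.emb p chart U hU ⁻¹ᵁ V ≤ D) (g : Γ(L, V))
    (hg : ∀ y : (RelProj.emb p chart U hU ⁻¹ᵁ V : (Proj (𝒮.deg U hU)).Opens),
      GrTwist.val (V := RelProj.emb p chart U hU ⁻¹ᵁ V) ((lam U hU).app V g) y = (e.fwd.1 ⟨y.1, hVD y.2⟩).1) :
    Function.Bijective (fun c : Γ(P, V) => c • g) :=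
  bijective_smul_of_chart (RelProj.emb p chart U hU) (lam U hU) (hVU.trans_eq (opensRange_emb U hU).symm)
    (hL.bijective U hU V hVU) g (e.res hVD).fwd (Subtype.ext (funext fun y => Subtype.ext (hg y)))
    (GrT.smul_unit_bijective (e.res hVD))

include hL in
theorem nonempty_restrict_iso_of_unit {U : S.Opens} (hU : IsAffineOpen U) {D : (Proj (𝒮.deg U hU)).Opens}
    (e : GrT.TwistUnit (𝒜 := 𝒮.deg U hU) n D) :
    Nonempty (L.restrict (RelProj.emb p chart U hU ''ᵁ D).ι ≅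
      Coh.structureModule (RelProj.emb p chart U hU ''ᵁ D : P.Opens)) := by
  have hOU : RelProj.emb p chart U hU ''ᵁ D ≤ p ⁻¹ᵁ U :=
    ((RelProj.emb p chart U hU).image_le_opensRange D).trans_eq (opensRange_emb U hU)
  have hpre : RelProj.emb p chart U hU ⁻¹ᵁ (RelProj.emb p chart U hU ''ᵁ D) ≤ D :=
    ((RelProj.emb p chart U hU).preimage_image_eq D).le
  obtain ⟨g, hg⟩ := (hL.bijective U hU _ hOU).surjective (e.res hpre).fwd
  refine nonempty_restrict_iso_unit_local L _ g fun z hz => ⟨_, hz, fun V hV _ => ?_⟩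
  refine bijective_smul_of_unit hL hU e (hV.trans hOU) (fun y hy => hpre (hV hy)) (mres L hV g) fun y => ?_
  refine (congrArg (fun q => GrTwist.val (V := RelProj.emb p chart U hU ⁻¹ᵁ V) q y) (mres_app (lam U hU) hV g)).trans ?_
  refine (val_mres_pushforward _ hV _ y).trans ?_
  exact congrArg (fun q => GrTwist.val (V := RelProj.emb p chart U hU ⁻¹ᵁ (RelProj.emb p chart U hU ''ᵁ D)) q ⟨y.1, hV y.2⟩) hg

include hL in
theorem isInvertible_of_isGenDegOne (hgen : 𝒮.IsGenDegOne) : PicF.IsInvertible L := fun z => by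
  obtain ⟨U, hU, y, rfl⟩ := exists_emb_apply (chart := chart) z
  obtain ⟨D, hyD, ⟨e⟩⟩ := GrT.exists_unit_of_generated (𝒜 := 𝒮.deg U hU) (le_antisymm
    (irrelevant_le_span_one_of_gen (hgen U hU))
    (Ideal.span_le.mpr fun a ha => HomogeneousIdeal.mem_irrelevant_of_mem _ one_pos ha)) n y
  exact ⟨RelProj.emb p chart U hU ''ᵁ D, ⟨y, hyD, rfl⟩, nonempty_restrict_iso_of_unit hL hU e⟩

theorem nonempty_restrict_iso_of_pow (hP : RelProj.IsRelProj 𝒮 p chart) {d : ℕ}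
    {f : 𝒮.presheaf.obj (op ⊤)}
    (hf : ∀ (U : S.Opens) (hU : IsAffineOpen U), (𝒮.presheaf.map (homOfLE le_top).op).hom f ∈ 𝒮.deg U hU d)
    {Xf : P.Opens}
    (hXf : ∀ (U : S.Opens) (hU : IsAffineOpen U), RelProj.emb p chart U hU ⁻¹ᵁ Xf ≤
      Proj.basicOpen (𝒮.deg U hU) ((𝒮.presheaf.map (homOfLE le_top).op).hom f))
    {n : ℤ} {L : P.Modules}
    {lam : ∀ (U : S.Opens) (hU : IsAffineOpen U),
      L ⟶ (Scheme.Modules.pushforward (RelProj.emb p chart U hU)).obj (GrTwist.twist (𝒮.deg U hU) (n * (d : ℤ)))}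
    (hL : RelProj.IsRelTwist 𝒮 p chart (n * (d : ℤ)) L lam) :
    Nonempty (L.restrict Xf.ι ≅ Coh.structureModule (Xf : Scheme.{u})) := by
  let unit := fun U : S.affineOpens => (GrT.powUnit (𝒮.deg U.1 U.2) (hf U.1 U.2) n).res (hXf U.1 U.2)
  have hsol := isSol_of_isRelTilde (hP := hP) (isQCoh_selfModule 𝒮) (isRelTilde_of_isRelTwist (hP := hP) hL)
  let s : ∀ U : S.affineOpens, Γ((tildeSys hP (selfModule 𝒮) (isQCoh_selfModule 𝒮) (n * d)).D.obj (op U), Xf) :=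
    fun U => (twistToTilde p chart (n * (d : ℤ)) U.1 U.2).hom.app Xf (unit U).fwd
  have hs : ∀ {U V : S.affineOpens} (i : V ⟶ U),
      ((tildeSys hP (selfModule 𝒮) (isQCoh_selfModule 𝒮) (n * d)).D.map i.op).app Xf (s U) = s V := by
    intro U V i
    refine tildeObj_ext (selfModule 𝒮) _ V.2 _ _ fun y hy => ?_
    refine (tildeMap_val hP (selfModule 𝒮) _ U.2 V.2 i.le Xf (s U) y hy).trans ?_
    refine (GrMod.locModMap_mk _ _ _ _ _ _).trans ?_
    congr 1
    · exact (map_pow (𝒮.res U.2 V.2 i.le) _ _).trans (congrArg (· ^ n.toNat) (res_res_apply 𝒮 le_top i.le f))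
    · exact Subtype.ext ((map_pow (𝒮.res U.2 V.2 i.le) _ _).trans
        (congrArg (· ^ (-n).toNat) (res_res_apply 𝒮 le_top i.le f)))
  obtain ⟨t, ht, -⟩ := (tildeSys hP (selfModule 𝒮) (isQCoh_selfModule 𝒮) (n * d)).existsUnique_section Xf s hs
  obtain ⟨ei, hei⟩ := hsol.exists_iso_glued
  refine nonempty_restrict_iso_unit_local L Xf (ei.inv.app Xf t) fun z hz => ?_
  obtain ⟨U, hU, y, rfl⟩ := exists_emb_apply (chart := chart) z
  refine ⟨p ⁻¹ᵁ U, (opensRange_emb U hU).le ⟨y, rfl⟩, fun V hV hVU => ?_⟩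
  have h1 : (twistToTilde p chart (n * (d : ℤ)) U hU).hom.app Xf ((lam U hU).app Xf (ei.inv.app Xf t)) = s ⟨U, hU⟩ := by
    refine (congr($((hei ⟨U, hU⟩).symm).app Xf (ei.inv.app Xf t))).trans ?_
    refine Eq.trans ?_ (ht ⟨U, hU⟩)
    exact congrArg _ (congr($(ei.inv_hom_id).app Xf t))
  refine bijective_smul_of_unit hL hU (unit ⟨U, hU⟩) hVU (fun w hw => hV hw) _ fun w => ?_
  refine (congrArg (fun q => GrTwist.val (V := RelProj.emb p chart U hU ⁻¹ᵁ V) q w) (mres_app (lam U hU) hV (ei.inv.app Xf t))).trans ?_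
  refine (val_mres_pushforward _ hV _ w).trans ?_
  refine (val_twistToTilde (p := p) (chart := chart) (n * (d : ℤ)) U hU Xf ((lam U hU).app Xf (ei.inv.app Xf t)) ⟨w.1, hV w.2⟩).symm.trans ?_
  refine (congrArg (fun q => GrMod.val (V := RelProj.emb p chart U hU ⁻¹ᵁ Xf) q ⟨w.1, hV w.2⟩) h1).trans ?_
  exact val_twistToTilde (p := p) (chart := chart) (n * (d : ℤ)) U hU Xf (unit ⟨U, hU⟩).fwd ⟨w.1, hV w.2⟩

end Groth.Agent.EGAProj74

namespace Groth.Agent.EGAProj74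

variable {S P : Scheme.{u}} {𝒮 : RelProj.QCGrAlg S} {p : P ⟶ S}
  {chart : ∀ (U : S.Opens) (hU : IsAffineOpen U), (((p ⁻¹ᵁ U : P.Opens) : Scheme.{u}) ≅ Proj (𝒮.deg U hU))}

/-- A period of a quasi-compact open: a positive degree `d` and a cover of `W` by standard opens of the charts
whose degrees divide `d`. -/
theorem exists_period {W : P.Opens} (hW : IsCompact (W : Set P)) :
    ∃ d : ℕ, 0 < d ∧ ∀ x ∈ W, ∃ (U : S.Opens) (hU : IsAffineOpen U) (i : ℕ) (f : 𝒮.presheaf.obj (op U))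
      (_ : f ∈ 𝒮.deg U hU i), i ∣ d ∧ x ∈ RelProj.emb p chart U hU ''ᵁ Proj.basicOpen (𝒮.deg U hU) f := by
  have hpt : ∀ x : W, ∃ (U : S.Opens) (hU : IsAffineOpen U) (i : ℕ) (f : 𝒮.presheaf.obj (op U))
      (_ : f ∈ 𝒮.deg U hU i), 0 < i ∧ x.1 ∈ RelProj.emb p chart U hU ''ᵁ Proj.basicOpen (𝒮.deg U hU) f := by
    intro x
    obtain ⟨U, hU, y, hy⟩ := exists_emb_apply (chart := chart) x.1
    obtain ⟨f, i, hi, hf, hfy⟩ : ∃ (f : 𝒮.presheaf.obj (op U)) (i : ℕ), 0 < i ∧ f ∈ 𝒮.deg U hU i ∧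
        f ∉ (y : ProjectiveSpectrum (𝒮.deg U hU)).asHomogeneousIdeal := by
      by_contra H
      push Not at H
      refine ProjectiveSpectrum.not_irrelevant_le y ?_
      intro a ha
      classical
      rw [← DirectSum.sum_support_decompose (𝒮.deg U hU) a]
      refine Submodule.sum_mem _ fun j _ => ?_
      rcases Nat.eq_zero_or_pos j with rfl | hj
      · have h0 : (DirectSum.decompose (𝒮.deg U hU) a 0 : 𝒮.presheaf.obj (op U)) = 0 := by
          rw [HomogeneousIdeal.mem_irrelevant_iff, GradedRing.proj_apply] at ha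
          exact ha
        rw [h0]
        exact zero_mem _
      · exact H _ j hj (DirectSum.decompose (𝒮.deg U hU) a j).2
    exact ⟨U, hU, i, f, hf, hi, ⟨y, hfy, hy⟩⟩
  choose U hU i f hf hi hx using hpt
  obtain ⟨t, ht⟩ := hW.elim_finite_subcover
    (fun x : W => ((RelProj.emb p chart (U x) (hU x) ''ᵁ Proj.basicOpen (𝒮.deg (U x) (hU x)) (f x) : P.Opens) : Set P))
    (fun x => (RelProj.emb p chart (U x) (hU x) ''ᵁ Proj.basicOpen (𝒮.deg (U x) (hU x)) (f x)).2)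
    fun x hxW => Set.mem_iUnion.mpr ⟨⟨x, hxW⟩, hx ⟨x, hxW⟩⟩
  refine ⟨∏ x ∈ t, i x, Finset.prod_pos fun x _ => hi x, fun z hz => ?_⟩
  obtain ⟨x, hxt, hzx⟩ := Set.mem_iUnion₂.mp (ht hz)
  exact ⟨U x, hU x, i x, f x, hf x, Finset.dvd_prod_of_mem _ hxt, hzx⟩

theorem isInvertible_restrict_of_period {n : ℤ} {L : P.Modules}
    {lam : ∀ (U : S.Opens) (hU : IsAffineOpen U),
      L ⟶ (Scheme.Modules.pushforward (RelProj.emb p chart U hU)).obj (GrTwist.twist (𝒮.deg U hU) n)}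
    (hL : RelProj.IsRelTwist 𝒮 p chart n L lam) {W : P.Opens}
    (hW : ∀ x ∈ W, ∃ (U : S.Opens) (hU : IsAffineOpen U) (i : ℕ) (f : 𝒮.presheaf.obj (op U))
      (_ : f ∈ 𝒮.deg U hU i), (i : ℤ) ∣ n ∧ x ∈ RelProj.emb p chart U hU ''ᵁ Proj.basicOpen (𝒮.deg U hU) f) :
    PicF.IsInvertible (L.restrict W.ι) :=
  EGA73.isInvertible_restrict_opens W fun x hx => by
    obtain ⟨U, hU, i, f, hf, ⟨k, hk⟩, hxf⟩ := hW x hx
    refine ⟨_, hxf, nonempty_restrict_iso_of_unit hL hU ?_⟩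
    rw [hk, mul_comm]
    exact GrT.powUnit (𝒮.deg U hU) hf k

end Groth.Agent.EGAProj74
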