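import Groth.Agent.EGAProj74.GradedKer

/-!
Vanishing, injectivity, local surjectivity and exactness for the modules `M(n)~` on a Proj.
-/

set_option autoImplicit false
set_option backward.isDefEq.respectTransparency.types false

universe u

open CategoryTheory CategoryTheory.Limits AlgebraicGeometry TopologicalSpace Opposite
open scoped HomogeneousIdeal

noncomputable section

namespace Groth.Agent.EGAProj74

variable {A : Type u} [CommRing A] {𝒜 : ℕ → AddSubgroup A} [GradedRing 𝒜]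
variable {M : Type u} [AddCommGroup M] [Module A M] {ℳ : ℕ → AddSubgroup M} [DirectSum.Decomposition ℳ]
  [SetLike.GradedSMul 𝒜 ℳ]
variable {N : Type u} [AddCommGroup N] [Module A N] {𝒩 : ℕ → AddSubgroup N} [DirectSum.Decomposition 𝒩]
  [SetLike.GradedSMul 𝒜 𝒩]
variable {L : Type u} [AddCommGroup L] [Module A L] {ℒ : ℕ → AddSubgroup L} [DirectSum.Decomposition ℒ]
  [SetLike.GradedSMul 𝒜 ℒ]
variable {n : ℤ}

theorem tilde_ext {W : (Proj 𝒜).Opens} (s t : Γ(GrMod.tilde 𝒜 ℳ n, W))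
    (h : ∀ x : W, GrMod.val s x = GrMod.val t x) : s = t :=
  Subtype.ext (funext fun x => Subtype.ext (h x))

theorem mk_eq_zero_of_smul {x : ProjectiveSpectrum 𝒜} {m : M} {a c : A} (ha : a ∉ x.asHomogeneousIdeal)
    (hc : c ∉ x.asHomogeneousIdeal) (h : c • m = 0) :
    (LocalizedModule.mk m ⟨a, ha⟩ : GrMod.LocMod 𝒜 (M := M) x) = 0 := by
  rw [← LocalizedModule.zero_mk ⟨a, ha⟩, LocalizedModule.mk_eq]
  exact ⟨⟨c, hc⟩, by simp [Submonoid.smul_def, smul_comm c a, h]⟩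

/-- A (TN) module gives the zero sheaf. -/
theorem tilde_eq_zero_of_tn (K : ℕ) (hK : ∀ k, K ≤ k → ∀ m ∈ ℳ k, m = 0) {W : (Proj 𝒜).Opens}
    (s : Γ(GrMod.tilde 𝒜 ℳ n, W)) : s = 0 := by
  refine tilde_ext _ _ fun x => ?_
  obtain ⟨V, hV, iV, i, j, m, a, nin, -, w⟩ := (s : GrMod.sect _ _ n (op W)).2 x
  refine (w ⟨x.1, hV⟩).trans ?_
  obtain ⟨k, h, -, hx, hk, hm, -⟩ := exists_large_degree 𝒜 ℳ x.1 m.2 a.2 K
  exact mk_eq_zero_of_smul _ hx (hK _ hk _ hm)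

variable (u : M →ₗ[A] N) (hu : ∀ (i : ℕ) (m : M), m ∈ ℳ i → u m ∈ 𝒩 i)

include hu in
/-- If the image of a fraction vanishes then a homogeneous multiple of the numerator is killed. -/
theorem exists_map_eq_zero (x : ProjectiveSpectrum 𝒜) {i : ℕ} {m : M} (hm : m ∈ ℳ i) {a : A}
    (ha : a ∉ x.asHomogeneousIdeal)
    (h : GrMod.locMap u x (LocalizedModule.mk m ⟨a, ha⟩) = 0) :
    ∃ (e : ℕ) (c : A), c ∈ 𝒜 e ∧ c ∉ x.asHomogeneousIdeal ∧ u (c • m) = 0 ∧ c • m ∈ ℳ (e + i) := by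
  rw [GrMod.locMap_mk, ← LocalizedModule.zero_mk ⟨a, ha⟩, LocalizedModule.mk_eq] at h
  obtain ⟨⟨c, hc⟩, hcm⟩ := h
  have hc0 : (c * a) • u m = 0 := by simpa [Submonoid.smul_def, smul_smul] using hcm
  have hu0 : u ((c * a) • m) = 0 := by rw [map_smul, hc0]
  obtain ⟨e, he⟩ := exists_decompose_notMem 𝒜 x (a := c * a)
    (fun hm' => (x.isPrime.mem_or_mem hm').elim hc ha)
  refine ⟨e, _, SetLike.coe_mem _, he, ?_,
    SetLike.GradedSMul.smul_mem (SetLike.coe_mem (DirectSum.decompose 𝒜 (c * a) e)) hm⟩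
  rw [← decompose_smul_add 𝒜 ℳ hm (c * a) e]
  classical
  have key : ∀ (k : ℕ) (y : M), u (DirectSum.decompose ℳ y k) = DirectSum.decompose 𝒩 (u y) k := by
    intro k y
    induction y using DirectSum.Decomposition.inductionOn ℳ with
    | zero => simp
    | @homogeneous l y =>
      by_cases hlk : l = k
      · subst hlk
        rw [DirectSum.decompose_of_mem_same _ y.2, DirectSum.decompose_of_mem_same _ (hu _ _ y.2)]
      · rw [DirectSum.decompose_of_mem_ne _ y.2 hlk, DirectSum.decompose_of_mem_ne _ (hu _ _ y.2) hlk, map_zero]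
    | add p q hp hq => simp [DirectSum.decompose_add, hp, hq]
  rw [key, hu0, DirectSum.decompose_zero]
  rfl

include hu in
theorem map_injective_of_tn (K : ℕ) (hK : ∀ k, K ≤ k → ∀ m ∈ ℳ k, u m = 0 → m = 0)
    (W : (Proj 𝒜).Opens) : Function.Injective ((GrMod.map 𝒜 u hu n).app W) := by
  refine (injective_iff_map_eq_zero ((GrMod.map 𝒜 u hu n).app W).hom).mpr fun s hs => ?_
  refine tilde_ext _ _ fun x => ?_
  obtain ⟨V, hV, iV, i, j, m, a, nin, -, w⟩ := (s : GrMod.sect _ _ n (op W)).2 x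
  refine (w ⟨x.1, hV⟩).trans ?_
  have h0 : GrMod.locMap u x.1 (GrMod.val s x) = 0 :=
    (GrMod.map_app_val u hu n W s x).symm.trans (congrArg (fun t => GrMod.val t x) hs)
  rw [show GrMod.val _ x = _ from w ⟨x.1, hV⟩] at h0
  obtain ⟨e, c, hce, hc, hcm, hcmem⟩ := exists_map_eq_zero u hu x.1 m.2 (nin ⟨x.1, hV⟩) h0
  obtain ⟨k, h, hh, hx, hk, hm, -⟩ := exists_large_degree 𝒜 ℳ x.1 hcmem hce K
  refine mk_eq_zero_of_smul _ (c := h * c) (fun hm' => (x.1.isPrime.mem_or_mem hm').elim hx hc) ?_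
  rw [mul_smul]
  exact hK _ hk _ hm (by rw [map_smul, hcm, smul_zero])

/-- A homogeneous fraction as a section over an open where the denominator does not vanish. -/
theorem exists_frac {O : (Proj 𝒜).Opens} {d j : ℕ} {m : M} (hm : m ∈ ℳ d) {a : A} (ha : a ∈ 𝒜 j)
    (hden : ∀ x : O, a ∉ x.1.asHomogeneousIdeal) (hdj : (d : ℤ) = j + n) :
    ∃ s : Γ(GrMod.tilde 𝒜 ℳ n, O), ∀ x : O, GrMod.val s x = LocalizedModule.mk m ⟨a, hden x⟩ :=
  ⟨(⟨fun x => ⟨LocalizedModule.mk m ⟨a, hden x⟩,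
      Submodule.subset_span ⟨d, j, ⟨m, hm⟩, ⟨a, ha⟩, hden x, hdj, rfl⟩⟩,
    fun x => ⟨_, x.2, 𝟙 _, d, j, ⟨m, hm⟩, ⟨a, ha⟩, hden, Or.inl hdj, fun _ => rfl⟩⟩ :
    GrMod.sect 𝒜 ℳ n (op O)), fun _ => rfl⟩

include hu in
/-- A (TN)-surjection is locally surjective on sections. -/
theorem map_locally_surjective (K : ℕ) (hK : ∀ k, K ≤ k → ∀ m' ∈ 𝒩 k, ∃ m ∈ ℳ k, u m = m')
    {W : (Proj 𝒜).Opens} (t : Γ(GrMod.tilde 𝒜 𝒩 n, W)) (x : W) :
    ∃ (O : (Proj 𝒜).Opens) (i : O ≤ W) (_ : x.1 ∈ O) (s : Γ(GrMod.tilde 𝒜 ℳ n, O)),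
      (GrMod.map 𝒜 u hu n).app O s = (GrMod.tilde 𝒜 𝒩 n).presheaf.map (homOfLE i).op t := by
  obtain ⟨V, hV, iV, d, j, m', a, nin, hdj, w⟩ := (t : GrMod.sect _ _ n (op W)).2 x
  rcases hdj with hdj | h0
  swap
  · refine ⟨V, iV.le, hV, 0, (map_zero ((GrMod.map 𝒜 u hu n).app V).hom).trans ?_⟩
    refine tilde_ext _ _ fun y => (Eq.trans ?_ (w y).symm)
    rw [h0, LocalizedModule.zero_mk]
    rfl
  obtain ⟨k, h, hh, hx, hk, hm, hha⟩ := exists_large_degree 𝒜 𝒩 x.1 m'.2 a.2 K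
  obtain ⟨m₁, hm₁, hum₁⟩ := hK _ hk _ hm
  obtain ⟨s, hs⟩ := exists_frac (O := V ⊓ ProjectiveSpectrum.basicOpen 𝒜 h) (n := n) hm₁ hha
    (fun y hy => (y.1.isPrime.mem_or_mem hy).elim y.2.2 (nin ⟨y.1, y.2.1⟩)) (by push_cast; omega)
  refine ⟨V ⊓ ProjectiveSpectrum.basicOpen 𝒜 h, inf_le_left.trans iV.le, ⟨hV, hx⟩, s, tilde_ext _ _ fun y => ?_⟩
  refine (GrMod.map_app_val u hu n _ s y).trans ?_
  rw [hs, GrMod.locMap_mk, hum₁]
  refine Eq.trans ?_ (w ⟨y.1, y.2.1⟩).symm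
  rw [LocalizedModule.mk_eq]
  exact ⟨1, by simp [Submonoid.smul_def, smul_smul, mul_comm]⟩

variable (v : N →ₗ[A] L) (hv : ∀ (i : ℕ) (m : N), m ∈ 𝒩 i → v m ∈ ℒ i)

include hu hv in
/-- Exact graded sequences give locally exact sequences of sheaves. -/
theorem map_exact_locally (hex : Function.Exact u v) {W : (Proj 𝒜).Opens} (t : Γ(GrMod.tilde 𝒜 𝒩 n, W))
    (ht : (GrMod.map 𝒜 v hv n).app W t = 0) (x : W) :
    ∃ (O : (Proj 𝒜).Opens) (i : O ≤ W) (_ : x.1 ∈ O) (s : Γ(GrMod.tilde 𝒜 ℳ n, O)),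
      (GrMod.map 𝒜 u hu n).app O s = (GrMod.tilde 𝒜 𝒩 n).presheaf.map (homOfLE i).op t := by
  obtain ⟨V, hV, iV, d, j, m', a, nin, hdj, w⟩ := (t : GrMod.sect _ _ n (op W)).2 x
  rcases hdj with hdj | h0
  swap
  · refine ⟨V, iV.le, hV, 0, (map_zero ((GrMod.map 𝒜 u hu n).app V).hom).trans ?_⟩
    refine tilde_ext _ _ fun y => (Eq.trans ?_ (w y).symm)
    rw [h0, LocalizedModule.zero_mk]
    rfl
  have h0 : GrMod.locMap v x.1 (GrMod.val t x) = 0 :=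
    (GrMod.map_app_val v hv n W t x).symm.trans (congrArg (fun q => GrMod.val q x) ht)
  rw [show GrMod.val _ x = _ from w ⟨x.1, hV⟩] at h0
  obtain ⟨e, c, hce, hc, hcm, hcmem⟩ := exists_map_eq_zero v hv x.1 m'.2 (nin ⟨x.1, hV⟩) h0
  obtain ⟨m₀, hm₀⟩ := (hex _).mp hcm
  classical
  have hum₁ : u (DirectSum.decompose ℳ m₀ (e + d)) = c • (m' : N) := by
    have key : ∀ (y : M), u (DirectSum.decompose ℳ y (e + d)) = DirectSum.decompose 𝒩 (u y) (e + d) := by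
      intro y
      induction y using DirectSum.Decomposition.inductionOn ℳ with
      | zero => simp
      | @homogeneous l y =>
        by_cases hlk : l = e + d
        · subst hlk
          rw [DirectSum.decompose_of_mem_same _ y.2, DirectSum.decompose_of_mem_same _ (hu _ _ y.2)]
        · rw [DirectSum.decompose_of_mem_ne _ y.2 hlk, DirectSum.decompose_of_mem_ne _ (hu _ _ y.2) hlk, map_zero]
      | add p q hp hq => simp [DirectSum.decompose_add, hp, hq]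
    rw [key, hm₀, DirectSum.decompose_of_mem_same _ hcmem]
  obtain ⟨s, hs⟩ := exists_frac (O := V ⊓ ProjectiveSpectrum.basicOpen 𝒜 c) (n := n)
    (m := (DirectSum.decompose ℳ m₀ (e + d) : M)) (SetLike.coe_mem _) (SetLike.mul_mem_graded hce a.2)
    (fun y hy => (y.1.isPrime.mem_or_mem hy).elim y.2.2 (nin ⟨y.1, y.2.1⟩)) (by push_cast; omega)
  refine ⟨V ⊓ ProjectiveSpectrum.basicOpen 𝒜 c, inf_le_left.trans iV.le, ⟨hV, hc⟩, s, tilde_ext _ _ fun y => ?_⟩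
  refine (GrMod.map_app_val u hu n _ s y).trans ?_
  rw [hs, GrMod.locMap_mk, hum₁]
  refine Eq.trans ?_ (w ⟨y.1, y.2.1⟩).symm
  rw [LocalizedModule.mk_eq]
  exact ⟨1, by simp [Submonoid.smul_def, smul_smul, mul_comm]⟩

end Groth.Agent.EGAProj74
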