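import Groth.Agent.EGAProj74.TildeSys
import Groth.Agent.EGAProj74.TildeAlgebra

/-!
Functoriality and exactness of `ℳ ↦ ℳ~` on a relative Proj.
-/

set_option autoImplicit false
set_option backward.isDefEq.respectTransparency.types false

universe u

open CategoryTheory CategoryTheory.Limits AlgebraicGeometry TopologicalSpace Opposite
open scoped HomogeneousIdeal

noncomputable section

namespace Groth.Agent.EGAProj74

variable {S P : Scheme.{u}} {p : P ⟶ S}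

section general

/-- The underlying map on sections of an injective map. -/
theorem app_injective_of_mono {M N : P.Modules} (φ : M ⟶ N) [Mono φ] (W : P.Opens) :
    Function.Injective (φ.app W) := by
  have : Mono ((Scheme.Modules.toPresheaf P).map φ) := inferInstance
  have : Mono (((Scheme.Modules.toPresheaf P).map φ).app (op W)) := inferInstance
  exact (AddCommGrpCat.mono_iff_injective _).mp this

theorem mono_of_app_injective {M N : P.Modules} (φ : M ⟶ N) (h : ∀ W, Function.Injective (φ.app W)) : Mono φ := by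
  refine ⟨fun {Z} a b e => ?_⟩
  ext W x
  exact h W (congr($(e).app W x))

/-- A morphism whose image contains every section locally is an epimorphism. -/
theorem epi_of_locally_surjective {M N : P.Modules} (φ : M ⟶ N)
    (h : ∀ (W : P.Opens) (t : Γ(N, W)) (z : W), ∃ (O : P.Opens) (i : O ≤ W) (_ : z.1 ∈ O) (s : Γ(M, O)),
      φ.app O s = mres N i t) : Epi φ := by
  refine ⟨fun {Z} a b e => ?_⟩
  ext W t
  choose O i hz s hs using h W t
  refine TopCat.Sheaf.eq_of_locally_eq' (F := ⟨Z.presheaf, Z.isSheaf⟩) O W (fun z => homOfLE (i z))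
    (fun z hzW => Opens.mem_iSup.mpr ⟨⟨z, hzW⟩, hz _⟩) _ _ fun z => ?_
  change mres Z (i z) (a.app W t) = mres Z (i z) (b.app W t)
  rw [← mres_app, ← mres_app, ← hs z]
  exact congr($(e).app (O z) (s z))

/-- Exactness from local lifting of cycles. -/
theorem exact_of_locally {M N L : P.Modules} (f : M ⟶ N) (g : N ⟶ L) (w : f ≫ g = 0)
    (h : ∀ (W : P.Opens) (t : Γ(N, W)), g.app W t = 0 → ∀ z : W,
      ∃ (O : P.Opens) (i : O ≤ W) (_ : z.1 ∈ O) (s : Γ(M, O)), f.app O s = mres N i t) :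
    (ShortComplex.mk f g w).Exact := by
  rw [ShortComplex.exact_iff_epi_kernel_lift]
  refine epi_of_locally_surjective _ fun W t z => ?_
  have ht : g.app W ((kernel.ι g).app W t) = 0 := by
    have := congr($(kernel.condition g).app W t)
    exact this
  obtain ⟨O, i, hz, s, hs⟩ := h W _ ht z
  refine ⟨O, i, hz, s, app_injective_of_mono (kernel.ι g) O ?_⟩
  rw [mres_app]
  refine Eq.trans ?_ hs
  exact congr($(kernel.lift_ι g f w).app O s)

end general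

variable {𝒮 : RelProj.QCGrAlg S}
  {chart : ∀ (U : S.Opens) (hU : IsAffineOpen U), (((p ⁻¹ᵁ U : P.Opens) : Scheme.{u}) ≅ Proj (𝒮.deg U hU))}
  {hP : RelProj.IsRelProj 𝒮 p chart} {ℳ 𝒩 : RelProj.GrModule 𝒮} {n : ℤ}

variable (p chart n) in
/-- The map of members induced by a morphism of graded modules. -/
abbrev pushMap {u : ℳ.mod ⟶ 𝒩.mod} (hu : RelProj.IsGrModHom u) (U : S.Opens) (hU : IsAffineOpen U) :
    tildeObj p chart ℳ n U hU ⟶ tildeObj p chart 𝒩 n U hU :=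
  (Scheme.Modules.pushforward (RelProj.emb p chart U hU)).map
    (GrMod.map (𝒮.deg U hU)
      (show ℳ.mod.val.obj (op U) →ₗ[𝒮.presheaf.obj (op U)] 𝒩.mod.val.obj (op U) from (u.val.app (op U)).hom)
      (hu U hU) n)

set_option maxHeartbeats 1000000 in
theorem pushMap_comm {u : ℳ.mod ⟶ 𝒩.mod} (hu : RelProj.IsGrModHom u) {U V : S.Opens} (hU : IsAffineOpen U)
    (hV : IsAffineOpen V) (i : V ≤ U) :
    pushMap p chart n hu U hU ≫ tildeMap hP 𝒩 n hU hV i = tildeMap hP ℳ n hU hV i ≫ pushMap p chart n hu V hV := by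
  ext W s
  refine tildeObj_ext 𝒩 n hV _ _ fun y hy => ?_
  refine (tildeMap_val hP 𝒩 n hU hV i W _ y hy).trans ?_
  refine Eq.trans ?_ (GrMod.map_app_val _ _ n _ ((tildeMap hP ℳ n hU hV i).app W s) ⟨y, hy⟩).symm
  rw [tildeMap_val]
  refine Eq.trans (congrArg _ (GrMod.map_app_val _ _ n _ s ⟨_, _⟩)) ?_
  generalize GrMod.val (V := RelProj.emb p chart U hU ⁻¹ᵁ W) s _ = q
  induction q using LocalizedModule.induction_on with
  | h m a =>
    erw [GrMod.locMap_mk, GrMod.locModMap_mk, GrMod.locModMap_mk, GrMod.locMap_mk]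
    congr 1
    exact (congr($(u.val.naturality (homOfLE i).op).hom m)).symm

variable (hℳ : Coh.IsQCoh ((AMod.toOS 𝒮.toQCAlg).obj ℳ.mod)) (h𝒩 : Coh.IsQCoh ((AMod.toOS 𝒮.toQCAlg).obj 𝒩.mod))
  {F : P.Modules}
  {lam : ∀ (U : S.Opens) (hU : IsAffineOpen U),
    F ⟶ (Scheme.Modules.pushforward (RelProj.emb p chart U hU)).obj (GrMod.tilde (𝒮.deg U hU) (ℳ.deg U hU) n)}
  (hF : RelProj.IsRelTilde 𝒮 p chart ℳ n F lam) {G : P.Modules}
  {lam' : ∀ (U : S.Opens) (hU : IsAffineOpen U),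
    G ⟶ (Scheme.Modules.pushforward (RelProj.emb p chart U hU)).obj (GrMod.tilde (𝒮.deg U hU) (𝒩.deg U hU) n)}
  (hG : RelProj.IsRelTilde 𝒮 p chart 𝒩 n G lam')

include hP hℳ h𝒩 hF hG in
theorem existsUnique_relTilde_map {u : ℳ.mod ⟶ 𝒩.mod} (hu : RelProj.IsGrModHom u) :
    ∃! ut : F ⟶ G, ∀ (U : S.Opens) (hU : IsAffineOpen U), ut ≫ lam' U hU = lam U hU ≫ pushMap p chart n hu U hU := by
  obtain ⟨φ, hφ, huniq⟩ := (isSol_of_isRelTilde (hP := hP) h𝒩 hG).existsUnique_hom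
    (fun U => lam U.1 U.2 ≫ pushMap p chart n hu U.1 U.2) fun {U V} i => by
      refine (Category.assoc _ _ _).trans ((lam U.1 U.2 ≫= pushMap_comm (hP := hP) hu U.2 V.2 i.le).trans ?_)
      exact (Category.assoc _ _ _).symm.trans
        ((isSol_of_isRelTilde (hP := hP) hℳ hF).comm i =≫ pushMap p chart n hu V.1 V.2)
  exact ⟨φ, fun U hU => hφ ⟨U, hU⟩, fun ψ hψ => huniq ψ fun U => hψ U.1 U.2⟩

include hP hℳ hF in
theorem relTilde_unique {F' : P.Modules}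
    {lamF : ∀ (U : S.Opens) (hU : IsAffineOpen U),
      F' ⟶ (Scheme.Modules.pushforward (RelProj.emb p chart U hU)).obj (GrMod.tilde (𝒮.deg U hU) (ℳ.deg U hU) n)}
    (hF' : RelProj.IsRelTilde 𝒮 p chart ℳ n F' lamF) :
    (∃! φ : F ⟶ F', ∀ (U : S.Opens) (hU : IsAffineOpen U), φ ≫ lamF U hU = lam U hU) ∧
      ∀ φ : F ⟶ F', (∀ (U : S.Opens) (hU : IsAffineOpen U), φ ≫ lamF U hU = lam U hU) → IsIso φ := by
  have h := isSol_of_isRelTilde (hP := hP) hℳ hF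
  have h' := isSol_of_isRelTilde (hP := hP) hℳ hF'
  obtain ⟨φ, hφ, huniq⟩ := h'.existsUnique_hom (fun U => lam U.1 U.2) fun i => h.comm i
  exact ⟨⟨φ, fun U hU => hφ ⟨U, hU⟩, fun ψ hψ => huniq ψ fun U => hψ U.1 U.2⟩,
    fun ψ hψ => h.isIso_of_comm h' fun U => hψ U.1 U.2⟩

include hP hℳ hF in
theorem isZero_of_isTN (hTN : ℳ.IsTN) : IsZero F := by
  obtain ⟨K, hK⟩ := hTN
  have h := isSol_of_isRelTilde (hP := hP) hℳ hF
  obtain ⟨φ, -, huniq⟩ := h.existsUnique_hom (fun U => lam U.1 U.2) fun i => h.comm i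
  refine (IsZero.iff_id_eq_zero F).mpr ((huniq (𝟙 F) fun U => Category.id_comp _).trans (huniq 0 fun U => ?_).symm)
  ext W s
  rw [zero_comp]
  exact (tilde_eq_zero_of_tn (ℳ := ℳ.deg U.1 U.2) K (fun k hk m hm => hK U.1 U.2 k hk m hm)
    ((lam U.1 U.2).app W s)).symm

variable {u : ℳ.mod ⟶ 𝒩.mod} (hu : RelProj.IsGrModHom u) {ut : F ⟶ G}
  (hut : ∀ (U : S.Opens) (hU : IsAffineOpen U), ut ≫ lam' U hU = lam U hU ≫ pushMap p chart n hu U hU)

include hF hut in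
theorem mono_of_tnInjective (hinj : ∃ n₀ : ℕ, ∀ (U : S.Opens) (hU : IsAffineOpen U) (k : ℕ), n₀ ≤ k →
    ∀ m ∈ ℳ.deg U hU k, (u.val.app (op U)).hom m = 0 → m = 0) : Mono ut := by
  obtain ⟨n₀, h₀⟩ := hinj
  refine mono_of_app_injective ut fun W => (injective_iff_map_eq_zero (ut.app W).hom).mpr fun s hs => ?_
  refine TopCat.Sheaf.eq_of_locally_eq' (F := ⟨F.presheaf, F.isSheaf⟩)
    (fun U : S.affineOpens => W ⊓ p ⁻¹ᵁ U.1) W (fun U => homOfLE inf_le_left) ?_ _ _ fun U => ?_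
  · intro z hz
    obtain ⟨D, hzD, -⟩ := AffSystem.exists_affineOpens_le (O := ⊤) (s := p.base z) trivial
    exact Opens.mem_iSup.mpr ⟨D, hz, hzD⟩
  change mres F inf_le_left s = mres F inf_le_left 0
  refine (hF.bijective U.1 U.2 _ inf_le_right).injective ?_
  refine map_injective_of_tn
    (show ℳ.mod.val.obj (op U.1) →ₗ[𝒮.presheaf.obj (op U.1)] 𝒩.mod.val.obj (op U.1) from (u.val.app (op U.1)).hom)
    (hu U.1 U.2) n₀ (h₀ U.1 U.2) _ ?_
  have e1 := congr($(hut U.1 U.2).app (W ⊓ p ⁻¹ᵁ U.1) (mres F inf_le_left s))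
  have e2 := congr($(hut U.1 U.2).app (W ⊓ p ⁻¹ᵁ U.1) (mres F (inf_le_left : W ⊓ p ⁻¹ᵁ U.1 ≤ W) 0))
  refine e1.symm.trans (Eq.trans ?_ e2)
  change (lam' U.1 U.2).app _ (ut.app _ (mres F inf_le_left s)) = (lam' U.1 U.2).app _ (ut.app _ (mres F inf_le_left 0))
  refine congrArg _ ?_
  rw [mres_app, mres_app, hs, map_zero]

include hF hG hut in
theorem exists_lift_of_chart {U : S.Opens} (hU : IsAffineOpen U) {W : P.Opens} (hW : W ≤ p ⁻¹ᵁ U) (t : Γ(G, W))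
    (z : W)
    (h : ∀ x : (RelProj.emb p chart U hU ⁻¹ᵁ W : (Proj (𝒮.deg U hU)).Opens),
      ∃ (O : (Proj (𝒮.deg U hU)).Opens) (i : O ≤ RelProj.emb p chart U hU ⁻¹ᵁ W) (_ : x.1 ∈ O)
        (s : Γ(GrMod.tilde (𝒮.deg U hU) (ℳ.deg U hU) n, O)),
        (GrMod.map (𝒮.deg U hU)
          (show ℳ.mod.val.obj (op U) →ₗ[𝒮.presheaf.obj (op U)] 𝒩.mod.val.obj (op U) from (u.val.app (op U)).hom)
          (hu U hU) n).app O s =
          (GrMod.tilde (𝒮.deg U hU) (𝒩.deg U hU) n).presheaf.map (homOfLE i).op ((lam' U hU).app W t)) :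
    ∃ (O : P.Opens) (i : O ≤ W) (_ : z.1 ∈ O) (s : Γ(F, O)), ut.app O s = mres G i t := by
  obtain ⟨x, hx⟩ : z.1 ∈ (RelProj.emb p chart U hU).opensRange := by rw [opensRange_emb]; exact hW z.2
  obtain ⟨O, i, hxO, s, hs⟩ := h ⟨x, show _ ∈ W from Eq.subst (motive := fun q => q ∈ W) hx.symm z.2⟩
  let O' : P.Opens := RelProj.emb p chart U hU ''ᵁ O
  have hO'W : O' ≤ W := by rintro _ ⟨y, hy, rfl⟩; exact i hy
  have hpre : RelProj.emb p chart U hU ⁻¹ᵁ O' ≤ O := ((RelProj.emb p chart U hU).preimage_image_eq O).le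
  obtain ⟨s', hs'⟩ := (hF.bijective U hU O' (hO'W.trans hW)).surjective
    ((GrMod.tilde (𝒮.deg U hU) (ℳ.deg U hU) n).presheaf.map (homOfLE hpre).op s)
  refine ⟨O', hO'W, ⟨x, hxO, hx⟩, s', (hG.bijective U hU O' (hO'W.trans hW)).injective ?_⟩
  refine (congr($(hut U hU).app O' s')).trans ?_
  change (pushMap p chart n hu U hU).app O' ((lam U hU).app O' s') = _
  rw [hs', mres_app]
  refine (congr($((GrMod.map (𝒮.deg U hU)
    (show ℳ.mod.val.obj (op U) →ₗ[𝒮.presheaf.obj (op U)] 𝒩.mod.val.obj (op U) from (u.val.app (op U)).hom)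
    (hu U hU) n).mapPresheaf.naturality (homOfLE hpre).op).hom s)).trans ?_
  refine (congrArg ((GrMod.tilde (𝒮.deg U hU) (𝒩.deg U hU) n).presheaf.map (homOfLE hpre).op).hom hs).trans ?_
  rfl

include hF hG hut in
theorem epi_of_tnSurjective (hsurj : ∃ n₀ : ℕ, ∀ (U : S.Opens) (hU : IsAffineOpen U) (k : ℕ), n₀ ≤ k →
    ∀ m' ∈ 𝒩.deg U hU k, ∃ m ∈ ℳ.deg U hU k, (u.val.app (op U)).hom m = m') : Epi ut := by
  obtain ⟨n₀, h₀⟩ := hsurj
  refine epi_of_locally_surjective ut fun W t z => ?_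
  obtain ⟨D, hzD, -⟩ := AffSystem.exists_affineOpens_le (O := ⊤) (s := p.base z.1) trivial
  obtain ⟨O, i, hz, s, hs⟩ := exists_lift_of_chart hF hG hu hut D.2 (W := W ⊓ p ⁻¹ᵁ D.1) inf_le_right
    (mres G inf_le_left t) ⟨z.1, z.2, hzD⟩ fun x => map_locally_surjective
      (show ℳ.mod.val.obj (op D.1) →ₗ[𝒮.presheaf.obj (op D.1)] 𝒩.mod.val.obj (op D.1) from (u.val.app (op D.1)).hom)
      (hu D.1 D.2) n₀ (h₀ D.1 D.2) _ x
  exact ⟨O, i.trans inf_le_left, hz, s, hs.trans (mres_mres G _ _ t)⟩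

set_option maxHeartbeats 1000000 in
theorem relTilde_exact {𝒦 : RelProj.GrModule 𝒮} {H : P.Modules}
    {lam'' : ∀ (U : S.Opens) (hU : IsAffineOpen U),
      H ⟶ (Scheme.Modules.pushforward (RelProj.emb p chart U hU)).obj (GrMod.tilde (𝒮.deg U hU) (𝒦.deg U hU) n)}
    (hF : RelProj.IsRelTilde 𝒮 p chart ℳ n F lam) (hG : RelProj.IsRelTilde 𝒮 p chart 𝒩 n G lam')
    (hu : RelProj.IsGrModHom u)
    (hut : ∀ (U : S.Opens) (hU : IsAffineOpen U), ut ≫ lam' U hU = lam U hU ≫ pushMap p chart n hu U hU)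
    {v : 𝒩.mod ⟶ 𝒦.mod} (hv : RelProj.IsGrModHom v) {vt : G ⟶ H}
    (hvt : ∀ (U : S.Opens) (hU : IsAffineOpen U), vt ≫ lam'' U hU = lam' U hU ≫ pushMap p chart n hv U hU)
    (hex : ∀ (U : S.Opens) (_ : IsAffineOpen U), Function.Exact (u.val.app (op U)).hom (v.val.app (op U)).hom)
    (w : ut ≫ vt = 0) : (ShortComplex.mk ut vt w).Exact := by
  refine exact_of_locally ut vt w fun W t ht z => ?_
  obtain ⟨D, hzD, -⟩ := AffSystem.exists_affineOpens_le (O := ⊤) (s := p.base z.1) trivial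
  have h0 : (pushMap p chart n hv D.1 D.2).app (W ⊓ p ⁻¹ᵁ D.1)
      ((lam' D.1 D.2).app (W ⊓ p ⁻¹ᵁ D.1) (mres G inf_le_left t)) = 0 := by
    refine (congr($(hvt D.1 D.2).app (W ⊓ p ⁻¹ᵁ D.1) (mres G inf_le_left t))).symm.trans ?_
    change (lam'' D.1 D.2).app _ (vt.app _ (mres G inf_le_left t)) = 0
    rw [mres_app, ht]
    exact (congrArg _ (map_zero _)).trans (map_zero _)
  obtain ⟨O, i, hz, s, hs⟩ := exists_lift_of_chart hF hG hu hut D.2 (W := W ⊓ p ⁻¹ᵁ D.1) inf_le_right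
    (mres G inf_le_left t) ⟨z.1, z.2, hzD⟩ fun x =>
      map_exact_locally
        (show ℳ.mod.val.obj (op D.1) →ₗ[𝒮.presheaf.obj (op D.1)] 𝒩.mod.val.obj (op D.1) from (u.val.app (op D.1)).hom)
        (hu D.1 D.2)
        (show 𝒩.mod.val.obj (op D.1) →ₗ[𝒮.presheaf.obj (op D.1)] 𝒦.mod.val.obj (op D.1) from (v.val.app (op D.1)).hom)
        (hv D.1 D.2) (hex D.1 D.2) _ h0 x
  exact ⟨O, i.trans inf_le_left, hz, s, hs.trans (mres_mres G _ _ t)⟩

end Groth.Agent.EGAProj74
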