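import Groth.Agent.EGAProj74.QMapProps

/-!
Base change of relative Proj.
-/

set_option autoImplicit false

universe u

open CategoryTheory CategoryTheory.Limits AlgebraicGeometry TopologicalSpace Opposite
open scoped HomogeneousIdeal

noncomputable section

namespace Groth.Agent.EGAProj74

variable {S S' P P' : Scheme.{u}} (g : S' ⟶ S) {𝒮 : RelProj.QCGrAlg S} {𝒮' : RelProj.QCGrAlg S'}
  {p : P ⟶ S} {p' : P' ⟶ S'}
  {chart : ∀ (U : S.Opens) (hU : IsAffineOpen U), (((p ⁻¹ᵁ U : P.Opens) : Scheme.{u}) ≅ Proj (𝒮.deg U hU))}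
  {chart' : ∀ (U' : S'.Opens) (hU' : IsAffineOpen U'), (((p' ⁻¹ᵁ U' : P'.Opens) : Scheme.{u}) ≅ Proj (𝒮'.deg U' hU'))}
  (φ : ∀ (U : S.Opens) (hU : IsAffineOpen U) (U' : S'.Opens) (hU' : IsAffineOpen U') (_ : U' ≤ g ⁻¹ᵁ U),
    𝒮.deg U hU →+*ᵍ 𝒮'.deg U' hU')

theorem isPushout_zero_form {U : S.Opens} {hU : IsAffineOpen U} {U' : S'.Opens} {hU' : IsAffineOpen U'}
    {hle : U' ≤ g ⁻¹ᵁ U} {ψ : 𝒮.deg U hU →+*ᵍ 𝒮'.deg U' hU'}
    {m : 𝒮.presheaf.obj (op U) ⟶ 𝒮'.presheaf.obj (op U')} (hm : ψ.toRingHom = m.hom)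
    (h : IsPushout (g.appLE U U' hle) (𝒮.str.app (op U)) (𝒮'.str.app (op U')) m) :
    IsPushout (g.appLE U U' hle)
      (𝒮.strZero U hU ≫ CommRingCat.ofHom (algebraMap (𝒮.deg U hU 0) (𝒮.presheaf.obj (op U))))
      (𝒮'.strZero U' hU' ≫ CommRingCat.ofHom (algebraMap (𝒮'.deg U' hU' 0) (𝒮'.presheaf.obj (op U'))))
      (CommRingCat.ofHom (ψ : 𝒮.presheaf.obj (op U) →+* 𝒮'.presheaf.obj (op U'))) := by
  have e : CommRingCat.ofHom (ψ : 𝒮.presheaf.obj (op U) →+* 𝒮'.presheaf.obj (op U')) = m :=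
    CommRingCat.hom_ext hm
  rw [e]
  exact h

variable (hpo : ∀ (U : S.Opens) (hU : IsAffineOpen U) (U' : S'.Opens) (hU' : IsAffineOpen U')
    (hle : U' ≤ g ⁻¹ᵁ U),
    IsPushout (g.appLE U U' hle)
      (𝒮.strZero U hU ≫ CommRingCat.ofHom (algebraMap (𝒮.deg U hU 0) (𝒮.presheaf.obj (op U))))
      (𝒮'.strZero U' hU' ≫ CommRingCat.ofHom (algebraMap (𝒮'.deg U' hU' 0) (𝒮'.presheaf.obj (op U'))))
      (CommRingCat.ofHom (φ U hU U' hU' hle : 𝒮.presheaf.obj (op U) →+* 𝒮'.presheaf.obj (op U'))))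
include hpo

theorem isPullback_of_charts (hP : RelProj.IsRelProj 𝒮 p chart) (hP' : RelProj.IsRelProj 𝒮' p' chart')
    (hirr : ∀ (U : S.Opens) (hU : IsAffineOpen U) (U' : S'.Opens) (hU' : IsAffineOpen U')
      (hle : U' ≤ g ⁻¹ᵁ U), (𝒮'.deg U' hU')₊ ≤ ((𝒮.deg U hU)₊).map (φ U hU U' hU' hle))
    (h : P' ⟶ P)
    (hh : ∀ (U : S.Opens) (hU : IsAffineOpen U) (U' : S'.Opens) (hU' : IsAffineOpen U')
      (hle : U' ≤ g ⁻¹ᵁ U), RelProj.emb p' chart' U' hU' ≫ h =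
        Proj.map (φ U hU U' hU' hle) (hirr U hU U' hU' hle) ≫ RelProj.emb p chart U hU) :
    IsPullback h p' p g := by
  have hsq : ∀ (U : S.Opens) (hU : IsAffineOpen U) (U' : S'.Opens) (hU' : IsAffineOpen U')
      (hle : U' ≤ g ⁻¹ᵁ U),
      IsPullback (Proj.map (φ U hU U' hU' hle) (hirr U hU U' hU' hle) ≫ RelProj.emb p chart U hU)
        (Proj.toSpecZero _ ≫ Spec.map (𝒮'.strZero U' hU')) p (hU'.fromSpec ≫ g) := by
    intro U hU U' hU' hle
    rw [← IsAffineOpen.SpecMap_appLE_fromSpec g hU hU' hle]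
    exact (isPullback_map _ _ _ _ (hpo U hU U' hU' hle) (hirr U hU U' hU' hle)).paste_horiz
      (isPullback_emb hP U hU).flip
  have hw : h ≫ p = p' ≫ g := by
    refine hom_ext_over p' fun U' hU' => Scheme.hom_ext_of_forall _ _ fun x => ?_
    obtain ⟨_, ⟨U, hU, rfl⟩, hxU, -⟩ := (Scheme.isBasis_affineOpens S).exists_subset_of_mem_open
      (Set.mem_univ (g.base (p'.base x.1))) isOpen_univ
    obtain ⟨_, ⟨V, hV, rfl⟩, hxV, hVle⟩ := (Scheme.isBasis_affineOpens S').exists_subset_of_mem_open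
      (show p'.base x.1 ∈ ((U' ⊓ g ⁻¹ᵁ U : S'.Opens) : Set S') from ⟨x.2, hxU⟩) (U' ⊓ g ⁻¹ᵁ U).2
    refine ⟨(p' ⁻¹ᵁ U').ι ⁻¹ᵁ (p' ⁻¹ᵁ V), hxV, ?_⟩
    let W := (p' ⁻¹ᵁ U').ι ⁻¹ᵁ (p' ⁻¹ᵁ V)
    let m : (W : Scheme.{u}) ⟶ Proj (𝒮'.deg V hV) :=
      IsOpenImmersion.lift (RelProj.emb p' chart' V hV) (W.ι ≫ (p' ⁻¹ᵁ U').ι) (by
        rintro _ ⟨y, rfl⟩
        change _ ∈ (RelProj.emb p' chart' V hV).opensRange
        rw [opensRange_emb]
        exact y.2)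
    have hm : m ≫ RelProj.emb p' chart' V hV = W.ι ≫ (p' ⁻¹ᵁ U').ι := IsOpenImmersion.lift_fac ..
    have hle : V ≤ g ⁻¹ᵁ U := fun y hy => (hVle hy).2
    change W.ι ≫ (p' ⁻¹ᵁ U').ι ≫ h ≫ p = W.ι ≫ (p' ⁻¹ᵁ U').ι ≫ p' ≫ g
    rw [← reassoc_of% hm, ← reassoc_of% hm, reassoc_of% (hh U hU V hV hle), emb_p_assoc hP']
    simpa only [Category.assoc] using m ≫= (hsq U hU V hV hle).w
  let k : P' ⟶ pullback p g := pullback.lift h p' hw
  have hkfst : k ≫ pullback.fst _ _ = h := pullback.lift_fst _ _ _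
  have hksnd : k ≫ pullback.snd _ _ = p' := pullback.lift_snd _ _ _
  have hc : ∀ (U : S.Opens) (hU : IsAffineOpen U) (U' : S'.Opens) (hU' : IsAffineOpen U')
      (_ : U' ≤ g ⁻¹ᵁ U),
      IsPullback (RelProj.emb p' chart' U' hU' ≫ k) (Proj.toSpecZero _ ≫ Spec.map (𝒮'.strZero U' hU'))
        (pullback.snd p g) hU'.fromSpec := by
    intro U hU U' hU' hle
    refine IsPullback.of_right ?_ ?_ (IsPullback.of_hasPullback p g)
    · rw [Category.assoc, hkfst, hh U hU U' hU' hle]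
      exact hsq U hU U' hU' hle
    · rw [Category.assoc, hksnd, Category.assoc, emb_p hP']
  have hiso : IsIso k := by
    have hloc : ∀ V : AffPair g, IsIso (k ∣_ (pullback.snd p g ⁻¹ᵁ V.U')) := by
      intro ⟨U, hU, U', hU', hle⟩
      have hcs := hc U hU U' hU' hle
      have : IsOpenImmersion (RelProj.emb p' chart' U' hU' ≫ k) :=
        MorphismProperty.of_isPullback (P := @IsOpenImmersion.{u}) hcs.flip
          (inferInstance : IsOpenImmersion hU'.fromSpec)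
      have hr : (RelProj.emb p' chart' U' hU' ≫ k).opensRange = pullback.snd p g ⁻¹ᵁ U' := by
        rw [opensRange_of_isPullback hcs.flip, hU'.opensRange_fromSpec]
      refine ((MorphismProperty.isomorphisms Scheme.{u}).arrow_mk_iso_iff (morphismRestrictEq k hr).symm).mpr ?_
      refine ((MorphismProperty.isomorphisms Scheme.{u}).arrow_mk_iso_iff
        (morphismRestrictOpensRange k (RelProj.emb p' chart' U' hU' ≫ k))).mpr ?_
      have h2 : IsPullback (𝟙 _) (RelProj.emb p' chart' U' hU')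
          (RelProj.emb p' chart' U' hU' ≫ k) k := by
        refine IsOpenImmersion.isPullback _ _ _ _ (by simp) ?_
        rw [hr, ← Scheme.Hom.comp_preimage, hksnd, opensRange_emb]
      rw [← h2.flip.isoPullback_inv_snd]
      change IsIso _
      infer_instance
    refine IsZariskiLocalAtTarget.of_iSup_eq_top (P := MorphismProperty.isomorphisms Scheme.{u})
      (fun V : AffPair g => pullback.snd p g ⁻¹ᵁ V.U') ?_ hloc
    refine top_le_iff.mp fun x _ => ?_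
    obtain ⟨U, hU, U', hU', hle, hs⟩ := exists_pair g ((pullback.snd p g).base x)
    exact Opens.mem_iSup.mpr ⟨⟨U, hU, U', hU', hle⟩, hs⟩
  exact IsPullback.of_iso_pullback ⟨hw⟩ (asIso k) hkfst hksnd

end Groth.Agent.EGAProj74
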