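import Groth.Agent.S3572
import Groth.Agent.S10864
import Groth.Agent.EGA73.AmpleImmersion
import Groth.Agent.Amp73.Pullback
import Groth.Agent.Amp73.PullTensor
import Groth.Agent.Amp73.ProjAmple
import Groth.Agent.EGA73.ProperProjAffine
import Groth.Agent.Var76.RegTools

/-! Projections given by linear forms without common zero, with the twisting sheaf. -/

set_option autoImplicit false
set_option backward.isDefEq.respectTransparency false

universe u

open CategoryTheory CategoryTheory.Limits AlgebraicGeometry TopologicalSpace Opposite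

noncomputable section

namespace Groth.Agent.EGAProj74.FormProj

open Groth.Agent.Amp73 Var76.ZeroScheme Var76.LineBundle

variable {R : Type u} [CommRing R] {n : ℕ}

theorem irrelevant_eq (n : ℕ) :
    (HomogeneousIdeal.irrelevant (CohB1.polyGrading n R)).toIdeal =
      Ideal.span (CohB1.polyGrading n R 1 : Set (MvPolynomial (Fin (n + 1)) R)) :=
  EGA73.ProjUniv.irrelevant_eq_span_one (EGA73.PolySym.linForm_mem n R) (EGA73.PolySym.isSymmetricAlgebra_linForm n R)

theorem exists_mem_basicOpen_X (x : CohB1.ProjSpace n R) :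
    ∃ i, x ∈ Proj.basicOpen (CohB1.polyGrading n R) (MvPolynomial.X i) := by
  by_contra hx
  push Not at hx
  refine x.not_irrelevant_le ?_
  intro a ha
  have h := (irrelevant_eq n).le ha
  refine Ideal.span_le.2 (fun b hb => ?_) h
  have hc : b ∈ Submodule.span R (Set.range (MvPolynomial.X : Fin (n + 1) → MvPolynomial (Fin (n + 1)) R)) := by
    rw [← MvPolynomial.homogeneousSubmodule_one_eq_span_X]
    exact hb
  refine Submodule.span_le (p := x.asHomogeneousIdeal.toIdeal.restrictScalars R) |>.2 ?_ hc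
  rintro _ ⟨i, rfl⟩
  exact not_not.1 (hx i)

/-- The map given by a form of degree one. -/
def formHom (f : CohB1.polyGrading n R 1) :
    Coh.structureModule (CohB1.ProjSpace n R) ⟶ Twist.twistProjSpace n R 1 :=
  degOneHom (CohB1.polyGrading n R) f

/-- The locus of a section of degree one. -/
theorem genLocus_form (f : CohB1.polyGrading n R 1) :
    CohB1.genLocus _ (formHom f) =
      Proj.basicOpen (CohB1.polyGrading n R) (f : MvPolynomial (Fin (n + 1)) R) :=
  @genLocus_degOneHom R _ _ _ _ (CohB1.polyGrading n R) _ (irrelevant_eq n) f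

variable {X : Scheme.{u}}

/-- The section `r^* f` of `r^* O(1)`. -/
def formSec (r : X ⟶ CohB1.ProjSpace n R) (f : CohB1.polyGrading n R 1) :
    ProjUP.Γm ((Scheme.Modules.pullback r).obj (Twist.twistProjSpace n R 1)) :=
  ProjUP.pullSec r (Twist.twistProjSpace n R 1) (Twist.globalOf (CohB1.polyGrading n R) f)

theorem val_pullHom_top (r : X ⟶ CohB1.ProjSpace n R) (f : CohB1.polyGrading n R 1) :
    val _ (pullHom r (formHom f)) ⊤ = formSec r f := by
  refine (val_pullHom r (formHom f) ⊤).trans ?_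
  refine congrArg (pullS r (Twist.twistProjSpace n R 1) ⊤) ?_
  exact (Var76.Frames.val_ofSection _ _ _).trans (res_self _ _)

theorem genLocus_formSec (r : X ⟶ CohB1.ProjSpace n R) (f : CohB1.polyGrading n R 1) :
    CohB1.genLocus _ (Var76.Frames.ofSection _ (formSec r f)) =
      r ⁻¹ᵁ Proj.basicOpen (CohB1.polyGrading n R) (f : MvPolynomial (Fin (n + 1)) R) := by
  rw [← val_pullHom_top r f, EGA73.AmpleImmersion.genLocus_ofSection_val,
    genLocus_pullHom r (Var76.Reg.isInvertible_twist (n := n) (A := R) 1), genLocus_form]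

variable {d : ℕ}

/-- Linear forms without common zero on `X` give an affine morphism to `P^d`. -/
theorem exists_proj (ι : X ⟶ CohB1.ProjSpace n R) [IsAffineHom ι]
    (l : Fin (d + 1) → CohB1.polyGrading n R 1)
    (hcov : ∀ x : X, ∃ i, ι x ∈ Proj.basicOpen (CohB1.polyGrading n R) (l i : MvPolynomial (Fin (n + 1)) R)) :
    ∃ π : X ⟶ CohB1.ProjSpace d R, π ≫ CohB1.ProjSpace.toSpec d R = ι ≫ CohB1.ProjSpace.toSpec n R ∧
      IsAffineHom π ∧
      (∀ i, π ⁻¹ᵁ Proj.basicOpen (CohB1.polyGrading d R) (MvPolynomial.X i) =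
        ι ⁻¹ᵁ Proj.basicOpen (CohB1.polyGrading n R) (l i : MvPolynomial (Fin (n + 1)) R)) ∧
      Nonempty ((Scheme.Modules.pullback π).obj (Twist.twistProjSpace d R 1) ≅
        (Scheme.Modules.pullback ι).obj (Twist.twistProjSpace n R 1)) := by
  classical
  let L := (Scheme.Modules.pullback ι).obj (Twist.twistProjSpace n R 1)
  have hL : PicF.IsInvertible L := isInvertible_pullback ι (Var76.Reg.isInvertible_twist (n := n) (A := R) 1)
  obtain ⟨π, hπ, τ, hτ⟩ := Groth.Agent.S3572.result d (ι ≫ CohB1.ProjSpace.toSpec n R) L hL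
    (fun i => formSec ι (l i))
    (EGA73.ImmersionPn.generatedBy_of_genLocus L _ fun x => by
      obtain ⟨i, hi⟩ := hcov x
      exact ⟨i, (genLocus_formSec ι (l i)).ge hi⟩)
  let Xf : Fin (d + 1) → CohB1.polyGrading d R 1 := fun i =>
    ⟨MvPolynomial.X i, MvPolynomial.isHomogeneous_X R i⟩
  have hpre : ∀ i, π ⁻¹ᵁ Proj.basicOpen (CohB1.polyGrading d R) (MvPolynomial.X i) =
      ι ⁻¹ᵁ Proj.basicOpen (CohB1.polyGrading n R) (l i : MvPolynomial (Fin (n + 1)) R) := fun i => by
    rw [← genLocus_formSec ι (l i), ← genLocus_formSec π (Xf i)]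
    let h := pullHom π (formHom (Xf i))
    rw [← val_pullHom_top π (Xf i), EGA73.AmpleImmersion.genLocus_ofSection_val]
    have h1 : val _ (h ≫ τ.hom) ⊤ = formSec ι (l i) := by
      refine Eq.trans ?_ (hτ i)
      show τ.hom.app ⊤ (val _ h ⊤) = _
      rw [val_pullHom_top π (Xf i)]
      rfl
    rw [← genLocus_comp_iso h τ.hom, ← EGA73.AmpleImmersion.genLocus_ofSection_val (h ≫ τ.hom), h1]
  refine ⟨π, hπ, isAffineHom_of_forall_exists_isAffineOpen π fun y => ?_, hpre, ⟨τ⟩⟩
  obtain ⟨i, hi⟩ := exists_mem_basicOpen_X y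
  refine ⟨_, hi, Proj.isAffineOpen_basicOpen _ _ (MvPolynomial.isHomogeneous_X R i) one_pos, ?_⟩
  show IsAffineOpen (π ⁻¹ᵁ Proj.basicOpen (CohB1.polyGrading d R) (MvPolynomial.X i))
  rw [hpre i]
  exact (Proj.isAffineOpen_basicOpen _ _ (l i).2 one_pos).preimage ι

end Groth.Agent.EGAProj74.FormProj
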