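import Groth.Prelude.Def_RelSpec

/-!
A quasi-coherent algebra from its values on the affine opens.
-/

set_option autoImplicit false

universe u

open CategoryTheory CategoryTheory.Limits AlgebraicGeometry TopologicalSpace Opposite

noncomputable section

namespace Groth.Agent.EGAProj74

variable (S : Scheme.{u})

/-- The values of a quasi-coherent algebra on the affine opens. -/
structure AffAlgData where
  /-- the rings -/
  F : S.AffineZariskiSiteᵒᵖ ⥤ CommRingCat.{u}
  /-- the structure maps -/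
  α : (Scheme.AffineZariskiSite.toOpensFunctor S).op ⋙ S.presheaf ⟶ F
  coeq : α.Coequifibered

namespace AffAlgData

variable {S} (D : AffAlgData S)

/-- The gluing datum of the spectra. -/
def glueData : (Scheme.AffineZariskiSite.directedCover S).RelativeGluingData :=
  Scheme.AffineZariskiSite.relativeGluingData D.coeq

instance : (D.glueData.functor ⋙ Scheme.forget).IsLocallyDirected :=
  Scheme.Cover.RelativeGluingData.instIsLocallyDirectedI₀CompFunctorForgetOfIsThin ..

/-- The glued relative spectrum. -/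
def spec : Scheme.{u} := D.glueData.glued

/-- Its projection to the base. -/
def π : D.spec ⟶ S := D.glueData.toBase

/-- The chart over an affine open. -/
def ι (U : S.AffineZariskiSite) : Spec (D.F.obj (op U)) ⟶ D.spec :=
  D.glueData.cover.f U

instance (U : S.AffineZariskiSite) : IsOpenImmersion (D.ι U) := D.glueData.cover.map_prop _

theorem ι_π (U : S.AffineZariskiSite) : D.ι U ≫ D.π = Spec.map (D.α.app (op U)) ≫ U.2.fromSpec :=
  colimit.ι_desc _ _

theorem ι_res {U V : S.AffineZariskiSite} (i : V ⟶ U) : Spec.map (D.F.map i.op) ≫ D.ι U = D.ι V :=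
  colimit.w D.glueData.functor i

theorem π_preimage (U : S.AffineZariskiSite) : D.π ⁻¹ᵁ U.1 = (D.ι U).opensRange := by
  simpa using! D.glueData.toBase_preimage_eq_opensRange_ι U

instance : IsAffineHom D.π where
  isAffine_preimage U hU := by
    rw [D.π_preimage ⟨U, hU⟩]
    exact isAffineOpen_opensRange (D.ι ⟨U, hU⟩)

/-- The quasi-coherent algebra with the given values. -/
def alg : RelSpec.QCAlg S := RelSpec.QCAlg.directImage D.π

theorem top_le_preimage (U : S.AffineZariskiSite) :
    (⊤ : (Spec (D.F.obj (op U))).Opens) ≤ D.ι U ⁻¹ᵁ (D.π ⁻¹ᵁ U.1) := by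
  obtain ⟨U, hU⟩ := U
  intro x _
  change (D.ι ⟨U, hU⟩ ≫ D.π) x ∈ U
  rw [D.ι_π]
  exact (hU.fromSpec_preimage_self).ge (Opens.mem_top _)

/-- Its sections over an affine open. -/
def gamma (U : S.AffineZariskiSite) : D.alg.presheaf.obj (op U.1) ⟶ D.F.obj (op U) :=
  (D.ι U).appLE (D.π ⁻¹ᵁ U.1) ⊤ (D.top_le_preimage U) ≫ (Scheme.ΓSpecIso (D.F.obj (op U))).hom

instance isIso_gamma (U : S.AffineZariskiSite) : IsIso (D.gamma U) := by
  have h : IsIso ((D.ι U).app (D.π ⁻¹ᵁ U.1)) :=
    Scheme.Hom.isIso_app (D.ι U) _ (D.π_preimage U).le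
  have h' : IsIso (homOfLE (D.top_le_preimage U)) :=
    ⟨homOfLE le_top, Subsingleton.elim _ _, Subsingleton.elim _ _⟩
  unfold gamma Scheme.Hom.appLE
  exact @IsIso.comp_isIso _ _ _ _ _ _ _ (@IsIso.comp_isIso _ _ _ _ _ _ _ h inferInstance) inferInstance

set_option backward.isDefEq.respectTransparency false in
theorem gamma_res {U V : S.AffineZariskiSite} (i : V ⟶ U) :
    D.alg.presheaf.map (homOfLE (Scheme.AffineZariskiSite.toOpens_mono i.le)).op ≫ D.gamma V =
      D.gamma U ≫ D.F.map i.op := by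
  change D.spec.presheaf.map (homOfLE (D.π.preimage_mono (Scheme.AffineZariskiSite.toOpens_mono i.le))).op ≫
      D.gamma V = D.gamma U ≫ D.F.map i.op
  simp only [gamma, Category.assoc, ← Scheme.ΓSpecIso_naturality]
  simp only [← Category.assoc]
  congr 1
  simp only [Scheme.Hom.appTop, Scheme.Hom.appLE, Category.assoc]
  have h1 := (Scheme.Hom.comp_app (Spec.map (D.F.map i.op)) (D.ι U) (D.π ⁻¹ᵁ U.1)).symm
  rw [Scheme.Hom.naturality_assoc, Scheme.Hom.naturality, reassoc_of% h1,
    Scheme.Hom.congr_app (D.ι_res i), Category.assoc, ← Functor.map_comp, ← Functor.map_comp]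
  rfl

set_option backward.isDefEq.respectTransparency false in
theorem str_gamma (U : S.AffineZariskiSite) : D.alg.str.app (op U.1) ≫ D.gamma U = D.α.app (op U) := by
  change D.π.app U.1 ≫ D.gamma U = _
  have h1 := Scheme.Hom.congr_app (D.ι_π U) U.1
  have h2 := (Scheme.Hom.comp_app (D.ι U) D.π U.1).symm
  have hk : ∀ k : (op ⊤ : (Spec (D.F.obj (op U))).Opensᵒᵖ) ⟶ op ⊤,
      (Spec (D.F.obj (op U))).presheaf.map k = 𝟙 _ := fun k => by
    rw [Subsingleton.elim k (𝟙 _)]; exact CategoryTheory.Functor.map_id _ _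
  simp only [gamma, Scheme.Hom.appLE, Category.assoc]
  rw [reassoc_of% h2, h1, Scheme.Hom.comp_app, U.2.fromSpec_app_self]
  simp only [Category.assoc]
  rw [Scheme.Hom.naturality_assoc]
  simp only [← Functor.map_comp_assoc]
  erw [hk, Category.id_comp]
  rw [← cancel_epi (Scheme.ΓSpecIso Γ(S, U.1)).hom, Iso.hom_inv_id_assoc]
  erw [Scheme.ΓSpecIso_naturality]
  rfl

/-- The values of the algebra, as functors on the affine opens. -/
def gammaIso : (Scheme.AffineZariskiSite.toOpensFunctor S).op ⋙ D.alg.presheaf ≅ D.F :=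
  NatIso.ofComponents (fun U => @asIso _ _ _ _ (D.gamma U.unop) (D.isIso_gamma U.unop)) fun i => D.gamma_res i.unop

theorem str_gammaIso :
    (Scheme.AffineZariskiSite.toOpensFunctor S).op.whiskerLeft D.alg.str ≫ D.gammaIso.hom = D.α := by
  ext U : 2
  exact (D.str_gamma U.unop : _)

end AffAlgData

variable {S}

/-- An algebra homomorphism from compatible maps on the affine opens. -/
theorem existsUnique_algHom {A B : RelSpec.QCAlg S}
    (f : ∀ U : S.AffineZariskiSite, A.presheaf.obj (op U.1) ⟶ B.presheaf.obj (op U.1))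
    (hres : ∀ {U V : S.AffineZariskiSite} (i : V ⟶ U),
      A.presheaf.map (homOfLE (Scheme.AffineZariskiSite.toOpens_mono i.le)).op ≫ f V =
        f U ≫ B.presheaf.map (homOfLE (Scheme.AffineZariskiSite.toOpens_mono i.le)).op)
    (hstr : ∀ U : S.AffineZariskiSite, A.str.app (op U.1) ≫ f U = B.str.app (op U.1)) :
    ∃! ψ : A ⟶ B, ∀ U : S.AffineZariskiSite, ψ.hom.app (op U.1) = f U := by
  let e : ((Scheme.AffineZariskiSite.toOpensFunctor S).op ⋙ A.presheaf ⟶
      (Scheme.AffineZariskiSite.toOpensFunctor S).op ⋙ B.presheaf) ≃ (A.presheaf ⟶ B.presheaf) :=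
    Functor.IsCoverDense.restrictHomEquivHom (G := Scheme.AffineZariskiSite.toOpensFunctor S)
      (K := Opens.grothendieckTopology S) (ℱ := A.presheaf)
      (ℱ' := (⟨B.presheaf, B.isSheaf⟩ : TopCat.Sheaf CommRingCat.{u} S.carrier))
  let e₀ : ((Scheme.AffineZariskiSite.toOpensFunctor S).op ⋙ S.presheaf ⟶
      (Scheme.AffineZariskiSite.toOpensFunctor S).op ⋙ B.presheaf) ≃ (S.presheaf ⟶ B.presheaf) :=
    Functor.IsCoverDense.restrictHomEquivHom (G := Scheme.AffineZariskiSite.toOpensFunctor S)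
      (K := Opens.grothendieckTopology S) (ℱ := S.presheaf)
      (ℱ' := (⟨B.presheaf, B.isSheaf⟩ : TopCat.Sheaf CommRingCat.{u} S.carrier))
  let η : (Scheme.AffineZariskiSite.toOpensFunctor S).op ⋙ A.presheaf ⟶
      (Scheme.AffineZariskiSite.toOpensFunctor S).op ⋙ B.presheaf :=
    { app := fun U => f U.unop
      naturality := fun _ _ i => hres i.unop }
  have hη : (Scheme.AffineZariskiSite.toOpensFunctor S).op.whiskerLeft (e η) = η := e.symm_apply_apply η
  have happ : ∀ U : S.AffineZariskiSite, (e η).app (op U.1) = f U := fun U => NatTrans.congr_app hη (op U)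
  have hcomm : A.str ≫ e η = B.str := by
    apply e₀.symm.injective
    ext U : 2
    exact ((A.str.app (op U.unop.1)) ≫= happ U.unop).trans (hstr U.unop)
  refine ⟨⟨e η, hcomm⟩, happ, fun ψ hψ => RelSpec.QCAlg.hom_ext (e.symm.injective ?_)⟩
  ext U : 2
  exact (hψ U.unop).trans (happ U.unop).symm

theorem algHom_ext_affine {A B : RelSpec.QCAlg S} {φ ψ : A ⟶ B}
    (h : ∀ U : S.AffineZariskiSite, φ.hom.app (op U.1) = ψ.hom.app (op U.1)) : φ = ψ :=
  (existsUnique_algHom (fun U => φ.hom.app (op U.1)) (fun i => φ.hom.naturality _)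
    (fun U => (NatTrans.comp_app A.str φ.hom _).symm.trans (NatTrans.congr_app φ.comm _))).unique
      (fun _ => rfl) (fun U => (h U).symm)

end Groth.Agent.EGAProj74
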