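import Groth.Agent.EGAProj74.RelBasic
import Groth.Agent.Pn71.ToGlobal

/-!
Functions of the base on the charts of a relative homogeneous spectrum.
-/

set_option autoImplicit false
set_option backward.isDefEq.respectTransparency.types false

universe u

open CategoryTheory CategoryTheory.Limits AlgebraicGeometry TopologicalSpace Opposite
open scoped HomogeneousIdeal

noncomputable section

namespace Groth.Agent.EGAProj74

variable {A σ : Type u} [CommRing A] [SetLike σ A] [AddSubgroupClass σ A] {𝒜 : ℕ → σ} [GradedRing 𝒜]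

variable (𝒜) in
theorem toSpecZero_appTop' : (Scheme.ΓSpecIso (.of (𝒜 0))).inv ≫ (Proj.toSpecZero 𝒜).appTop =
    CommRingCat.ofHom (HomogeneousLocalization.fromZeroRingHom 𝒜 _) ≫ Proj.awayToSection 𝒜 1 ≫
      (Proj 𝒜).presheaf.map (eqToHom (Proj.basicOpen_one 𝒜).symm).op := by
  simp only [Proj.toSpecZero, Proj.basicOpenToSpec, Scheme.Opens.toSpecΓ_appTop, Scheme.Hom.comp_appTop, Category.assoc]
  rw [Scheme.ΓSpecIso_naturality_assoc, Scheme.ΓSpecIso_naturality_assoc, Iso.inv_hom_id_assoc,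
    Pn71.topIso_inv_comp_isoOfEq]

theorem toSpecZero_appTop_val (a : 𝒜 0) (y : Proj 𝒜) (hy : y ∈ (⊤ : (Proj 𝒜).Opens)) :
    (((Proj.toSpecZero 𝒜).appTop ((Scheme.ΓSpecIso (.of (𝒜 0))).inv a) :
        (ProjectiveSpectrum.Proj.structureSheaf 𝒜).1.obj (op ⊤)).1 ⟨y, hy⟩).val =
      Localization.mk (a : A) 1 := by
  refine (congrArg (fun q : (ProjectiveSpectrum.Proj.structureSheaf 𝒜).1.obj (op ⊤) => (q.1 ⟨y, hy⟩).val)
    congr($(toSpecZero_appTop' 𝒜).hom a)).trans ?_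
  exact (ProjectiveSpectrum.Proj.awayToSection_apply _ _ _ _).trans (by
    change IsLocalization.map _ _ _ (Localization.mk _ _) = Localization.mk _ _
    rw [Localization.mk_eq_mk', Localization.mk_eq_mk']
    exact (IsLocalization.map_mk' _ _ _).trans rfl)

theorem val_app_congr {X : Scheme.{u}} {e e' : Proj 𝒜 ⟶ X} (h : e = e') (W : X.Opens) (r : Γ(X, W))
    (y : Proj 𝒜) (h₁ : y ∈ e ⁻¹ᵁ W) (h₂ : y ∈ e' ⁻¹ᵁ W) :
    ((e.app W r).1 ⟨y, h₁⟩).val = ((e'.app W r).1 ⟨y, h₂⟩).val := by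
  subst h; rfl

variable {S P : Scheme.{u}} {𝒮 : RelProj.QCGrAlg S} {p : P ⟶ S}
  {chart : ∀ (U : S.Opens) (hU : IsAffineOpen U), (((p ⁻¹ᵁ U : P.Opens) : Scheme.{u}) ≅ Proj (𝒮.deg U hU))}

theorem emb_app_p_val (h : RelProj.IsRelProj 𝒮 p chart) (U : S.Opens) (hU : IsAffineOpen U) (r : Γ(S, U))
    (y : Proj (𝒮.deg U hU)) (hy : y ∈ RelProj.emb p chart U hU ⁻¹ᵁ (p ⁻¹ᵁ U)) :
    (((RelProj.emb p chart U hU).app (p ⁻¹ᵁ U) (p.app U r)).1 ⟨y, hy⟩).val =
      Localization.mk ((𝒮.str.app (op U)).hom r) 1 := by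
  let g := Spec.map (𝒮.strZero U hU) ≫ hU.fromSpec
  have hg : ⊤ ≤ g ⁻¹ᵁ U := by
    rw [Scheme.Hom.comp_preimage, hU.fromSpec_preimage_self]; rfl
  refine (val_app_congr (emb_p h U hU) U r y hy (hg trivial)).trans ?_
  change (((Proj.toSpecZero (𝒮.deg U hU)).app (g ⁻¹ᵁ U) (g.app U r)).1 ⟨y, hg trivial⟩).val = _
  have h1 : g.app U ≫ (Spec (.of (𝒮.deg U hU 0))).presheaf.map (homOfLE hg).op =
      𝒮.strZero U hU ≫ (Scheme.ΓSpecIso _).inv := by
    change g.appLE U ⊤ hg = _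
    rw [Scheme.Hom.comp_appLE, hU.fromSpec_app_self]
    simp only [Category.assoc, Scheme.Hom.map_appLE]
    rw [← Scheme.Hom.appLE_map _ (show (⊤ : (Spec (.of (𝒮.deg U hU 0))).Opens) ≤ Spec.map (𝒮.strZero U hU) ⁻¹ᵁ ⊤ from le_rfl) (𝟙 _)]
    simp only [CategoryTheory.Functor.map_id, Category.comp_id]
    exact (Scheme.ΓSpecIso_inv_naturality (𝒮.strZero U hU)).symm
  have h2 := congr($((Proj.toSpecZero (𝒮.deg U hU)).naturality (homOfLE hg).op).hom (g.app U r))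
  refine Eq.trans (congrArg (fun q : (ProjectiveSpectrum.Proj.structureSheaf (𝒮.deg U hU)).1.obj (op ⊤) =>
    (q.1 ⟨y, trivial⟩).val) h2).symm ?_
  refine (congrArg (fun q => (((Proj.toSpecZero (𝒮.deg U hU)).appTop q :
    (ProjectiveSpectrum.Proj.structureSheaf (𝒮.deg U hU)).1.obj (op ⊤)).1 ⟨y, trivial⟩).val)
    congr($(h1).hom r)).trans ?_
  exact toSpecZero_appTop_val (𝒮.strZero U hU r) y trivial

end Groth.Agent.EGAProj74
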