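import Groth.Prelude.Def_GrMod3

/-!
Homogeneous components of killers in graded modules.
-/

set_option autoImplicit false

universe u

open TopologicalSpace

noncomputable section

namespace Groth.Agent.EGAProj74

variable {A σ : Type u} [CommRing A] [SetLike σ A] [AddSubgroupClass σ A] (𝒜 : ℕ → σ) [GradedRing 𝒜]
variable {M τ : Type u} [AddCommGroup M] [Module A M] [SetLike τ M] [AddSubgroupClass τ M] (ℳ : ℕ → τ)
  [DirectSum.Decomposition ℳ] [SetLike.GradedSMul 𝒜 ℳ]

theorem decompose_smul_add {i : ℕ} {z : M} (hz : z ∈ ℳ i) (a : A) (e : ℕ) :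
    (DirectSum.decompose ℳ (a • z) (e + i) : M) = (DirectSum.decompose 𝒜 a e : A) • z := by
  induction a using DirectSum.Decomposition.inductionOn 𝒜 with
  | zero => simp
  | @homogeneous k a =>
    have hm : (a : A) • z ∈ ℳ (k + i) := SetLike.GradedSMul.smul_mem a.2 hz
    by_cases h : k = e
    · subst h
      rw [DirectSum.decompose_of_mem_same _ a.2, DirectSum.decompose_of_mem_same _ hm]
    · rw [DirectSum.decompose_of_mem_ne _ a.2 h, DirectSum.decompose_of_mem_ne _ hm (by omega), zero_smul]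
  | add a b ha hb => simp [DirectSum.decompose_add, add_smul, ha, hb]

theorem exists_decompose_notMem (x : ProjectiveSpectrum 𝒜) {a : A} (ha : a ∉ x.asHomogeneousIdeal) :
    ∃ e, (DirectSum.decompose 𝒜 a e : A) ∉ x.asHomogeneousIdeal := by
  by_contra! h
  exact ha ((x.asHomogeneousIdeal.isHomogeneous.mem_iff).mpr fun i => h i)

/-- A killer of a homogeneous element outside a point may be chosen homogeneous. -/
theorem exists_homogeneous_smul_eq_zero {i : ℕ} {z : M} (hz : z ∈ ℳ i) (x : ProjectiveSpectrum 𝒜) {a : A}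
    (ha : a ∉ x.asHomogeneousIdeal) (h : a • z = 0) :
    ∃ (e : ℕ) (c : A), c ∈ 𝒜 e ∧ c ∉ x.asHomogeneousIdeal ∧ c • z = 0 := by
  obtain ⟨e, he⟩ := exists_decompose_notMem 𝒜 x ha
  refine ⟨e, _, SetLike.coe_mem _, he, ?_⟩
  rw [← decompose_smul_add 𝒜 ℳ hz a e, h, DirectSum.decompose_zero]
  rfl

/-- A homogeneous element of positive degree outside a point. -/
theorem exists_pos_notMem_point (x : ProjectiveSpectrum 𝒜) :
    ∃ (e : ℕ) (h : A), 0 < e ∧ h ∈ 𝒜 e ∧ h ∉ x.asHomogeneousIdeal := by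
  classical
  by_contra! H
  refine x.not_irrelevant_le fun a ha => ?_
  refine (x.asHomogeneousIdeal.isHomogeneous.mem_iff).mpr fun i => ?_
  rcases Nat.eq_zero_or_pos i with rfl | hi
  · rw [← GradedRing.proj_apply, (HomogeneousIdeal.mem_irrelevant_iff 𝒜 a).mp ha]
    exact zero_mem _
  · exact H i _ hi (SetLike.coe_mem _)

/-- Fractions can be rewritten with numerator of degree as large as we like. -/
theorem exists_large_degree (x : ProjectiveSpectrum 𝒜) {i j : ℕ} {m : M} (hm : m ∈ ℳ i) {a : A}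
    (ha : a ∈ 𝒜 j) (N : ℕ) :
    ∃ (k : ℕ) (h : A), h ∈ 𝒜 k ∧ h ∉ x.asHomogeneousIdeal ∧ N ≤ k + i ∧ h • m ∈ ℳ (k + i) ∧
      h * a ∈ 𝒜 (k + j) := by
  obtain ⟨e, h, he, hh, hx⟩ := exists_pos_notMem_point 𝒜 x
  have hp : h ^ N ∈ 𝒜 (N * e) := by simpa using SetLike.pow_mem_graded N hh
  refine ⟨N * e, h ^ N, hp, fun hc => hx (x.isPrime.mem_of_pow_mem N hc), ?_,
    SetLike.GradedSMul.smul_mem hp hm, SetLike.mul_mem_graded hp ha⟩
  exact (Nat.le_mul_of_pos_right N he).trans (Nat.le_add_right _ _)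

end Groth.Agent.EGAProj74
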