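import Groth.Agent.EGAProj74.QMap

/-!
Properties of `Proj(u)`.
-/

set_option autoImplicit false

universe u

open CategoryTheory CategoryTheory.Limits AlgebraicGeometry TopologicalSpace Opposite
open scoped HomogeneousIdeal

noncomputable section

namespace Groth.Agent.EGAProj74

variable {S S' : Scheme.{u}} {g : S' ⟶ S} {𝒮 : RelProj.QCGrAlg S} {𝒮' : RelProj.QCGrAlg S'}
  (u : RelProj.QGrHom g 𝒮 𝒮')
  {P : Scheme.{u}} {p : P ⟶ S}
  {chart : ∀ (U : S.Opens) (hU : IsAffineOpen U), (((p ⁻¹ᵁ U : P.Opens) : Scheme.{u}) ≅ Proj (𝒮.deg U hU))}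
  {P' : Scheme.{u}} {p' : P' ⟶ S'}
  {chart' : ∀ (U' : S'.Opens) (hU' : IsAffineOpen U'), (((p' ⁻¹ᵁ U' : P'.Opens) : Scheme.{u}) ≅ Proj (𝒮'.deg U' hU'))}
  (hP : RelProj.IsRelProj 𝒮 p chart) (hP' : RelProj.IsRelProj 𝒮' p' chart')

include hP' in
/-- `G(u) = ⊤` as soon as this holds on a family of affine pairs covering the source base. -/
theorem domQ_eq_top
    (h : ∀ s : S', ∃ (U : S.Opens) (hU : IsAffineOpen U) (U' : S'.Opens) (hU' : IsAffineOpen U')
      (hle : U' ≤ g ⁻¹ᵁ U), s ∈ U' ∧ RelCone.domOpen (u.gradedAt U hU U' hU' hle) = ⊤) :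
    RelProj.domQ u p' chart' = ⊤ := by
  refine top_le_iff.mp fun x _ => ?_
  obtain ⟨U, hU, U', hU', hle, hs, htop⟩ := h (p'.base x)
  obtain ⟨y, rfl⟩ : x ∈ (RelProj.emb p' chart' U' hU').opensRange := by rw [opensRange_emb]; exact hs
  exact (emb_mem_domQ_iff u hP' hU hU' hle y).mpr (by rw [htop]; trivial)

/-- The affine pairs with `U` affine cover the source. -/
theorem exists_pair (g : S' ⟶ S) (s : S') :
    ∃ (U : S.Opens) (_ : IsAffineOpen U) (U' : S'.Opens) (_ : IsAffineOpen U'),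
      U' ≤ g ⁻¹ᵁ U ∧ s ∈ U' := by
  obtain ⟨_, ⟨U, hU, rfl⟩, hgU, -⟩ := (Scheme.isBasis_affineOpens S).exists_subset_of_mem_open
    (Set.mem_univ (g.base s)) isOpen_univ
  obtain ⟨_, ⟨U', hU', rfl⟩, hsU', hU'le⟩ := (Scheme.isBasis_affineOpens S').exists_subset_of_mem_open
    (show s ∈ ((g ⁻¹ᵁ U : S'.Opens) : Set S') from hgU) (g ⁻¹ᵁ U).2
  exact ⟨U, hU, U', hU', hU'le, hsU'⟩

theorem isProjQMap_iff {h : P' ⟶ P} :
    RelProj.IsProjQMap u p chart p' chart' h ↔ RelProj.domQ u p' chart' = ⊤ ∧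
      RelProj.IsProjQMapOn u p chart p' chart' (RelProj.domQ u p' chart')
        ((RelProj.domQ u p' chart').ι ≫ h) := by
  refine and_congr_right fun _ => ⟨fun H U hU U' hU' hle d hd f hf hW => ?_,
    fun H U hU U' hU' hle d hd f hf => ?_⟩
  · rw [IsOpenImmersion.lift_fac_assoc]
    exact H U hU U' hU' hle d hd f hf
  · have := H U hU U' hU' hle d hd f hf (RelProj.range_awayEmb_subset_domQ ..)
    rwa [IsOpenImmersion.lift_fac_assoc] at this

include hP hP' in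
theorem existsUnique_projQMap (htop : RelProj.domQ u p' chart' = ⊤) :
    ∃! h : P' ⟶ P, RelProj.IsProjQMap u p chart p' chart' h := by
  obtain ⟨v, hv, huniq⟩ := existsUnique_projQMapOn u hP' hP
  have : IsIso (RelProj.domQ u p' chart').ι := by
    rw [htop]; exact inferInstanceAs (IsIso (Scheme.topIso _).hom)
  refine ⟨inv (RelProj.domQ u p' chart').ι ≫ v, (isProjQMap_iff u).mpr ⟨htop, ?_⟩, fun h hh => ?_⟩
  · rwa [IsIso.hom_inv_id_assoc]
  · rw [IsIso.eq_inv_comp]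
    exact huniq _ ((isProjQMap_iff u).mp hh).2

/-- A property local at the target holds for `Proj(u)` over the identity of the base once it holds
for the maps over the pairs `(U, U)`. -/
theorem projQMapOn_id_of {S : Scheme.{u}} {𝒜 ℬ : RelProj.QCGrAlg S} (φ : RelProj.QGrHom (𝟙 S) 𝒜 ℬ)
    {PA PB : Scheme.{u}} {pA : PA ⟶ S} {pB : PB ⟶ S}
    {chartA : ∀ (U : S.Opens) (hU : IsAffineOpen U), (((pA ⁻¹ᵁ U : PA.Opens) : Scheme.{u}) ≅ Proj (𝒜.deg U hU))}
    {chartB : ∀ (U : S.Opens) (hU : IsAffineOpen U), (((pB ⁻¹ᵁ U : PB.Opens) : Scheme.{u}) ≅ Proj (ℬ.deg U hU))}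
    (hA : RelProj.IsRelProj 𝒜 pA chartA) (hB : RelProj.IsRelProj ℬ pB chartB)
    {v : (RelProj.domQ φ pB chartB : Scheme.{u}) ⟶ PA}
    (hv : RelProj.IsProjQMapOn φ pA chartA pB chartB (RelProj.domQ φ pB chartB) v)
    {Q : MorphismProperty Scheme.{u}} [IsZariskiLocalAtTarget Q]
    (hQ : ∀ (U : S.Opens) (hU : IsAffineOpen U), Q (domMap (φ.gradedAt U hU U hU le_rfl))) : Q v := by
  refine IsZariskiLocalAtTarget.of_iSup_eq_top (fun U : S.affineOpens => pA ⁻¹ᵁ U.1) (by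
    rw [← Scheme.Hom.preimage_iSup, iSup_affineOpens_eq_top, Scheme.Hom.preimage_top]) fun U => ?_
  refine (Q.arrow_mk_iso_iff (morphismRestrictEq v (opensRange_emb (chart := chartA) U.1 U.2)).symm).mpr ?_
  refine (Q.arrow_mk_iso_iff (morphismRestrictOpensRange v (RelProj.emb pA chartA U.1 U.2))).mpr ?_
  rw [← (isPullback_qι φ hB U.1 U.2 U.1 U.2 le_rfl hv (projQMapOn_over φ hB hA hv) rfl).flip.isoPullback_inv_snd]
  exact (Q.cancel_left_of_respectsIso _ _).mpr (hQ U.1 U.2)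

theorem gradedAt_ofHom {S : Scheme.{u}} {𝒜 ℬ : RelProj.QCGrAlg S} (φ : 𝒜.toQCAlg ⟶ ℬ.toQCAlg)
    (hφ : RelProj.IsGradedHom φ) (U : S.Opens) (hU : IsAffineOpen U) :
    (RelProj.QGrHom.ofHom φ hφ).gradedAt U hU U hU le_rfl = RelProj.gradedHomAt φ hφ U hU := by
  ext x
  change ((RelSpec.QHom.ofHom φ).appLE U U le_rfl).hom x = _
  rw [RelSpec.QHom.ofHom_appLE]
  exact congr($(ℬ.presheaf.map_id (op U)).hom ((φ.hom.app (op U)).hom x))

end Groth.Agent.EGAProj74
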