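import Groth.Agent.EGAProj74.GrT.TildeQCoh

/-!
Fractions `b / f ^ l` in the functions and `m / f ^ k` in the sections of `M(n)~` on `D₊(f)`.
-/

set_option autoImplicit false
set_option backward.isDefEq.respectTransparency.types false

universe u

open CategoryTheory AlgebraicGeometry TopologicalSpace Opposite GrMod

noncomputable section

namespace Groth.Agent.EGAProj74.FracSections

open GrT

variable {A σ : Type u} [CommRing A] [SetLike σ A] [AddSubgroupClass σ A] {𝒜 : ℕ → σ} [GradedRing 𝒜]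
variable {M τ : Type u} [AddCommGroup M] [Module A M] [SetLike τ M] [AddSubgroupClass τ M] {ℳ : ℕ → τ}
  [SetLike.GradedSMul 𝒜 ℳ]
variable {d : ℕ} {f : A} (hf : f ∈ 𝒜 d)

include hf in
theorem pow_mem (k : ℕ) : f ^ k ∈ 𝒜 (k * d) := by simpa using SetLike.pow_mem_graded k hf

/-- The function `b / f ^ l` on `D₊(f)`. -/
def scal (hd : 0 < d) {b : A} (l : ℕ) (hb : b ∈ 𝒜 (l * d)) : Γ(Proj 𝒜, Proj.basicOpen 𝒜 f) :=
  (Proj.basicOpenIsoAway 𝒜 f hf hd).hom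
    (HomogeneousLocalization.Away.mk 𝒜 hf l b (by simpa using hb))

theorem scal_val (hd : 0 < d) {b : A} (l : ℕ) (hb : b ∈ 𝒜 (l * d)) (x : ProjectiveSpectrum.basicOpen 𝒜 f) :
    (((scal hf hd l hb).1 x : GrTwist.A0 𝒜 x.1)).val =
      Localization.mk b ⟨f ^ l, pow_notMem x.2 l⟩ := rfl

theorem ext_val {r r' : Γ(Proj 𝒜, Proj.basicOpen 𝒜 f)}
    (h : ∀ x : ProjectiveSpectrum.basicOpen 𝒜 f, ((r.1 x : GrTwist.A0 𝒜 x.1)).val = ((r'.1 x : GrTwist.A0 𝒜 x.1)).val) :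
    r = r' :=
  Subtype.ext (funext fun x => HomogeneousLocalization.val_injective _ (h x))

theorem exists_scal (hd : 0 < d) (r : Γ(Proj 𝒜, Proj.basicOpen 𝒜 f)) :
    ∃ (l : ℕ) (b : A) (hb : b ∈ 𝒜 (l * d)), r = scal hf hd l hb := by
  obtain ⟨l, a, ha, hfl, h⟩ := exists_away_value hd hf r
  refine ⟨l, a, ha, ext_val fun x => ?_⟩
  rw [scal_val, h x, a0Frac, HomogeneousLocalization.val_mk]

theorem scal_eq_of_mul (hd : 0 < d) {b b' : A} {l l' : ℕ} (hb : b ∈ 𝒜 (l * d)) (hb' : b' ∈ 𝒜 (l' * d))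
    (h : f ^ l' * b = f ^ l * b') : scal hf hd l hb = scal hf hd l' hb' := by
  refine ext_val fun x => ?_
  rw [scal_val, scal_val, Localization.mk_eq_mk_iff, Localization.r_iff_exists]
  exact ⟨1, by simp only [OneMemClass.coe_one, one_mul]; exact h⟩

theorem scal_mul (hd : 0 < d) {b b' : A} {l l' : ℕ} (hb : b ∈ 𝒜 (l * d)) (hb' : b' ∈ 𝒜 (l' * d)) :
    scal hf hd l hb * scal hf hd l' hb' =
      scal hf hd (l + l') (by rw [add_mul]; exact SetLike.mul_mem_graded hb hb') := by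
  refine ext_val fun x => ?_
  show (((scal hf hd l hb).1 x : GrTwist.A0 𝒜 x.1) * ((scal hf hd l' hb').1 x : GrTwist.A0 𝒜 x.1)).val = _
  rw [HomogeneousLocalization.val_mul, scal_val, scal_val, scal_val, Localization.mk_mul]
  congr 1
  exact Subtype.ext (pow_add f l l').symm

theorem scal_add (hd : 0 < d) {b b' : A} {l : ℕ} (hb : b ∈ 𝒜 (l * d)) (hb' : b' ∈ 𝒜 (l * d)) :
    scal hf hd l (add_mem hb hb') = scal hf hd l hb + scal hf hd l hb' := by
  refine ext_val fun x => ?_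
  show _ = (((scal hf hd l hb).1 x : GrTwist.A0 𝒜 x.1) + ((scal hf hd l hb').1 x : GrTwist.A0 𝒜 x.1)).val
  rw [HomogeneousLocalization.val_add, scal_val, scal_val, scal_val, Localization.add_mk_self]

theorem scal_self (hd : 0 < d) (l : ℕ) : scal hf hd l (pow_mem hf l) = 1 := by
  refine ext_val fun x => ?_
  show _ = (1 : GrTwist.A0 𝒜 x.1).val
  rw [scal_val, HomogeneousLocalization.val_one]
  exact Localization.mk_self ⟨f ^ l, pow_notMem x.2 l⟩

variable {n : ℤ}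

/-- The section `m / f ^ k` on `D₊(f)`. -/
def fracF {q : ℕ} {m : M} (hm : m ∈ ℳ q) (k : ℕ) (hq : (q : ℤ) = k * d + n) :
    Γ(GrMod.tilde 𝒜 ℳ n, Proj.basicOpen 𝒜 f) :=
  fracSect (U := ProjectiveSpectrum.basicOpen 𝒜 f) hm (pow_mem hf k) (fun x => pow_notMem x.2 k)
    (by rw [hq]; push_cast; rfl)

theorem fracF_val {q : ℕ} {m : M} (hm : m ∈ ℳ q) (k : ℕ) (hq : (q : ℤ) = k * d + n)
    (x : ProjectiveSpectrum.basicOpen 𝒜 f) :
    GrMod.val (V := Proj.basicOpen 𝒜 f) (fracF hf hm k hq) x = frac x.1 m (f ^ k) (pow_notMem x.2 k) := rfl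

theorem fracF_ext {s t : Γ(GrMod.tilde 𝒜 ℳ n, Proj.basicOpen 𝒜 f)}
    (h : ∀ x : ProjectiveSpectrum.basicOpen 𝒜 f,
      GrMod.val (V := Proj.basicOpen 𝒜 f) s x = GrMod.val (V := Proj.basicOpen 𝒜 f) t x) : s = t :=
  sect_ext (s := (s : sect 𝒜 ℳ n (op (ProjectiveSpectrum.basicOpen 𝒜 f)))) h

theorem fracF_eq_of_smul {q q' : ℕ} {m m' : M} (hm : m ∈ ℳ q) (hm' : m' ∈ ℳ q') {k k' : ℕ}
    (hq : (q : ℤ) = k * d + n) (hq' : (q' : ℤ) = k' * d + n) (h : f ^ k' • m = f ^ k • m') :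
    fracF hf hm k hq = fracF hf hm' k' hq' :=
  fracF_ext fun x => by rw [fracF_val, fracF_val]; exact frac_congr h

theorem fracF_add {q : ℕ} {m m' : M} (hm : m ∈ ℳ q) (hm' : m' ∈ ℳ q) (k : ℕ) (hq : (q : ℤ) = k * d + n) :
    fracF hf (add_mem hm hm') k hq = fracF hf hm k hq + fracF hf hm' k hq := by
  refine fracF_ext fun x => ?_
  show frac x.1 (m + m') (f ^ k) _ = frac x.1 m (f ^ k) _ + frac x.1 m' (f ^ k) _
  rw [frac, frac, frac, LocalizedModule.mk_add_mk]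
  refine frac_congr (hx := pow_notMem x.2 k) (hx' := mul_notMem (pow_notMem x.2 k) (pow_notMem x.2 k)) ?_
  simp only [Submonoid.smul_def, smul_add, smul_smul]

theorem fracF_zero {q : ℕ} (k : ℕ) (hq : (q : ℤ) = k * d + n) :
    fracF (ℳ := ℳ) hf (zero_mem (ℳ q)) k hq = 0 :=
  fracF_ext fun x => LocalizedModule.zero_mk _

theorem scal_smul_fracF (hd : 0 < d) {b : A} {l : ℕ} (hb : b ∈ 𝒜 (l * d)) {q : ℕ} {m : M} (hm : m ∈ ℳ q) {k : ℕ}
    (hq : (q : ℤ) = k * d + n) :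
    scal hf hd l hb • fracF hf hm k hq =
      fracF hf (gsmul_mem 𝒜 ℳ hb hm) (l + k) (by push_cast; rw [hq]; ring) := by
  refine fracF_ext fun x => ?_
  show (((scal hf hd l hb).1 x : GrTwist.A0 𝒜 x.1)) • frac x.1 m (f ^ k) _ = frac x.1 (b • m) (f ^ (l + k)) _
  rw [a0_smul_def, scal_val]
  refine (LocalizedModule.mk_smul_mk _ _ _ _).trans ?_
  congr 1
  exact Subtype.ext (pow_add f l k).symm

variable [DirectSum.Decomposition ℳ]

theorem exists_fracF (hd : 0 < d) (s : Γ(GrMod.tilde 𝒜 ℳ n, Proj.basicOpen 𝒜 f)) :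
    ∃ (k q : ℕ) (m : M) (hm : m ∈ ℳ q) (hq : (q : ℤ) = k * d + n), s = fracF hf hm k hq := by
  obtain ⟨k, q, m, hm, hq, h⟩ := exists_frac_eq hd hf (s : sect 𝒜 ℳ n (op (ProjectiveSpectrum.basicOpen 𝒜 f)))
  exact ⟨k, q, m, hm, hq, fracF_ext h⟩

theorem exists_pow_smul_eq_zero (hd : 0 < d) {q : ℕ} {m : M} {hm : m ∈ ℳ q} {k : ℕ} {hq : (q : ℤ) = k * d + n}
    (h : fracF hf hm k hq = 0) : ∃ N : ℕ, f ^ N • m = 0 :=
  exists_pow_smul_eq_zero_of_frac hd hf hm (h := f ^ k) (fun x => pow_notMem x.2 k)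
    fun x => congrArg (fun s => GrMod.val (V := Proj.basicOpen 𝒜 f) s x) h

end Groth.Agent.EGAProj74.FracSections
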