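import Groth.Agent.EGAProj74.QMapPre

/-!
Domains of definition and dominance for composites and colimits of graded morphisms.
-/

set_option autoImplicit false

universe u

open CategoryTheory CategoryTheory.Limits AlgebraicGeometry TopologicalSpace Opposite
open scoped HomogeneousIdeal

noncomputable section

namespace Groth.Agent.EGAProj74

variable {Y X : Scheme.{u}} {q : X ⟶ Y} {𝒮 𝒯 : RelProj.QCGrAlg Y} {𝒮L : RelProj.QCGrAlg X}
  (u : RelProj.QGrHom q 𝒮 𝒮L) (v : 𝒯.toQCAlg ⟶ 𝒮.toQCAlg) (hv : RelProj.IsGradedHom v)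
  (u' : RelProj.QGrHom q 𝒯 𝒮L) (hu' : ∀ U : Y.Opens, u'.app U = v.hom.app (op U) ≫ u.app U)
  {PL : Scheme.{u}} {pL : PL ⟶ X}
  {chartL : ∀ (U : X.Opens) (hU : IsAffineOpen U), (((pL ⁻¹ᵁ U : PL.Opens) : Scheme.{u}) ≅ Proj (𝒮L.deg U hU))}

include hu' in
theorem appLE_comp (U : Y.Opens) (U' : X.Opens) (hle : U' ≤ q ⁻¹ᵁ U) (x : 𝒯.presheaf.obj (op U)) :
    (u'.appLE U U' hle).hom x = (u.appLE U U' hle).hom ((v.hom.app (op U)).hom x) := by
  rw [RelSpec.QHom.appLE, RelSpec.QHom.appLE, hu']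
  rfl

include hu' hv in
theorem domQ_le_of_comp : RelProj.domQ u' pL chartL ≤ RelProj.domQ u pL chartL := by
  refine iSup_le fun V => ?_
  refine le_trans ?_ (le_iSup _ V)
  refine Scheme.Hom.image_mono _ ?_
  have e : u'.gradedAt V.1.1.1 V.1.1.2 V.1.2.1 V.1.2.2 V.2 =
      (u.gradedAt V.1.1.1 V.1.1.2 V.1.2.1 V.1.2.2 V.2).comp (RelProj.gradedHomAt v hv V.1.1.1 V.1.1.2) := by
    ext x
    exact appLE_comp u v u' hu' _ _ _ x
  rw [e]
  exact domOpen_comp_le _ _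

variable {u u'}
  {P : Scheme.{u}} {p : P ⟶ Y}
  {chart : ∀ (U : Y.Opens) (hU : IsAffineOpen U), (((p ⁻¹ᵁ U : P.Opens) : Scheme.{u}) ≅ Proj (𝒮.deg U hU))}
  {r : (RelProj.domQ u pL chartL : Scheme.{u}) ⟶ P}
  (hr : RelProj.IsProjQMapOn u p chart pL chartL (RelProj.domQ u pL chartL) r)
  (hP : RelProj.IsRelProj 𝒮 p chart) (hPL : RelProj.IsRelProj 𝒮L pL chartL)
  {P' : Scheme.{u}} {p' : P' ⟶ Y}
  {chart' : ∀ (U : Y.Opens) (hU : IsAffineOpen U), (((p' ⁻¹ᵁ U : P'.Opens) : Scheme.{u}) ≅ Proj (𝒯.deg U hU))}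
  {r' : (RelProj.domQ u' pL chartL : Scheme.{u}) ⟶ P'}
  (hr' : RelProj.IsProjQMapOn u' p' chart' pL chartL (RelProj.domQ u' pL chartL) r')
  (hP' : RelProj.IsRelProj 𝒯 p' chart')

include hu' hv hr hP hPL hr' hP' in
theorem isDominant_of_comp_of_tnSurjective
    (hTN : ∃ n : ℕ, ∀ k, n ≤ k → ∀ (U : Y.Opens) (hU : IsAffineOpen U), ∀ y ∈ 𝒮.deg U hU k,
      ∃ x ∈ 𝒯.deg U hU k, (v.hom.app (op U)).hom x = y) (hdom : IsDominant r') : IsDominant r := by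
  obtain ⟨n, hn⟩ := hTN
  refine (isDominant_qmap_iff hr hPL hP).mpr fun U hU d hd f hf hnil => ?_
  have hfm : f ^ (n + 1) ∈ 𝒮.deg U hU ((n + 1) * d) := SetLike.pow_mem_graded (n + 1) hf
  obtain ⟨g, hg, hgf⟩ := hn ((n + 1) * d) (by nlinarith) U hU _ hfm
  obtain ⟨U', hU', hle, h⟩ := (isDominant_qmap_iff hr' hPL hP').mp hdom U hU _ (by positivity) g hg
    fun h => hnil ((hgf ▸ h.map (v.hom.app (op U)).hom).of_pow)
  refine ⟨U', hU', hle, fun h' => h ?_⟩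
  rw [appLE_comp u v u' hu', hgf, map_pow]
  exact h'.pow_succ n

include hu' hv hr hP hPL hr' hP' in
theorem isDominant_comp_of_tnInjective
    (hTN : ∃ n : ℕ, ∀ k, n ≤ k → ∀ (U : Y.Opens) (hU : IsAffineOpen U), ∀ x ∈ 𝒯.deg U hU k,
      (v.hom.app (op U)).hom x = 0 → x = 0) (hdom : IsDominant r) : IsDominant r' := by
  obtain ⟨n, hn⟩ := hTN
  refine (isDominant_qmap_iff hr' hPL hP').mpr fun U hU d hd g hg hnil => ?_
  obtain ⟨U', hU', hle, h⟩ := (isDominant_qmap_iff hr hPL hP).mp hdom U hU d hd _ (hv U hU d g hg) fun h => by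
    obtain ⟨k, hk⟩ := h
    refine hnil ⟨k + n, hn ((k + n) * d) (by nlinarith) U hU _ (SetLike.pow_mem_graded _ hg) ?_⟩
    rw [map_pow, pow_add, hk, zero_mul]
  exact ⟨U', hU', hle, by rwa [appLE_comp u v u' hu']⟩

section colim

variable {Λ : Type u} [Preorder Λ] [IsDirected Λ (· ≤ ·)] [Nonempty Λ]
  {𝒮i : Λ → RelProj.QCGrAlg Y} {φ : ∀ i, (𝒮i i).toQCAlg ⟶ 𝒮.toQCAlg} (hφ : ∀ i, RelProj.IsGradedHom (φ i))
  (hsurj : ∀ (U : Y.Opens), IsAffineOpen U → ∀ x : 𝒮.presheaf.obj (op U),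
    ∃ (i : Λ) (y : (𝒮i i).presheaf.obj (op U)), ((φ i).hom.app (op U)).hom y = x)
  {ui : ∀ i, RelProj.QGrHom q (𝒮i i) 𝒮L} (hui : ∀ i (U : Y.Opens), (ui i).app U = (φ i).hom.app (op U) ≫ u.app U)

include hφ hsurj in
theorem exists_preimage_deg {U : Y.Opens} (hU : IsAffineOpen U) {d : ℕ} {f : 𝒮.presheaf.obj (op U)}
    (hf : f ∈ 𝒮.deg U hU d) : ∃ (i : Λ), ∃ g ∈ (𝒮i i).deg U hU d, ((φ i).hom.app (op U)).hom g = f := by
  classical
  obtain ⟨i, y, hy⟩ := hsurj U hU f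
  refine ⟨i, DirectSum.decompose ((𝒮i i).deg U hU) y d, SetLike.coe_mem _, ?_⟩
  have h : (RelProj.gradedHomAt (φ i) (hφ i) U hU) (DirectSum.decompose ((𝒮i i).deg U hU) y d) =
      DirectSum.decompose (𝒮.deg U hU) ((RelProj.gradedHomAt (φ i) (hφ i) U hU) y) d :=
    GradedRingHom.map_directSumDecompose _ _ _
  have hy' : (RelProj.gradedHomAt (φ i) (hφ i) U hU) y = f := hy
  rw [hy', DirectSum.decompose_of_mem_same _ hf] at h
  exact h

include hφ hsurj hui in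
theorem exists_mem_domQ_of_mem {z : PL} (hz : z ∈ RelProj.domQ u pL chartL) :
    ∃ i, z ∈ RelProj.domQ (ui i) pL chartL := by
  obtain ⟨V, y, hy, rfl⟩ := exists_domQ_pair u hz
  obtain ⟨d, f, hd, hf, hfy⟩ := exists_of_mem_domOpen _ hy
  obtain ⟨i, g, hg, hgf⟩ := exists_preimage_deg hφ hsurj V.hU hf
  refine ⟨i, emb_mem_domQ_of_mem_basicOpen (ui i) V.hU V.hU' V.hle hd hg ?_⟩
  rw [appLE_comp u (φ i) (ui i) (hui i), hgf]
  exact hfy

include hφ hui hsurj in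
theorem domQ_eq_top_iff_colimit [CompactSpace PL]
    {t : ∀ i j, i ≤ j → ((𝒮i i).toQCAlg ⟶ (𝒮i j).toQCAlg)} (ht : ∀ i j (h : i ≤ j), RelProj.IsGradedHom (t i j h))
    (hφt : ∀ i j (h : i ≤ j), t i j h ≫ φ j = φ i) :
    (RelProj.domQ u pL chartL = ⊤ ↔ ∃ i, RelProj.domQ (ui i) pL chartL = ⊤) ∧
      ∀ i, RelProj.domQ (ui i) pL chartL = ⊤ → ∀ j, i ≤ j → RelProj.domQ (ui j) pL chartL = ⊤ := by
  have hmono : ∀ i j (h : i ≤ j), RelProj.domQ (ui i) pL chartL ≤ RelProj.domQ (ui j) pL chartL := fun i j h =>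
    domQ_le_of_comp (ui j) (t i j h) (ht i j h) (ui i) fun U => by
      rw [hui, hui, ← hφt i j h]
      exact Category.assoc _ _ _
  refine ⟨⟨fun htop => ?_, fun ⟨i, hi⟩ => top_le_iff.mp (hi.ge.trans (domQ_le_of_comp u (φ i) (hφ i) (ui i) (hui i)))⟩,
    fun i hi j h => top_le_iff.mp (hi.ge.trans (hmono i j h))⟩
  obtain ⟨i, hi⟩ := isCompact_univ.elim_directed_cover (fun i => (RelProj.domQ (ui i) pL chartL : Set PL))
    (fun i => (RelProj.domQ (ui i) pL chartL).2) (fun z _ => by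
      obtain ⟨i, hi⟩ := exists_mem_domQ_of_mem (u := u) hφ hsurj hui (z := z) (htop ▸ Opens.mem_top z)
      exact Set.mem_iUnion.mpr ⟨i, hi⟩)
    (fun i j => by
      obtain ⟨k, hik, hjk⟩ := directed_of (· ≤ ·) i j
      exact ⟨k, hmono i k hik, hmono j k hjk⟩)
  exact ⟨i, top_le_iff.mp fun z _ => hi (Set.mem_univ z)⟩

variable {Pi : Λ → Scheme.{u}} {pi : ∀ i, Pi i ⟶ Y}
  {charti : ∀ i (U : Y.Opens) (hU : IsAffineOpen U), ((((pi i) ⁻¹ᵁ U : (Pi i).Opens) : Scheme.{u}) ≅ Proj ((𝒮i i).deg U hU))}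
  (hPi : ∀ i, RelProj.IsRelProj (𝒮i i) (pi i) (charti i))
  {ri : ∀ i, (RelProj.domQ (ui i) pL chartL : Scheme.{u}) ⟶ Pi i}
  (hri : ∀ i, RelProj.IsProjQMapOn (ui i) (pi i) (charti i) pL chartL (RelProj.domQ (ui i) pL chartL) (ri i))

include hφ hui hsurj hr hP hPL hPi hri in
theorem isDominant_colimit :
    ((∀ i, IsDominant (ri i)) → IsDominant r) ∧
      ((∀ i (U : Y.Opens), IsAffineOpen U → Function.Injective ((φ i).hom.app (op U)).hom) →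
        IsDominant r → ∀ i, IsDominant (ri i)) := by
  refine ⟨fun h => (isDominant_qmap_iff hr hPL hP).mpr fun U hU d hd f hf hnil => ?_,
    fun hinj h i => (isDominant_qmap_iff (hri i) hPL (hPi i)).mpr fun U hU d hd g hg hnil => ?_⟩
  · obtain ⟨i, g, hg, hgf⟩ := exists_preimage_deg hφ hsurj hU hf
    obtain ⟨U', hU', hle, hn⟩ := (isDominant_qmap_iff (hri i) hPL (hPi i)).mp (h i) U hU d hd g hg
      fun hn => hnil (hgf ▸ hn.map ((φ i).hom.app (op U)).hom)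
    exact ⟨U', hU', hle, by rwa [appLE_comp u (φ i) (ui i) (hui i), hgf] at hn⟩
  · obtain ⟨U', hU', hle, hn⟩ := (isDominant_qmap_iff hr hPL hP).mp h U hU d hd _ (hφ i U hU d g hg) fun hn => by
      obtain ⟨k, hk⟩ := hn
      exact hnil ⟨k, hinj i U hU (by rw [map_pow, hk, map_zero])⟩
    exact ⟨U', hU', hle, by rwa [appLE_comp u (φ i) (ui i) (hui i)]⟩

end colim

end Groth.Agent.EGAProj74
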