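import Groth.Agent.EGAProj74.LineProj
import Groth.Agent.EGAProj74.QMapComp

/-!
`r_{L,ψ}` over an affine base.
-/

set_option autoImplicit false

universe u

open CategoryTheory CategoryTheory.Limits AlgebraicGeometry TopologicalSpace Opposite
open scoped HomogeneousIdeal

noncomputable section

namespace Groth.Agent.EGAProj74

variable {X PL : Scheme.{u}} {L : X.Modules} (hL : PicF.IsInvertible L) (hLq : L.IsQuasicoherent)
  {𝒮L : RelProj.QCGrAlg X} {j : L ⟶ 𝒮L.toModule} (hj : RelProj.IsGrSymAlg L 𝒮L j)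
  {pL : PL ⟶ X}
  {chartL : ∀ (U : X.Opens) (hU : IsAffineOpen U), (((pL ⁻¹ᵁ U : PL.Opens) : Scheme.{u}) ≅ Proj (𝒮L.deg U hU))}
  (hPL : RelProj.IsRelProj 𝒮L pL chartL)

include hL hLq hj hPL

theorem isIso_pL : IsIso pL :=
  isIso_of_forall_isLineGen hPL fun x => by
    obtain ⟨U, hU, hx, -, e, he⟩ := exists_isLineGen hL hLq hj x ⊤ trivial
    exact ⟨U, hU, e, hx, he⟩

variable {Y : Scheme.{u}} {q : X ⟶ Y} {𝒮 : RelProj.QCGrAlg Y} (u : RelProj.QGrHom q 𝒮 𝒮L)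
  {hY : IsAffineOpen (⊤ : Y.Opens)} {d : ℕ} (hd : 0 < d) {f : 𝒮.presheaf.obj (op ⊤)} (hf : f ∈ 𝒮.deg ⊤ hY d)

omit hL hLq hj hPL in
theorem le_preimage_top (V : X.Opens) : V ≤ q ⁻¹ᵁ (⊤ : Y.Opens) := le_top.trans (Scheme.Hom.preimage_top q).ge

omit hL hLq hj hPL in
theorem appLE_res (V W : X.Opens) (i : W ≤ V) :
    (𝒮L.presheaf.map (homOfLE i).op).hom ((u.appLE ⊤ V (le_preimage_top V)).hom f) =
      (u.appLE ⊤ W (le_preimage_top W)).hom f :=
  congr($(u.toQHom.appLE_map (le_preimage_top V) i).hom f)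

omit hL hLq hj in
include hPL in
theorem mem_basicOpen_iff_of_emb_eq {V V' : X.Opens} (hV : IsAffineOpen V) (hV' : IsAffineOpen V')
    {y : Proj (𝒮L.deg V hV)} {y' : Proj (𝒮L.deg V' hV')}
    (e : (RelProj.emb pL chartL V hV).base y = (RelProj.emb pL chartL V' hV').base y') :
    y ∈ Proj.basicOpen (𝒮L.deg V hV) ((u.appLE ⊤ V (le_preimage_top V)).hom f) ↔
      y' ∈ Proj.basicOpen (𝒮L.deg V' hV') ((u.appLE ⊤ V' (le_preimage_top V')).hom f) := by
  obtain ⟨_, ⟨W, hW, rfl⟩, hxW, hWle⟩ := (Scheme.isBasis_affineOpens X).exists_subset_of_mem_open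
    (show pL.base ((RelProj.emb pL chartL V hV).base y) ∈ ((V ⊓ V' : X.Opens) : Set X) from
      ⟨emb_mem V hV y, e ▸ emb_mem V' hV' y'⟩) (V ⊓ V').2
  obtain ⟨w, hw⟩ := exists_lift_res (chart := chartL) hV hW (y := y) hxW
  have iV : W ≤ V := fun x hx => (hWle hx).1
  have iV' : W ≤ V' := fun x hx => (hWle hx).2
  rw [mem_basicOpen_res_iff hPL hV hW iV hw, mem_basicOpen_res_iff hPL hV' hW iV' (e.symm.trans hw),
    appLE_res u V W iV, appLE_res u V' W iV']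

/-- The open where the section does not vanish. -/
abbrev nonVanish (d : ℕ) (f : 𝒮.presheaf.obj (op ⊤)) : X.Opens :=
  ⨆ V : {V : X.affineOpens //
    ((𝒮L.deg V.1 V.2 d : AddSubgroup (𝒮L.presheaf.obj (op (V.1 : X.Opens)))) : Set (𝒮L.presheaf.obj (op (V.1 : X.Opens)))) ⊆
      (Ideal.span {(u.appLE ⊤ (V.1 : X.Opens) (le_top.trans (Scheme.Hom.preimage_top q).ge)).hom f} : Set (𝒮L.presheaf.obj (op (V.1 : X.Opens))))},
    (V.1.1 : X.Opens)

include hd hf in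
theorem mem_nonVanish_iff {V : X.Opens} (hV : IsAffineOpen V) (y : Proj (𝒮L.deg V hV)) :
    pL.base ((RelProj.emb pL chartL V hV).base y) ∈ nonVanish u d f ↔
      y ∈ Proj.basicOpen (𝒮L.deg V hV) ((u.appLE ⊤ V (le_preimage_top V)).hom f) := by
  have := isIso_pL hL hLq hj hPL
  constructor
  · intro h
    obtain ⟨⟨⟨V', hV'⟩, hspan⟩, hx⟩ := Opens.mem_iSup.mp h
    obtain ⟨y', hy'⟩ := exists_lift_res (chart := chartL) hV hV' (y := y) hx
    rw [mem_basicOpen_iff_of_emb_eq hPL u hV hV' hy']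
    exact mem_basicOpen_of_subset_span hPL (isGenDegOne_grSym hLq hj) hV' hd hspan y'
  · intro h
    obtain ⟨W, hW, i, hxW, hspan⟩ := exists_subset_span_of_mem_basicOpen hPL
      (fun x V hx => exists_isLineGen hL hLq hj x V hx) (t := (u.appLE ⊤ V (le_preimage_top V)).hom f) hV hd
      ((u.gradedAt ⊤ hY V hV (le_preimage_top V)).map_mem hf) y h
    rw [appLE_res u V W i] at hspan
    exact Opens.mem_iSup.mpr ⟨⟨⟨W, hW⟩, hspan⟩, hxW⟩

theorem domQ_eq_top_iff_nonVanish :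
    RelProj.domQ u pL chartL = ⊤ ↔
      ∀ x : X, ∃ (n : ℕ) (_ : 0 < n) (s : 𝒮.presheaf.obj (op ⊤)) (_ : s ∈ 𝒮.deg ⊤ hY n)
        (V : X.Opens) (hV : IsAffineOpen V), x ∈ V ∧
          ((𝒮L.deg V hV n : AddSubgroup (𝒮L.presheaf.obj (op V))) : Set (𝒮L.presheaf.obj (op V))) ⊆
            (Ideal.span {(u.appLE ⊤ V (le_top.trans (Scheme.Hom.preimage_top q).ge)).hom s} : Set (𝒮L.presheaf.obj (op V))) := by
  have := isIso_pL hL hLq hj hPL
  constructor
  · intro h x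
    obtain ⟨z, rfl⟩ := pL.surjective x
    obtain ⟨_, ⟨V, hV, rfl⟩, hxV, -⟩ := (Scheme.isBasis_affineOpens X).exists_subset_of_mem_open
      (Set.mem_univ (pL.base z)) isOpen_univ
    obtain ⟨y, rfl⟩ := exists_lift (chart := chartL) z hV hxV
    have hy := (emb_mem_domQ_iff u hPL hY hV (le_preimage_top V) y).mp (h ▸ Opens.mem_top _)
    obtain ⟨n, s, hn, hs, hys⟩ := exists_of_mem_domOpen _ hy
    have := (mem_nonVanish_iff hL hLq hj hPL u hn hs hV y).mpr hys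
    obtain ⟨⟨⟨W, hW⟩, hspan⟩, hxW⟩ := Opens.mem_iSup.mp this
    exact ⟨n, hn, s, hs, W, hW, hxW, hspan⟩
  · intro h
    refine top_le_iff.mp fun z _ => ?_
    obtain ⟨n, hn, s, hs, V, hV, hxV, hspan⟩ := h (pL.base z)
    obtain ⟨y, rfl⟩ := exists_lift (chart := chartL) z hV hxV
    exact emb_mem_domQ_of_mem_basicOpen u hY hV (le_preimage_top V) hn hs
      (mem_basicOpen_of_subset_span hPL (isGenDegOne_grSym hLq hj) hV hn hspan y)

variable {P : Scheme.{u}} {p : P ⟶ Y}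
  {chart : ∀ (U : Y.Opens) (hU : IsAffineOpen U), (((p ⁻¹ᵁ U : P.Opens) : Scheme.{u}) ≅ Proj (𝒮.deg U hU))}
  {u}
  {r : (RelProj.domQ u pL chartL : Scheme.{u}) ⟶ P}
  (hr : RelProj.IsProjQMapOn u p chart pL chartL (RelProj.domQ u pL chartL) r)

include hd hf hr in
theorem image_preimage_basicOpen_eq :
    (RelProj.domQ u pL chartL).ι ''ᵁ (r ⁻¹ᵁ (RelProj.emb p chart ⊤ hY ''ᵁ Proj.basicOpen (𝒮.deg ⊤ hY) f)) =
      pL ⁻¹ᵁ nonVanish u d f := by
  have := isIso_pL hL hLq hj hPL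
  refine Opens.ext (Set.ext fun w => ?_)
  obtain ⟨_, ⟨V, hV, rfl⟩, hxV, -⟩ := (Scheme.isBasis_affineOpens X).exists_subset_of_mem_open
    (Set.mem_univ (pL.base w)) isOpen_univ
  obtain ⟨y, rfl⟩ := exists_lift (chart := chartL) w hV hxV
  refine Iff.trans ⟨?_, ?_⟩ (mem_nonVanish_iff hL hLq hj hPL u hd hf hV y).symm
  · rintro ⟨z, hz, hze⟩
    exact (qmap_mem_basicOpen_iff hr hPL hY hV (le_preimage_top V) hd hf z y hze.symm).mp hz
  · intro hy
    refine ⟨⟨_, emb_mem_domQ_of_mem_basicOpen u hY hV (le_preimage_top V) hd hf hy⟩, ?_, rfl⟩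
    exact (qmap_mem_basicOpen_iff hr hPL hY hV (le_preimage_top V) hd hf _ y rfl).mpr hy

omit hd hf in
include hr in
theorem isDominant_iff_locallyNilpotent (hP : RelProj.IsRelProj 𝒮 p chart) :
    IsDominant r ↔
      ∀ (n : ℕ), 0 < n → ∀ s ∈ 𝒮.deg ⊤ hY n,
        (∀ x : X, ∃ (V : X.Opens) (_ : IsAffineOpen V), x ∈ V ∧ IsNilpotent ((u.appLE ⊤ V (le_top.trans (Scheme.Hom.preimage_top q).ge)).hom s)) →
          IsNilpotent s := by
  have := isIso_pL hL hLq hj hPL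
  constructor
  · intro h n hn s hs hloc
    by_contra hnil
    obtain ⟨U', hU', hle, hn'⟩ := (isDominant_qmap_iff hr hPL hP).mp h ⊤ hY n hn s hs hnil
    obtain ⟨y, hy⟩ := exists_mem_basicOpen hn ((u.gradedAt ⊤ hY U' hU' hle).map_mem hs) hn'
    obtain ⟨V, hV, hxV, hV'⟩ := hloc (pL.base ((RelProj.emb pL chartL U' hU').base y))
    obtain ⟨w, hw⟩ := exists_lift_res (chart := chartL) hU' hV (y := y) hxV
    have hy' := (mem_basicOpen_iff_of_emb_eq hPL u (f := s) hU' hV hw).mp hy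
    rw [(isNilpotent_iff_basicOpen_eq_bot (𝒜 := 𝒮L.deg V hV) hn
      (a := (u.appLE ⊤ V (le_preimage_top V)).hom s)
      ((u.gradedAt ⊤ hY V hV (le_preimage_top V)).map_mem hs)).mp hV'] at hy'
    exact hy'
  · intro h
    refine ⟨dense_iff_inter_open.mpr fun O hO hne => ?_⟩
    obtain ⟨x, hx⟩ := hne
    obtain ⟨y, rfl⟩ := exists_lift (chart := chart) x hY trivial
    obtain ⟨n, s, hn, hs, hys, hsO⟩ := exists_basicOpen_le (O := RelProj.emb p chart ⊤ hY ⁻¹ᵁ ⟨O, hO⟩) hx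
    by_contra hempty
    have hnil : IsNilpotent s := h n hn s hs fun x' => by
      obtain ⟨_, ⟨V, hV, rfl⟩, hxV, -⟩ := (Scheme.isBasis_affineOpens X).exists_subset_of_mem_open
        (Set.mem_univ x') isOpen_univ
      refine ⟨V, hV, hxV, (isNilpotent_iff_basicOpen_eq_bot (𝒜 := 𝒮L.deg V hV) hn
        ((u.gradedAt ⊤ hY V hV (le_preimage_top V)).map_mem hs)).mpr (le_bot_iff.mp fun w hw => ?_)⟩
      let z : (RelProj.domQ u pL chartL : Scheme.{u}) :=
        ⟨_, emb_mem_domQ_of_mem_basicOpen u hY hV (le_preimage_top V) hn hs (p' := pL) (chart' := chartL) hw⟩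
      obtain ⟨v, hv, hve⟩ := (qmap_mem_basicOpen_iff hr hPL hY hV (le_preimage_top V) hn hs z w rfl).mpr hw
      exact hempty ⟨r.base z, hve ▸ hsO hv, ⟨z, rfl⟩⟩
    rw [(isNilpotent_iff_basicOpen_eq_bot hn hs).mp hnil] at hys
    exact hys

end Groth.Agent.EGAProj74
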