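import Groth.Agent.EGAProj74.RelTwistTriv
import Groth.Agent.Amp73.Gen

/-!
Where a section of `O(d)` given by an element of degree `d` generates.
-/

set_option autoImplicit false
set_option backward.isDefEq.respectTransparency.types false

universe u

open CategoryTheory CategoryTheory.Limits AlgebraicGeometry TopologicalSpace Opposite
open scoped HomogeneousIdeal

noncomputable section

namespace Groth.Agent.EGAProj74

open Var76.LineBundle Var76.ZeroScheme

theorem exists_unit_mk_one {A σ : Type u} [CommRing A] [SetLike σ A] [AddSubgroupClass σ A] {𝒜 : ℕ → σ}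
    [GradedRing 𝒜] {d : ℕ} {f : A} (hf : f ∈ 𝒜 d) :
    ∃ e : GrT.TwistUnit (𝒜 := 𝒜) (d : ℤ) (ProjectiveSpectrum.basicOpen 𝒜 f),
      ∀ x : ProjectiveSpectrum.basicOpen 𝒜 f, (e.fwd.1 x).1 = Localization.mk f 1 := by
  refine ⟨⟨GrT.castTwist (one_mul _) (GrT.powUnit 𝒜 hf 1).fwd,
    GrT.castTwist (by rw [one_mul]) (GrT.powUnit 𝒜 hf 1).bwd,
    fun x => by rw [GrT.castTwist_apply, GrT.castTwist_apply]; exact (GrT.powUnit 𝒜 hf 1).mul_eq x⟩, fun x => ?_⟩
  refine (GrT.castTwist_apply _ _ x).trans ?_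
  show Localization.mk (f ^ (1 : ℤ).toNat) _ = Localization.mk f 1
  rw [Localization.mk_eq_mk_iff, Localization.r_iff_exists]
  exact ⟨1, by simp⟩

variable {S P : Scheme.{u}} {𝒮 : RelProj.QCGrAlg S} {p : P ⟶ S}
  {chart : ∀ (U : S.Opens) (hU : IsAffineOpen U), (((p ⁻¹ᵁ U : P.Opens) : Scheme.{u}) ≅ Proj (𝒮.deg U hU))}
  {d : ℕ} {L : P.Modules}
  {lam : ∀ (U : S.Opens) (hU : IsAffineOpen U),
    L ⟶ (Scheme.Modules.pushforward (RelProj.emb p chart U hU)).obj (GrTwist.twist (𝒮.deg U hU) (d : ℤ))}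

set_option maxHeartbeats 800000 in
theorem genLocus_eq_of_val (hgen : 𝒮.IsGenDegOne) (hL : RelProj.IsRelTwist 𝒮 p chart (d : ℤ) L lam)
    {f : 𝒮.presheaf.obj (op ⊤)}
    (hf : ∀ (U : S.Opens) (hU : IsAffineOpen U), (𝒮.presheaf.map (homOfLE le_top).op).hom f ∈ 𝒮.deg U hU d)
    {Xf : P.Opens}
    (hXf : ∀ (U : S.Opens) (hU : IsAffineOpen U) (y : Proj (𝒮.deg U hU)),
      (RelProj.emb p chart U hU).base y ∈ Xf ↔
        y ∈ Proj.basicOpen (𝒮.deg U hU) ((𝒮.presheaf.map (homOfLE le_top).op).hom f))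
    (s : Coh.structureModule P ⟶ L)
    (hs : ∀ (U : S.Opens) (hU : IsAffineOpen U) (V : P.Opens)
      (y : (RelProj.emb p chart U hU ⁻¹ᵁ V : (Proj (𝒮.deg U hU)).Opens)),
      GrTwist.val (V := RelProj.emb p chart U hU ⁻¹ᵁ V) ((lam U hU).app V (val L s V)) y =
        Localization.mk ((𝒮.presheaf.map (homOfLE le_top).op).hom f) 1) :
    Xf = CohB1.genLocus L s := by
  refine le_antisymm (fun z hz => ?_) (fun z hz => ?_)
  · obtain ⟨U, hU, y, rfl⟩ := exists_emb_apply (chart := chart) z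
    let f' : 𝒮.presheaf.obj (op U) := (𝒮.presheaf.map (homOfLE le_top).op).hom f
    let O := RelProj.emb p chart U hU ''ᵁ Proj.basicOpen (𝒮.deg U hU) f'
    have hOU : O ≤ p ⁻¹ᵁ U :=
      ((RelProj.emb p chart U hU).image_le_opensRange _).trans_eq (opensRange_emb U hU)
    refine Amp73.mem_genLocus_iff.mpr ⟨O, ⟨y, (hXf U hU y).mp hz, rfl⟩, fun V hV => ?_⟩
    have hpre : RelProj.emb p chart U hU ⁻¹ᵁ V ≤ Proj.basicOpen (𝒮.deg U hU) f' := fun w hw =>
      ((RelProj.emb p chart U hU).preimage_image_eq _).le (hV hw)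
    obtain ⟨e', he'⟩ := exists_unit_mk_one (𝒜 := 𝒮.deg U hU) (hf U hU)
    refine bijective_smul_of_unit hL hU e' (hV.trans hOU) hpre _ fun w => ?_
    refine (congrArg (fun q => GrTwist.val (V := RelProj.emb p chart U hU ⁻¹ᵁ V) ((lam U hU).app V q) w) (res_val L s hV)).trans ?_
    refine (hs U hU V w).trans ?_
    exact (he' ⟨w.1, hpre w.2⟩).symm
  · obtain ⟨U, hU, y, rfl⟩ := exists_emb_apply (chart := chart) z
    refine (hXf U hU y).mpr ?_
    let f' : 𝒮.presheaf.obj (op U) := (𝒮.presheaf.map (homOfLE le_top).op).hom f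
    obtain ⟨D, hyD, ⟨e⟩⟩ := GrT.exists_unit_of_generated (𝒜 := 𝒮.deg U hU) (le_antisymm
      (irrelevant_le_span_one_of_gen (hgen U hU))
      (Ideal.span_le.mpr fun a ha => HomogeneousIdeal.mem_irrelevant_of_mem _ one_pos ha)) (d : ℤ) y
    let V := CohB1.genLocus L s ⊓ RelProj.emb p chart U hU ''ᵁ D
    have hy : (RelProj.emb p chart U hU).base y ∈ V := ⟨hz, y, hyD, rfl⟩
    have hVU : V ≤ p ⁻¹ᵁ U := inf_le_right.trans
      (((RelProj.emb p chart U hU).image_le_opensRange _).trans_eq (opensRange_emb U hU))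
    have hpre : RelProj.emb p chart U hU ⁻¹ᵁ V ≤ D := fun w hw =>
      ((RelProj.emb p chart U hU).preimage_image_eq D).le hw.2
    obtain ⟨g, hg⟩ := (hL.bijective U hU V hVU).surjective (e.res hpre).fwd
    obtain ⟨a, ha⟩ := (((Amp73.isFrame_iff_le_genLocus s V).mpr inf_le_left) V le_rfl).2 g
    dsimp only at ha
    rw [res_val] at ha
    have h1 : (lam U hU).app V (a • val L s V) = (e.res hpre).fwd := (congrArg _ ha).trans hg
    have h1' := ((Scheme.Modules.Hom.app_smul (lam U hU) a (val L s V)).symm.trans h1)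
    have h2 := (congrArg (fun q => GrTwist.val (V := RelProj.emb p chart U hU ⁻¹ᵁ V) q ⟨y, hy⟩) h1')
    have h3 : (((RelProj.emb p chart U hU).app V a).1 ⟨y, hy⟩).val * Localization.mk f' 1 = (e.fwd.1 ⟨y, hpre hy⟩).1 := by
      refine Eq.trans ?_ h2
      refine Eq.trans ?_ (GrTwist.coe_smul_val (d : ℤ) y _ _).symm
      exact congrArg _ (hs U hU V ⟨y, hy⟩).symm
    have h4 : IsUnit ((algebraMap (𝒮.presheaf.obj (op U))
        (GrTwist.Loc (𝒮.deg U hU) y)) f') := by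
      rw [← Localization.mk_one_eq_algebraMap]
      refine IsUnit.of_mul_eq_one (((((RelProj.emb p chart U hU).app V a).1 ⟨y, hy⟩).val) * (e.bwd.1 ⟨y, hpre hy⟩).1) ?_
      rw [← mul_assoc, mul_comm (Localization.mk f' 1), h3, e.mul_eq]
    exact (IsLocalization.AtPrime.isUnit_to_map_iff (GrTwist.Loc (𝒮.deg U hU) y) _ f').mp h4

end Groth.Agent.EGAProj74
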