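import Groth.Agent.EGAProj74.GrSymExists
import Groth.Agent.EGAProj74.RelTwistMap
import Groth.Agent.EGAProj74.TildeRows
import Groth.Agent.EGAProj74.RLPsi
import Groth.Agent.EGAProj74.RelEmbVal
import Groth.Agent.EGAProj74.RelGenLocus

/-!
The canonical map to the fundamental sheaf of a projective bundle.
-/

set_option autoImplicit false
set_option backward.isDefEq.respectTransparency.types false

universe u

open CategoryTheory CategoryTheory.Limits AlgebraicGeometry TopologicalSpace Opposite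
open scoped HomogeneousIdeal

noncomputable section

namespace Groth.Agent.EGAProj74

variable {S P : Scheme.{u}} {E : S.Modules} (hE : E.IsQuasicoherent) {𝒮 : RelProj.QCGrAlg S} {j : E ⟶ 𝒮.toModule}
  (hj : RelProj.IsGrSymAlg E 𝒮 j) {p : P ⟶ S}
  {chart : ∀ (U : S.Opens) (hU : IsAffineOpen U), ((p ⁻¹ᵁ U : P.Opens) : Scheme.{u}) ≅ Proj (𝒮.deg U hU)}
  {O1 : P.Modules}
  {lam : ∀ (U : S.Opens) (hU : IsAffineOpen U),
    O1 ⟶ (Scheme.Modules.pushforward (RelProj.emb p chart U hU)).obj (GrTwist.twist (𝒮.deg U hU) 1)}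
  (hO1 : RelProj.IsRelTwist 𝒮 p chart 1 O1 lam)

/-- A section of `E` in the algebra. -/
abbrev jR (j : E ⟶ 𝒮.toModule) (U : S.Opens) (e : Γ(E, U)) : 𝒮.presheaf.obj (op U) := j.app U e

variable (hP : RelProj.IsRelProj 𝒮 p chart)

/-- `φ` sends a section `e` to `j e / 1`. -/
def IsCanonical (lam : ∀ (U : S.Opens) (hU : IsAffineOpen U),
      O1 ⟶ (Scheme.Modules.pushforward (RelProj.emb p chart U hU)).obj (GrTwist.twist (𝒮.deg U hU) 1))
    (j : E ⟶ 𝒮.toModule) (φ : E ⟶ (Scheme.Modules.pushforward p).obj O1) : Prop :=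
  ∀ (U : S.Opens) (hU : IsAffineOpen U) (e : Γ(E, U))
      (y : ↥(RelProj.emb p chart U hU ⁻¹ᵁ (p ⁻¹ᵁ U))),
      GrTwist.val (V := RelProj.emb p chart U hU ⁻¹ᵁ (p ⁻¹ᵁ U))
          ((lam U hU).app (p ⁻¹ᵁ U) ((φ.app U) e)) y =
        algebraMap (𝒮.presheaf.obj (op U)) (GrTwist.Loc (𝒮.deg U hU) y.1)
          (jR j U e)

include hE hj in
theorem exists_gen_notMem {U : S.Opens} (hU : IsAffineOpen U) (y : Proj (𝒮.deg U hU)) :
    ∃ e : Γ(E, U), (jR j U e) ∉ (y : ProjectiveSpectrum (𝒮.deg U hU)).asHomogeneousIdeal := by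
  classical
  by_contra H
  push Not at H
  let I := (y : ProjectiveSpectrum (𝒮.deg U hU)).asHomogeneousIdeal
  refine ProjectiveSpectrum.not_irrelevant_le y fun a ha => ?_
  obtain ⟨r, hr⟩ : ∃ r, a - (𝒮.str.app (op U)).hom r ∈ I.toIdeal := by
    have hmem := (closure_grSym hE hj U hU).ge (show a ∈ ⊤ from trivial)
    clear ha
    induction hmem using Subring.closure_induction with
    | mem z hz =>
      rcases hz with ⟨r, rfl⟩ | ⟨m, rfl⟩
      · exact ⟨r, by rw [sub_self]; exact zero_mem _⟩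
      · exact ⟨0, by rw [map_zero, sub_zero]; exact H m⟩
    | zero => exact ⟨0, by rw [map_zero, sub_zero]; exact zero_mem _⟩
    | one => exact ⟨1, by rw [map_one, sub_self]; exact zero_mem _⟩
    | add a b _ _ ha hb =>
      obtain ⟨r, hr⟩ := ha
      obtain ⟨s, hs⟩ := hb
      exact ⟨r + s, by rw [map_add, add_sub_add_comm]; exact add_mem hr hs⟩
    | neg a _ ha =>
      obtain ⟨r, hr⟩ := ha
      exact ⟨-r, by rw [map_neg, neg_sub_neg, ← neg_sub]; exact neg_mem hr⟩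
    | mul a b _ _ ha hb =>
      obtain ⟨r, hr⟩ := ha
      obtain ⟨s, hs⟩ := hb
      refine ⟨r * s, ?_⟩
      rw [map_mul, show a * b - (𝒮.str.app (op U)).hom r * (𝒮.str.app (op U)).hom s =
        (a - (𝒮.str.app (op U)).hom r) * b + (𝒮.str.app (op U)).hom r * (b - (𝒮.str.app (op U)).hom s) by ring]
      exact add_mem (Ideal.mul_mem_right _ _ hr) (Ideal.mul_mem_left _ _ hs)
  have h0 : (DirectSum.decompose (𝒮.deg U hU) a 0 : 𝒮.presheaf.obj (op U)) = 0 := by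
    rw [HomogeneousIdeal.mem_irrelevant_iff, GradedRing.proj_apply] at ha
    exact ha
  have h1 := I.isHomogeneous 0 hr
  rw [DirectSum.decompose_sub, DFinsupp.sub_apply, AddSubgroup.coe_sub, h0, zero_sub,
    DirectSum.decompose_of_mem_same _ (𝒮.str_mem U hU r)] at h1
  have := add_mem hr (neg_mem h1)
  simpa using this

include hE hj hO1 hP in
theorem exists_canonical : ∃ φ : E ⟶ (Scheme.Modules.pushforward p).obj O1, IsCanonical lam j φ := by
  have := hE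
  let sec : ∀ (U : S.AffineZariskiSite) (m : Γ(E, U.1)),
      Γ((Scheme.Modules.pushforward (RelProj.emb p chart U.1 U.2)).obj (GrTwist.twist (𝒮.deg U.1 U.2) 1), p ⁻¹ᵁ U.1) :=
    fun U m => GrTwist.resN (𝒜 := 𝒮.deg U.1 U.2) 1
      (homOfLE (le_top : RelProj.emb p chart U.1 U.2 ⁻¹ᵁ (p ⁻¹ᵁ U.1) ≤ ⊤)).op
      (GrTwist.globalOf (𝒜 := 𝒮.deg U.1 U.2) (i := 1) ⟨jR j U.1 m, hj.2 U.1 U.2 m⟩)
  choose t ht using fun (U : S.AffineZariskiSite) (m : Γ(E, U.1)) =>
    (hO1.bijective U.1 U.2 (p ⁻¹ᵁ U.1) le_rfl).surjective (sec U m)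
  have hval : ∀ (U : S.AffineZariskiSite) (m : Γ(E, U.1))
      (y : (RelProj.emb p chart U.1 U.2 ⁻¹ᵁ (p ⁻¹ᵁ U.1) : (Proj (𝒮.deg U.1 U.2)).Opens)),
      GrTwist.val (V := RelProj.emb p chart U.1 U.2 ⁻¹ᵁ (p ⁻¹ᵁ U.1)) ((lam U.1 U.2).app (p ⁻¹ᵁ U.1) (t U m)) y =
        Localization.mk (jR j U.1 m) 1 := fun U m y => by
    exact congrArg (fun q => GrTwist.val (V := RelProj.emb p chart U.1 U.2 ⁻¹ᵁ (p ⁻¹ᵁ U.1)) q y) (ht U m)
  have hext : ∀ (U : S.AffineZariskiSite) (a b : Γ(O1, p ⁻¹ᵁ U.1)),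
      (∀ y, GrTwist.val (V := RelProj.emb p chart U.1 U.2 ⁻¹ᵁ (p ⁻¹ᵁ U.1)) ((lam U.1 U.2).app (p ⁻¹ᵁ U.1) a) y =
        GrTwist.val (V := RelProj.emb p chart U.1 U.2 ⁻¹ᵁ (p ⁻¹ᵁ U.1)) ((lam U.1 U.2).app (p ⁻¹ᵁ U.1) b) y) → a = b :=
    fun U a b h => (hO1.bijective U.1 U.2 (p ⁻¹ᵁ U.1) le_rfl).injective
      (Subtype.ext (funext fun y => Subtype.ext (h y)))
  let l : ∀ U : S.AffineZariskiSite, Γ(E, U.1) →ₗ[Γ(S, U.1)] Γ((Scheme.Modules.pushforward p).obj O1, U.1) := fun U =>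
    { toFun := t U
      map_add' := fun a b => hext U _ _ fun y => by
        refine (hval U (a + b) y).trans ?_
        refine Eq.trans ?_ (congrArg (fun q => GrTwist.val (V := RelProj.emb p chart U.1 U.2 ⁻¹ᵁ (p ⁻¹ᵁ U.1)) q y)
          (map_add ((lam U.1 U.2).app (p ⁻¹ᵁ U.1)).hom (t U a) (t U b))).symm
        refine Eq.trans ?_ (congrArg₂ (· + ·) (hval U a y) (hval U b y)).symm
        rw [Localization.add_mk_self]
        exact congrArg (fun q => Localization.mk q _) (map_add (j.app U.1).hom a b)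
      map_smul' := fun r a => hext U _ _ fun y => by
        refine (hval U (r • a) y).trans ?_
        refine Eq.trans ?_ (congrArg (fun q => GrTwist.val (V := RelProj.emb p chart U.1 U.2 ⁻¹ᵁ (p ⁻¹ᵁ U.1)) q y)
          (Scheme.Modules.Hom.app_smul (lam U.1 U.2) ((p.app U.1) r) (t U a))).symm
        refine Eq.trans ?_ (GrTwist.coe_smul_val 1 y.1 _ _).symm
        refine Eq.trans ?_ (congrArg₂ (· * ·) (emb_app_p_val hP U.1 U.2 r y.1 y.2) (hval U a y)).symm
        rw [Localization.mk_mul, one_mul]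
        exact congrArg (fun q : 𝒮.presheaf.obj (op U.1) => Localization.mk q 1) (Scheme.Modules.Hom.app_smul j r a) }
  obtain ⟨φ, hφ, -⟩ := existsUnique_hom_of_affine (M := E) l fun U r m => hext _ _ _ fun y => by
    refine (hval (U.basicOpen r) _ y).trans ?_
    refine Eq.trans ?_ (congrArg (fun q => GrTwist.val (V := RelProj.emb p chart (U.basicOpen r).1 (U.basicOpen r).2 ⁻¹ᵁ (p ⁻¹ᵁ (U.basicOpen r).1)) q y)
      (mres_app (lam _ _) (p.preimage_mono (S.basicOpen_le r)) (t U m))).symm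
    refine Eq.trans ?_ (val_mres_pushforward _ _ _ y).symm
    have hy : (RelProj.emb p chart (S.basicOpen r) (U.2.basicOpen r)).base y.1 ∈ p ⁻¹ᵁ U.1 :=
      S.basicOpen_le r y.2
    have hy' : (RelProj.emb p chart U.1 U.2).base (ProjectiveSpectrum.comap
        (𝒮.res U.2 (U.2.basicOpen r) (S.basicOpen_le r)) (𝒮.irrelevant_le_map U.1 U.2 r) y.1) ∈ p ⁻¹ᵁ U.1 :=
      Eq.subst (motive := fun z => z ∈ p ⁻¹ᵁ U.1)
        congr($(RelProj.map_res_emb hP U.1 U.2 r).base y.1).symm hy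
    refine Eq.trans ?_ (hO1.compat U.1 U.2 r (p ⁻¹ᵁ U.1) (t U m) y.1 hy hy').symm
    refine Eq.trans ?_ (congrArg (GrTwist.locMap _ _ y.1) (hval U m ⟨_, hy'⟩)).symm
    refine Eq.trans ?_ (GrTwist.locMap_mk _ _ _ _ _).symm
    congr 1
    · exact congr($(j.mapPresheaf.naturality (homOfLE (S.basicOpen_le r)).op).hom m)
    · exact Subtype.ext (map_one _).symm
  refine ⟨φ, fun U hU e y => ?_⟩
  rw [hφ ⟨U, hU⟩ e]
  exact (hval ⟨U, hU⟩ e y).trans (Localization.mk_one_eq_algebraMap _)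

set_option maxHeartbeats 800000 in
include hj hO1 in
theorem isFrame_canonical {φ : E ⟶ (Scheme.Modules.pushforward p).obj O1} (hφ : IsCanonical lam j φ)
    {U : S.Opens} (hU : IsAffineOpen U) (e : Γ(E, U)) {O : P.Opens} (hOU : O ≤ p ⁻¹ᵁ U)
    (hO : RelProj.emb p chart U hU ⁻¹ᵁ O ≤ Proj.basicOpen (𝒮.deg U hU) (jR j U e)) :
    Var76.LineBundle.IsFrame O1 O (mres O1 hOU (φ.app U e)) := by
  obtain ⟨u, hu⟩ : ∃ u : GrT.TwistUnit (𝒜 := 𝒮.deg U hU) (1 : ℤ)
      (ProjectiveSpectrum.basicOpen (𝒮.deg U hU) (jR j U e)), ∀ z, (u.fwd.1 z).1 = Localization.mk (jR j U e) 1 :=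
    exists_unit_mk_one (𝒜 := 𝒮.deg U hU) (d := 1) (f := jR j U e) (hj.2 U hU e)
  intro V hV
  refine bijective_smul_of_unit hO1 hU u (hV.trans hOU) (fun w hw => hO (hV hw)) _ fun w => ?_
  refine (congrArg (fun q => GrTwist.val (V := RelProj.emb p chart U hU ⁻¹ᵁ V) ((lam U hU).app V q) w)
    (mres_mres O1 hOU hV (φ.app U e))).trans ?_
  refine (congrArg (fun q => GrTwist.val (V := RelProj.emb p chart U hU ⁻¹ᵁ V) q w) (mres_app (lam U hU) _ _)).trans ?_
  refine (val_mres_pushforward _ (hV.trans hOU) _ w).trans ?_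
  refine (hφ U hU e _).trans ?_
  refine (Localization.mk_one_eq_algebraMap (jR j U e)).symm.trans ?_
  exact (hu ⟨w.1, hO (hV w.2)⟩).symm

include hE hj hO1 in
theorem exists_frame_canonical {φ : E ⟶ (Scheme.Modules.pushforward p).obj O1} (hφ : IsCanonical lam j φ) (x : P) :
    ∃ (U : S.Opens) (e : Γ(E, U)) (O : P.Opens) (hO : O ≤ p ⁻¹ᵁ U), x ∈ O ∧
      Var76.LineBundle.IsFrame O1 O (mres O1 hO (φ.app U e)) := by
  obtain ⟨U, hU, y, rfl⟩ := exists_emb_apply (chart := chart) x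
  obtain ⟨e, he⟩ := exists_gen_notMem hE hj hU y
  let O := RelProj.emb p chart U hU ''ᵁ Proj.basicOpen (𝒮.deg U hU) (jR j U e)
  have hOU : O ≤ p ⁻¹ᵁ U := ((RelProj.emb p chart U hU).image_le_opensRange _).trans_eq (opensRange_emb U hU)
  exact ⟨U, e, O, hOU, ⟨y, he, rfl⟩,
    isFrame_canonical hj hO1 hφ hU e hOU ((RelProj.emb p chart U hU).preimage_image_eq _).le⟩

include hE hj hO1 in
theorem epi_canonical {φ : E ⟶ (Scheme.Modules.pushforward p).obj O1} (hφ : IsCanonical lam j φ) :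
    Epi (((Scheme.Modules.pullbackPushforwardAdjunction p).homEquiv E O1).symm φ) := by
  set α := ((Scheme.Modules.pullbackPushforwardAdjunction p).homEquiv E O1).symm φ
  refine epi_of_locally_surjective α fun W t z => ?_
  obtain ⟨U, e, O, hO, hxO, hfr⟩ := exists_frame_canonical hE hj hO1 hφ z.1
  obtain ⟨c, hc⟩ := (hfr (W ⊓ O) inf_le_right).2 (mres O1 inf_le_left t)
  have hα : α.app (p ⁻¹ᵁ U) (Amp73.pullS p E U e) = φ.app U e := by
    have h := Equiv.apply_symm_apply ((Scheme.Modules.pullbackPushforwardAdjunction p).homEquiv E O1) φ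
    rw [Adjunction.homEquiv_unit] at h
    exact ConcreteCategory.congr_hom (congrArg (fun a => Scheme.Modules.Hom.app a U) h) e
  refine ⟨W ⊓ O, inf_le_left, ⟨z.2, hxO⟩,
    c • mres _ ((inf_le_right : W ⊓ O ≤ O).trans hO) (Amp73.pullS p E U e), ?_⟩
  rw [Scheme.Modules.Hom.app_smul, mres_app, hα, ← mres_mres O1 hO inf_le_right]
  exact hc

include hE hj hO1 in
theorem isIso_canonical_of_invertible (hinv : PicF.IsInvertible E)
    {φ : E ⟶ (Scheme.Modules.pushforward p).obj O1} (hφ : IsCanonical lam j φ) :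
    IsIso (((Scheme.Modules.pullbackPushforwardAdjunction p).homEquiv E O1).symm φ) := by
  refine isIso_adjunct_of_frames p hinv φ fun s => ?_
  obtain ⟨W, hsW, -, e₀, he₀⟩ := Mero90.exists_affine_frame hinv s ⊤ trivial
  refine ⟨W.1, e₀, hsW, he₀, Amp73.isFrame_of_locally _ fun x hx => ⟨p ⁻¹ᵁ W.1, le_rfl, hx, ?_⟩⟩
  refine isFrame_canonical hj hO1 hφ W.2 e₀ le_rfl fun y _ => ?_
  obtain ⟨e, he⟩ := exists_gen_notMem hE hj W.2 y
  obtain ⟨c, hc⟩ := (he₀ W.1 le_rfl).2 e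
  intro hmem
  apply he
  rw [← hc]
  refine Eq.subst (motive := fun q => q ∈ (y : ProjectiveSpectrum (𝒮.deg W.1 W.2)).asHomogeneousIdeal)
    (Scheme.Modules.Hom.app_smul j c (Var76.LineBundle.res E (le_refl W.1) e₀)).symm ?_
  refine Ideal.mul_mem_left _ _ ?_
  rw [show Var76.LineBundle.res E (le_refl W.1) e₀ = e₀ from QC70.res_self e₀]
  exact hmem

end Groth.Agent.EGAProj74
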