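import Groth.Agent.EGAProj74.QC
import Groth.Agent.QC70.Hom
import Groth.Prelude.Def_RelProj3

/-!
Graded modules over a quasi-coherent graded algebra: restriction to a basic open is a graded localization.
-/

set_option autoImplicit false
set_option backward.isDefEq.respectTransparency.types false

universe u

open CategoryTheory CategoryTheory.Limits AlgebraicGeometry TopologicalSpace Opposite
open Groth.Agent.QC70
open scoped HomogeneousIdeal

noncomputable section

namespace Groth.Agent.EGAProj74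

/-- An additive map preserving degrees commutes with the decompositions. -/
theorem map_decompose_of_mem {M N : Type u} [AddCommGroup M] [AddCommGroup N] (ℳ : ℕ → AddSubgroup M)
    (𝒩 : ℕ → AddSubgroup N) [DirectSum.Decomposition ℳ] [DirectSum.Decomposition 𝒩] (f : M →+ N)
    (hf : ∀ i m, m ∈ ℳ i → f m ∈ 𝒩 i) (m : M) (d : ℕ) :
    f (DirectSum.decompose ℳ m d) = DirectSum.decompose 𝒩 (f m) d := by
  induction m using DirectSum.Decomposition.inductionOn ℳ with
  | zero => simp
  | @homogeneous i m =>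
    by_cases h : i = d
    · subst h
      rw [DirectSum.decompose_of_mem_same _ m.2, DirectSum.decompose_of_mem_same _ (hf _ _ m.2)]
    · rw [DirectSum.decompose_of_mem_ne _ m.2 h, DirectSum.decompose_of_mem_ne _ (hf _ _ m.2) h, map_zero]
  | add a b ha hb => simp [DirectSum.decompose_add, ha, hb]

variable {S : Scheme.{u}} (𝒮 : RelProj.QCGrAlg S)
variable {U E : S.Opens} (hU : IsAffineOpen U) (hE : IsAffineOpen E) (i : E ≤ U) {r : Γ(S, U)}
  (e : E = S.basicOpen r)

include hU e in
theorem isLocalization_res :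
    letI := (𝒮.presheaf.map (homOfLE i).op).hom.toAlgebra
    IsLocalization.Away ((𝒮.str.app (op U)).hom r) (𝒮.presheaf.obj (op E)) := by
  subst e
  exact 𝒮.isQC U hU r

include hU e in
theorem isUnit_res_str : IsUnit ((𝒮.presheaf.map (homOfLE i).op).hom ((𝒮.str.app (op U)).hom r)) := by
  let := (𝒮.presheaf.map (homOfLE i).op).hom.toAlgebra
  have := isLocalization_res 𝒮 hU i e
  exact IsLocalization.Away.algebraMap_isUnit _

include e in
/-- A homogeneous element over `E` is, up to a power of `r`, the restriction of one of the same degree. -/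
theorem exists_deg_res {d : ℕ} {a' : 𝒮.presheaf.obj (op E)} (ha : a' ∈ 𝒮.deg E hE d) :
    ∃ (k : ℕ) (a : 𝒮.presheaf.obj (op U)), a ∈ 𝒮.deg U hU d ∧
      (𝒮.presheaf.map (homOfLE i).op).hom a =
        (𝒮.presheaf.map (homOfLE i).op).hom ((𝒮.str.app (op U)).hom r) ^ k * a' := by
  let := (𝒮.presheaf.map (homOfLE i).op).hom.toAlgebra
  have := isLocalization_res 𝒮 hU i e
  obtain ⟨k, b, hb⟩ := IsLocalization.Away.surj ((𝒮.str.app (op U)).hom r) a'
  refine ⟨k, DirectSum.decompose (𝒮.deg U hU) b d, SetLike.coe_mem _, ?_⟩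
  have hdeg : a' * algebraMap (𝒮.presheaf.obj (op U)) (𝒮.presheaf.obj (op E))
      ((𝒮.str.app (op U)).hom r) ^ k ∈ 𝒮.deg E hE d := by
    have := SetLike.mul_mem_graded ha (SetLike.pow_mem_graded k (𝒮.map_mem hU hE i (𝒮.str_mem U hU r)))
    simpa [RingHom.algebraMap_toAlgebra] using this
  refine (map_decompose_of_mem (𝒮.deg U hU) (𝒮.deg E hE) (𝒮.presheaf.map (homOfLE i).op).hom.toAddMonoidHom
    (fun _ _ h => 𝒮.map_mem hU hE i h) b d).trans ?_
  rw [show (𝒮.presheaf.map (homOfLE i).op).hom.toAddMonoidHom b = _ from hb.symm,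
    DirectSum.decompose_of_mem_same _ hdeg, mul_comm]
  rfl

variable {𝒮} (ℳ : RelProj.GrModule 𝒮) (hℳ : Coh.IsQCoh ((AMod.toOS 𝒮.toQCAlg).obj ℳ.mod))

include hU hℳ in
theorem isLocAt_toOS : IsLocAt ((AMod.toOS 𝒮.toQCAlg).obj ℳ.mod) U :=
  @isLocAt_of_isQuasicoherent S _ U hU hℳ

include hU hℳ e in
/-- A section killed by restriction is killed by a power of `r`. -/
theorem exists_pow_smul_eq_zero_res {m : ℳ.mod.val.obj (op U)}
    (hm : (ℳ.mod.val.map (homOfLE i).op).hom m = 0) :
    ∃ k : ℕ, (𝒮.str.app (op U)).hom r ^ k • m = 0 := by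
  subst e
  obtain ⟨k, hk⟩ := (isLocAt_toOS hU ℳ hℳ).eq_zero_of r m hm
  refine ⟨k, ?_⟩
  rw [← map_pow]
  exact hk

include hU hℳ e in
/-- A homogeneous section over `E` is, up to a power of `r`, the restriction of one of the same degree. -/
theorem exists_deg_res_mod {d : ℕ} {m' : ℳ.mod.val.obj (op E)} (hm : m' ∈ ℳ.deg E hE d) :
    ∃ (k : ℕ) (m : ℳ.mod.val.obj (op U)), m ∈ ℳ.deg U hU d ∧
      (ℳ.mod.val.map (homOfLE i).op).hom m =
        (𝒮.presheaf.map (homOfLE i).op).hom ((𝒮.str.app (op U)).hom r) ^ k • m' := by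
  subst e
  obtain ⟨k, t, ht⟩ := (isLocAt_toOS hU ℳ hℳ).exists_of r m'
  have ht' : (ℳ.mod.val.map (homOfLE i).op).hom t =
      (𝒮.presheaf.map (homOfLE i).op).hom ((𝒮.str.app (op U)).hom r) ^ k • m' := by
    refine Eq.trans ht ?_
    refine congrArg (fun c : 𝒮.presheaf.obj (op (S.basicOpen r)) => c • m') ?_
    exact (map_pow (𝒮.str.app (op (S.basicOpen r))).hom _ k).trans
      (congrArg (· ^ k) (congr($(𝒮.str.naturality (homOfLE i).op).hom r)))
  refine ⟨k, DirectSum.decompose (ℳ.deg U hU) t d, SetLike.coe_mem _, ?_⟩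
  have hdeg : (𝒮.presheaf.map (homOfLE i).op).hom ((𝒮.str.app (op U)).hom r) ^ k • m' ∈
      ℳ.deg (S.basicOpen r) hE d := by
    have h1 := SetLike.pow_mem_graded k (𝒮.map_mem hU hE i (𝒮.str_mem U hU r))
    have := SetLike.GradedSMul.smul_mem h1 hm (A := 𝒮.deg (S.basicOpen r) hE) (B := ℳ.deg (S.basicOpen r) hE)
    simpa using this
  refine (map_decompose_of_mem (ℳ.deg U hU) (ℳ.deg _ hE) (ℳ.res hU hE i).toAddMonoidHom
    (fun _ _ h => ℳ.map_mem hU hE i h) t d).trans ?_
  rw [show (ℳ.res hU hE i).toAddMonoidHom t = _ from ht', DirectSum.decompose_of_mem_same _ hdeg]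

end Groth.Agent.EGAProj74
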