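import Groth.Agent.EGAProj74.SelfModule
import Groth.Agent.EGAProj74.RelTwistTriv
import Groth.Agent.Mero90.TensorLift

/-!
The multiplication `ℳ(a)~ ⊗ O(b) → ℳ(a+b)~` on a relative Proj.
-/

set_option autoImplicit false
set_option backward.isDefEq.respectTransparency.types false

universe u

open CategoryTheory CategoryTheory.Limits AlgebraicGeometry TopologicalSpace Opposite
open scoped HomogeneousIdeal

noncomputable section

namespace Groth.Agent.EGAProj74

section sol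

variable {S P : Scheme.{u}} {p : P ⟶ S} {𝒢 : AffSystem p} {F : P.Modules}
  {lam : ∀ U : S.affineOpens, F ⟶ 𝒢.D.obj (op U)}

/-- Sections of a solution are compatible families. -/
theorem AffSystem.IsSol.existsUnique_section (h : 𝒢.IsSol F lam) (W : P.Opens)
    (s : ∀ U : S.affineOpens, Γ(𝒢.D.obj (op U), W))
    (hs : ∀ {U V : S.affineOpens} (i : V ⟶ U), (𝒢.D.map i.op).app W (s U) = s V) :
    ∃! t : Γ(F, W), ∀ U, (lam U).app W t = s U := by
  obtain ⟨e, he⟩ := h.exists_iso_glued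
  obtain ⟨t, ht, hu⟩ := AffSystem.existsUnique_section 𝒢 W s hs
  have hh : ∀ (U : S.affineOpens) (x : Γ(F, W)), (lam U).app W x = (𝒢.π U).app W (e.hom.app W x) := fun U x =>
    congr($((he U).symm).app W x)
  refine ⟨e.inv.app W t, fun U => ?_, fun t' ht' => ?_⟩
  · rw [hh]
    refine Eq.trans (congrArg _ ?_) (ht U)
    exact congr($(e.inv_hom_id).app W t)
  · rw [← hu (e.hom.app W t') fun U => (hh U t').symm.trans (ht' U)]
    exact (congr($(e.hom_inv_id).app W t')).symm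

theorem AffSystem.IsSol.section_ext (h : 𝒢.IsSol F lam) {W : P.Opens} {t t' : Γ(F, W)}
    (e : ∀ U, (lam U).app W t = (lam U).app W t') : t = t' :=
  (h.existsUnique_section W (fun U => (lam U).app W t') fun i => congr($(h.comm i).app W t')).unique e
    fun _ => rfl

end sol

section liftBij

open Var76.LineBundle Mero90

variable {X : Scheme.{u}} {L M N : X.Modules} (Q : Pairing L M N)

theorem exists_tq_frame {U : X.Opens} {e' : Γ(M, U)} (he' : IsFrame M U e') {V : X.Opens} (h : V ≤ U)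
    (z : (CohB1.tensorPre L M).obj (op V)) : ∃ m : Γ(L, V), z = tq m (res M h e') := by
  induction z using TensorProduct.induction_on with
  | zero => exact ⟨0, (TensorProduct.zero_tmul _ _).symm⟩
  | tmul m n =>
    obtain ⟨a, rfl⟩ := (he' V h).2 n
    exact ⟨a • m, (Mod48.tp_smul_right (O := X.sheaf) (M := CohB1.toPMod L) (N := CohB1.toPMod M) (X := op V) a m _).trans
      (Mod48.tp_smul_left (O := X.sheaf) (M := CohB1.toPMod L) (N := CohB1.toPMod M) (X := op V) a m _).symm⟩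
  | add z z' hz hz' =>
    obtain ⟨a, ha⟩ := hz
    obtain ⟨c, hc⟩ := hz'
    exact ⟨a + c, (congrArg₂ (· + ·) ha hc).trans
      (Mod48.tp_add_left (O := X.sheaf) (M := CohB1.toPMod L) (N := CohB1.toPMod M) (X := op V) a c _).symm⟩

/-- A pairing which is bijective against a frame of the second factor gives an isomorphism. -/
theorem isIso_lift_of_frame (h : ∀ x : X, ∃ (U : X.Opens) (e' : Γ(M, U)), x ∈ U ∧ IsFrame M U e' ∧
    ∀ (V : X.Opens) (hV : V ≤ U), Function.Bijective (fun m : Γ(L, V) => Q.b V m (res M hV e'))) :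
    IsIso Q.lift := by
  choose U e' hx he' hb using h
  have : IsIso ((Mod48.shf (O := X.sheaf)).map Q.preLift) := by
    rw [Mod48.isIso_shf_map_iff_isLocalIso]
    refine ⟨⟨fun {W} z z' hzz => ?_⟩, ⟨fun {W} s => ?_⟩⟩
    · rintro x hxW
      let V := W.unop ⊓ U x
      have hVW : V ≤ W.unop := inf_le_left
      have hVU : V ≤ U x := inf_le_right
      refine ⟨V, homOfLE hVW, ?_, ⟨hxW, hx x⟩⟩
      change (CohB1.tensorPre L M).map (homOfLE hVW).op z = (CohB1.tensorPre L M).map (homOfLE hVW).op z'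
      obtain ⟨a, ha⟩ := exists_tq_frame (he' x) hVU ((CohB1.tensorPre L M).map (homOfLE hVW).op z)
      obtain ⟨c, hc⟩ := exists_tq_frame (he' x) hVU ((CohB1.tensorPre L M).map (homOfLE hVW).op z')
      have h1 : Q.preLift.app (op V) ((CohB1.tensorPre L M).map (homOfLE hVW).op z) =
          Q.preLift.app (op V) ((CohB1.tensorPre L M).map (homOfLE hVW).op z') := by
        rw [PresheafOfModules.naturality_apply, PresheafOfModules.naturality_apply]
        exact congrArg _ hzz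
      rw [ha, hc] at h1
      rw [ha, hc, (hb x V hVU).1 ((Q.preLift_tp V a _).symm.trans (h1.trans (Q.preLift_tp V c _)))]
    · rintro x hxW
      let V := W ⊓ U x
      have hVW : V ≤ W := inf_le_left
      have hVU : V ≤ U x := inf_le_right
      refine ⟨V, homOfLE hVW, ?_, ⟨hxW, hx x⟩⟩
      obtain ⟨a, ha⟩ := (hb x V hVU).2 (res N hVW s)
      exact ⟨tq a (res M hVU (e' x)), (Q.preLift_tp V a _).trans ha⟩
  unfold Pairing.lift
  exact IsIso.comp_isIso' this inferInstance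

/-- The restriction of a pairing to an open subscheme. -/
def restrictPairing {Y : Scheme.{u}} (f : Y ⟶ X) [IsOpenImmersion f] :
    Pairing (L.restrict f) (M.restrict f) (N.restrict f) where
  b U m n := Q.b (f ''ᵁ U) m n
  add_left _ _ _ _ := Q.add_left _ _ _ _
  add_right _ _ _ _ := Q.add_right _ _ _ _
  smul_left _ r _ _ := Q.smul_left _ ((f.appIso _).inv r) _ _
  smul_right _ r _ _ := Q.smul_right _ ((f.appIso _).inv r) _ _
  nat U V h m n := Q.nat _ _ (f.image_mono h) m n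

end liftBij

variable {S P : Scheme.{u}} {𝒮 : RelProj.QCGrAlg S} {p : P ⟶ S}
  {chart : ∀ (U : S.Opens) (hU : IsAffineOpen U), (((p ⁻¹ᵁ U : P.Opens) : Scheme.{u}) ≅ Proj (𝒮.deg U hU))}
  {ℳ : RelProj.GrModule 𝒮} {a b c : ℤ} {F L F' : P.Modules}
  {lam : ∀ (U : S.Opens) (hU : IsAffineOpen U),
      F ⟶ (Scheme.Modules.pushforward (RelProj.emb p chart U hU)).obj (GrMod.tilde (𝒮.deg U hU) (ℳ.deg U hU) a)}
  {lamL : ∀ (U : S.Opens) (hU : IsAffineOpen U),
      L ⟶ (Scheme.Modules.pushforward (RelProj.emb p chart U hU)).obj (GrTwist.twist (𝒮.deg U hU) b)}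
  {lam' : ∀ (U : S.Opens) (hU : IsAffineOpen U),
      F' ⟶ (Scheme.Modules.pushforward (RelProj.emb p chart U hU)).obj (GrMod.tilde (𝒮.deg U hU) (ℳ.deg U hU) c)}

variable (lam lamL) in
/-- The product of sections on one chart. -/
def chartMul (hab : a + b = c) (U : S.affineOpens) (W : P.Opens) (m : Γ(F, W)) (n : Γ(L, W)) :
    Γ(tildeObj p chart ℳ c U.1 U.2, W) :=
  GrT.castSect (U := op (RelProj.emb p chart U.1 U.2 ⁻¹ᵁ W)) hab
    (GrT.twistMul (U := op (RelProj.emb p chart U.1 U.2 ⁻¹ᵁ W)) ((lamL U.1 U.2).app W n) ((lam U.1 U.2).app W m))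

variable (lam lamL) in
theorem val_chartMul (hab : a + b = c) (U : S.affineOpens) (W : P.Opens) (m : Γ(F, W)) (n : Γ(L, W))
    (y : (RelProj.emb p chart U.1 U.2 ⁻¹ᵁ W : (Proj (𝒮.deg U.1 U.2)).Opens)) :
    GrMod.val (V := RelProj.emb p chart U.1 U.2 ⁻¹ᵁ W) (chartMul lam lamL hab U W m n) y =
      GrTwist.val (V := RelProj.emb p chart U.1 U.2 ⁻¹ᵁ W) ((lamL U.1 U.2).app W n) y •
        GrMod.val (V := RelProj.emb p chart U.1 U.2 ⁻¹ᵁ W) ((lam U.1 U.2).app W m) y :=
  GrT.castSect_apply hab _ _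

variable (hP : RelProj.IsRelProj 𝒮 p chart) (hℳ : Coh.IsQCoh ((AMod.toOS 𝒮.toQCAlg).obj ℳ.mod))
  (hF : RelProj.IsRelTilde 𝒮 p chart ℳ a F lam) (hL : RelProj.IsRelTwist 𝒮 p chart b L lamL)
  (hF' : RelProj.IsRelTilde 𝒮 p chart ℳ c F' lam') (hab : a + b = c)

include hP hℳ hF hL in
theorem chartMul_comm (W : P.Opens) (m : Γ(F, W)) (n : Γ(L, W)) {U V : S.affineOpens} (i : V ⟶ U) :
    ((tildeSys hP ℳ hℳ c).D.map i.op).app W (chartMul lam lamL hab U W m n) = chartMul lam lamL hab V W m n := by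
  refine tildeObj_ext ℳ c V.2 _ _ fun y hy => ?_
  refine (tildeMap_val hP ℳ c U.2 V.2 i.le W (chartMul lam lamL hab U W m n) y hy).trans ?_
  refine (congrArg _ (val_chartMul lam lamL hab U W m n _)).trans ?_
  refine (GrMod.locModMap_smul _ _ _ _ _ _).trans ?_
  refine Eq.trans ?_ (val_chartMul lam lamL hab V W m n ⟨y, hy⟩).symm
  have h1 := congr($((isSol_of_isRelTilde (hP := hP) hℳ hF).comm i).app W m)
  have h2 := congr($((isSol_of_isRelTilde (hP := hP) (isQCoh_selfModule 𝒮)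
    (isRelTilde_of_isRelTwist (hP := hP) hL)).comm i).app W n)
  refine congrArg₂ (fun (x : GrTwist.Loc (𝒮.deg V.1 V.2) y) q => x • q) ?_ ?_
  · refine (locModMap_self U.2 V.2 i.le y _).symm.trans ?_
    exact (tildeMap_val hP (selfModule 𝒮) b U.2 V.2 i.le W _ y hy).symm.trans
      (congrArg (fun q => GrMod.val (V := RelProj.emb p chart V.1 V.2 ⁻¹ᵁ W) q ⟨y, hy⟩) h2)
  · exact (tildeMap_val hP ℳ a U.2 V.2 i.le W _ y hy).symm.trans
      (congrArg (fun q => GrMod.val (V := RelProj.emb p chart V.1 V.2 ⁻¹ᵁ W) q ⟨y, hy⟩) h1)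

/-- The product of two sections. -/
def relMul (W : P.Opens) (m : Γ(F, W)) (n : Γ(L, W)) : Γ(F', W) :=
  ((isSol_of_isRelTilde (hP := hP) hℳ hF').existsUnique_section W (fun U => chartMul lam lamL hab U W m n)
    (fun i => chartMul_comm hP hℳ hF hL hab W m n i)).choose

theorem relMul_spec (W : P.Opens) (m : Γ(F, W)) (n : Γ(L, W)) (U : S.affineOpens) :
    (lam' U.1 U.2).app W (relMul hP hℳ hF hL hF' hab W m n) = chartMul lam lamL hab U W m n :=
  ((isSol_of_isRelTilde (hP := hP) hℳ hF').existsUnique_section W (fun U => chartMul lam lamL hab U W m n)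
    (fun i => chartMul_comm hP hℳ hF hL hab W m n i)).choose_spec.1 U

/-- The multiplication as a pairing. -/
def relPairing : Mero90.Pairing F L F' where
  b W m n := relMul hP hℳ hF hL hF' hab W m n
  add_left W m m' n := (isSol_of_isRelTilde (hP := hP) hℳ hF').section_ext fun U => by
    refine (relMul_spec hP hℳ hF hL hF' hab W _ n U).trans ?_
    refine Eq.trans ?_ (map_add ((lam' U.1 U.2).app W).hom _ _).symm
    refine Eq.trans ?_ (congrArg₂ (· + ·) (relMul_spec hP hℳ hF hL hF' hab W _ _ U) (relMul_spec hP hℳ hF hL hF' hab W _ _ U)).symm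
    refine tildeObj_ext ℳ c U.2 _ _ fun y hy => ?_
    refine (val_chartMul lam lamL hab U W _ n ⟨y, hy⟩).trans ?_
    refine (congrArg (fun q : Γ(tildeObj p chart ℳ a U.1 U.2, W) => _ • GrMod.val (V := RelProj.emb p chart U.1 U.2 ⁻¹ᵁ W) q ⟨y, hy⟩)
      (map_add ((lam U.1 U.2).app W).hom m m')).trans ?_
    exact (smul_add _ _ _).trans (congrArg₂ (· + ·) (val_chartMul lam lamL hab U W m n ⟨y, hy⟩).symm
      (val_chartMul lam lamL hab U W m' n ⟨y, hy⟩).symm)
  add_right W m n n' := (isSol_of_isRelTilde (hP := hP) hℳ hF').section_ext fun U => by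
    refine (relMul_spec hP hℳ hF hL hF' hab W m _ U).trans ?_
    refine Eq.trans ?_ (map_add ((lam' U.1 U.2).app W).hom _ _).symm
    refine Eq.trans ?_ (congrArg₂ (· + ·) (relMul_spec hP hℳ hF hL hF' hab W _ _ U) (relMul_spec hP hℳ hF hL hF' hab W _ _ U)).symm
    refine tildeObj_ext ℳ c U.2 _ _ fun y hy => ?_
    refine (val_chartMul lam lamL hab U W m _ ⟨y, hy⟩).trans ?_
    refine (congrArg (fun q : Γ((Scheme.Modules.pushforward (RelProj.emb p chart U.1 U.2)).obj (GrTwist.twist (𝒮.deg U.1 U.2) b), W) =>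
      GrTwist.val (V := RelProj.emb p chart U.1 U.2 ⁻¹ᵁ W) q ⟨y, hy⟩ • GrMod.val (V := RelProj.emb p chart U.1 U.2 ⁻¹ᵁ W) ((lam U.1 U.2).app W m) ⟨y, hy⟩)
      (map_add ((lamL U.1 U.2).app W).hom n n')).trans ?_
    exact (add_smul _ _ _).trans (congrArg₂ (· + ·) (val_chartMul lam lamL hab U W m n ⟨y, hy⟩).symm
      (val_chartMul lam lamL hab U W m n' ⟨y, hy⟩).symm)
  smul_left W r m n := (isSol_of_isRelTilde (hP := hP) hℳ hF').section_ext fun U => by
    refine (relMul_spec hP hℳ hF hL hF' hab W _ n U).trans ?_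
    refine Eq.trans ?_ (Scheme.Modules.Hom.app_smul (lam' U.1 U.2) r _).symm
    rw [relMul_spec]
    refine tildeObj_ext ℳ c U.2 _ _ fun y hy => ?_
    refine (val_chartMul lam lamL hab U W _ n ⟨y, hy⟩).trans ?_
    refine (congrArg (fun q : Γ(tildeObj p chart ℳ a U.1 U.2, W) => _ • GrMod.val (V := RelProj.emb p chart U.1 U.2 ⁻¹ᵁ W) q ⟨y, hy⟩)
      (Scheme.Modules.Hom.app_smul (lam U.1 U.2) r m)).trans ?_
    refine Eq.trans ?_ (congrArg (fun q => (((RelProj.emb p chart U.1 U.2).app W r).1 ⟨y, hy⟩).val • q) (val_chartMul lam lamL hab U W m n ⟨y, hy⟩).symm)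
    exact smul_comm (GrTwist.val (V := RelProj.emb p chart U.1 U.2 ⁻¹ᵁ W) ((lamL U.1 U.2).app W n) ⟨y, hy⟩)
      (((RelProj.emb p chart U.1 U.2).app W r).1 ⟨y, hy⟩).val
      (GrMod.val (V := RelProj.emb p chart U.1 U.2 ⁻¹ᵁ W) ((lam U.1 U.2).app W m) ⟨y, hy⟩)
  smul_right W r m n := (isSol_of_isRelTilde (hP := hP) hℳ hF').section_ext fun U => by
    refine (relMul_spec hP hℳ hF hL hF' hab W m _ U).trans ?_
    refine Eq.trans ?_ (Scheme.Modules.Hom.app_smul (lam' U.1 U.2) r _).symm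
    rw [relMul_spec]
    refine tildeObj_ext ℳ c U.2 _ _ fun y hy => ?_
    refine (val_chartMul lam lamL hab U W m _ ⟨y, hy⟩).trans ?_
    refine (congrArg (fun q : Γ((Scheme.Modules.pushforward (RelProj.emb p chart U.1 U.2)).obj (GrTwist.twist (𝒮.deg U.1 U.2) b), W) =>
      GrTwist.val (V := RelProj.emb p chart U.1 U.2 ⁻¹ᵁ W) q ⟨y, hy⟩ • GrMod.val (V := RelProj.emb p chart U.1 U.2 ⁻¹ᵁ W) ((lam U.1 U.2).app W m) ⟨y, hy⟩)
      (Scheme.Modules.Hom.app_smul (lamL U.1 U.2) r n)).trans ?_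
    refine Eq.trans ?_ (congrArg (fun q => (((RelProj.emb p chart U.1 U.2).app W r).1 ⟨y, hy⟩).val • q) (val_chartMul lam lamL hab U W m n ⟨y, hy⟩).symm)
    exact (congrArg (· • _) (GrTwist.coe_smul_val b y _ _)).trans (mul_smul _ _ _)
  nat W V h m n := (isSol_of_isRelTilde (hP := hP) hℳ hF').section_ext fun U => by
    refine (relMul_spec hP hℳ hF hL hF' hab V _ _ U).trans ?_
    refine Eq.trans ?_ (mres_app (lam' U.1 U.2) h _).symm
    rw [relMul_spec]
    refine tildeObj_ext ℳ c U.2 _ _ fun y hy => ?_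
    refine (val_chartMul lam lamL hab U V _ _ ⟨y, hy⟩).trans ?_
    refine Eq.trans ?_ (val_chartMul lam lamL hab U W m n ⟨y, h hy⟩).symm
    exact congrArg₂ (fun (x : GrTwist.Loc (𝒮.deg U.1 U.2) y) q => x • q)
      (congrArg (fun q => GrTwist.val (V := RelProj.emb p chart U.1 U.2 ⁻¹ᵁ V) q ⟨y, hy⟩) (mres_app (lamL U.1 U.2) h n))
      (congrArg (fun q => GrMod.val (V := RelProj.emb p chart U.1 U.2 ⁻¹ᵁ V) q ⟨y, hy⟩) (mres_app (lam U.1 U.2) h m))

/-- Where `O(b)` has a unit section the multiplication is bijective against it. -/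
theorem exists_frame_bijective {U : S.Opens} (hU : IsAffineOpen U) {D : (Proj (𝒮.deg U hU)).Opens}
    (e : GrT.TwistUnit (𝒜 := 𝒮.deg U hU) b D) :
    ∃ e' : Γ(L, RelProj.emb p chart U hU ''ᵁ D),
      Var76.LineBundle.IsFrame L (RelProj.emb p chart U hU ''ᵁ D) e' ∧
      ∀ (V : P.Opens) (hV : V ≤ RelProj.emb p chart U hU ''ᵁ D),
        Function.Bijective (fun m : Γ(F, V) => (relPairing hP hℳ hF hL hF' hab).b V m (mres L hV e')) := by
  have hOU : RelProj.emb p chart U hU ''ᵁ D ≤ p ⁻¹ᵁ U :=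
    ((RelProj.emb p chart U hU).image_le_opensRange D).trans_eq (opensRange_emb U hU)
  have hpre : RelProj.emb p chart U hU ⁻¹ᵁ (RelProj.emb p chart U hU ''ᵁ D) ≤ D :=
    ((RelProj.emb p chart U hU).preimage_image_eq D).le
  obtain ⟨g, hg⟩ := (hL.bijective U hU _ hOU).surjective (e.res hpre).fwd
  have hval : ∀ (V : P.Opens) (hV : V ≤ RelProj.emb p chart U hU ''ᵁ D)
      (y : (RelProj.emb p chart U hU ⁻¹ᵁ V : (Proj (𝒮.deg U hU)).Opens)),
      GrTwist.val (V := RelProj.emb p chart U hU ⁻¹ᵁ V) ((lamL U hU).app V (mres L hV g)) y =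
        (e.fwd.1 ⟨y.1, hpre (hV y.2)⟩).1 := by
    intro V hV y
    refine (congrArg (fun q => GrTwist.val (V := RelProj.emb p chart U hU ⁻¹ᵁ V) q y) (mres_app (lamL U hU) hV g)).trans ?_
    refine (val_mres_pushforward _ hV _ y).trans ?_
    exact congrArg (fun q => GrTwist.val (V := RelProj.emb p chart U hU ⁻¹ᵁ (RelProj.emb p chart U hU ''ᵁ D)) q ⟨y.1, hV y.2⟩) hg
  refine ⟨g, fun V hV => bijective_smul_of_unit hL hU e (hV.trans hOU) (fun y hy => hpre (hV hy)) _ (hval V hV),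
    fun V hV => ?_⟩
  have hVU : V ≤ p ⁻¹ᵁ U := hV.trans hOU
  have hpreV : RelProj.emb p chart U hU ⁻¹ᵁ V ≤ D := fun y hy => hpre (hV hy)
  refine (Function.Bijective.of_comp_iff' (hF'.bijective U hU V hVU) _).mp ?_
  have hfun : (lam' U hU).app V ∘ (fun m : Γ(F, V) => (relPairing hP hℳ hF hL hF' hab).b V m (mres L hV g)) =
      (fun s => GrT.castSect (U := op (RelProj.emb p chart U hU ⁻¹ᵁ V)) hab (GrT.twistMul (U := op (RelProj.emb p chart U hU ⁻¹ᵁ V)) (e.res hpreV).fwd s)) ∘ (lam U hU).app V := by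
    funext m
    refine (relMul_spec hP hℳ hF hL hF' hab V m _ ⟨U, hU⟩).trans ?_
    refine congrArg (fun t => GrT.castSect (U := op (RelProj.emb p chart U hU ⁻¹ᵁ V)) hab (GrT.twistMul (U := op (RelProj.emb p chart U hU ⁻¹ᵁ V)) t ((lam U hU).app V m))) ?_
    exact Subtype.ext (funext fun y => Subtype.ext (hval V hV y))
  rw [hfun]
  refine Function.Bijective.comp ?_ (hF.bijective U hU V hVU)
  subst hab
  exact GrT.twistMul_unit_bijective (e.res hpreV)

end Groth.Agent.EGAProj74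

namespace Groth.Agent.EGAProj74

variable {S P : Scheme.{u}} {𝒮 : RelProj.QCGrAlg S} {p : P ⟶ S}
  {chart : ∀ (U : S.Opens) (hU : IsAffineOpen U), (((p ⁻¹ᵁ U : P.Opens) : Scheme.{u}) ≅ Proj (𝒮.deg U hU))}
  {ℳ : RelProj.GrModule 𝒮} {a b c : ℤ} {F L F' : P.Modules}
  {lam : ∀ (U : S.Opens) (hU : IsAffineOpen U),
      F ⟶ (Scheme.Modules.pushforward (RelProj.emb p chart U hU)).obj (GrMod.tilde (𝒮.deg U hU) (ℳ.deg U hU) a)}
  {lamL : ∀ (U : S.Opens) (hU : IsAffineOpen U),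
      L ⟶ (Scheme.Modules.pushforward (RelProj.emb p chart U hU)).obj (GrTwist.twist (𝒮.deg U hU) b)}
  {lam' : ∀ (U : S.Opens) (hU : IsAffineOpen U),
      F' ⟶ (Scheme.Modules.pushforward (RelProj.emb p chart U hU)).obj (GrMod.tilde (𝒮.deg U hU) (ℳ.deg U hU) c)}
  (hP : RelProj.IsRelProj 𝒮 p chart) (hℳ : Coh.IsQCoh ((AMod.toOS 𝒮.toQCAlg).obj ℳ.mod))
  (hF : RelProj.IsRelTilde 𝒮 p chart ℳ a F lam) (hL : RelProj.IsRelTwist 𝒮 p chart b L lamL)
  (hF' : RelProj.IsRelTilde 𝒮 p chart ℳ c F' lam') (hab : a + b = c)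

include hP hℳ hF hL hF' hab in
theorem nonempty_tensor_iso (hgen : 𝒮.IsGenDegOne) : Nonempty (CohB1.tensorMod F L ≅ F') := by
  have : IsIso (relPairing hP hℳ hF hL hF' hab).lift := by
    refine isIso_lift_of_frame _ fun x => ?_
    obtain ⟨U, hU, y, rfl⟩ := exists_emb_apply (chart := chart) x
    obtain ⟨D, hyD, ⟨e⟩⟩ := GrT.exists_unit_of_generated (𝒜 := 𝒮.deg U hU) (le_antisymm
      (irrelevant_le_span_one_of_gen (hgen U hU))
      (Ideal.span_le.mpr fun a ha => HomogeneousIdeal.mem_irrelevant_of_mem _ one_pos ha)) b y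
    obtain ⟨e', he', hb⟩ := exists_frame_bijective hP hℳ hF hL hF' hab hU e
    exact ⟨_, e', ⟨y, hyD, rfl⟩, he', hb⟩
  exact ⟨asIso (relPairing hP hℳ hF hL hF' hab).lift⟩

include hP hℳ hF hL hF' hab in
theorem nonempty_tensor_restrict_iso {W : P.Opens}
    (hW : ∀ x ∈ W, ∃ (U : S.Opens) (hU : IsAffineOpen U) (i : ℕ) (f : 𝒮.presheaf.obj (op U))
      (_ : f ∈ 𝒮.deg U hU i), (i : ℤ) ∣ b ∧ x ∈ RelProj.emb p chart U hU ''ᵁ Proj.basicOpen (𝒮.deg U hU) f) :
    Nonempty (CohB1.tensorMod (F.restrict W.ι) (L.restrict W.ι) ≅ F'.restrict W.ι) := by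
  have : IsIso (restrictPairing (relPairing hP hℳ hF hL hF' hab) W.ι).lift := by
    refine isIso_lift_of_frame _ fun x => ?_
    obtain ⟨U, hU, i, f, hf, ⟨k, hk⟩, hxf⟩ := hW x.1 x.2
    have e : GrT.TwistUnit (𝒜 := 𝒮.deg U hU) b (Proj.basicOpen (𝒮.deg U hU) f) := by
      rw [hk, mul_comm]
      exact GrT.powUnit (𝒮.deg U hU) hf k
    obtain ⟨e', he', hb⟩ := exists_frame_bijective hP hℳ hF hL hF' hab hU e
    let O := RelProj.emb p chart U hU ''ᵁ Proj.basicOpen (𝒮.deg U hU) f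
    have hle : ∀ {V : (W : Scheme.{u}).Opens}, V ≤ W.ι ⁻¹ᵁ O → W.ι ''ᵁ V ≤ O := fun hV =>
      (W.ι.image_mono hV).trans (by rintro _ ⟨z, hz, rfl⟩; exact hz)
    refine ⟨W.ι ⁻¹ᵁ O, mres L (hle le_rfl) e', hxf, fun V hV => ?_, fun V hV => ?_⟩
    · have h1 := he' _ (hle hV)
      have h2 : (fun r : Γ((W : Scheme.{u}), V) => r • Var76.LineBundle.res (L.restrict W.ι) hV (mres L (hle le_rfl) e')) =
          (fun r : Γ(P, W.ι ''ᵁ V) => r • mres L (hle hV) e') ∘ (W.ι.appIso V).inv := by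
        funext r
        show (W.ι.appIso V).inv r • mres L (W.ι.image_mono hV) (mres L (hle le_rfl) e') = _
        rw [mres_mres]
        rfl
      rw [h2]
      exact h1.comp (ConcreteCategory.bijective_of_isIso (W.ι.appIso V).inv)
    · have h2 : (fun m : Γ(F.restrict W.ι, V) => (restrictPairing (relPairing hP hℳ hF hL hF' hab) W.ι).b V m
          (Var76.LineBundle.res (L.restrict W.ι) hV (mres L (hle le_rfl) e'))) =
          (fun m : Γ(F, W.ι ''ᵁ V) => (relPairing hP hℳ hF hL hF' hab).b (W.ι ''ᵁ V) m (mres L (hle hV) e')) := by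
        funext m
        show (relPairing hP hℳ hF hL hF' hab).b _ m (mres L (W.ι.image_mono hV) (mres L (hle le_rfl) e')) = _
        rw [mres_mres]
        rfl
      rw [h2]
      exact hb _ (hle hV)
  exact ⟨asIso (restrictPairing (relPairing hP hℳ hF hL hF' hab) W.ι).lift⟩

omit ℳ F F' lam lam' hℳ hF hF' hab hL in
include hP in
theorem nonempty_twist_zero_iso {L₀ : P.Modules} {d : ℤ} (hd : d = 0)
    {lam₀ : ∀ (U : S.Opens) (hU : IsAffineOpen U),
      L₀ ⟶ (Scheme.Modules.pushforward (RelProj.emb p chart U hU)).obj (GrTwist.twist (𝒮.deg U hU) d)}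
    (h₀ : RelProj.IsRelTwist 𝒮 p chart d L₀ lam₀) (W : P.Opens) :
    Nonempty (L₀.restrict W.ι ≅ Coh.structureModule (W : Scheme.{u})) := by
  subst hd
  have key : ∀ {L₁ : P.Modules}
      {lam₁ : ∀ (U : S.Opens) (hU : IsAffineOpen U),
      L₁ ⟶ (Scheme.Modules.pushforward (RelProj.emb p chart U hU)).obj (GrTwist.twist (𝒮.deg U hU) ((0 : ℤ) * ((0 : ℕ) : ℤ)))},
      RelProj.IsRelTwist 𝒮 p chart ((0 : ℤ) * ((0 : ℕ) : ℤ)) L₁ lam₁ →
        Nonempty (L₁.restrict W.ι ≅ Coh.structureModule (W : Scheme.{u})) := fun h => by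
    refine nonempty_restrict_iso_of_pow hP (f := 1) (fun U hU => ?_) (fun U hU => ?_) h
    · rw [map_one]
      exact SetLike.GradedOne.one_mem
    · rw [map_one, Proj.basicOpen_one]
      exact le_top
  exact key h₀

end Groth.Agent.EGAProj74
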