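import Groth.Agent.EGAProj74.Dom
import Groth.Prelude.Def_PCone

/-!
The domain of definition for gradings by submodules.
-/

set_option autoImplicit false

universe u

open CategoryTheory CategoryTheory.Limits AlgebraicGeometry TopologicalSpace Opposite
open scoped HomogeneousIdeal

noncomputable section

namespace Groth.Agent.EGAProj74

variable {R A B : Type u} [CommRing R] [CommRing A] [Algebra R A] {𝒜 : ℕ → Submodule R A} [GradedAlgebra 𝒜]
  [CommRing B] [Algebra R B] {ℬ : ℕ → Submodule R B} [GradedAlgebra ℬ] (φ : 𝒜 →+*ᵍ ℬ)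

theorem dom_eq_domOpen : PCone.dom φ = RelCone.domOpen φ := by
  refine le_antisymm (iSup_le ?_) fun x hx => ?_
  · rintro ⟨f, d, hd, hf⟩
    exact basicOpen_le_domOpen φ hd hf
  · obtain ⟨d, f, hd, hf, hfx⟩ := exists_of_mem_domOpen φ hx
    exact Opens.mem_iSup.mpr ⟨⟨f, d, hd, hf⟩, hfx⟩

theorem eq_isoOfEq_comp_domMap (r : (PCone.dom φ : Scheme.{u}) ⟶ Proj 𝒜)
    (hr : ∀ (d : ℕ) (f : A) (hd : 0 < d) (hf : f ∈ 𝒜 d),
      PCone.chart φ hf hd ≫ r =
        Spec.map (CommRingCat.ofHom (HomogeneousLocalization.Away.map φ f)) ≫ Proj.awayι 𝒜 f hf hd) :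
    r = ((Proj ℬ).isoOfEq (dom_eq_domOpen φ)).hom ≫ domMap φ := by
  rw [← Iso.inv_comp_eq]
  refine domMap_eq φ fun d hd f hf => ?_
  have e : domChart φ hd f hf ≫ ((Proj ℬ).isoOfEq (dom_eq_domOpen φ)).inv = PCone.chart φ hf hd := by
    refine (cancel_mono (PCone.dom φ).ι).mp ?_
    refine Eq.trans ?_ (IsOpenImmersion.lift_fac _ _ (PCone.range_awayι_subset φ hf hd)).symm
    rw [Category.assoc, Scheme.isoOfEq_inv_ι, domChart_ι]
  rw [reassoc_of% e, hr d f hd hf]

end Groth.Agent.EGAProj74
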