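import Groth.Agent.EGAProj74.RLAmple

/-!
Inverse images of degree zero fractions under `r_{L,ψ}`.
-/

set_option autoImplicit false
set_option backward.isDefEq.respectTransparency.types false

universe u

open CategoryTheory CategoryTheory.Limits AlgebraicGeometry TopologicalSpace Opposite
open HomogeneousLocalization
open scoped HomogeneousIdeal

noncomputable section

namespace Groth.Agent.EGAProj74.RLPull

open Groth.Agent.EGAProj74

theorem appLE_congr_hom {A B : Scheme.{u}} {f g : A ⟶ B} (h : f = g) {U : B.Opens} {V : A.Opens}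
    (e : V ≤ f ⁻¹ᵁ U) : f.appLE U V e = g.appLE U V (h ▸ e) := by
  subst h; rfl

theorem awayToSection_appLE {A σ : Type u} [CommRing A] [SetLike σ A] [AddSubgroupClass σ A] (𝒜 : ℕ → σ)
    [GradedRing 𝒜] (f : A) {m : ℕ} (hf : f ∈ 𝒜 m) (hm : 0 < m)
    (h : ⊤ ≤ Proj.awayι 𝒜 f hf hm ⁻¹ᵁ Proj.basicOpen 𝒜 f) :
    Proj.awayToSection 𝒜 f ≫ (Proj.awayι 𝒜 f hf hm).appLE (Proj.basicOpen 𝒜 f) ⊤ h =
      (Scheme.ΓSpecIso _).inv := by
  have h1 : (Proj.basicOpenIsoSpec 𝒜 f hf hm).hom ≫ Proj.awayι 𝒜 f hf hm = (Proj.basicOpen 𝒜 f).ι :=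
    Iso.hom_inv_id_assoc _ _
  have : IsIso ((Proj.basicOpenIsoSpec 𝒜 f hf hm).hom.app ⊤) := inferInstance
  rw [← cancel_mono ((Proj.basicOpenIsoSpec 𝒜 f hf hm).hom.app ⊤), Category.assoc,
    Scheme.Hom.app_eq_appLE, Scheme.Hom.appLE_comp_appLE, appLE_congr_hom h1,
    ← Scheme.Hom.app_eq_appLE]
  refine Eq.trans ?_ (((Scheme.ΓSpecIso _).inv ≫= Proj.basicOpenToSpec_app_top 𝒜 f).trans
    (Iso.inv_hom_id_assoc _ _)).symm
  rw [Scheme.Opens.ι_appLE]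
  rfl

variable {X PL : Scheme.{u}} {L : X.Modules} (hL : PicF.IsInvertible L) (hLq : L.IsQuasicoherent)
  {𝒮L : RelProj.QCGrAlg X} {j : L ⟶ 𝒮L.toModule} (hj : RelProj.IsGrSymAlg L 𝒮L j)
  {pL : PL ⟶ X}
  {chartL : ∀ (U : X.Opens) (hU : IsAffineOpen U), (((pL ⁻¹ᵁ U : PL.Opens) : Scheme.{u}) ≅ Proj (𝒮L.deg U hU))}
  (hPL : RelProj.IsRelProj 𝒮L pL chartL)
  {Y : Scheme.{u}} {U : Y.Opens} {q : X ⟶ Y} {𝒮 : RelProj.QCGrAlg Y} {u : RelProj.QGrHom q 𝒮 𝒮L}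
  {P : Scheme.{u}} {p : P ⟶ Y}
  {chart : ∀ (U : Y.Opens) (hU : IsAffineOpen U), (((p ⁻¹ᵁ U : P.Opens) : Scheme.{u}) ≅ Proj (𝒮.deg U hU))}
  {r : (RelProj.domQ u pL chartL : Scheme.{u}) ⟶ P}
  (hr : RelProj.IsProjQMapOn u p chart pL chartL (RelProj.domQ u pL chartL) r) (hP : RelProj.IsRelProj 𝒮 p chart)
  {hU : IsAffineOpen U} {d : ℕ} (hd : 0 < d) {s t : 𝒮.presheaf.obj (op U)} (hs : s ∈ 𝒮.deg U hU d)
  (ht : t ∈ 𝒮.deg U hU d)

/-- `t / s` as a function on the piece `D(s)`. -/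
def frac (p : P ⟶ Y)
    (chart : ∀ (U : Y.Opens) (hU : IsAffineOpen U), (((p ⁻¹ᵁ U : P.Opens) : Scheme.{u}) ≅ Proj (𝒮.deg U hU)))
    (hs : s ∈ 𝒮.deg U hU d) (ht : t ∈ 𝒮.deg U hU d) : Γ(P, RLRel.piece p chart hU s) :=
  ((RelProj.emb p chart U hU).appIso (Proj.basicOpen (𝒮.deg U hU) s)).inv
    (Proj.awayToSection (𝒮.deg U hU) s (Away.mk (𝒮.deg U hU) hs 1 t (by simpa using ht)))

variable {V : X.Opens} (hV : IsAffineOpen V) (hVU : V ≤ q ⁻¹ᵁ U) (hVs : V ≤ RLRel.nonVanish u d s)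

include hL hLq hj hPL hr hP hd hs ht hV hVU hVs

set_option maxHeartbeats 1600000 in
/-- The inverse image of `t / s` is the coordinate of `t` in `s`. -/
theorem appLE_frac {γ : Γ(X, V)}
    (hγ : (𝒮L.str.app (op V)).hom γ * (u.appLE U V hVU).hom s = (u.appLE U V hVU).hom t)
    (h₁ : ((RelProj.domQ u pL chartL).ι ≫ pL) ⁻¹ᵁ V ≤ r ⁻¹ᵁ RLRel.piece p chart hU s) :
    r.appLE (RLRel.piece p chart hU s) (((RelProj.domQ u pL chartL).ι ≫ pL) ⁻¹ᵁ V) h₁ (frac p chart hs ht) =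
      ((RelProj.domQ u pL chartL).ι ≫ pL).app V γ := by
  have := isIso_pL hL hLq hj hPL
  let φ := u.gradedAt U hU V hV hVU
  let jj := domChart φ hd s hs ≫ qι u (p' := pL) (chart' := chartL) U hU V hV hVU
  let p' := (RelProj.domQ u pL chartL).ι ≫ pL
  let O := p' ⁻¹ᵁ V
  let tz := 𝒮L.strZero V hV ≫
    CommRingCat.ofHom (fromZeroRingHom (𝒮L.deg V hV) (Submonoid.powers (φ s)))
  have hjι : jj ≫ (RelProj.domQ u pL chartL).ι =
      Proj.awayι (𝒮L.deg V hV) (φ s) (φ.map_mem hs) hd ≫ RelProj.emb pL chartL V hV := by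
    simp only [jj, Category.assoc, qι_ι]
    exact (Category.assoc _ _ _).symm.trans (domChart_ι φ hd s hs =≫ _)
  have hjp : jj ≫ p' = Spec.map tz ≫ hV.fromSpec := by
    rw [reassoc_of% hjι, emb_p hPL, Proj.awayι_toSpecZero_assoc, ← Spec.map_comp_assoc]
  have hjr : jj ≫ r = Spec.map (CommRingCat.ofHom (Away.map φ s)) ≫
      Proj.awayι (𝒮.deg U hU) s hs hd ≫ RelProj.emb p chart U hU := by
    simp only [jj, Category.assoc]
    rw [(isProjQMapOn_iff u).mp hr U hU V hV hVU, domChart_domMap_assoc]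
    first | done | exact Category.assoc _ _ _
  have hrange : O ≤ jj.opensRange := by
    intro z hz
    obtain ⟨y, hy⟩ := exists_lift (chart := chartL) ((RelProj.domQ u pL chartL).ι z) hV hz
    have hmem : pL.base ((RelProj.emb pL chartL V hV).base y) ∈ RLRel.nonVanish u d s := hy ▸ hVs hz
    obtain ⟨c, hc⟩ : y ∈ (Proj.awayι (𝒮L.deg V hV) (φ s) (φ.map_mem hs) hd).opensRange := by
      rw [Proj.opensRange_awayι]
      exact (RLRel.mem_nonVanish_iff hL hLq hj hPL u hd hs hV hVU y).1 hmem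
    refine ⟨c, (RelProj.domQ u pL chartL).ι.isOpenEmbedding.injective ?_⟩
    rw [← TopCat.comp_app, ← Scheme.Hom.comp_base, hjι, Scheme.Hom.comp_base, TopCat.comp_app, hc, hy]
  have hO : (⊤ : (Spec (CommRingCat.of (Away (𝒮L.deg V hV) (φ s)))).Opens) ≤ jj ⁻¹ᵁ O := fun c _ => by
    show (jj ≫ p') c ∈ V
    rw [hjp]
    exact hV.opensRange_fromSpec.le ⟨_, rfl⟩
  have hinj : Function.Injective (jj.appLE O ⊤ hO) := by
    have : IsIso (jj.app O) := jj.isIso_app O hrange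
    have : IsIso (jj.appLE O ⊤ hO) := by
      have e : jj ⁻¹ᵁ O = ⊤ := top_le_iff.1 hO
      have e2 : jj.appLE O ⊤ hO = jj.app O ≫ (Spec (CommRingCat.of (Away (𝒮L.deg V hV) (φ s)))).presheaf.map (eqToHom e.symm).op := rfl
      rw [e2]; infer_instance
    exact (ConcreteCategory.bijective_of_isIso (jj.appLE O ⊤ hO)).1
  refine hinj ?_
  rw [← CommRingCat.comp_apply, Scheme.Hom.appLE_comp_appLE, Scheme.Hom.app_eq_appLE, ← CommRingCat.comp_apply,
    Scheme.Hom.appLE_comp_appLE, appLE_congr_hom hjr, appLE_congr_hom hjp]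
  rw [← Scheme.Hom.appLE_comp_appLE _ hV.fromSpec V ⊤ ⊤ hV.fromSpec_preimage_self.ge le_top]
  have hD : (⊤ : (Spec (CommRingCat.of (Away (𝒮.deg U hU) s))).Opens) ≤
      Proj.awayι (𝒮.deg U hU) s hs hd ⁻¹ᵁ Proj.basicOpen (𝒮.deg U hU) s := by
    rw [← Proj.opensRange_awayι (𝒮.deg U hU) s hs hd, Scheme.Hom.preimage_opensRange]
  have hD' : Proj.basicOpen (𝒮.deg U hU) s ≤ RelProj.emb p chart U hU ⁻¹ᵁ RLRel.piece p chart hU s :=
    (Scheme.Hom.preimage_image_eq _ _).ge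
  rw [← Scheme.Hom.appLE_comp_appLE (Spec.map (CommRingCat.ofHom (Away.map φ s)))
      (Proj.awayι (𝒮.deg U hU) s hs hd ≫ RelProj.emb p chart U hU) (RLRel.piece p chart hU s) ⊤ ⊤
      (hD.trans (Scheme.Hom.preimage_mono _ hD')) le_top,
    ← Scheme.Hom.appLE_comp_appLE (Proj.awayι (𝒮.deg U hU) s hs hd) (RelProj.emb p chart U hU)
      (RLRel.piece p chart hU s) (Proj.basicOpen (𝒮.deg U hU) s) ⊤ hD' hD]
  have eemb : (RelProj.emb p chart U hU).appLE (RLRel.piece p chart hU s) (Proj.basicOpen (𝒮.deg U hU) s) hD'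
      (frac p chart hs ht) = Proj.awayToSection (𝒮.deg U hU) s (Away.mk (𝒮.deg U hU) hs 1 t (by simpa using ht)) := by
    rw [frac, ← CommRingCat.comp_apply, Scheme.Hom.appIso_inv_appLE]
    simp
  have eaway := congr($(awayToSection_appLE (𝒮.deg U hU) s hs hd hD).hom
    (Away.mk (𝒮.deg U hU) hs 1 t (by simpa using ht)))
  simp only [CommRingCat.comp_apply]
  rw [eemb, show (Proj.awayι (𝒮.deg U hU) s hs hd).appLE (Proj.basicOpen (𝒮.deg U hU) s) ⊤ hD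
      (Proj.awayToSection (𝒮.deg U hU) s (Away.mk (𝒮.deg U hU) hs 1 t (by simpa using ht))) = _ from eaway]
  have efs : hV.fromSpec.appLE V ⊤ hV.fromSpec_preimage_self.ge γ = (Scheme.ΓSpecIso Γ(X, V)).inv γ := by
    rw [Scheme.Hom.appLE, IsAffineOpen.fromSpec_app_self, Category.assoc, ← Functor.map_comp]
    simp
  rw [efs, ← CommRingCat.comp_apply, ← CommRingCat.comp_apply]
  have hSpec : ∀ {R R' : CommRingCat.{u}} (f : R ⟶ R') (h : ⊤ ≤ Spec.map f ⁻¹ᵁ ⊤),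
      (Scheme.ΓSpecIso R).inv ≫ (Spec.map f).appLE ⊤ ⊤ h = f ≫ (Scheme.ΓSpecIso R').inv := fun f h => by
    refine (congrArg (_ ≫ ·) ?_).trans (Scheme.ΓSpecIso_inv_naturality f).symm
    simp [Scheme.Hom.appLE]
  rw [hSpec, hSpec, CommRingCat.comp_apply, CommRingCat.comp_apply]
  congr 1
  refine HomogeneousLocalization.val_injective _ ?_
  show (Away.map φ s _).val = ((fromZeroRingHom (𝒮L.deg V hV) (Submonoid.powers (φ s))) (𝒮L.strZero V hV γ)).val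
  rw [Away.map_mk, Away.val_mk, show ((fromZeroRingHom (𝒮L.deg V hV) (Submonoid.powers (φ s)))
      (𝒮L.strZero V hV γ)).val = Localization.mk ((𝒮L.str.app (op V)).hom γ) 1 from val_mk _,
    Localization.mk_eq_mk_iff, Localization.r_iff_exists]
  refine ⟨1, ?_⟩
  simp only [OneMemClass.coe_one, one_mul, RelProj.QGrHom.gradedAt_apply, φ, pow_one]
  rw [← hγ, mul_comm]

end Groth.Agent.EGAProj74.RLPull
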