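import Mathlib.AlgebraicGeometry.AffineScheme

/-!
Morphisms into an affine open through their map on functions.
-/

set_option autoImplicit false

universe u

open CategoryTheory AlgebraicGeometry TopologicalSpace Opposite

noncomputable section

namespace Groth.Agent.EGAProj74

variable {X P : Scheme.{u}}

/-- The morphism on `V` given by a map on functions. -/
def affMor {D : P.Opens} (hD : IsAffineOpen D) {V : X.Opens} (θ : Γ(P, D) ⟶ Γ(X, V)) :
    (V : Scheme.{u}) ⟶ P :=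
  V.toSpecΓ ≫ Spec.map θ ≫ hD.fromSpec

theorem toSpecΓ_ext' {V : X.Opens} {R : CommRingCat.{u}} {a b : R ⟶ Γ(X, V)}
    (h : V.toSpecΓ ≫ Spec.map a = V.toSpecΓ ≫ Spec.map b) : a = b := by
  have h2 := congrArg (fun m : (V : Scheme.{u}) ⟶ Spec R =>
    (Scheme.ΓSpecIso R).inv ≫ m.appTop ≫ V.topIso.hom) h
  simp only [Scheme.Hom.comp_appTop, Scheme.Opens.toSpecΓ_appTop, Category.assoc,
    Scheme.ΓSpecIso_naturality_assoc, Iso.inv_hom_id_assoc, Iso.inv_hom_id, Category.comp_id] at h2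
  exact h2

theorem affMor_inj {D : P.Opens} (hD : IsAffineOpen D) {V : X.Opens} {θ θ' : Γ(P, D) ⟶ Γ(X, V)}
    (h : affMor hD θ = affMor hD θ') : θ = θ' := by
  refine toSpecΓ_ext' ?_
  rw [← cancel_mono hD.fromSpec, Category.assoc, Category.assoc]
  exact h

theorem ι_comp_eq_affMor (r : X ⟶ P) {D : P.Opens} (hD : IsAffineOpen D) {V : X.Opens} (e : V ≤ r ⁻¹ᵁ D) :
    V.ι ≫ r = affMor hD (r.appLE D V e) := by
  have h : V.toSpecΓ ≫ Spec.map (r.appLE D V e) = r.resLE D V e ≫ D.toSpecΓ := by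
    rw [Scheme.Hom.appLE, Spec.map_comp, Scheme.Opens.toSpecΓ_SpecMap_presheaf_map_assoc,
      Scheme.Opens.toSpecΓ_naturality, Scheme.Hom.resLE, Category.assoc]
  rw [affMor, ← Category.assoc, h, Category.assoc, IsAffineOpen.toSpecΓ_fromSpec, Scheme.Hom.resLE_comp_ι]

theorem le_preimage_of_affMor (r : X ⟶ P) {D : P.Opens} (hD : IsAffineOpen D) {V : X.Opens}
    (θ : Γ(P, D) ⟶ Γ(X, V)) (h : V.ι ≫ r = affMor hD θ) :
    ∃ e : V ≤ r ⁻¹ᵁ D, r.appLE D V e = θ := by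
  have e : V ≤ r ⁻¹ᵁ D := fun x hx => by
    show r x ∈ D
    have hx' : r x = hD.fromSpec ((Spec.map θ).base (V.toSpecΓ.base ⟨x, hx⟩)) :=
      congr($(h).base ⟨x, hx⟩)
    rw [hx', ← SetLike.mem_coe, ← hD.range_fromSpec]
    exact ⟨_, rfl⟩
  exact ⟨e, affMor_inj hD ((ι_comp_eq_affMor r hD e).symm.trans h)⟩

theorem affMor_map {D D' : P.Opens} (hD : IsAffineOpen D) (hD' : IsAffineOpen D') (h : D' ≤ D)
    {V : X.Opens} (θ : Γ(P, D') ⟶ Γ(X, V)) :
    affMor hD (P.presheaf.map (homOfLE h).op ≫ θ) = affMor hD' θ := by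
  rw [affMor, affMor, Spec.map_comp, Category.assoc, hD.map_fromSpec hD']

theorem homOfLE_affMor {D : P.Opens} (hD : IsAffineOpen D) {V V' : X.Opens} (h : V' ≤ V)
    (θ : Γ(P, D) ⟶ Γ(X, V)) :
    X.homOfLE h ≫ affMor hD θ = affMor hD (θ ≫ X.presheaf.map (homOfLE h).op) := by
  rw [affMor, affMor, ← Scheme.Opens.toSpecΓ_SpecMap_presheaf_map_assoc, ← Spec.map_comp_assoc]

theorem affMor_comp {S : Scheme.{u}} (p : P ⟶ S) {U : S.Opens} (hU : IsAffineOpen U) {D : P.Opens}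
    (hD : IsAffineOpen D) (hDU : D ≤ p ⁻¹ᵁ U) {V : X.Opens} (θ : Γ(P, D) ⟶ Γ(X, V)) :
    affMor hD θ ≫ p = affMor hU (p.appLE U D hDU ≫ θ) := by
  rw [affMor, affMor, Spec.map_comp, Category.assoc, Category.assoc, Category.assoc,
    hU.SpecMap_appLE_fromSpec p hD hDU]

end Groth.Agent.EGAProj74
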