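import Groth.Agent.EGAProj74.BaseChange
import Mathlib.AlgebraicGeometry.Modules.Sheaf
import Mathlib.Algebra.Category.ModuleCat.Sheaf.Limits
import Mathlib.Algebra.Category.Grp.Limits
import Mathlib.CategoryTheory.Limits.FunctorCategory.Basic

/-!
Gluing modules on a scheme over a base from data indexed by the affine opens of the base.
-/

set_option autoImplicit false

universe u

open CategoryTheory CategoryTheory.Limits AlgebraicGeometry TopologicalSpace Opposite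

noncomputable section

namespace Groth.Agent.EGAProj74

variable {S P : Scheme.{u}}

/-- Restriction of sections of a module. -/
abbrev mres (M : P.Modules) {W W' : P.Opens} (h : W' ≤ W) (x : Γ(M, W)) : Γ(M, W') :=
  (M.presheaf.map (homOfLE h).op).hom x

theorem mres_app {M N : P.Modules} (φ : M ⟶ N) {W W' : P.Opens} (h : W' ≤ W) (x : Γ(M, W)) :
    φ.app W' (mres M h x) = mres N h (φ.app W x) :=
  congr($(φ.mapPresheaf.naturality (homOfLE h).op).hom x)

theorem mres_mres (M : P.Modules) {W W' W'' : P.Opens} (h : W' ≤ W) (h' : W'' ≤ W') (x : Γ(M, W)) :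
    mres M h' (mres M h x) = mres M (h'.trans h) x := by
  rw [mres, mres, mres, ← ConcreteCategory.comp_apply, ← Functor.map_comp]
  rfl

/-- A family of modules on `P`, one for each affine open `U` of the base, each carried by `p⁻¹(U)`, with
identifications on smaller opens. -/
structure AffSystem (p : P ⟶ S) where
  /-- the functor -/
  D : (S.affineOpens)ᵒᵖ ⥤ P.Modules
  /-- every member is carried by the preimage of its open -/
  supp : ∀ (U : S.affineOpens) (W W' : P.Opens) (h : W' ≤ W), W ⊓ p ⁻¹ᵁ U.1 ≤ W' →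
    Function.Bijective (mres (D.obj (op U)) h)
  /-- the transition maps are bijective over the smaller open -/
  bij : ∀ {U V : S.affineOpens} (i : V ⟶ U) (W : P.Opens), W ≤ p ⁻¹ᵁ V.1 →
    Function.Bijective ((D.map i.op).app W)

namespace AffSystem

variable {p : P ⟶ S} (𝒢 : AffSystem p)

/-- Restriction maps of the family. -/
theorem exists_affineOpens_le {O : S.Opens} {s : S} (hs : s ∈ O) :
    ∃ D : S.affineOpens, s ∈ D.1 ∧ D.1 ≤ O := by
  obtain ⟨_, ⟨D, hD, rfl⟩, hsD, hD'⟩ := (Scheme.isBasis_affineOpens S).exists_subset_of_mem_open hs O.2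
  exact ⟨⟨D, hD⟩, hsD, hD'⟩

theorem map_map {U V D : S.affineOpens} (i : V ⟶ U) (j : D ⟶ V) (W : P.Opens) (x : Γ(𝒢.D.obj (op U), W)) :
    (𝒢.D.map j.op).app W ((𝒢.D.map i.op).app W x) = (𝒢.D.map (j ≫ i).op).app W x := by
  rw [op_comp, Functor.map_comp]
  rfl


theorem eq_of_cover {V : S.affineOpens} (W : P.Opens) (x x' : Γ(𝒢.D.obj (op V), W)) {O : S.Opens}
    (hW : W ≤ p ⁻¹ᵁ O)
    (hxx : ∀ (D : S.affineOpens), D.1 ≤ O → D.1 ≤ V.1 →
      mres _ (inf_le_left : W ⊓ p ⁻¹ᵁ D.1 ≤ W) x = mres _ (inf_le_left : W ⊓ p ⁻¹ᵁ D.1 ≤ W) x') : x = x' := by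
  refine (𝒢.supp V W (W ⊓ p ⁻¹ᵁ V.1) inf_le_left le_rfl).injective ?_
  let ι := {D : S.affineOpens // D.1 ≤ O ∧ D.1 ≤ V.1}
  refine TopCat.Sheaf.eq_of_locally_eq' (F := ⟨(𝒢.D.obj (op V)).presheaf, (𝒢.D.obj (op V)).isSheaf⟩)
    (fun D : ι => W ⊓ p ⁻¹ᵁ D.1.1) (W ⊓ p ⁻¹ᵁ V.1)
    (fun D => homOfLE (inf_le_inf_left _ (p.preimage_mono D.2.2))) ?_ _ _ fun D => ?_
  · intro z hz
    obtain ⟨D, hzD, hD⟩ := exists_affineOpens_le (O := O ⊓ V.1) (s := p.base z) ⟨hW hz.1, hz.2⟩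
    exact Opens.mem_iSup.mpr ⟨⟨D, hD.trans inf_le_left, hD.trans inf_le_right⟩, hz.1, hzD⟩
  · change mres _ _ (mres _ _ x) = mres _ _ (mres _ _ x')
    rw [mres_mres, mres_mres]
    exact hxx D.1 D.2.1 D.2.2

/-- The glued module. -/
abbrev glued : P.Modules := limit 𝒢.D

/-- The projection of the glued module to a member of the family. -/
abbrev π (U : S.affineOpens) : 𝒢.glued ⟶ 𝒢.D.obj (op U) := limit.π 𝒢.D (op U)

theorem π_map {U V : S.affineOpens} (i : V ⟶ U) : 𝒢.π U ≫ 𝒢.D.map i.op = 𝒢.π V := limit.w 𝒢.D i.op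

/-- Sections of the glued module are compatible families. -/
theorem existsUnique_section (W : P.Opens) (s : ∀ U : S.affineOpens, Γ(𝒢.D.obj (op U), W))
    (hs : ∀ {U V : S.affineOpens} (i : V ⟶ U), (𝒢.D.map i.op).app W (s U) = s V) :
    ∃! t : Γ(𝒢.glued, W), ∀ U, (𝒢.π U).app W t = s U := by
  let F₁ := Scheme.Modules.toPresheaf P ⋙ (evaluation (Opens P)ᵒᵖ AddCommGrpCat.{u}).obj (op W)
  have hev : PreservesLimitsOfShape (S.affineOpens)ᵒᵖ
      ((evaluation (Opens P)ᵒᵖ AddCommGrpCat.{u}).obj (op W)) := evaluation_preservesLimitsOfShape _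
  have : PreservesLimitsOfShape (S.affineOpens)ᵒᵖ F₁ :=
    @comp_preservesLimitsOfShape _ _ _ _ _ _ _ _ (Scheme.Modules.toPresheaf P) _ inferInstance hev
  have : PreservesLimitsOfShape (S.affineOpens)ᵒᵖ (F₁ ⋙ forget AddCommGrpCat.{u}) :=
    comp_preservesLimitsOfShape _ _
  have h := (Types.isLimit_iff _).mp
    ⟨isLimitOfPreserves (F₁ ⋙ forget AddCommGrpCat.{u}) (limit.isLimit 𝒢.D)⟩
  obtain ⟨t, ht, hu⟩ := h (fun U => s U.unop) (fun {U V} i => hs i.unop)
  exact ⟨t, fun U => ht (op U), fun t' ht' => hu t' fun U => ht' U.unop⟩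

/-- Sections of the glued module inside `p⁻¹(U)` are the sections of the member at `U`. -/
theorem bijective_π (U : S.affineOpens) (W : P.Opens) (hW : W ≤ p ⁻¹ᵁ U.1) :
    Function.Bijective ((𝒢.π U).app W) := by
  have key : ∀ (t : Γ(𝒢.glued, W)) {U V : S.affineOpens} (i : V ⟶ U),
      (𝒢.D.map i.op).app W ((𝒢.π U).app W t) = (𝒢.π V).app W t := fun t U V i => by
    rw [← 𝒢.π_map i]; rfl
  refine ⟨fun t t' e => ?_, fun x => ?_⟩
  · obtain ⟨t₀, -, hu⟩ := 𝒢.existsUnique_section W (fun V => (𝒢.π V).app W t') (fun i => key t' i)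
    refine (hu t fun V => ?_).trans (hu t' fun _ => rfl).symm
    refine 𝒢.eq_of_cover W _ _ hW fun D hDU hDV => ?_
    refine (𝒢.bij (homOfLE hDV) _ inf_le_right).injective ?_
    rw [mres_app, mres_app, key, key, ← key t (homOfLE hDU), ← key t' (homOfLE hDU), e]
  · have hex : ∀ V : S.affineOpens, ∃ y : Γ(𝒢.D.obj (op V), W), ∀ (D : S.affineOpens) (i : D ⟶ V) (j : D ⟶ U)
        (W' : P.Opens) (h : W' ≤ W), W' ≤ p ⁻¹ᵁ D.1 →
          (𝒢.D.map i.op).app W' (mres _ h y) = (𝒢.D.map j.op).app W' (mres _ h x) := by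
      intro V
      let ι := {D : S.affineOpens // D.1 ≤ U.1 ∧ D.1 ≤ V.1}
      let O : ι → P.Opens := fun D => W ⊓ p ⁻¹ᵁ D.1.1
      choose sf hsf using fun D : ι => (𝒢.bij (homOfLE D.2.2 : D.1 ⟶ V) (O D) inf_le_right).surjective
        ((𝒢.D.map (homOfLE D.2.1 : D.1 ⟶ U).op).app (O D) (mres _ inf_le_left x))
      have hsf' : ∀ (D : ι) (E : S.affineOpens) (k : E ⟶ D.1) (W' : P.Opens) (h : W' ≤ O D),
          (𝒢.D.map (k ≫ homOfLE D.2.2 : E ⟶ V).op).app W' (mres _ h (sf D)) =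
            (𝒢.D.map (k ≫ homOfLE D.2.1 : E ⟶ U).op).app W' (mres _ (h.trans inf_le_left) x) := by
        intro D E k W' h
        rw [← 𝒢.map_map, ← 𝒢.map_map, mres_app, hsf, ← mres_app, mres_mres]
      obtain ⟨y₀, hy₀, -⟩ := TopCat.Sheaf.existsUnique_gluing'
        ⟨(𝒢.D.obj (op V)).presheaf, (𝒢.D.obj (op V)).isSheaf⟩ O (W ⊓ p ⁻¹ᵁ V.1)
        (fun D => homOfLE (inf_le_inf_left _ (p.preimage_mono D.2.2)))
        (fun z hz => by
          obtain ⟨D, hzD, hD⟩ := exists_affineOpens_le (O := U.1 ⊓ V.1) (s := p.base z) ⟨hW hz.1, hz.2⟩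
          exact Opens.mem_iSup.mpr ⟨⟨D, hD.trans inf_le_left, hD.trans inf_le_right⟩, hz.1, hzD⟩)
        sf (fun a b => by
          change mres _ (inf_le_left : O a ⊓ O b ≤ O a) (sf a) = mres _ (inf_le_right : O a ⊓ O b ≤ O b) (sf b)
          refine 𝒢.eq_of_cover _ _ _ (O := a.1.1 ⊓ b.1.1) (fun z hz => ⟨hz.1.2, hz.2.2⟩) fun E hE hEV => ?_
          refine (𝒢.bij (homOfLE hEV) _ inf_le_right).injective ?_
          rw [mres_mres, mres_mres]
          have h1 := hsf' a E (homOfLE (hE.trans inf_le_left)) (O a ⊓ O b ⊓ p ⁻¹ᵁ E.1)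
            (inf_le_left.trans inf_le_left)
          have h2 := hsf' b E (homOfLE (hE.trans inf_le_right)) (O a ⊓ O b ⊓ p ⁻¹ᵁ E.1)
            (inf_le_left.trans inf_le_right)
          exact h1.trans h2.symm)
      obtain ⟨y, rfl⟩ := (𝒢.supp V W (W ⊓ p ⁻¹ᵁ V.1) inf_le_left le_rfl).surjective y₀
      refine ⟨y, fun D i j W' h hW' => ?_⟩
      have hD : W' ≤ W ⊓ p ⁻¹ᵁ D.1 := le_inf h hW'
      have e := hy₀ ⟨D, j.le, i.le⟩
      change mres _ _ (mres _ _ y) = _ at e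
      rw [mres_mres] at e
      have := hsf' ⟨D, j.le, i.le⟩ D (𝟙 D) W' hD
      rw [← e, mres_mres] at this
      exact this
    choose y hy using hex
    have hyc : ∀ {V V' : S.affineOpens} (i : V' ⟶ V), (𝒢.D.map i.op).app W (y V) = y V' := by
      intro V V' i
      refine 𝒢.eq_of_cover W _ _ hW fun D hDU hDV => ?_
      refine (𝒢.bij (homOfLE hDV) _ inf_le_right).injective ?_
      rw [← mres_app, 𝒢.map_map, hy V D (homOfLE hDV ≫ i) (homOfLE hDU) _ _ inf_le_right,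
        hy V' D (homOfLE hDV) (homOfLE hDU) _ _ inf_le_right]
    obtain ⟨t, ht, -⟩ := 𝒢.existsUnique_section W y hyc
    refine ⟨t, (ht U).trans ?_⟩
    refine 𝒢.eq_of_cover W _ _ hW fun D hDU hDV => ?_
    exact (𝒢.bij (homOfLE hDV) _ inf_le_right).injective (hy U D (homOfLE hDV) (homOfLE hDV) _ _ inf_le_right)

/-- A module with compatible maps to the members of the family, bijective over their opens. -/
structure IsSol (F : P.Modules) (lam : ∀ U : S.affineOpens, F ⟶ 𝒢.D.obj (op U)) : Prop where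
  comm : ∀ {U V : S.affineOpens} (i : V ⟶ U), lam U ≫ 𝒢.D.map i.op = lam V
  bij : ∀ (U : S.affineOpens) (W : P.Opens), W ≤ p ⁻¹ᵁ U.1 → Function.Bijective ((lam U).app W)

theorem isSol_glued : 𝒢.IsSol 𝒢.glued 𝒢.π := ⟨fun i => 𝒢.π_map i, fun U => 𝒢.bijective_π U⟩

omit 𝒢 in
/-- A morphism that is bijective over the preimage of every affine open is an isomorphism. -/
theorem isIso_of_forall_bijective {M N : P.Modules} (φ : M ⟶ N)
    (h : ∀ (U : S.affineOpens) (W : P.Opens), W ≤ p ⁻¹ᵁ U.1 → Function.Bijective (φ.app W)) : IsIso φ := by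
  rw [Scheme.Modules.Hom.isIso_iff_isIso_app]
  intro W
  rw [ConcreteCategory.isIso_iff_bijective]
  have hcov : W ≤ ⨆ U : S.affineOpens, W ⊓ p ⁻¹ᵁ U.1 := fun z hz => by
    obtain ⟨D, hzD, -⟩ := exists_affineOpens_le (O := ⊤) (s := p.base z) trivial
    exact Opens.mem_iSup.mpr ⟨D, hz, hzD⟩
  refine ⟨fun a b e => ?_, fun b => ?_⟩
  · refine TopCat.Sheaf.eq_of_locally_eq' (F := ⟨M.presheaf, M.isSheaf⟩)
      (fun U : S.affineOpens => W ⊓ p ⁻¹ᵁ U.1) W (fun U => homOfLE inf_le_left) hcov _ _ fun U => ?_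
    refine (h U _ inf_le_right).injective ?_
    change φ.app _ (mres M _ a) = φ.app _ (mres M _ b)
    rw [mres_app, mres_app]
    exact congrArg _ e
  · choose a ha using fun U : S.affineOpens =>
      (h U (W ⊓ p ⁻¹ᵁ U.1) inf_le_right).surjective (mres N inf_le_left b)
    obtain ⟨t, ht, -⟩ := TopCat.Sheaf.existsUnique_gluing' ⟨M.presheaf, M.isSheaf⟩
      (fun U : S.affineOpens => W ⊓ p ⁻¹ᵁ U.1) W (fun U => homOfLE inf_le_left) hcov a fun U V => by
        refine (h U _ (inf_le_left.trans inf_le_right)).injective ?_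
        change φ.app _ (mres M inf_le_left (a U)) = φ.app _ (mres M inf_le_right (a V))
        rw [mres_app, mres_app, ha, ha, mres_mres, mres_mres]
    refine ⟨t, ?_⟩
    refine TopCat.Sheaf.eq_of_locally_eq' (F := ⟨N.presheaf, N.isSheaf⟩)
      (fun U : S.affineOpens => W ⊓ p ⁻¹ᵁ U.1) W (fun U => homOfLE inf_le_left) hcov _ _ fun U => ?_
    change mres N _ (φ.app W t) = mres N _ b
    rw [← mres_app, ← ha U]
    exact congrArg _ (ht U)

variable {𝒢}

theorem IsSol.exists_iso_glued {F : P.Modules} {lam : ∀ U : S.affineOpens, F ⟶ 𝒢.D.obj (op U)}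
    (h : 𝒢.IsSol F lam) : ∃ e : F ≅ 𝒢.glued, ∀ U, e.hom ≫ 𝒢.π U = lam U := by
  let c : Cone 𝒢.D :=
    { pt := F
      π := { app := fun U => lam U.unop
             naturality := fun U V i => (Category.id_comp _).trans (h.comm i.unop).symm } }
  have hl : ∀ U, limit.lift 𝒢.D c ≫ 𝒢.π U = lam U := fun U => limit.lift_π c (op U)
  have : IsIso (limit.lift 𝒢.D c) := isIso_of_forall_bijective (limit.lift 𝒢.D c) fun U W hW => by
    have hb := h.bij U W hW
    rw [← hl U] at hb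
    exact (Function.Bijective.of_comp_iff' (𝒢.bijective_π U W hW) _).mp hb
  exact ⟨asIso (limit.lift 𝒢.D c), hl⟩

theorem IsSol.existsUnique_hom {F : P.Modules} {lam : ∀ U : S.affineOpens, F ⟶ 𝒢.D.obj (op U)}
    (h : 𝒢.IsSol F lam) {T : P.Modules} (μ : ∀ U : S.affineOpens, T ⟶ 𝒢.D.obj (op U))
    (hμ : ∀ {U V : S.affineOpens} (i : V ⟶ U), μ U ≫ 𝒢.D.map i.op = μ V) :
    ∃! φ : T ⟶ F, ∀ U, φ ≫ lam U = μ U := by
  obtain ⟨e, he⟩ := h.exists_iso_glued
  let c : Cone 𝒢.D :=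
    { pt := T
      π := { app := fun U => μ U.unop
             naturality := fun U V i => (Category.id_comp _).trans (hμ i.unop).symm } }
  refine ⟨limit.lift 𝒢.D c ≫ e.inv, fun U => ?_, fun ψ hψ => ?_⟩
  · rw [← he U, Category.assoc, e.inv_hom_id_assoc]
    exact limit.lift_π c (op U)
  · rw [Iso.eq_comp_inv]
    refine limit.hom_ext fun U => ?_
    rw [limit.lift_π, Category.assoc]
    exact (congrArg (ψ ≫ ·) (he U.unop)).trans (hψ U.unop)

theorem IsSol.isIso_of_comm {F F' : P.Modules} {lam : ∀ U : S.affineOpens, F ⟶ 𝒢.D.obj (op U)}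
    {lam' : ∀ U : S.affineOpens, F' ⟶ 𝒢.D.obj (op U)} (h : 𝒢.IsSol F lam) (h' : 𝒢.IsSol F' lam')
    {φ : F ⟶ F'} (hφ : ∀ U, φ ≫ lam' U = lam U) : IsIso φ :=
  isIso_of_forall_bijective φ fun U W hW => by
    have hb := h.bij U W hW
    rw [← hφ U] at hb
    exact (Function.Bijective.of_comp_iff' (h'.bij U W hW) _).mp hb

end AffSystem

end Groth.Agent.EGAProj74
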