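import Groth.Agent.EGAProj74.AlgExtend
import Groth.Agent.EGAProj74.RelSpecBasic

/-! Pushouts of quasi-coherent algebras and fibre products of relative spectra, from the affine opens. -/

set_option autoImplicit false
set_option backward.isDefEq.respectTransparency.types false

universe u

open CategoryTheory CategoryTheory.Limits AlgebraicGeometry TopologicalSpace Opposite

noncomputable section

namespace Groth.Agent.EGAProj74

variable {S : Scheme.{u}} {A B C D : RelSpec.QCAlg S}

/-- A square of algebras is a pushout if it is one over the affine opens. -/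
theorem isPushout_of_affine (f : A ⟶ B) (g : A ⟶ C) (h : B ⟶ D) (k : C ⟶ D)
    (hpo : ∀ (U : S.Opens), IsAffineOpen U →
      IsPushout (f.hom.app (op U)) (g.hom.app (op U)) (h.hom.app (op U)) (k.hom.app (op U))) :
    IsPushout f g h k := by
  have hw : f ≫ h = g ≫ k := algHom_ext_affine fun U => (hpo U.1 U.2).w
  refine IsPushout.of_isColimit (c := PushoutCocone.mk h k hw) (PushoutCocone.isColimitAux' _ fun s => ?_)
  have hs : ∀ U : S.AffineZariskiSite, f.hom.app (op U.1) ≫ s.inl.hom.app (op U.1) =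
      g.hom.app (op U.1) ≫ s.inr.hom.app (op U.1) := fun U =>
    congr(RelSpec.QCAlg.Hom.hom $(s.condition) |>.app (op U.1))
  let φ : ∀ U : S.AffineZariskiSite, D.presheaf.obj (op U.1) ⟶ s.pt.presheaf.obj (op U.1) := fun U =>
    (hpo U.1 U.2).desc (s.inl.hom.app (op U.1)) (s.inr.hom.app (op U.1)) (hs U)
  have hex := existsUnique_algHom (A := D) (B := s.pt) φ
    (fun {U V} i => by
      refine (hpo U.1 U.2).hom_ext ?_ ?_
      · rw [← Category.assoc, ← h.hom.naturality, Category.assoc, IsPushout.inl_desc, IsPushout.inl_desc_assoc]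
        exact s.inl.hom.naturality _
      · rw [← Category.assoc, ← k.hom.naturality, Category.assoc, IsPushout.inr_desc, IsPushout.inr_desc_assoc]
        exact s.inr.hom.naturality _)
    (fun U => by
      rw [← congr(($(h.comm)).app (op U.1)), NatTrans.comp_app, Category.assoc, IsPushout.inl_desc]
      exact congr(($(s.inl.comm)).app (op U.1)))
  have hd := hex.choose_spec.1
  refine ⟨hex.choose, algHom_ext_affine fun U => ?_, algHom_ext_affine fun U => ?_, fun {m} h₁ h₂ => ?_⟩
  · show h.hom.app (op U.1) ≫ hex.choose.hom.app (op U.1) = _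
    rw [hd U]
    exact IsPushout.inl_desc _ _ _ _
  · show k.hom.app (op U.1) ≫ hex.choose.hom.app (op U.1) = _
    rw [hd U]
    exact IsPushout.inr_desc _ _ _ _
  · refine hex.choose_spec.2 m fun U => (hpo U.1 U.2).hom_ext ?_ ?_
    · rw [IsPushout.inl_desc]
      exact congr(RelSpec.QCAlg.Hom.hom $h₁ |>.app (op U.1))
    · rw [IsPushout.inr_desc]
      exact congr(RelSpec.QCAlg.Hom.hom $h₂ |>.app (op U.1))

/-- `Spec` turns affine-local pushouts over the structure sheaf into fibre products. -/
theorem isPullback_specMap_of_affine {AE AF : RelSpec.QCAlg S} (ψE : AE ⟶ A) (ψF : AF ⟶ A)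
    (hpo : ∀ (U : S.Opens), IsAffineOpen U →
      IsPushout (AE.str.app (op U)) (AF.str.app (op U)) (ψE.hom.app (op U)) (ψF.hom.app (op U))) :
    IsPullback (RelSpec.QCAlg.specMap ψE) (RelSpec.QCAlg.specMap ψF) AE.π AF.π := by
  have hw : RelSpec.QCAlg.specMap ψE ≫ AE.π = RelSpec.QCAlg.specMap ψF ≫ AF.π := by
    rw [RelSpec.QCAlg.specMap_π, RelSpec.QCAlg.specMap_π]
  let k : A.spec ⟶ pullback AE.π AF.π := pullback.lift _ _ hw
  have hkf : k ≫ pullback.fst _ _ = RelSpec.QCAlg.specMap ψE := pullback.lift_fst _ _ _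
  have hks : k ≫ pullback.snd _ _ = RelSpec.QCAlg.specMap ψF := pullback.lift_snd _ _ _
  have hsq : IsPullback k A.π (pullback.fst AE.π AF.π ≫ AE.π) (𝟙 S) := by
    refine isPullback_of_pairs A.π (𝟙 S) k (by rw [reassoc_of% hkf, RelSpec.QCAlg.specMap_π, Category.comp_id])
      fun V => ⟨_, A.ι V.U' V.hU', Spec.map (A.str.app (op V.U')), inferInstance, opensRange_specι A _ _,
        A.ι_π _ _, ?_⟩
    rw [Category.comp_id]
    have h1 : IsPullback (A.ι V.U' V.hU' ≫ RelSpec.QCAlg.specMap ψE) (Spec.map (ψF.hom.app (op V.U'))) AE.π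
        (AF.ι V.U' V.hU' ≫ AF.π) := by
      rw [RelSpec.QCAlg.ι_specMap, AF.ι_π]
      exact (isPullback_SpecMap_of_isPushout _ _ _ _ (hpo V.U' V.hU')).paste_horiz
        (isPullback_specι AE V.U' V.hU').flip
    have h2 : IsPullback (A.ι V.U' V.hU' ≫ k) (Spec.map (ψF.hom.app (op V.U'))) (pullback.snd AE.π AF.π)
        (AF.ι V.U' V.hU') := by
      refine IsPullback.of_right ?_ ?_ (IsPullback.of_hasPullback AE.π AF.π)
      · rw [Category.assoc, hkf]; exact h1
      · rw [Category.assoc, hks]; exact RelSpec.QCAlg.ι_specMap _ _ _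
    have h3 := h2.paste_vert (isPullback_specι AF V.U' V.hU').flip
    rw [← pullback.condition, ← Spec.map_comp, ← NatTrans.comp_app, ψF.comm] at h3
    exact h3
  have : IsIso k := hsq.isIso_fst_of_isIso
  exact IsPullback.of_iso_pullback ⟨hw⟩ (asIso k) hkf hks

end Groth.Agent.EGAProj74
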