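import Groth.Agent.EGAProj74.TwistComap
import Groth.Agent.EGAProj74.BaseChange

/-!
`Proj` of a localization at an element of degree zero.
-/

set_option autoImplicit false
set_option backward.isDefEq.respectTransparency.types false

universe u

open CategoryTheory CategoryTheory.Limits AlgebraicGeometry TopologicalSpace Opposite HomogeneousLocalization
open scoped HomogeneousIdeal

noncomputable section

namespace Groth.Agent.EGAProj74

variable {A σ : Type u} [CommRing A] [SetLike σ A] [AddSubgroupClass σ A] {𝒜 : ℕ → σ} [GradedRing 𝒜]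

/-- Over `D(g)` for `g` of degree zero lie exactly the points not containing `g`. -/
theorem toSpecZero_mem_basicOpen (g : 𝒜 0) (x : Proj 𝒜) :
    (Proj.toSpecZero 𝒜).base x ∈ PrimeSpectrum.basicOpen g ↔ x ∈ Proj.basicOpen 𝒜 (g : A) := by
  obtain ⟨d, f, hd, hf, hxf, -⟩ := exists_basicOpen_le (O := (⊤ : (Proj 𝒜).Opens)) (x := x) trivial
  obtain ⟨z, rfl⟩ : x ∈ (Proj.awayι 𝒜 f hf hd).opensRange := by
    rw [Proj.opensRange_awayι]; exact hxf
  have hgf : (g : A) * f ∈ 𝒜 d := by simpa using SetLike.mul_mem_graded g.2 hf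
  have h1 : (Proj.toSpecZero 𝒜).base ((Proj.awayι 𝒜 f hf hd).base z) ∈ PrimeSpectrum.basicOpen g ↔
      fromZeroRingHom 𝒜 (Submonoid.powers f) g ∉ z.asIdeal :=
    Iff.of_eq (congrArg (fun q : PrimeSpectrum (𝒜 0) => q ∈ PrimeSpectrum.basicOpen g)
      congr($(Proj.awayι_toSpecZero 𝒜 f hf hd).base z))
  have h2 : (Proj.awayι 𝒜 f hf hd).base z ∈ Proj.basicOpen 𝒜 ((g : A) * f) ↔
      Away.isLocalizationElem hf hgf ∉ z.asIdeal :=
    Iff.of_eq (congrArg (z ∈ ·) (Proj.awayι_preimage_basicOpen 𝒜 hf hd hgf hd))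
  have h3 : Away.isLocalizationElem hf hgf = fromZeroRingHom 𝒜 (Submonoid.powers f) g ^ d := by
    apply val_injective
    rw [val_pow]
    change Localization.mk _ _ = Localization.mk (g : A) _ ^ d
    rw [Localization.mk_pow, Localization.mk_eq_mk_iff, Localization.r_iff_exists]
    exact ⟨1, by simp [mul_pow]; ring⟩
  rw [Proj.basicOpen_mul] at h2
  rw [h1, ← (z.isPrime.pow_mem_iff_mem d hd).not, ← h3, ← h2]
  exact ⟨fun h => h.1, fun h => ⟨h, hxf⟩⟩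

variable {B σ' : Type u} [CommRing B] [SetLike σ' B] [AddSubgroupClass σ' B] {ℬ : ℕ → σ'} [GradedRing ℬ]
  (ψ : 𝒜 →+*ᵍ ℬ) (hψ : ℬ₊ ≤ (𝒜₊).map ψ)
  {M τ : Type u} [AddCommGroup M] [Module A M] [SetLike τ M] [AddSubgroupClass τ M] {ℳ : ℕ → τ}
  [SetLike.GradedSMul 𝒜 ℳ] [DirectSum.Decomposition ℳ]
  {N τ' : Type u} [AddCommGroup N] [Module B N] [SetLike τ' N] [AddSubgroupClass τ' N] {𝒩 : ℕ → τ'}
  [SetLike.GradedSMul ℬ 𝒩] [DirectSum.Decomposition 𝒩]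
  (v : M →ₛₗ[ψ.toRingHom] N) (hv : ∀ (i : ℕ) (m : M), m ∈ ℳ i → v m ∈ 𝒩 i)

include hv in
/-- Bijectivity of the comparison on one standard open. -/
theorem bijective_comap_basicOpen {d : ℕ} (hd : 0 < d) {g : A} (hg : g ∈ 𝒜 d)
    (hinj : ∀ (i : ℕ), ∀ m ∈ ℳ i, ∀ K : ℕ, ψ g ^ K • v m = 0 → ∃ K' : ℕ, g ^ K' • m = 0)
    (hsurj : ∀ (i : ℕ), ∀ n' ∈ 𝒩 i, ∃ (K : ℕ) (m : M), m ∈ ℳ (K * d + i) ∧ v m = ψ g ^ K • n')
    (n : ℤ) : Function.Bijective ((GrMod.comap ψ hψ v hv n).app (Proj.basicOpen 𝒜 g)) := by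
  have hmem : ∀ x : (Proj.map ψ hψ ⁻¹ᵁ Proj.basicOpen 𝒜 g : (Proj ℬ).Opens),
      ψ g ∉ x.1.asHomogeneousIdeal := fun x => x.2
  constructor
  · refine (injective_iff_map_eq_zero ((GrMod.comap ψ hψ v hv n).app (Proj.basicOpen 𝒜 g)).hom).mpr fun s hs => ?_
    obtain ⟨k, i, m, hm, hi, hts⟩ := GrT.exists_frac_eq hd hg
      (s : GrMod.sect 𝒜 ℳ n (op (ProjectiveSpectrum.basicOpen 𝒜 g)))
    obtain ⟨K, hK⟩ := GrT.exists_pow_smul_eq_zero_of_frac (ℳ := 𝒩) hd (ψ.map_mem hg) (hv i m hm)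
      (h := ψ g ^ k) (fun x => GrT.pow_notMem x.2 k) (fun x => by
        have h0 := congrArg (fun q : Γ((Scheme.Modules.pushforward (Proj.map ψ hψ)).obj (GrMod.tilde ℬ 𝒩 n),
          Proj.basicOpen 𝒜 g) => GrMod.val (V := Proj.map ψ hψ ⁻¹ᵁ Proj.basicOpen 𝒜 g) q ⟨x.1, x.2⟩) hs
        have e := GrMod.comap_app_val ψ hψ v hv n (Proj.basicOpen 𝒜 g) s ⟨x.1, x.2⟩
        have e' := e.trans (congrArg (GrMod.locModMap ψ hψ v x.1) (hts ⟨ProjectiveSpectrum.comap ψ hψ x.1, x.2⟩))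
        refine Eq.trans ?_ (e'.symm.trans h0)
        erw [GrMod.locModMap_mk]
        exact GrT.frac_congr (by rw [map_pow]))
    obtain ⟨K', hK'⟩ := hinj i m hm K hK
    refine GrT.sect_ext fun x => (hts x).trans ?_
    exact GrT.frac_eq_zero_iff.mpr ⟨g ^ K', GrT.pow_notMem x.2 K', hK'⟩
  · intro t
    obtain ⟨k, i, n', hn', hi, hts⟩ := GrT.exists_frac_eq (ℳ := 𝒩) hd (ψ.map_mem hg)
      (t : GrMod.sect ℬ 𝒩 n (op (ProjectiveSpectrum.basicOpen ℬ (ψ g))))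
    obtain ⟨K, m, hm, hvm⟩ := hsurj i n' hn'
    have hden : g ^ (K + k) ∈ 𝒜 ((K + k) * d) := by simpa using SetLike.pow_mem_graded (K + k) hg
    refine ⟨GrT.fracSect (U := ProjectiveSpectrum.basicOpen 𝒜 g) (n := n) hm hden
      (fun x => GrT.pow_notMem x.2 _) (by push_cast; rw [hi]; ring), Subtype.ext (funext fun x => Subtype.ext ?_)⟩
    refine (GrMod.comap_app_val ψ hψ v hv n (Proj.basicOpen 𝒜 g) _ x).trans ?_
    refine Eq.trans ?_ (hts x).symm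
    erw [GrMod.locModMap_mk]
    exact GrT.frac_congr (by rw [hvm, map_pow, smul_smul, pow_add, mul_comm]; rfl)

theorem bijective_twist_comap_basicOpen (n : ℤ) {d : ℕ} (hd : 0 < d) {g : A} (hg : g ∈ 𝒜 d)
    (hinj : ∀ (i : ℕ), ∀ m ∈ 𝒜 i, ∀ K : ℕ, ψ g ^ K * ψ m = 0 → ∃ K' : ℕ, g ^ K' * m = 0)
    (hsurj : ∀ (i : ℕ), ∀ b ∈ ℬ i, ∃ (K : ℕ) (m : A), m ∈ 𝒜 (K * d + i) ∧ ψ m = ψ g ^ K * b) :
    Function.Bijective ((GrTwist.comap ψ hψ n).app (Proj.basicOpen 𝒜 g)) := by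
  have h0 := bijective_comap_basicOpen (ℳ := 𝒜) (𝒩 := ℬ) ψ hψ (ringSemi ψ) (fun _ _ ha => ψ.map_mem ha) hd hg
    hinj hsurj n
  let W := Proj.basicOpen 𝒜 g
  have key : ∀ s : Γ(GrTwist.twist 𝒜 n, W),
      (GrT.twistIsoTilde ℬ n).hom.app (Proj.map ψ hψ ⁻¹ᵁ W) ((GrTwist.comap ψ hψ n).app W s) =
        (GrMod.comap (ℳ := 𝒜) (𝒩 := ℬ) ψ hψ (ringSemi ψ) (fun _ _ ha => ψ.map_mem ha) n).app W ((GrT.twistIsoTilde 𝒜 n).hom.app W s) :=
    fun s => GrT.sect_ext fun y => (locModMap_ringSemi ψ hψ y.1 _).symm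
  have hB : Function.Bijective ((GrT.twistIsoTilde ℬ n).hom.app (Proj.map ψ hψ ⁻¹ᵁ W)) :=
    ConcreteCategory.bijective_of_isIso _
  have h2 : Function.Bijective fun s : Γ(GrTwist.twist 𝒜 n, W) =>
      (GrT.twistIsoTilde ℬ n).hom.app (Proj.map ψ hψ ⁻¹ᵁ W) ((GrTwist.comap ψ hψ n).app W s) := by
    rw [funext key]
    exact h0.comp (ConcreteCategory.bijective_of_isIso ((GrT.twistIsoTilde 𝒜 n).hom.app W))
  exact (Function.Bijective.of_comp_iff' hB ((GrTwist.comap ψ hψ n).app W)).mp h2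

variable {g : A} (hg : g ∈ 𝒜 0)

include hg in
theorem away_proj [Algebra A B] (hψA : ∀ a : A, ψ a = algebraMap A B a) [IsLocalization.Away g B]
    (hdeg : ∀ (n : ℕ) (b : B), b ∈ ℬ n ↔ ∃ (k : ℕ) (a : A), a ∈ 𝒜 n ∧ ψ g ^ k * b = ψ a) :
    IsOpenImmersion (Proj.map ψ hψ) ∧
      Set.range (Proj.map ψ hψ).base =
        (Proj.toSpecZero 𝒜).base ⁻¹' (PrimeSpectrum.basicOpen (⟨g, hg⟩ : 𝒜 0) : Set (PrimeSpectrum (𝒜 0))) ∧
      ∀ n : ℤ, IsIso (((Scheme.Modules.pullbackPushforwardAdjunction (Proj.map ψ hψ)).homEquiv _ _).symm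
        (GrTwist.comap ψ hψ n)) := by
  have hu : IsUnit (ψ g) := by rw [hψA]; exact IsLocalization.Away.algebraMap_isUnit g
  have hker : ∀ a : A, ψ a = 0 → ∃ k : ℕ, g ^ k * a = 0 := by
    intro a ha
    rw [hψA] at ha
    obtain ⟨⟨_, k, rfl⟩, hk⟩ := (IsLocalization.map_eq_zero_iff (Submonoid.powers g) B a).mp ha
    exact ⟨k, hk⟩
  let := (zeroHom ψ).toAlgebra
  have : IsLocalization.Away (⟨g, hg⟩ : 𝒜 0) (ℬ 0) := by
    constructor
    · constructor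
      · rintro ⟨_, k, rfl⟩
        obtain ⟨b, hb⟩ := hu.exists_right_inv
        have hb0 : b ∈ ℬ 0 := (hdeg 0 b).mpr ⟨1, 1, SetLike.GradedOne.one_mem, by rw [pow_one, hb, map_one]⟩
        refine IsUnit.of_mul_eq_one ((⟨b, hb0⟩ : ℬ 0) ^ k) (Subtype.ext ?_)
        change ψ ((⟨g, hg⟩ : 𝒜 0) ^ k : 𝒜 0).1 * ((⟨b, hb0⟩ : ℬ 0) ^ k : ℬ 0).1 = (1 : B)
        rw [SetLike.GradeZero.coe_pow, SetLike.GradeZero.coe_pow, map_pow, ← mul_pow, hb, one_pow]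
      · rintro ⟨b, hb⟩
        obtain ⟨k, a, ha, hab⟩ := (hdeg 0 b).mp hb
        refine ⟨⟨⟨a, ha⟩, ⟨_, k, rfl⟩⟩, Subtype.ext ?_⟩
        show b * ψ ((⟨g, hg⟩ : 𝒜 0) ^ k : 𝒜 0).1 = ψ a
        rw [SetLike.GradeZero.coe_pow, map_pow, mul_comm]
        exact hab
      · intro a b hab
        have : ψ ((a : A) - b) = 0 := by
          rw [map_sub, sub_eq_zero]
          exact congrArg Subtype.val hab
        obtain ⟨k, hk⟩ := hker _ this
        refine ⟨⟨_, k, rfl⟩, Subtype.ext ?_⟩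
        rw [mul_sub, sub_eq_zero] at hk
        simpa using hk
  have hsq : IsPushout (CommRingCat.ofHom (zeroHom ψ))
      (𝟙 (CommRingCat.of (𝒜 0)) ≫ CommRingCat.ofHom (algebraMap (𝒜 0) A))
      (𝟙 (CommRingCat.of (ℬ 0)) ≫ CommRingCat.ofHom (algebraMap (ℬ 0) B))
      (CommRingCat.ofHom (ψ : A →+* B)) := by
    have : IsLocalization ((Submonoid.powers (⟨g, hg⟩ : 𝒜 0)).map (algebraMap (𝒜 0) A)) B := by
      rw [Submonoid.map_powers]
      exact (inferInstance : IsLocalization.Away g B)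
    have h := CommRingCat.isPushout_of_isLocalization (R := 𝒜 0) (S := A) (Rₘ := ℬ 0) (Sₘ := B)
      (algebraMap (𝒜 0) A) (algebraMap (ℬ 0) B) (RingHom.ext fun a => hψA a.1) (Submonoid.powers (⟨g, hg⟩ : 𝒜 0))
    rw [Category.id_comp, Category.id_comp]
    have e : (CommRingCat.ofHom (ψ : A →+* B)) = CommRingCat.ofHom (algebraMap A B) := by
      ext a; exact hψA a
    rw [e]
    exact h.flip
  have hθ : IsOpenImmersion (Spec.map (CommRingCat.ofHom (zeroHom ψ))) :=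
    IsOpenImmersion.of_isLocalization (S := ℬ 0) (⟨g, hg⟩ : 𝒜 0)
  have hopen := isOpenImmersion_map ψ (CommRingCat.ofHom (zeroHom ψ)) (𝟙 _) (𝟙 _) hsq hψ
  have hrange : Set.range (Proj.map ψ hψ).base =
      (Proj.toSpecZero 𝒜).base ⁻¹' (PrimeSpectrum.basicOpen (⟨g, hg⟩ : 𝒜 0) : Set (PrimeSpectrum (𝒜 0))) := by
    have h := congrArg (fun O : (Proj 𝒜).Opens => (O : Set (Proj 𝒜)))
      (opensRange_of_isPullback (isPullback_map ψ (CommRingCat.ofHom (zeroHom ψ)) (𝟙 _) (𝟙 _) hsq hψ).flip)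
    rw [Spec.map_id, Category.comp_id] at h
    refine h.trans ?_
    refine Eq.trans (b := (Proj.toSpecZero 𝒜).base ⁻¹'
      Set.range (Spec.map (CommRingCat.ofHom (zeroHom ψ))).base) rfl ?_
    refine congrArg ((Proj.toSpecZero 𝒜).base ⁻¹' ·) ?_
    exact PrimeSpectrum.localization_away_comap_range (ℬ 0) (⟨g, hg⟩ : 𝒜 0)
  refine ⟨hopen, hrange, fun n => ?_⟩
  have hin : Proj.basicOpen 𝒜 g ≤ (Proj.map ψ hψ).opensRange := fun x hx =>
    hrange.ge ((toSpecZero_mem_basicOpen ⟨g, hg⟩ x).mpr hx)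
  rw [Adjunction.homEquiv_counit]
  have h1 : IsIso ((Scheme.Modules.restrictFunctor (Proj.map ψ hψ)).map (GrTwist.comap ψ hψ n)) := by
    refine isIso_of_basis _ {W | ∃ (d : ℕ) (_ : 0 < d) (f : A) (_ : f ∈ 𝒜 d),
      (Proj.map ψ hψ) ''ᵁ W = Proj.basicOpen 𝒜 (g * f)} ?_ ?_
    · intro W z hz
      obtain ⟨d, f, hd, hf, hzf, hfW⟩ := exists_basicOpen_le (O := (Proj.map ψ hψ) ''ᵁ W) (x := (Proj.map ψ hψ).base z) ⟨z, hz, rfl⟩
      have hzg : (Proj.map ψ hψ).base z ∈ Proj.basicOpen 𝒜 g :=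
        (toSpecZero_mem_basicOpen ⟨g, hg⟩ _).mp (hrange.le ⟨z, rfl⟩)
      refine ⟨(Proj.map ψ hψ) ⁻¹ᵁ Proj.basicOpen 𝒜 (g * f), ⟨d, hd, f, hf, ?_⟩, ?_, ?_⟩
      · rw [Scheme.Hom.image_preimage_eq_opensRange_inf, inf_eq_right, Proj.basicOpen_mul]
        exact inf_le_left.trans hin
      · show (Proj.map ψ hψ).base z ∈ Proj.basicOpen 𝒜 (g * f)
        rw [Proj.basicOpen_mul]
        exact ⟨hzg, hzf⟩
      · intro w hw
        have hw' : (Proj.map ψ hψ).base w ∈ Proj.basicOpen 𝒜 f := by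
          rw [Proj.basicOpen_mul] at hw; exact hw.2
        obtain ⟨w', hw'W, e⟩ := hfW hw'
        exact (Proj.map ψ hψ).isOpenEmbedding.injective e ▸ hw'W
    · rintro W ⟨d, hd, f, hf, hW⟩
      change Function.Bijective ((GrTwist.comap ψ hψ n).app (Proj.map ψ hψ ''ᵁ W))
      rw [hW]
      have hgf : g * f ∈ 𝒜 d := by simpa using SetLike.mul_mem_graded hg hf
      refine bijective_twist_comap_basicOpen ψ hψ n hd hgf (fun i m hm K hK => ?_) fun i b hb => ?_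
      · rw [← map_pow, ← map_mul] at hK
        obtain ⟨k, hk⟩ := hker _ hK
        refine ⟨k + K, ?_⟩
        calc (g * f) ^ (k + K) * m = f ^ k * (g ^ k * ((g * f) ^ K * m)) := by ring
          _ = 0 := by rw [hk, mul_zero]
      · obtain ⟨k, a, ha, hab⟩ := (hdeg i b).mp hb
        refine ⟨k, f ^ k * a, SetLike.mul_mem_graded (by simpa using SetLike.pow_mem_graded k hf) ha, ?_⟩
        rw [map_mul, ← hab, map_pow, map_mul, mul_pow]
        ring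
  have h2 : IsIso ((Scheme.Modules.pullback (Proj.map ψ hψ)).map (GrTwist.comap ψ hψ n)) :=
    (NatIso.isIso_map_iff (Scheme.Modules.restrictFunctorIsoPullback (Proj.map ψ hψ)) _).mp h1
  infer_instance

end Groth.Agent.EGAProj74
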