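import Groth.Agent.EGAProj74.Fundamental
import Groth.Agent.EGAProj74.GrSymExists

/-!
The affine pieces `D₊(e)` of a projective bundle and their rings of functions.
-/

set_option autoImplicit false
set_option backward.isDefEq.respectTransparency.types false

universe u

open CategoryTheory CategoryTheory.Limits AlgebraicGeometry TopologicalSpace Opposite
open HomogeneousLocalization
open scoped HomogeneousIdeal

noncomputable section

namespace Groth.Agent.EGAProj74

open Var76.LineBundle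

theorem away_subring_eq_top {A σ : Type u} [CommRing A] [SetLike σ A] [AddSubgroupClass σ A] {𝒜 : ℕ → σ}
    [GradedRing 𝒜] {f : A} (hf : f ∈ 𝒜 1) (T₀ T₁ : Set A) (h₀ : T₀ ⊆ 𝒜 0) (h₁ : T₁ ⊆ 𝒜 1)
    (hgen : Subring.closure (T₀ ∪ T₁) = ⊤) (R : Subring (Away 𝒜 f))
    (hR₀ : ∀ (a : A) (ha : a ∈ T₀), fromZeroRingHom 𝒜 _ ⟨a, h₀ ha⟩ ∈ R)
    (hR₁ : ∀ (a : A) (ha : a ∈ T₁), HomogeneousLocalization.mk
      ⟨1, ⟨a, h₁ ha⟩, ⟨f, hf⟩, Submonoid.mem_powers f⟩ ∈ R) : R = ⊤ := by
  classical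
  have hmon : ∀ a ∈ Submonoid.closure (T₀ ∪ T₁), ∃ k, ∃ ha : a ∈ 𝒜 (k • 1), Away.mk 𝒜 hf k a ha ∈ R := by
    intro a ha
    induction ha using Submonoid.closure_induction with
    | mem z hz =>
      rcases hz with h | h
      · refine ⟨0, by simpa using h₀ h, ?_⟩
        convert hR₀ z h using 1
        refine val_injective _ ((Away.val_mk ..).trans (Eq.trans ?_ (val_mk _).symm))
        congr 1
        exact Subtype.ext (pow_zero f)
      · refine ⟨1, by simpa using h₁ h, ?_⟩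
        convert hR₁ z h using 1
        refine val_injective _ ((Away.val_mk ..).trans (Eq.trans ?_ (val_mk _).symm))
        congr 1
        exact Subtype.ext (pow_one f)
    | one =>
      refine ⟨0, by simpa using SetLike.one_mem_graded 𝒜, ?_⟩
      convert one_mem R using 1
      refine val_injective _ ((Away.val_mk ..).trans ?_)
      rw [val_one, ← Localization.mk_one]
      congr 1
      exact Subtype.ext (pow_zero f)
    | mul a b _ _ iha ihb =>
      obtain ⟨k, hka, hk⟩ := iha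
      obtain ⟨l, hlb, hl⟩ := ihb
      refine ⟨k + l, by simpa using SetLike.mul_mem_graded hka hlb, ?_⟩
      convert mul_mem hk hl using 1
      apply val_injective
      rw [val_mul, Away.val_mk, Away.val_mk, Away.val_mk, Localization.mk_mul]
      congr 1
      exact Subtype.ext (pow_add f k l)
  have key : ∀ (y : A) (n : ℕ),
      Away.mk 𝒜 hf n (DirectSum.decompose 𝒜 y n : A) (by simp) ∈ R := by
    intro y
    have hy : y ∈ AddSubgroup.closure (Submonoid.closure (T₀ ∪ T₁) : Set A) :=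
      Subring.mem_closure_iff.mp (hgen.ge trivial)
    induction hy using AddSubgroup.closure_induction with
    | mem z hz =>
      intro n
      obtain ⟨k, hk, hkR⟩ := hmon z hz
      by_cases h : k = n
      · subst h
        convert hkR using 1
        apply val_injective
        rw [Away.val_mk, Away.val_mk, DirectSum.decompose_of_mem_same 𝒜 (by simpa using hk)]
      · convert zero_mem R using 1
        apply val_injective
        rw [Away.val_mk, val_zero, DirectSum.decompose_of_mem_ne 𝒜 hk (by simpa using h), Localization.mk_zero]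
    | zero =>
      intro n
      convert zero_mem R using 1
      apply val_injective
      rw [Away.val_mk, val_zero, DirectSum.decompose_zero]
      exact Localization.mk_zero _
    | add a b _ _ iha ihb =>
      intro n
      convert add_mem (iha n) (ihb n) using 1
      apply val_injective
      rw [val_add, Away.val_mk, Away.val_mk, Away.val_mk, Localization.add_mk_self, DirectSum.decompose_add]
      rfl
    | neg a _ iha =>
      intro n
      convert neg_mem (iha n) using 1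
      apply val_injective
      rw [val_neg, Away.val_mk, Away.val_mk, Localization.neg_mk, DirectSum.decompose_neg]
      rfl
  refine eq_top_iff.mpr fun z _ => ?_
  obtain ⟨n, a, ha, rfl⟩ := Away.mk_surjective 𝒜 hf z
  convert key a n using 1
  apply val_injective
  rw [Away.val_mk, Away.val_mk, DirectSum.decompose_of_mem_same 𝒜 (by simpa using ha)]

theorem awayToSection_mk_val {A σ : Type u} [CommRing A] [SetLike σ A] [AddSubgroupClass σ A] {𝒜 : ℕ → σ}
    [GradedRing 𝒜] {f : A} (c : NumDenSameDeg 𝒜 (Submonoid.powers f)) (y : Proj.basicOpen 𝒜 f)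
    (hden : c.den.1 ∉ (y.1 : ProjectiveSpectrum 𝒜).asHomogeneousIdeal) :
    (((Proj.awayToSection 𝒜 f).hom (HomogeneousLocalization.mk c) :
      (ProjectiveSpectrum.Proj.structureSheaf 𝒜).1.obj (op (Proj.basicOpen 𝒜 f))).1 y).val =
      Localization.mk c.num.1 (⟨c.den.1, hden⟩ : (y.1 : ProjectiveSpectrum 𝒜).asHomogeneousIdeal.toIdeal.primeCompl) :=
  (ProjectiveSpectrum.Proj.awayToSection_apply _ _ _ _).trans (by
    change IsLocalization.map _ _ _ (Localization.mk _ _) = Localization.mk _ _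
    rw [Localization.mk_eq_mk', Localization.mk_eq_mk']
    exact (IsLocalization.map_mk' _ _ _).trans rfl)

theorem awayToSection_fromZero_val {A σ : Type u} [CommRing A] [SetLike σ A] [AddSubgroupClass σ A] {𝒜 : ℕ → σ}
    [GradedRing 𝒜] {f : A} (a : 𝒜 0) (y : Proj.basicOpen 𝒜 f) :
    (((Proj.awayToSection 𝒜 f).hom (fromZeroRingHom 𝒜 _ a) :
      (ProjectiveSpectrum.Proj.structureSheaf 𝒜).1.obj (op (Proj.basicOpen 𝒜 f))).1 y).val =
      Localization.mk (a : A) 1 :=
  (ProjectiveSpectrum.Proj.awayToSection_apply _ _ _ _).trans (by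
    change IsLocalization.map _ _ _ (Localization.mk _ _) = Localization.mk _ _
    rw [Localization.mk_eq_mk', Localization.mk_eq_mk']
    exact (IsLocalization.map_mk' _ _ _).trans rfl)

variable {S P : Scheme.{u}} {E : S.Modules} {𝒮 : RelProj.QCGrAlg S} {j : E ⟶ 𝒮.toModule}
  {p : P ⟶ S}
  (chart : ∀ (U : S.Opens) (hU : IsAffineOpen U), ((p ⁻¹ᵁ U : P.Opens) : Scheme.{u}) ≅ Proj (𝒮.deg U hU))

variable (j) in
/-- The open of the bundle where `e` does not vanish. -/
def dOpen (U : S.affineOpens) (e : Γ(E, U.1)) : P.Opens :=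
  RelProj.emb p chart U.1 U.2 ''ᵁ Proj.basicOpen (𝒮.deg U.1 U.2) (jR j U.1 e)

theorem dOpen_le (U : S.affineOpens) (e : Γ(E, U.1)) : dOpen j chart U e ≤ p ⁻¹ᵁ U.1 :=
  ((RelProj.emb p chart U.1 U.2).image_le_opensRange _).trans_eq (opensRange_emb U.1 U.2)

theorem preimage_dOpen (U : S.affineOpens) (e : Γ(E, U.1)) :
    RelProj.emb p chart U.1 U.2 ⁻¹ᵁ dOpen j chart U e = Proj.basicOpen (𝒮.deg U.1 U.2) (jR j U.1 e) :=
  (RelProj.emb p chart U.1 U.2).preimage_image_eq _

variable (hj : RelProj.IsGrSymAlg E 𝒮 j)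
include hj

theorem isAffineOpen_dOpen (U : S.affineOpens) (e : Γ(E, U.1)) : IsAffineOpen (dOpen j chart U e) :=
  (Proj.isAffineOpen_basicOpen (𝒮.deg U.1 U.2) (jR j U.1 e) (hj.2 U.1 U.2 e) one_pos).image_of_isOpenImmersion _

/-- The functions on `D₊(e)`. -/
def chartRing (U : S.affineOpens) (e : Γ(E, U.1)) :
    Γ(P, dOpen j chart U e) ≅ CommRingCat.of (Away (𝒮.deg U.1 U.2) (jR j U.1 e)) :=
  (RelProj.emb p chart U.1 U.2).appIso _ ≪≫
    (Proj.basicOpenIsoAway (𝒮.deg U.1 U.2) (jR j U.1 e) (hj.2 U.1 U.2 e) one_pos).symm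

/-- The function `j e' / j e` on `D₊(e)`. -/
def dFrac (U : S.affineOpens) (e e' : Γ(E, U.1)) : Γ(P, dOpen j chart U e) :=
  (chartRing chart hj U e).inv (HomogeneousLocalization.mk
    ⟨1, ⟨jR j U.1 e', hj.2 U.1 U.2 e'⟩, ⟨jR j U.1 e, hj.2 U.1 U.2 e⟩, Submonoid.mem_powers _⟩)

theorem emb_app_dFrac_val (U : S.affineOpens) (e e' : Γ(E, U.1))
    (y : (RelProj.emb p chart U.1 U.2 ⁻¹ᵁ dOpen j chart U e : (Proj (𝒮.deg U.1 U.2)).Opens)) :
    (((RelProj.emb p chart U.1 U.2).app (dOpen j chart U e) (dFrac chart hj U e e')).1 y).val =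
      Localization.mk (jR j U.1 e') (⟨jR j U.1 e, (preimage_dOpen chart U e).le y.2⟩ :
        (y.1 : ProjectiveSpectrum (𝒮.deg U.1 U.2)).asHomogeneousIdeal.toIdeal.primeCompl) := by
  let em := RelProj.emb p chart U.1 U.2
  let B := Proj.basicOpen (𝒮.deg U.1 U.2) (jR j U.1 e)
  let iso := Proj.basicOpenIsoAway (𝒮.deg U.1 U.2) (jR j U.1 e) (hj.2 U.1 U.2 e) one_pos
  have h : (em.appIso B).inv ≫ em.app (em ''ᵁ B) =
      (Proj (𝒮.deg U.1 U.2)).presheaf.map (eqToHom (em.preimage_image_eq B)).op := Scheme.Hom.appIso_inv_app em B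
  refine (congrArg (fun q => (q.1 y).val) congr($(h).hom (iso.hom
    (HomogeneousLocalization.mk ⟨1, ⟨jR j U.1 e', hj.2 U.1 U.2 e'⟩, ⟨jR j U.1 e, hj.2 U.1 U.2 e⟩,
      Submonoid.mem_powers _⟩)))).trans ?_
  exact awayToSection_mk_val _ ⟨y.1, (preimage_dOpen chart U e).le y.2⟩ _

variable (hP : RelProj.IsRelProj 𝒮 p chart)

include hP in
theorem chartRing_base (U : S.affineOpens) (e : Γ(E, U.1)) (r : Γ(S, U.1)) :
    (chartRing chart hj U e).hom (p.appLE U.1 _ (dOpen_le (j := j) chart U e) r) =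
      fromZeroRingHom (𝒮.deg U.1 U.2) _ (𝒮.strZero U.1 U.2 r) := by
  let em := RelProj.emb p chart U.1 U.2
  let B := Proj.basicOpen (𝒮.deg U.1 U.2) (jR j U.1 e)
  let iso := Proj.basicOpenIsoAway (𝒮.deg U.1 U.2) (jR j U.1 e) (hj.2 U.1 U.2 e) one_pos
  suffices h : (em.appIso B).hom (p.appLE U.1 _ (dOpen_le (j := j) chart U e) r) =
      iso.hom (fromZeroRingHom (𝒮.deg U.1 U.2) _ (𝒮.strZero U.1 U.2 r)) by
    refine (congrArg iso.inv h).trans ?_
    exact iso.hom_inv_id_apply _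
  refine Subtype.ext (funext fun y => val_injective _ ?_)
  have h1 : p.appLE U.1 _ (dOpen_le (j := j) chart U e) ≫ (em.appIso B).hom =
      p.app U.1 ≫ em.app (p ⁻¹ᵁ U.1) ≫
        (Proj (𝒮.deg U.1 U.2)).presheaf.map (homOfLE (show B ≤ em ⁻¹ᵁ (p ⁻¹ᵁ U.1) from
          (em.preimage_image_eq B).ge.trans (em.preimage_mono (dOpen_le (j := j) chart U e)))).op := by
    rw [Scheme.Hom.appIso_hom']
    refine (Category.assoc _ _ _).trans (congrArg (fun q => p.app U.1 ≫ q) ?_)
    exact Scheme.Hom.map_appLE _ _ _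
  refine (congrArg (fun q => (q.1 y).val) congr($(h1).hom r)).trans ?_
  refine (emb_app_p_val hP U.1 U.2 r y.1 _).trans ?_
  exact (awayToSection_fromZero_val (𝒮.strZero U.1 U.2 r) y).symm

include hP in
theorem chartRing_hom_ext (hE : E.IsQuasicoherent) (U : S.affineOpens) (e : Γ(E, U.1)) {B : CommRingCat.{u}}
    {θ θ' : Γ(P, dOpen j chart U e) ⟶ B}
    (hb : p.appLE U.1 _ (dOpen_le (j := j) chart U e) ≫ θ = p.appLE U.1 _ (dOpen_le (j := j) chart U e) ≫ θ')
    (hf : ∀ e', θ (dFrac chart hj U e e') = θ' (dFrac chart hj U e e')) : θ = θ' := by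
  rw [← cancel_epi (chartRing chart hj U e).inv]
  refine CommRingCat.hom_ext (RingHom.ext fun z => RingHom.mem_eqLocus.mp ((?_ : RingHom.eqLocus _ _ = ⊤).ge (Subring.mem_top z)))
  refine away_subring_eq_top (A := 𝒮.presheaf.obj (op U.1)) (𝒜 := 𝒮.deg U.1 U.2) (f := jR j U.1 e) (hj.2 U.1 U.2 e)
    (Set.range (𝒮.str.app (op U.1)).hom) (Set.range fun m : Γ(E, U.1) => jR j U.1 m) (by rintro _ ⟨r, rfl⟩; exact 𝒮.str_mem U.1 U.2 r)
    (by rintro _ ⟨m, rfl⟩; exact hj.2 U.1 U.2 m) (closure_grSym hE hj U.1 U.2) _ ?_ ?_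
  · rintro _ ⟨r, rfl⟩
    show θ ((chartRing chart hj U e).inv _) = θ' ((chartRing chart hj U e).inv _)
    have h := congrArg (chartRing chart hj U e).inv (chartRing_base chart hj hP U e r)
    rw [Iso.hom_inv_id_apply] at h
    erw [← h]
    exact congr($(hb).hom r)
  · rintro _ ⟨m, rfl⟩
    exact hf m

include hP in
theorem exists_chartRing_hom (hE : E.IsQuasicoherent) (U : S.affineOpens) (e : Γ(E, U.1)) {B : CommRingCat.{u}}
    (ρ₀ : Γ(S, U.1) ⟶ B) (c : Γ(E, U.1) → B) (hadd : ∀ a b, c (a + b) = c a + c b)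
    (hsmul : ∀ (r : Γ(S, U.1)) a, c (r • a) = ρ₀ r * c a) (hone : c e = 1) :
    ∃ θ : Γ(P, dOpen j chart U e) ⟶ B, p.appLE U.1 _ (dOpen_le (j := j) chart U e) ≫ θ = ρ₀ ∧
      ∀ e', θ (dFrac chart hj U e e') = c e' := by
  let := secAlgebra 𝒮.toQCAlg U.1
  let := ρ₀.hom.toAlgebra
  let ℓ : Γ(E, U.1) →ₗ[Γ(S, U.1)] B := { toFun := c, map_add' := hadd, map_smul' := hsmul }
  let ρ : 𝒮.presheaf.obj (op U.1) →+* B := ((isSymmetricAlgebra_symGen hE hj.1 U.1 U.2).lift ℓ).toRingHom
  have hρ₀ : ∀ r, ρ ((𝒮.str.app (op U.1)).hom r) = ρ₀ r :=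
    fun r => ((isSymmetricAlgebra_symGen hE hj.1 U.1 U.2).lift ℓ).commutes r
  have hρ : ∀ m, ρ (jR j U.1 m) = c m := fun m =>
    (isSymmetricAlgebra_symGen hE hj.1 U.1 U.2).lift_eq ℓ m
  have hu : IsUnit (ρ (jR j U.1 e)) := by rw [hρ, hone]; exact isUnit_one
  let ev : Away (𝒮.deg U.1 U.2) (jR j U.1 e) →+* B :=
    (IsLocalization.Away.lift (S := Localization.Away (jR j U.1 e)) (jR j U.1 e) hu).comp (algebraMap _ _)
  have hev : ∀ (a : 𝒮.presheaf.obj (op U.1)) (t : Submonoid.powers (jR j U.1 e)) (z : Away (𝒮.deg U.1 U.2) (jR j U.1 e)),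
      z.val = Localization.mk a t → ρ t.1 = 1 → ev z = ρ a := by
    intro a t z hz ht
    have h := congrArg (IsLocalization.Away.lift (S := Localization.Away (jR j U.1 e)) (jR j U.1 e) hu)
      (IsLocalization.mk'_spec (Localization.Away (jR j U.1 e)) a t)
    rw [map_mul, IsLocalization.Away.lift_eq, IsLocalization.Away.lift_eq, ht, mul_one,
      ← Localization.mk_eq_mk', ← hz] at h
    exact h
  refine ⟨(chartRing chart hj U e).hom ≫ CommRingCat.ofHom ev, CommRingCat.hom_ext (RingHom.ext fun r => ?_),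
    fun e' => ?_⟩
  · refine (congrArg ev (chartRing_base chart hj hP U e r)).trans ?_
    exact (hev _ 1 _ (val_mk _) (map_one ρ)).trans (hρ₀ r)
  · refine (congrArg ev ((chartRing chart hj U e).inv_hom_id_apply _)).trans ?_
    exact (hev _ _ _ (val_mk _) ((hρ e).trans hone)).trans (hρ e')

variable {O1 : P.Modules}
  {lam : ∀ (U : S.Opens) (hU : IsAffineOpen U),
    O1 ⟶ (Scheme.Modules.pushforward (RelProj.emb p chart U hU)).obj (GrTwist.twist (𝒮.deg U hU) 1)}
  (hO1 : RelProj.IsRelTwist 𝒮 p chart 1 O1 lam) {φ : E ⟶ (Scheme.Modules.pushforward p).obj O1}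
  (hφ : IsCanonical lam j φ)
include hO1 hφ

theorem isFrame_dOpen (U : S.affineOpens) (e : Γ(E, U.1)) :
    IsFrame O1 (dOpen j chart U e) (mres O1 (dOpen_le (j := j) chart U e) (φ.app U.1 e)) :=
  isFrame_canonical hj hO1 hφ U.2 e _ (preimage_dOpen chart U e).le

theorem dFrac_smul (U : S.affineOpens) (e e' : Γ(E, U.1)) :
    dFrac chart hj U e e' • mres O1 (dOpen_le (j := j) chart U e) (φ.app U.1 e) =
      mres O1 (dOpen_le (j := j) chart U e) (φ.app U.1 e') := by
  let em := RelProj.emb p chart U.1 U.2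
  let O := dOpen j chart U e
  have hle : O ≤ p ⁻¹ᵁ U.1 := dOpen_le chart U e
  have hval : ∀ (m : Γ(E, U.1)) (y : (em ⁻¹ᵁ O : (Proj (𝒮.deg U.1 U.2)).Opens)),
      GrTwist.val (V := em ⁻¹ᵁ O) ((lam U.1 U.2).app O (mres O1 hle (φ.app U.1 m))) y =
        Localization.mk (jR j U.1 m) 1 := fun m y => by
    refine (congrArg (fun q => GrTwist.val (V := em ⁻¹ᵁ O) q y) (mres_app (lam U.1 U.2) hle _)).trans ?_
    refine (val_mres_pushforward _ hle _ y).trans ?_
    exact (hφ U.1 U.2 m _).trans (Localization.mk_one_eq_algebraMap _).symm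
  refine (hO1.bijective U.1 U.2 O hle).injective (Subtype.ext (funext fun y => Subtype.ext ?_))
  refine Eq.trans ?_ (hval e' y).symm
  refine (congrArg (fun q => GrTwist.val (V := em ⁻¹ᵁ O) q y)
    (Scheme.Modules.Hom.app_smul (lam U.1 U.2) (dFrac chart hj U e e') _)).trans ?_
  refine (GrTwist.coe_smul_val 1 y.1 _ _).trans ?_
  refine (congrArg₂ (· * ·) (emb_app_dFrac_val chart hj U e e' y) (hval e y)).trans ?_
  rw [Localization.mk_mul, Localization.mk_eq_mk_iff, Localization.r_iff_exists]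
  exact ⟨1, by simp [mul_comm]⟩

end Groth.Agent.EGAProj74
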