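import Groth.Agent.EGAProj74.BundleBase

/-!
A criterion for a classifying map to be an immersion.
-/

set_option autoImplicit false
set_option backward.isDefEq.respectTransparency.types false

universe u

open CategoryTheory CategoryTheory.Limits AlgebraicGeometry TopologicalSpace Opposite
open scoped HomogeneousIdeal

noncomputable section

namespace Groth.Agent.EGAProj74

open Var76.LineBundle Var76.ZeroScheme

variable {S X : Scheme.{u}} {g : X ⟶ S}

/-- The largest open where `v e` generates. -/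
def genOpen {E : S.Modules} {L : X.Modules} (v : E ⟶ (Scheme.Modules.pushforward g).obj L) (U : S.affineOpens)
    (e : Γ(E, U.1)) : X.Opens :=
  sSup {V | ∃ hV : V ≤ g ⁻¹ᵁ U.1, IsFrame L V (res L hV (v.app U.1 e))}

section

variable {E : S.Modules} {L : X.Modules} {v : E ⟶ (Scheme.Modules.pushforward g).obj L} {U : S.affineOpens}
  {e : Γ(E, U.1)}

theorem genOpen_le : genOpen v U e ≤ g ⁻¹ᵁ U.1 := sSup_le fun _ hV => hV.1

theorem isFrame_genOpen : IsFrame L (genOpen v U e) (res L genOpen_le (v.app U.1 e)) :=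
  Amp73.isFrame_of_locally _ fun x hx => by
    obtain ⟨V, hV, hxV⟩ := Opens.mem_sSup.mp hx
    refine ⟨V, le_sSup hV, hxV, ?_⟩
    rw [res_res]
    exact hV.2

theorem le_genOpen {V : X.Opens} (hV : V ≤ g ⁻¹ᵁ U.1) (h : IsFrame L V (res L hV (v.app U.1 e))) :
    V ≤ genOpen v U e := le_sSup ⟨hV, h⟩

end

variable {P P' : Scheme.{u}} {E E' : S.Modules} {L L' : X.Modules}
  {𝒮 : RelProj.QCGrAlg S} {j : E ⟶ 𝒮.toModule} {p : P ⟶ S}
  {chart : ∀ (U : S.Opens) (hU : IsAffineOpen U), ((p ⁻¹ᵁ U : P.Opens) : Scheme.{u}) ≅ Proj (𝒮.deg U hU)}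
  {O1 : P.Modules}
  {lam : ∀ (U : S.Opens) (hU : IsAffineOpen U),
    O1 ⟶ (Scheme.Modules.pushforward (RelProj.emb p chart U hU)).obj (GrTwist.twist (𝒮.deg U hU) 1)}
  {𝒮' : RelProj.QCGrAlg S} {j' : E' ⟶ 𝒮'.toModule} {p' : P' ⟶ S}
  {chart' : ∀ (U : S.Opens) (hU : IsAffineOpen U), ((p' ⁻¹ᵁ U : P'.Opens) : Scheme.{u}) ≅ Proj (𝒮'.deg U hU)}
  {O1' : P'.Modules}
  {lam' : ∀ (U : S.Opens) (hU : IsAffineOpen U),
    O1' ⟶ (Scheme.Modules.pushforward (RelProj.emb p' chart' U hU)).obj (GrTwist.twist (𝒮'.deg U hU) 1)}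
  (hE : E.IsQuasicoherent) (hj : RelProj.IsGrSymAlg E 𝒮 j) (hP : RelProj.IsRelProj 𝒮 p chart)
  (hE' : E'.IsQuasicoherent) (hj' : RelProj.IsGrSymAlg E' 𝒮' j') (hP' : RelProj.IsRelProj 𝒮' p' chart')
  (hO1' : RelProj.IsRelTwist 𝒮' p' chart' 1 O1' lam')
  {φ' : E' ⟶ (Scheme.Modules.pushforward p').obj O1'} (hφ' : IsCanonical lam' j' φ')
  {v : E ⟶ (Scheme.Modules.pushforward g).obj L} {v' : E' ⟶ (Scheme.Modules.pushforward g).obj L'}

include hE' hj' hO1' hφ' in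
theorem preimage_dOpen_le_genOpen (hv' : IsGenerating v') {r : X ⟶ P'} (h : Classifies chart' hj' v' r)
    (U : S.affineOpens) (e : Γ(E', U.1)) : r ⁻¹ᵁ dOpen j' chart' U e ≤ genOpen v' U e := by
  obtain rfl := h.comp_eq
  obtain ⟨τ, hτ⟩ := exists_iso_of_classifies hE' hj' hO1' hφ' hv' h
  have hle : r ⁻¹ᵁ dOpen j' chart' U e ≤ (r ≫ p') ⁻¹ᵁ U.1 := r.preimage_mono (dOpen_le (j := j') chart' U e)
  refine le_genOpen hle ?_
  have h1 := (Amp73.isFrame_app_iff τ.hom _).2 (isFrame_pullCan hj' hO1' hφ'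
    (isInvertible_of_isGenDegOne hO1' (isGenDegOne_grSym hE' hj')) (r := r) e (V := r ⁻¹ᵁ dOpen j' chart' U e) le_rfl)
  rw [pullCan, Mero90.app_res, hτ] at h1
  exact h1

include hE hP hE' hO1' hφ' in
theorem isImmersion_of_transfer {r : X ⟶ P} [IsImmersion r] (hr : Classifies chart hj v r) (hv' : IsGenerating v')
    {r' : X ⟶ P'} (hr' : Classifies chart' hj' v' r') {ι : Type u} (U : ι → S.affineOpens)
    (e : ∀ i, Γ(E, (U i).1)) (ℓ : ∀ i, Γ(E, (U i).1) →ₗ[Γ(S, (U i).1)] Γ(E', (U i).1))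
    (hcov : ∀ x : X, ∃ i, x ∈ genOpen v' (U i) (ℓ i (e i)))
    (hle : ∀ i, genOpen v' (U i) (ℓ i (e i)) ≤ genOpen v (U i) (e i))
    (hcoef : ∀ i (m : Γ(E, (U i).1)) (a : Γ(X, genOpen v' (U i) (ℓ i (e i)))),
      a • res L ((hle i).trans (genOpen_le (v := v) (U := U i) (e := e i))) (v.app (U i).1 (e i)) = res L ((hle i).trans (genOpen_le (v := v) (U := U i) (e := e i))) (v.app (U i).1 m) →
      a • res L' (genOpen_le (v := v') (U := U i) (e := ℓ i (e i))) (v'.app (U i).1 (ℓ i (e i))) = res L' (genOpen_le (v := v') (U := U i) (e := ℓ i (e i))) (v'.app (U i).1 (ℓ i m))) :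
    IsImmersion r' := by
  let Ω : P'.Opens := ⨆ i, dOpen j' chart' (U i) (ℓ i (e i))
  have hmem : ∀ x, r' x ∈ Ω := fun x => by
    obtain ⟨i, hi⟩ := hcov x
    exact Opens.mem_iSup.mpr ⟨i, (hr'.coord (U i) (ℓ i (e i)) _ genOpen_le isFrame_genOpen).1 hi⟩
  let r₀ : X ⟶ (Ω : Scheme.{u}) := IsOpenImmersion.lift Ω.ι r' (by
    rw [Scheme.Opens.range_ι]
    rintro _ ⟨x, rfl⟩
    exact hmem x)
  have hr₀ : r₀ ≫ Ω.ι = r' := IsOpenImmersion.lift_fac ..
  suffices IsImmersion r₀ by rw [← hr₀]; infer_instance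
  refine IsZariskiLocalAtTarget.of_iSup_eq_top (P := @IsImmersion) (fun i => Ω.ι ⁻¹ᵁ dOpen j' chart' (U i) (ℓ i (e i))) ?_ fun i => ?_
  · refine eq_top_iff.mpr fun y _ => ?_
    obtain ⟨i, hi⟩ := Opens.mem_iSup.mp y.2
    exact Opens.mem_iSup.mpr ⟨i, hi⟩
  let G' := genOpen v' (U i) (ℓ i (e i))
  let D := dOpen j' chart' (U i) (ℓ i (e i))
  have hD : IsAffineOpen D := isAffineOpen_dOpen chart' hj' (U i) (ℓ i (e i))
  have hE₀ : IsAffineOpen (dOpen j chart (U i) (e i)) := isAffineOpen_dOpen chart hj (U i) (e i)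
  obtain ⟨hD', hc'⟩ := hr'.coord (U i) (ℓ i (e i)) G' genOpen_le isFrame_genOpen
  have hfr : IsFrame L G' (res L ((hle i).trans (genOpen_le (v := v) (U := U i) (e := e i))) (v.app (U i).1 (e i))) := by
    have := (isFrame_genOpen (v := v) (U := U i) (e := e i)).res (hle i)
    rwa [res_res] at this
  obtain ⟨hDr, hc⟩ := hr.coord (U i) (e i) G' ((hle i).trans (genOpen_le (v := v) (U := U i) (e := e i))) hfr
  have hadd : ∀ a b : Γ(E, (U i).1), dFrac chart' hj' (U i) (ℓ i (e i)) (ℓ i (a + b)) =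
      dFrac chart' hj' (U i) (ℓ i (e i)) (ℓ i a) + dFrac chart' hj' (U i) (ℓ i (e i)) (ℓ i b) := fun a b => by
    refine ((isFrame_dOpen chart' hj' hO1' hφ' (U i) (ℓ i (e i))) D le_rfl).1 ?_
    show _ • res O1' le_rfl _ = _ • res O1' le_rfl _
    rw [Amp73.res_self, add_smul, dFrac_smul chart' hj' hO1' hφ', dFrac_smul chart' hj' hO1' hφ',
      dFrac_smul chart' hj' hO1' hφ', map_add, map_add]
    exact map_add (O1'.presheaf.map _).hom _ _
  have hsmul : ∀ (s : Γ(S, (U i).1)) (a : Γ(E, (U i).1)), dFrac chart' hj' (U i) (ℓ i (e i)) (ℓ i (s • a)) =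
      p'.appLE (U i).1 D (dOpen_le (j := j') chart' (U i) (ℓ i (e i))) s * dFrac chart' hj' (U i) (ℓ i (e i)) (ℓ i a) := fun s a => by
    refine ((isFrame_dOpen chart' hj' hO1' hφ' (U i) (ℓ i (e i))) D le_rfl).1 ?_
    show _ • res O1' le_rfl _ = _ • res O1' le_rfl _
    rw [Amp73.res_self, mul_smul, dFrac_smul chart' hj' hO1' hφ', dFrac_smul chart' hj' hO1' hφ', map_smul]
    exact vres_smul φ' (dOpen_le (j := j') chart' (U i) (ℓ i (e i))) s (ℓ i a)
  have hone : dFrac chart' hj' (U i) (ℓ i (e i)) (ℓ i (e i)) = 1 := by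
    refine ((isFrame_dOpen chart' hj' hO1' hφ' (U i) (ℓ i (e i))) D le_rfl).1 ?_
    show _ • res O1' le_rfl _ = _ • res O1' le_rfl _
    rw [Amp73.res_self, one_smul, dFrac_smul chart' hj' hO1' hφ']
  obtain ⟨π, hπ, hπf⟩ := exists_chartRing_hom chart hj hP hE (U i) (e i)
    (p'.appLE (U i).1 D (dOpen_le (j := j') chart' (U i) (ℓ i (e i))))
    (fun m => dFrac chart' hj' (U i) (ℓ i (e i)) (ℓ i m)) hadd hsmul hone
  have key : π ≫ r'.appLE D G' hD' = r.appLE _ G' hDr := by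
    refine IsCoord.unique hE hj hP hfr ⟨?_, fun m => ?_⟩ hc
    · rw [← Category.assoc, hπ]
      exact hc'.base
    · obtain ⟨a, ha⟩ := (hfr G' le_rfl).2 (res L ((hle i).trans (genOpen_le (v := v) (U := U i) (e := e i))) (v.app (U i).1 m))
      dsimp only at ha
      rw [Amp73.res_self] at ha
      have h1 := hcoef i m a ha
      rw [CommRingCat.comp_apply, hπf]
      have h2 : r'.appLE D G' hD' (dFrac chart' hj' (U i) (ℓ i (e i)) (ℓ i m)) = a :=
        (isFrame_genOpen (v := v') (U := U i) (e := ℓ i (e i)) G' le_rfl).1 (by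
          show _ • res L' le_rfl _ = _ • res L' le_rfl _
          rw [Amp73.res_self]
          exact (hc'.frac (ℓ i m)).trans h1.symm)
      rw [h2]
      exact ha
  have hpre : r' ⁻¹ᵁ D = G' :=
    le_antisymm (preimage_dOpen_le_genOpen hE' hj' hO1' hφ' hv' hr' (U i) (ℓ i (e i))) hD'
  let V : X.Opens := r₀ ⁻¹ᵁ (Ω.ι ⁻¹ᵁ D)
  have hV : V = G' := by rw [← hpre, ← hr₀]; rfl
  have himm : IsImmersion (G'.ι ≫ r) := inferInstance
  rw [ι_comp_eq_affMor r hE₀ hDr, ← key, affMor, Spec.map_comp] at himm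
  have h1 : IsImmersion ((G'.toSpecΓ ≫ Spec.map (r'.appLE D G' hD')) ≫ (Spec.map π ≫ hE₀.fromSpec)) := by
    simpa only [Category.assoc] using himm
  have h2 : IsImmersion (G'.toSpecΓ ≫ Spec.map (r'.appLE D G' hD')) :=
    IsImmersion.of_comp _ (Spec.map π ≫ hE₀.fromSpec)
  have h3 : IsImmersion (G'.ι ≫ r') := by
    rw [ι_comp_eq_affMor r' hD hD', affMor, ← Category.assoc]
    infer_instance
  have h4 : IsImmersion (V.ι ≫ r') := by rw [hV]; exact h3
  have h5 : IsImmersion (((r₀ ∣_ (Ω.ι ⁻¹ᵁ D)) ≫ (Ω.ι ⁻¹ᵁ D).ι) ≫ Ω.ι) := by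
    rw [morphismRestrict_ι, Category.assoc, hr₀]
    exact h4
  rw [Category.assoc] at h5
  exact IsImmersion.of_comp _ ((Ω.ι ⁻¹ᵁ D).ι ≫ Ω.ι)

end Groth.Agent.EGAProj74
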