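import Groth.Agent.EGAProj74.BundleProjection

/-!
Comparing classifying morphisms over different bases along a map of coordinate rings.
-/

set_option autoImplicit false
set_option backward.isDefEq.respectTransparency.types false

universe u

open CategoryTheory CategoryTheory.Limits AlgebraicGeometry TopologicalSpace Opposite
open scoped HomogeneousIdeal

noncomputable section

namespace Groth.Agent.EGAProj74

open Var76.LineBundle Var76.ZeroScheme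

variable {S S₀ X : Scheme.{u}} {g : X ⟶ S} {g₀ : X ⟶ S₀}
  {E₀ : S₀.Modules} {E' : S.Modules} {L L' : X.Modules}
  {P₀ P' : Scheme.{u}} {𝒮₀ : RelProj.QCGrAlg S₀} {j₀ : E₀ ⟶ 𝒮₀.toModule} {p₀ : P₀ ⟶ S₀}
  {chart₀ : ∀ (U : S₀.Opens) (hU : IsAffineOpen U), ((p₀ ⁻¹ᵁ U : P₀.Opens) : Scheme.{u}) ≅ Proj (𝒮₀.deg U hU)}
  {𝒮' : RelProj.QCGrAlg S} {j' : E' ⟶ 𝒮'.toModule} {p' : P' ⟶ S}
  {chart' : ∀ (U : S.Opens) (hU : IsAffineOpen U), ((p' ⁻¹ᵁ U : P'.Opens) : Scheme.{u}) ≅ Proj (𝒮'.deg U hU)}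
  {O1' : P'.Modules}
  {lam' : ∀ (U : S.Opens) (hU : IsAffineOpen U),
    O1' ⟶ (Scheme.Modules.pushforward (RelProj.emb p' chart' U hU)).obj (GrTwist.twist (𝒮'.deg U hU) 1)}
  (hE₀ : E₀.IsQuasicoherent) (hj₀ : RelProj.IsGrSymAlg E₀ 𝒮₀ j₀) (hP₀ : RelProj.IsRelProj 𝒮₀ p₀ chart₀)
  (hE' : E'.IsQuasicoherent) (hj' : RelProj.IsGrSymAlg E' 𝒮' j')
  (hO1' : RelProj.IsRelTwist 𝒮' p' chart' 1 O1' lam')
  {φ' : E' ⟶ (Scheme.Modules.pushforward p').obj O1'} (hφ' : IsCanonical lam' j' φ')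
  {v₀ : E₀ ⟶ (Scheme.Modules.pushforward g₀).obj L} {v' : E' ⟶ (Scheme.Modules.pushforward g).obj L'}

set_option maxHeartbeats 800000 in
include hE₀ hP₀ hE' hO1' hφ' in
theorem exists_piece {r₀ : X ⟶ P₀} (hr₀ : Classifies chart₀ hj₀ v₀ r₀) (hv' : IsGenerating v')
    {r' : X ⟶ P'} (hr' : Classifies chart' hj' v' r') (U₀ : S₀.affineOpens) (W : S.affineOpens)
    (c₀ : Γ(S₀, U₀.1) ⟶ Γ(S, W.1))
    (hbase : ∀ (V : X.Opens) (h : V ≤ g ⁻¹ᵁ W.1) (h₀ : V ≤ g₀ ⁻¹ᵁ U₀.1), c₀ ≫ g.appLE W.1 V h = g₀.appLE U₀.1 V h₀)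
    (e : Γ(E₀, U₀.1)) (ℓ : Γ(E₀, U₀.1) → Γ(E', W.1))
    (hℓadd : ∀ m n, ℓ (m + n) = ℓ m + ℓ n) (hℓsmul : ∀ (s : Γ(S₀, U₀.1)) m, ℓ (s • m) = c₀ s • ℓ m)
    (hle : genOpen v' W (ℓ e) ≤ genOpen v₀ U₀ e)
    (hcoef : ∀ (m : Γ(E₀, U₀.1)) (a : Γ(X, genOpen v' W (ℓ e))),
      a • res L (hle.trans (genOpen_le (v := v₀) (U := U₀) (e := e))) (v₀.app U₀.1 e) =
        res L (hle.trans (genOpen_le (v := v₀) (U := U₀) (e := e))) (v₀.app U₀.1 m) →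
      a • res L' (genOpen_le (v := v') (U := W) (e := ℓ e)) (v'.app W.1 (ℓ e)) =
        res L' (genOpen_le (v := v') (U := W) (e := ℓ e)) (v'.app W.1 (ℓ m))) :
    ∃ π : (dOpen j' chart' W (ℓ e) : Scheme.{u}) ⟶ P₀,
      (r' ∣_ dOpen j' chart' W (ℓ e)) ≫ π = (r' ⁻¹ᵁ dOpen j' chart' W (ℓ e)).ι ≫ r₀ := by
  let D := dOpen j' chart' W (ℓ e)
  have hD₀ : IsAffineOpen (dOpen j₀ chart₀ U₀ e) := isAffineOpen_dOpen chart₀ hj₀ U₀ e
  have hDW : D ≤ p' ⁻¹ᵁ W.1 := dOpen_le (j := j') chart' W (ℓ e)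
  have hinj : ∀ a c : Γ(P', D), a • mres O1' hDW (φ'.app W.1 (ℓ e)) = c • mres O1' hDW (φ'.app W.1 (ℓ e)) → a = c :=
    fun a c h => ((isFrame_dOpen chart' hj' hO1' hφ' W (ℓ e)) D le_rfl).1 (by
      show a • res O1' le_rfl _ = c • res O1' le_rfl _
      rw [Amp73.res_self]; exact h)
  let c : Γ(E₀, U₀.1) → Γ(P', D) := fun m => dFrac chart' hj' W (ℓ e) (ℓ m)
  have hadd : ∀ m n, c (m + n) = c m + c n := fun m n => hinj _ _ (by
    rw [add_smul, dFrac_smul chart' hj' hO1' hφ', dFrac_smul chart' hj' hO1' hφ', dFrac_smul chart' hj' hO1' hφ',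
      hℓadd, map_add]
    exact map_add (O1'.presheaf.map _).hom _ _)
  have hsmul : ∀ (s : Γ(S₀, U₀.1)) m, c (s • m) = p'.appLE W.1 D hDW (c₀ s) * c m := fun s m => hinj _ _ (by
    rw [mul_smul, dFrac_smul chart' hj' hO1' hφ', dFrac_smul chart' hj' hO1' hφ', hℓsmul]
    exact vres_smul φ' hDW _ _)
  have hone : c e = 1 := hinj _ _ (by rw [one_smul, dFrac_smul chart' hj' hO1' hφ'])
  obtain ⟨θ, hθ, hθf⟩ := exists_chartRing_hom chart₀ hj₀ hP₀ hE₀ U₀ e (c₀ ≫ p'.appLE W.1 D hDW) c hadd hsmul hone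
  refine ⟨affMor hD₀ θ, ?_⟩
  · let G := genOpen v' W (ℓ e)
    have hG : G ≤ g₀ ⁻¹ᵁ U₀.1 := hle.trans genOpen_le
    obtain ⟨hD', hc'⟩ := hr'.coord W (ℓ e) G genOpen_le isFrame_genOpen
    have hpre : r' ⁻¹ᵁ D = G :=
      le_antisymm (preimage_dOpen_le_genOpen hE' hj' hO1' hφ' hv' hr' W (ℓ e)) hD'
    have hfr : IsFrame L (r' ⁻¹ᵁ D) (res L (hpre.le.trans hG) (v₀.app U₀.1 e)) := by
      have := (isFrame_genOpen (v := v₀) (U := U₀) (e := e)).res (hpre.le.trans hle)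
      rwa [res_res] at this
    obtain ⟨hDr, hc⟩ := hr₀.coord U₀ e (r' ⁻¹ᵁ D) (hpre.le.trans hG) hfr
    have hc2 := hc'.res' hj' hpre.le
    rw [Scheme.Hom.appLE_map] at hc2
    rw [morphismRestrict_affMor, ι_comp_eq_affMor r₀ hD₀ hDr]
    refine congrArg (affMor hD₀) (IsCoord.unique hE₀ hj₀ hP₀ hfr ⟨?_, fun m => ?_⟩ hc)
    · have hg := hr'.comp_eq
      subst hg
      rw [← Category.assoc, hθ, Category.assoc, Scheme.Hom.appLE_comp_appLE]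
      exact hbase _ _ _
    · obtain ⟨a, ha⟩ := ((isFrame_genOpen (v := v₀) (U := U₀) (e := e)) G hle).2
        (res L hG (v₀.app U₀.1 m))
      dsimp only at ha
      rw [res_res] at ha
      have h1 := hcoef m a ha
      have h3 : r'.appLE D G hD' (c m) = a :=
        (isFrame_genOpen (v := v') (U := W) (e := ℓ e) G le_rfl).1 (by
          show _ • res L' le_rfl _ = _ • res L' le_rfl _
          rw [Amp73.res_self]
          exact (hc'.frac (ℓ m)).trans h1.symm)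
      have h4 := congrArg (res L hpre.le) ha
      rw [res_smul, res_res, res_res, ← h3, ← CommRingCat.comp_apply, Scheme.Hom.appLE_map] at h4
      rw [CommRingCat.comp_apply, hθf]
      exact h4

end Groth.Agent.EGAProj74
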