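import Groth.Agent.EGAProj74.VeryAmpleData

/-!
Projections between affine pieces of projective bundles over different bases, and an immersion criterion.
-/

set_option autoImplicit false
set_option backward.isDefEq.respectTransparency.types false

universe u

open CategoryTheory CategoryTheory.Limits AlgebraicGeometry TopologicalSpace Opposite
open scoped HomogeneousIdeal

noncomputable section

namespace Groth.Agent.EGAProj74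

open Var76.LineBundle Var76.ZeroScheme

theorem isImmersion_of_pieces {X P : Scheme.{u}} (r : X ⟶ P) {ι : Type u} (D : ι → P.Opens)
    (hcov : ∀ x, ∃ i, r x ∈ D i)
    (h : ∀ i, ∃ (Z : Scheme.{u}) (π : (D i : Scheme.{u}) ⟶ Z), IsImmersion ((r ∣_ D i) ≫ π)) : IsImmersion r := by
  let Ω : P.Opens := ⨆ i, D i
  let r₀ : X ⟶ (Ω : Scheme.{u}) := IsOpenImmersion.lift Ω.ι r (by
    rw [Scheme.Opens.range_ι]
    rintro _ ⟨x, rfl⟩
    obtain ⟨i, hi⟩ := hcov x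
    exact Opens.mem_iSup.mpr ⟨i, hi⟩)
  have hr₀ : r₀ ≫ Ω.ι = r := IsOpenImmersion.lift_fac ..
  suffices IsImmersion r₀ by rw [← hr₀]; infer_instance
  refine IsZariskiLocalAtTarget.of_iSup_eq_top (P := @IsImmersion) (fun i => Ω.ι ⁻¹ᵁ D i) ?_ fun i => ?_
  · refine eq_top_iff.mpr fun y _ => ?_
    obtain ⟨i, hi⟩ := Opens.mem_iSup.mp y.2
    exact Opens.mem_iSup.mpr ⟨i, hi⟩
  obtain ⟨Z, π, hπ⟩ := h i
  have h1 : IsImmersion (r ∣_ D i) := IsImmersion.of_comp _ π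
  have h2 : IsImmersion ((r ⁻¹ᵁ D i).ι ≫ r) := by
    rw [← morphismRestrict_ι]; infer_instance
  let V : X.Opens := r₀ ⁻¹ᵁ (Ω.ι ⁻¹ᵁ D i)
  have hV : V = r ⁻¹ᵁ D i := by rw [← hr₀]; rfl
  have h4 : IsImmersion (V.ι ≫ r) := by rw [hV]; exact h2
  have h5 : IsImmersion (((r₀ ∣_ (Ω.ι ⁻¹ᵁ D i)) ≫ (Ω.ι ⁻¹ᵁ D i).ι) ≫ Ω.ι) := by
    rw [morphismRestrict_ι, Category.assoc, hr₀]
    exact h4
  rw [Category.assoc] at h5
  exact IsImmersion.of_comp _ ((Ω.ι ⁻¹ᵁ D i).ι ≫ Ω.ι)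

theorem morphismRestrict_affMor {X P Q : Scheme.{u}} (r : X ⟶ P) (D : P.Opens) {D₀ : Q.Opens}
    (hD₀ : IsAffineOpen D₀) (θ : Γ(Q, D₀) ⟶ Γ(P, D)) :
    (r ∣_ D) ≫ affMor hD₀ θ = affMor hD₀ (θ ≫ r.appLE D (r ⁻¹ᵁ D) le_rfl) := by
  have h : (r ⁻¹ᵁ D).toSpecΓ ≫ Spec.map (r.appLE D (r ⁻¹ᵁ D) le_rfl) = r.resLE D (r ⁻¹ᵁ D) le_rfl ≫ D.toSpecΓ := by
    rw [Scheme.Hom.appLE, Spec.map_comp, Scheme.Opens.toSpecΓ_SpecMap_presheaf_map_assoc,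
      Scheme.Opens.toSpecΓ_naturality, Scheme.Hom.resLE, Category.assoc]
  rw [affMor, affMor, Spec.map_comp, Category.assoc, reassoc_of% h, Scheme.Hom.resLE_eq_morphismRestrict]

variable {S S₀ X : Scheme.{u}} {g : X ⟶ S} {b : S ⟶ S₀} {g₀ : X ⟶ S₀} (hg₀ : g ≫ b = g₀)
  {E₀ : S₀.Modules} {E' : S.Modules} {L L' : X.Modules}
  {P₀ P' : Scheme.{u}} {𝒮₀ : RelProj.QCGrAlg S₀} {j₀ : E₀ ⟶ 𝒮₀.toModule} {p₀ : P₀ ⟶ S₀}
  {chart₀ : ∀ (U : S₀.Opens) (hU : IsAffineOpen U), ((p₀ ⁻¹ᵁ U : P₀.Opens) : Scheme.{u}) ≅ Proj (𝒮₀.deg U hU)}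
  {𝒮' : RelProj.QCGrAlg S} {j' : E' ⟶ 𝒮'.toModule} {p' : P' ⟶ S}
  {chart' : ∀ (U : S.Opens) (hU : IsAffineOpen U), ((p' ⁻¹ᵁ U : P'.Opens) : Scheme.{u}) ≅ Proj (𝒮'.deg U hU)}
  {O1' : P'.Modules}
  {lam' : ∀ (U : S.Opens) (hU : IsAffineOpen U),
    O1' ⟶ (Scheme.Modules.pushforward (RelProj.emb p' chart' U hU)).obj (GrTwist.twist (𝒮'.deg U hU) 1)}
  (hE₀ : E₀.IsQuasicoherent) (hj₀ : RelProj.IsGrSymAlg E₀ 𝒮₀ j₀) (hP₀ : RelProj.IsRelProj 𝒮₀ p₀ chart₀)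
  (hE' : E'.IsQuasicoherent) (hj' : RelProj.IsGrSymAlg E' 𝒮' j')
  (hO1' : RelProj.IsRelTwist 𝒮' p' chart' 1 O1' lam')
  {φ' : E' ⟶ (Scheme.Modules.pushforward p').obj O1'} (hφ' : IsCanonical lam' j' φ')
  {v₀ : E₀ ⟶ (Scheme.Modules.pushforward g₀).obj L} {v' : E' ⟶ (Scheme.Modules.pushforward g).obj L'}

set_option maxHeartbeats 800000 in
include hg₀ hE₀ hP₀ hE' hO1' hφ' in
theorem exists_projection {r₀ : X ⟶ P₀} (hr₀ : Classifies chart₀ hj₀ v₀ r₀) (hv' : IsGenerating v')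
    {r' : X ⟶ P'} (hr' : Classifies chart' hj' v' r') (U₀ : S₀.affineOpens) (W : S.affineOpens)
    (hW : W.1 ≤ b ⁻¹ᵁ U₀.1) (e : Γ(E₀, U₀.1)) (ℓ : Γ(E₀, U₀.1) → Γ(E', W.1))
    (hℓadd : ∀ m n, ℓ (m + n) = ℓ m + ℓ n) (hℓsmul : ∀ (s : Γ(S₀, U₀.1)) m, ℓ (s • m) = b.appLE U₀.1 W.1 hW s • ℓ m)
    (hle : genOpen v' W (ℓ e) ≤ genOpen v₀ U₀ e)
    (hcoef : ∀ (m : Γ(E₀, U₀.1)) (a : Γ(X, genOpen v' W (ℓ e))),
      a • res L (hle.trans (genOpen_le (v := v₀) (U := U₀) (e := e))) (v₀.app U₀.1 e) =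
        res L (hle.trans (genOpen_le (v := v₀) (U := U₀) (e := e))) (v₀.app U₀.1 m) →
      a • res L' (genOpen_le (v := v') (U := W) (e := ℓ e)) (v'.app W.1 (ℓ e)) =
        res L' (genOpen_le (v := v') (U := W) (e := ℓ e)) (v'.app W.1 (ℓ m))) :
    ∃ π : (dOpen j' chart' W (ℓ e) : Scheme.{u}) ⟶ P₀,
      π ≫ p₀ = (dOpen j' chart' W (ℓ e)).ι ≫ p' ≫ b ∧
      (r' ∣_ dOpen j' chart' W (ℓ e)) ≫ π = (r' ⁻¹ᵁ dOpen j' chart' W (ℓ e)).ι ≫ r₀ := by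
  let D := dOpen j' chart' W (ℓ e)
  have hD₀ : IsAffineOpen (dOpen j₀ chart₀ U₀ e) := isAffineOpen_dOpen chart₀ hj₀ U₀ e
  have hDW : D ≤ p' ⁻¹ᵁ W.1 := dOpen_le (j := j') chart' W (ℓ e)
  have hDU : D ≤ (p' ≫ b) ⁻¹ᵁ U₀.1 := hDW.trans (p'.preimage_mono hW)
  have hinj : ∀ a c : Γ(P', D), a • mres O1' hDW (φ'.app W.1 (ℓ e)) = c • mres O1' hDW (φ'.app W.1 (ℓ e)) → a = c :=
    fun a c h => ((isFrame_dOpen chart' hj' hO1' hφ' W (ℓ e)) D le_rfl).1 (by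
      show a • res O1' le_rfl _ = c • res O1' le_rfl _
      rw [Amp73.res_self]; exact h)
  let c : Γ(E₀, U₀.1) → Γ(P', D) := fun m => dFrac chart' hj' W (ℓ e) (ℓ m)
  have hadd : ∀ m n, c (m + n) = c m + c n := fun m n => hinj _ _ (by
    rw [add_smul, dFrac_smul chart' hj' hO1' hφ', dFrac_smul chart' hj' hO1' hφ', dFrac_smul chart' hj' hO1' hφ',
      hℓadd, map_add]
    exact map_add (O1'.presheaf.map _).hom _ _)
  have hsmul : ∀ (s : Γ(S₀, U₀.1)) m, c (s • m) = (p' ≫ b).appLE U₀.1 D hDU s * c m := fun s m => hinj _ _ (by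
    rw [mul_smul, dFrac_smul chart' hj' hO1' hφ', dFrac_smul chart' hj' hO1' hφ', hℓsmul]
    refine (vres_smul φ' hDW _ _).trans ?_
    rw [← CommRingCat.comp_apply, Scheme.Hom.appLE_comp_appLE])
  have hone : c e = 1 := hinj _ _ (by rw [one_smul, dFrac_smul chart' hj' hO1' hφ'])
  obtain ⟨θ, hθ, hθf⟩ := exists_chartRing_hom chart₀ hj₀ hP₀ hE₀ U₀ e ((p' ≫ b).appLE U₀.1 D hDU) c hadd hsmul hone
  refine ⟨affMor hD₀ θ, ?_, ?_⟩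
  · rw [affMor_comp p₀ U₀.2 hD₀ (dOpen_le (j := j₀) chart₀ U₀ e), hθ]
    exact (ι_comp_eq_affMor (p' ≫ b) U₀.2 hDU).symm
  · let G := genOpen v' W (ℓ e)
    have hG : G ≤ g₀ ⁻¹ᵁ U₀.1 := hle.trans genOpen_le
    obtain ⟨hD', hc'⟩ := hr'.coord W (ℓ e) G genOpen_le isFrame_genOpen
    have hpre : r' ⁻¹ᵁ D = G :=
      le_antisymm (preimage_dOpen_le_genOpen hE' hj' hO1' hφ' hv' hr' W (ℓ e)) hD'
    have hfr : IsFrame L (r' ⁻¹ᵁ D) (res L (hpre.le.trans hG) (v₀.app U₀.1 e)) := by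
      have := (isFrame_genOpen (v := v₀) (U := U₀) (e := e)).res (hpre.le.trans hle)
      rwa [res_res] at this
    obtain ⟨hDr, hc⟩ := hr₀.coord U₀ e (r' ⁻¹ᵁ D) (hpre.le.trans hG) hfr
    have hc2 := hc'.res' hj' hpre.le
    rw [Scheme.Hom.appLE_map] at hc2
    rw [morphismRestrict_affMor, ι_comp_eq_affMor r₀ hD₀ hDr]
    refine congrArg (affMor hD₀) (IsCoord.unique hE₀ hj₀ hP₀ hfr ⟨?_, fun m => ?_⟩ hc)
    · have hgb : r' ≫ p' ≫ b = g₀ := by rw [← Category.assoc, hr'.comp_eq, hg₀]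
      subst hgb
      rw [← Category.assoc, hθ, Scheme.Hom.appLE_comp_appLE]
    · obtain ⟨a, ha⟩ := ((isFrame_genOpen (v := v₀) (U := U₀) (e := e)) G hle).2
        (res L hG (v₀.app U₀.1 m))
      dsimp only at ha
      rw [res_res] at ha
      have h1 := hcoef m a ha
      have h3 : r'.appLE D G hD' (c m) = a :=
        (isFrame_genOpen (v := v') (U := W) (e := ℓ e) G le_rfl).1 (by
          show _ • res L' le_rfl _ = _ • res L' le_rfl _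
          rw [Amp73.res_self]
          exact (hc'.frac (ℓ m)).trans h1.symm)
      have h4 := congrArg (res L hpre.le) ha
      rw [res_smul, res_res, res_res, ← h3, ← CommRingCat.comp_apply, Scheme.Hom.appLE_map] at h4
      rw [CommRingCat.comp_apply, hθf]
      exact h4

end Groth.Agent.EGAProj74
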