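import Groth.Agent.EGAProj74.BundleUP
import Groth.Agent.EGAProj74.RelMap
import Groth.Agent.S8292
import Groth.Agent.QC70.Closure

/-!
The projective bundles of two modules inside that of their sum.
-/

set_option autoImplicit false
set_option backward.isDefEq.respectTransparency.types false

universe u

open CategoryTheory CategoryTheory.Limits AlgebraicGeometry TopologicalSpace Opposite
open scoped HomogeneousIdeal

noncomputable section

namespace Groth.Agent.EGAProj74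

theorem isQuasicoherent_biprod {S : Scheme.{u}} {E F : S.Modules} (hE : E.IsQuasicoherent) (hF : F.IsQuasicoherent) :
    (E ⊞ F : S.Modules).IsQuasicoherent := by
  let C : ShortComplex S.Modules := ShortComplex.mk (biprod.inl : E ⟶ E ⊞ F) biprod.snd biprod.inl_snd
  have hs : C.Splitting :=
    { r := biprod.fst, s := biprod.inr, f_r := biprod.inl_fst, s_g := biprod.inr_snd, id := biprod.total }
  have : C.X₁.IsQuasicoherent := hE
  have : C.X₃.IsQuasicoherent := hF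
  exact QC70.isQuasicoherent_X₂ C hs.shortExact

/-- In a graded symmetric algebra, degree one is the image of the module. -/
theorem exists_eq_of_mem_degOne {S : Scheme.{u}} {E : S.Modules} (hE : E.IsQuasicoherent) {𝒮 : RelProj.QCGrAlg S}
    {j : E ⟶ 𝒮.toModule} (hj : RelProj.IsGrSymAlg E 𝒮 j) (U : S.Opens) (hU : IsAffineOpen U)
    {x : 𝒮.presheaf.obj (op U)} (hx : x ∈ 𝒮.deg U hU 1) : ∃ m : Γ(E, U), jR j U m = x := by
  classical
  have hmon : ∀ a ∈ Submonoid.closure (Set.range (𝒮.str.app (op U)).hom ∪ Set.range fun m : Γ(E, U) => jR j U m),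
      ∃ k, a ∈ 𝒮.deg U hU k ∧ (k = 0 → ∃ r, (𝒮.str.app (op U)).hom r = a) ∧ (k = 1 → ∃ m, jR j U m = a) := by
    intro a ha
    induction ha using Submonoid.closure_induction with
    | mem z hz =>
      rcases hz with ⟨r, rfl⟩ | ⟨m, rfl⟩
      · exact ⟨0, 𝒮.str_mem U hU r, fun _ => ⟨r, rfl⟩, fun h => absurd h (by omega)⟩
      · exact ⟨1, hj.2 U hU m, fun h => absurd h (by omega), fun _ => ⟨m, rfl⟩⟩
    | one => exact ⟨0, SetLike.one_mem_graded _, fun _ => ⟨1, map_one _⟩, fun h => absurd h (by omega)⟩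
    | mul a b _ _ iha ihb =>
      obtain ⟨k, hka, hk0, hk1⟩ := iha
      obtain ⟨l, hlb, hl0, hl1⟩ := ihb
      refine ⟨k + l, SetLike.mul_mem_graded hka hlb, fun h => ?_, fun h => ?_⟩
      · obtain ⟨r, rfl⟩ := hk0 (by omega)
        obtain ⟨s, rfl⟩ := hl0 (by omega)
        exact ⟨r * s, map_mul _ _ _⟩
      · rcases Nat.eq_zero_or_pos k with hk | hk
        · obtain ⟨r, rfl⟩ := hk0 hk
          obtain ⟨m, rfl⟩ := hl1 (by omega)
          exact ⟨r • m, Scheme.Modules.Hom.app_smul j r m⟩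
        · obtain ⟨m, rfl⟩ := hk1 (by omega)
          obtain ⟨r, rfl⟩ := hl0 (by omega)
          exact ⟨r • m, (Scheme.Modules.Hom.app_smul j r m).trans (mul_comm ((𝒮.str.app (op U)).hom r) (jR j U m))⟩
  have hy : x ∈ AddSubgroup.closure (Submonoid.closure
      (Set.range (𝒮.str.app (op U)).hom ∪ Set.range fun m : Γ(E, U) => jR j U m) : Set (𝒮.presheaf.obj (op U))) :=
    Subring.mem_closure_iff.mp ((closure_grSym hE hj U hU).ge trivial)
  have key : ∃ m, jR j U m = (DirectSum.decompose (𝒮.deg U hU) x 1 : 𝒮.presheaf.obj (op U)) := by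
    clear hx
    induction hy using AddSubgroup.closure_induction with
    | mem z hz =>
      obtain ⟨k, hk, -, hk1⟩ := hmon z hz
      by_cases h : k = 1
      · subst h
        rw [DirectSum.decompose_of_mem_same _ hk]
        exact hk1 rfl
      · rw [DirectSum.decompose_of_mem_ne _ hk h]
        exact ⟨0, map_zero _⟩
    | zero => exact ⟨0, by rw [DirectSum.decompose_zero]; exact map_zero _⟩
    | add a b _ _ iha ihb =>
      obtain ⟨m, hm⟩ := iha
      obtain ⟨n, hn⟩ := ihb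
      refine ⟨m + n, ?_⟩
      rw [DirectSum.decompose_add, DirectSum.add_apply, AddSubgroup.coe_add, ← hm, ← hn]
      exact map_add (j.app U).hom m n
    | neg a _ iha =>
      obtain ⟨m, hm⟩ := iha
      refine ⟨-m, ?_⟩
      rw [DirectSum.decompose_neg]
      show _ = -(DirectSum.decompose (𝒮.deg U hU) a 1 : 𝒮.presheaf.obj (op U))
      rw [← hm]
      exact map_neg (j.app U).hom m
  rwa [DirectSum.decompose_of_mem_same _ hx] at key

theorem isClosedImmersion_coprod_desc {A B X : Scheme.{u}} (f : A ⟶ X) (g : B ⟶ X) [IsClosedImmersion f]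
    [IsClosedImmersion g] (h : Disjoint (Set.range f.base) (Set.range g.base)) :
    IsClosedImmersion (coprod.desc f g) := by
  set d := coprod.desc f g
  have hd₁ : coprod.inl ≫ d = f := coprod.inl_desc f g
  have hd₂ : coprod.inr ≫ d = g := coprod.inr_desc f g
  have happ₁ : ∀ a, d ((coprod.inl : A ⟶ A ⨿ B) a) = f a := fun a => by
    rw [← hd₁]; rfl
  have happ₂ : ∀ a, d ((coprod.inr : B ⟶ A ⨿ B) a) = g a := fun a => by
    rw [← hd₂]; rfl
  have hcases : ∀ z : ↥(A ⨿ B), (∃ a, (coprod.inl : A ⟶ A ⨿ B) a = z) ∨ ∃ a, (coprod.inr : B ⟶ A ⨿ B) a = z :=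
    fun z => (isCompl_range_inl_inr A B).codisjoint.top_le (Set.mem_univ z)
  have hinj : Function.Injective d := fun z w hzw => by
    rcases hcases z with ⟨a, rfl⟩ | ⟨a, rfl⟩ <;> rcases hcases w with ⟨b, rfl⟩ | ⟨b, rfl⟩
    · rw [happ₁, happ₁] at hzw; rw [f.isClosedEmbedding.injective hzw]
    · rw [happ₁, happ₂] at hzw; exact (Set.disjoint_left.mp h ⟨a, rfl⟩ ⟨b, hzw.symm⟩).elim
    · rw [happ₂, happ₁] at hzw; exact (Set.disjoint_left.mp h ⟨b, rfl⟩ ⟨a, hzw⟩).elim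
    · rw [happ₂, happ₂] at hzw; rw [g.isClosedEmbedding.injective hzw]
  have hclosed : IsClosedMap d := fun C hC => by
    have e : d '' C = f '' ((coprod.inl : A ⟶ A ⨿ B) ⁻¹' C) ∪ g '' ((coprod.inr : B ⟶ A ⨿ B) ⁻¹' C) := by
      ext y
      constructor
      · rintro ⟨z, hz, rfl⟩
        rcases hcases z with ⟨a, rfl⟩ | ⟨a, rfl⟩
        · exact Or.inl ⟨a, hz, (happ₁ a).symm⟩
        · exact Or.inr ⟨a, hz, (happ₂ a).symm⟩
      · rintro (⟨a, ha, rfl⟩ | ⟨a, ha, rfl⟩)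
        · exact ⟨_, ha, happ₁ a⟩
        · exact ⟨_, ha, happ₂ a⟩
    rw [e]
    exact (f.isClosedEmbedding.isClosedMap _ (hC.preimage (coprod.inl : A ⟶ A ⨿ B).continuous)).union
      (g.isClosedEmbedding.isClosedMap _ (hC.preimage (coprod.inr : B ⟶ A ⨿ B).continuous))
  have hemb : Topology.IsClosedEmbedding d :=
    Topology.IsClosedEmbedding.of_continuous_injective_isClosedMap d.continuous hinj hclosed
  have : SurjectiveOnStalks d := ⟨fun z => by
    have key : ∀ {C : Scheme.{u}} (i : C ⟶ A ⨿ B) [IsOpenImmersion i] (k : C ⟶ X) [IsClosedImmersion k],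
        i ≫ d = k → ∀ a, Function.Surjective (d.stalkMap (i a)) := by
      intro C i _ k _ hk a
      subst hk
      have h2 := (i ≫ d).stalkMap_surjective a
      rw [Scheme.Hom.stalkMap_comp] at h2
      have h3 : Function.Surjective ((i.stalkMap a).hom ∘ (d.stalkMap (i a)).hom) := h2
      exact Function.Surjective.of_comp_left h3 (ConcreteCategory.bijective_of_isIso (i.stalkMap a)).1
    rcases hcases z with ⟨a, rfl⟩ | ⟨a, rfl⟩
    · exact key _ f hd₁ a
    · exact key _ g hd₂ a⟩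
  have : IsPreimmersion d := ⟨hemb.isEmbedding⟩
  exact IsClosedImmersion.of_isPreimmersion d hemb.isClosed_range

theorem isClosedImmersion_biprod {Y PE PF P : Scheme.{u}} {E F : Y.Modules}
    (hE : Coh.IsQCoh E) (hF : Coh.IsQCoh F) {𝒮E 𝒮F 𝒮 : RelProj.QCGrAlg Y}
    {jE : E ⟶ 𝒮E.toModule} (hjE : RelProj.IsGrSymAlg E 𝒮E jE)
    {jF : F ⟶ 𝒮F.toModule} (hjF : RelProj.IsGrSymAlg F 𝒮F jF)
    {j : E ⊞ F ⟶ 𝒮.toModule} (hj : RelProj.IsGrSymAlg (E ⊞ F) 𝒮 j)
    (πE : 𝒮.toQCAlg ⟶ 𝒮E.toQCAlg) (hπE : RelProj.IsGradedHom πE)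
    (hjπE : j ≫ RelSpec.QCAlg.Hom.toModuleMap πE = biprod.fst ≫ jE)
    (πF : 𝒮.toQCAlg ⟶ 𝒮F.toQCAlg) (hπF : RelProj.IsGradedHom πF)
    (hjπF : j ≫ RelSpec.QCAlg.Hom.toModuleMap πF = biprod.snd ≫ jF)
    (hirrE : ∀ (U : Y.Opens) (hU : IsAffineOpen U),
      (𝒮E.deg U hU)₊ ≤ ((𝒮.deg U hU)₊).map (RelProj.gradedHomAt πE hπE U hU))
    (hirrF : ∀ (U : Y.Opens) (hU : IsAffineOpen U),
      (𝒮F.deg U hU)₊ ≤ ((𝒮.deg U hU)₊).map (RelProj.gradedHomAt πF hπF U hU))
    {p : P ⟶ Y} {pE : PE ⟶ Y} {pF : PF ⟶ Y}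
    {chart : ∀ (U : Y.Opens) (hU : IsAffineOpen U), ((p ⁻¹ᵁ U : P.Opens) : Scheme.{u}) ≅ Proj (𝒮.deg U hU)}
    {chartE : ∀ (U : Y.Opens) (hU : IsAffineOpen U), ((pE ⁻¹ᵁ U : PE.Opens) : Scheme.{u}) ≅ Proj (𝒮E.deg U hU)}
    {chartF : ∀ (U : Y.Opens) (hU : IsAffineOpen U), ((pF ⁻¹ᵁ U : PF.Opens) : Scheme.{u}) ≅ Proj (𝒮F.deg U hU)}
    (hP : RelProj.IsRelProj 𝒮 p chart) (hPE : RelProj.IsRelProj 𝒮E pE chartE) (hPF : RelProj.IsRelProj 𝒮F pF chartF)
    {hE' : PE ⟶ P} (hhE : RelProj.IsRelProjMap πE hπE hirrE chart chartE hE')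
    {hF' : PF ⟶ P} (hhF : RelProj.IsRelProjMap πF hπF hirrF chart chartF hF') :
    IsClosedImmersion (coprod.desc hE' hF') := by
  have hsum : Coh.IsQCoh (E ⊞ F) := isQuasicoherent_biprod hE hF
  have h1 : IsClosedImmersion hE' := S8292.result 𝒮E 𝒮 (isGenDegOne_grSym hE hjE) (E ⊞ F) hsum (biprod.fst ≫ jE)
    (fun U hU x => hjE.2 U hU ((biprod.fst : E ⊞ F ⟶ E).app U x))
    (fun U hU t ht => by
      obtain ⟨m, rfl⟩ := exists_eq_of_mem_degOne hE hjE U hU ht
      exact ⟨(biprod.inl : E ⟶ E ⊞ F).app U m, congrArg (jE.app U)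
        congr(($(biprod.inl_fst (X := E) (Y := F))).app U m)⟩)
    j hj πE hπE hjπE hirrE p pE chart chartE hP hPE hE' hhE
  have h2 : IsClosedImmersion hF' := S8292.result 𝒮F 𝒮 (isGenDegOne_grSym hF hjF) (E ⊞ F) hsum (biprod.snd ≫ jF)
    (fun U hU x => hjF.2 U hU ((biprod.snd : E ⊞ F ⟶ F).app U x))
    (fun U hU t ht => by
      obtain ⟨m, rfl⟩ := exists_eq_of_mem_degOne hF hjF U hU ht
      exact ⟨(biprod.inr : F ⟶ E ⊞ F).app U m, congrArg (jF.app U)
        congr(($(biprod.inr_snd (X := E) (Y := F))).app U m)⟩)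
    j hj πF hπF hjπF hirrF p pF chart chartF hP hPF hF' hhF
  refine isClosedImmersion_coprod_desc hE' hF' (Set.disjoint_left.mpr ?_)
  rintro _ ⟨a, rfl⟩ ⟨b, hb⟩
  obtain ⟨U, hU, y, rfl⟩ := exists_emb_apply (chart := chartE) a
  have hb' : b ∈ pF ⁻¹ᵁ U := by
    rw [← relProjMap_preimage hP hPF hhF U]
    show hF' b ∈ p ⁻¹ᵁ U
    rw [show hF' b = hE' ((RelProj.emb pE chartE U hU).base y) from hb]
    show (RelProj.emb pE chartE U hU).base y ∈ hE' ⁻¹ᵁ (p ⁻¹ᵁ U)
    rw [relProjMap_preimage hP hPE hhE U, ← opensRange_emb (chart := chartE) U hU]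
    exact ⟨y, rfl⟩
  rw [← opensRange_emb (chart := chartF) U hU] at hb'
  obtain ⟨z, rfl⟩ := hb'
  have e1 : hE'.base ((RelProj.emb pE chartE U hU).base y) = (RelProj.emb p chart U hU).base
      (ProjectiveSpectrum.comap (RelProj.gradedHomAt πE hπE U hU) (hirrE U hU) y) :=
    congr($((isRelProjMap_iff hE').mp hhE U hU).base y)
  have e2 : hF'.base ((RelProj.emb pF chartF U hU).base z) = (RelProj.emb p chart U hU).base
      (ProjectiveSpectrum.comap (RelProj.gradedHomAt πF hπF U hU) (hirrF U hU) z) :=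
    congr($((isRelProjMap_iff hF').mp hhF U hU).base z)
  have eq : ProjectiveSpectrum.comap (RelProj.gradedHomAt πF hπF U hU) (hirrF U hU) z =
      ProjectiveSpectrum.comap (RelProj.gradedHomAt πE hπE U hU) (hirrE U hU) y :=
    (RelProj.emb p chart U hU).isOpenEmbedding.injective (e2.symm.trans (hb.trans e1))
  set q := ProjectiveSpectrum.comap (RelProj.gradedHomAt πE hπE U hU) (hirrE U hU) y with hq
  obtain ⟨e₀, he₀⟩ := exists_gen_notMem hsum hj hU (q : Proj (𝒮.deg U hU))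
  refine he₀ ?_
  have hl : ∀ m : Γ(E, U), jR j U ((biprod.inl : E ⟶ E ⊞ F).app U m) ∈ q.asHomogeneousIdeal := fun m => by
    rw [← eq]
    show (πF.hom.app (op U)).hom (jR j U ((biprod.inl : E ⟶ E ⊞ F).app U m)) ∈
      (z : ProjectiveSpectrum (𝒮F.deg U hU)).asHomogeneousIdeal
    have h := congr(($hjπF).app U ((biprod.inl : E ⟶ E ⊞ F).app U m))
    refine Eq.subst (motive := fun t => t ∈ (z : ProjectiveSpectrum (𝒮F.deg U hU)).asHomogeneousIdeal) h.symm ?_
    show jR jF U ((biprod.snd : E ⊞ F ⟶ F).app U ((biprod.inl : E ⟶ E ⊞ F).app U m)) ∈ _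
    rw [show (biprod.snd : E ⊞ F ⟶ F).app U ((biprod.inl : E ⟶ E ⊞ F).app U m) = 0 from
      congr(($(biprod.inl_snd (X := E) (Y := F))).app U m)]
    rw [show jR jF U 0 = 0 from map_zero (jF.app U).hom]
    exact zero_mem _
  have hr : ∀ m : Γ(F, U), jR j U ((biprod.inr : F ⟶ E ⊞ F).app U m) ∈ q.asHomogeneousIdeal := fun m => by
    show (πE.hom.app (op U)).hom (jR j U ((biprod.inr : F ⟶ E ⊞ F).app U m)) ∈
      (y : ProjectiveSpectrum (𝒮E.deg U hU)).asHomogeneousIdeal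
    have h := congr(($hjπE).app U ((biprod.inr : F ⟶ E ⊞ F).app U m))
    refine Eq.subst (motive := fun t => t ∈ (y : ProjectiveSpectrum (𝒮E.deg U hU)).asHomogeneousIdeal) h.symm ?_
    show jR jE U ((biprod.fst : E ⊞ F ⟶ E).app U ((biprod.inr : F ⟶ E ⊞ F).app U m)) ∈ _
    rw [show (biprod.fst : E ⊞ F ⟶ E).app U ((biprod.inr : F ⟶ E ⊞ F).app U m) = 0 from
      congr(($(biprod.inr_fst (X := E) (Y := F))).app U m)]
    rw [show jR jE U 0 = 0 from map_zero (jE.app U).hom]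
    exact zero_mem _
  have hdec : jR j U e₀ = jR j U ((biprod.inl : E ⟶ E ⊞ F).app U ((biprod.fst : E ⊞ F ⟶ E).app U e₀)) +
      jR j U ((biprod.inr : F ⟶ E ⊞ F).app U ((biprod.snd : E ⊞ F ⟶ F).app U e₀)) := by
    refine Eq.trans (congrArg (jR j U) (congr(($(biprod.total (X := E) (Y := F))).app U e₀)).symm) ?_
    exact map_add (j.app U).hom _ _
  rw [hdec]
  exact add_mem (hl _) (hr _)

end Groth.Agent.EGAProj74
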