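import Groth.Agent.EGAProj74.BundleChart
import Groth.Agent.EGAProj74.AffFactor

/-!
Morphisms to a projective bundle classified by a generating map `E ⟶ g_*L`.
-/

set_option autoImplicit false
set_option backward.isDefEq.respectTransparency.types false

universe u

open CategoryTheory CategoryTheory.Limits AlgebraicGeometry TopologicalSpace Opposite
open scoped HomogeneousIdeal

noncomputable section

namespace Groth.Agent.EGAProj74

open Var76.LineBundle

variable {S P X : Scheme.{u}} {E : S.Modules} {g : X ⟶ S} {L : X.Modules}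

/-- A map `E ⟶ g_*L` whose sections generate `L`. -/
def IsGenerating (v : E ⟶ (Scheme.Modules.pushforward g).obj L) : Prop :=
  ∀ x : X, ∃ (U : S.affineOpens) (e : Γ(E, U.1)) (V : X.Opens) (hV : V ≤ g ⁻¹ᵁ U.1),
    x ∈ V ∧ IsFrame L V (res L hV (v.app U.1 e))

variable (v : E ⟶ (Scheme.Modules.pushforward g).obj L)

/-- A coordinate map for `v` on `V` and `e`: the functions on `D₊(e)` read on `V`. -/
structure IsCoord {𝒮 : RelProj.QCGrAlg S} {j : E ⟶ 𝒮.toModule} {p : P ⟶ S}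
    (chart : ∀ (U : S.Opens) (hU : IsAffineOpen U), ((p ⁻¹ᵁ U : P.Opens) : Scheme.{u}) ≅ Proj (𝒮.deg U hU))
    (hj : RelProj.IsGrSymAlg E 𝒮 j) (U : S.affineOpens) (e : Γ(E, U.1)) (V : X.Opens) (hV : V ≤ g ⁻¹ᵁ U.1)
    (θ : Γ(P, dOpen j chart U e) ⟶ Γ(X, V)) : Prop where
  base : p.appLE U.1 _ (dOpen_le (j := j) chart U e) ≫ θ = g.appLE U.1 V hV
  frac : ∀ e', θ (dFrac chart hj U e e') • res L hV (v.app U.1 e) = res L hV (v.app U.1 e')

theorem vres_nat {U W : S.Opens} (h : W ≤ U) {V : X.Opens} (hV : V ≤ g ⁻¹ᵁ W) (e : Γ(E, U)) :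
    res L hV (v.app W (res E h e)) = res L (hV.trans (g.preimage_mono h)) (v.app U e) := by
  refine (congrArg (res L hV) (mres_app v h e)).trans ?_
  exact res_res L (g.preimage_mono h) hV (v.app U e)

theorem vres_smul {U : S.Opens} {V : X.Opens} (hV : V ≤ g ⁻¹ᵁ U) (r : Γ(S, U)) (e : Γ(E, U)) :
    res L hV (v.app U (r • e)) = g.appLE U V hV r • res L hV (v.app U e) :=
  (congrArg (res L hV) (Scheme.Modules.Hom.app_smul v r e)).trans (res_smul L hV (g.app U r) (v.app U e))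

variable {v} {𝒮 : RelProj.QCGrAlg S} {j : E ⟶ 𝒮.toModule} {p : P ⟶ S}
  {chart : ∀ (U : S.Opens) (hU : IsAffineOpen U), ((p ⁻¹ᵁ U : P.Opens) : Scheme.{u}) ≅ Proj (𝒮.deg U hU)}
  {O1 : P.Modules}
  {lam : ∀ (U : S.Opens) (hU : IsAffineOpen U),
    O1 ⟶ (Scheme.Modules.pushforward (RelProj.emb p chart U hU)).obj (GrTwist.twist (𝒮.deg U hU) 1)}
  (hE : E.IsQuasicoherent) (hj : RelProj.IsGrSymAlg E 𝒮 j) (hP : RelProj.IsRelProj 𝒮 p chart)
  (hO1 : RelProj.IsRelTwist 𝒮 p chart 1 O1 lam) {φ : E ⟶ (Scheme.Modules.pushforward p).obj O1}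
  (hφ : IsCanonical lam j φ)

theorem IsCoord.res' {U : S.affineOpens} {e : Γ(E, U.1)} {V V' : X.Opens} {hV : V ≤ g ⁻¹ᵁ U.1}
    {θ : Γ(P, dOpen j chart U e) ⟶ Γ(X, V)} (h : IsCoord v chart hj U e V hV θ) (i : V' ≤ V) :
    IsCoord v chart hj U e V' (i.trans hV) (θ ≫ X.presheaf.map (homOfLE i).op) where
  base := by rw [← Category.assoc, h.base, Scheme.Hom.appLE_map]
  frac e' := by
    have h1 := congrArg (res L i) (h.frac e')
    rw [res_smul, res_res, res_res] at h1
    exact h1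

include hE hP in
theorem IsCoord.unique {U : S.affineOpens} {e : Γ(E, U.1)} {V : X.Opens} {hV : V ≤ g ⁻¹ᵁ U.1}
    (hfr : IsFrame L V (res L hV (v.app U.1 e)))
    {θ θ' : Γ(P, dOpen j chart U e) ⟶ Γ(X, V)} (h : IsCoord v chart hj U e V hV θ)
    (h' : IsCoord v chart hj U e V hV θ') : θ = θ' := by
  refine chartRing_hom_ext chart hj hP hE U e (h.base.trans h'.base.symm) fun e' => ?_
  refine (hfr V le_rfl).1 ?_
  show _ • res L le_rfl (res L hV (v.app U.1 e)) = _ • res L le_rfl (res L hV (v.app U.1 e))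
  rw [res_res]
  exact (h.frac e').trans (h'.frac e').symm

include hE hP in
theorem exists_isCoord {U : S.affineOpens} {e : Γ(E, U.1)} {V : X.Opens} {hV : V ≤ g ⁻¹ᵁ U.1}
    (hfr : IsFrame L V (res L hV (v.app U.1 e))) :
    ∃ θ : Γ(P, dOpen j chart U e) ⟶ Γ(X, V), IsCoord v chart hj U e V hV θ := by
  have hinj : ∀ a b : Γ(X, V), a • res L hV (v.app U.1 e) = b • res L hV (v.app U.1 e) → a = b := fun a b hab =>
    (hfr V le_rfl).1 (by
      show a • res L le_rfl (res L hV (v.app U.1 e)) = b • res L le_rfl (res L hV (v.app U.1 e))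
      rwa [res_res])
  choose c hc using fun e' : Γ(E, U.1) => (hfr V le_rfl).2 (res L hV (v.app U.1 e'))
  replace hc : ∀ e', c e' • res L hV (v.app U.1 e) = res L hV (v.app U.1 e') := fun e' => by
    have := hc e'
    dsimp only at this
    rwa [res_res] at this
  obtain ⟨θ, hθ, hθf⟩ := exists_chartRing_hom chart hj hP hE U e (g.appLE U.1 V hV) c
    (fun a b => hinj _ _ (by rw [add_smul, hc, hc, hc, map_add]; exact map_add (L.presheaf.map _).hom _ _))
    (fun r a => hinj _ _ (by rw [mul_smul, hc, hc]; exact vres_smul v hV r a))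
    (hinj _ _ (by rw [hc, one_smul]))
  exact ⟨θ, hθ, fun e' => by rw [hθf, hc]⟩

theorem dOpen_mono {U W : S.affineOpens} (h : W.1 ≤ U.1) (e : Γ(E, U.1)) (hP : RelProj.IsRelProj 𝒮 p chart) :
    dOpen j chart W (res E h e) ≤ dOpen j chart U e := by
  rintro _ ⟨y, hy, rfl⟩
  refine ⟨ProjectiveSpectrum.comap (𝒮.res U.2 W.2 h) (irrelevant_le_map_res 𝒮 U.2 W.2 h) y, fun hmem => hy ?_,
    congr($(map_res_emb' hP U.2 W.2 h).base y)⟩
  exact Eq.subst (motive := fun q => q ∈ (y : ProjectiveSpectrum (𝒮.deg W.1 W.2)).asHomogeneousIdeal)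
    (mres_app j h e).symm hmem

include hO1 hφ in
theorem dFrac_res {U W : S.affineOpens} (h : W.1 ≤ U.1) (e e' : Γ(E, U.1))
    (hle : dOpen j chart W (res E h e) ≤ dOpen j chart U e) :
    P.presheaf.map (homOfLE hle).op (dFrac chart hj U e e') =
      dFrac chart hj W (res E h e) (res E h e') := by
  refine ((isFrame_dOpen chart hj hO1 hφ W (res E h e)) _ le_rfl).1 ?_
  show _ • res O1 le_rfl (mres O1 _ (φ.app W.1 (res E h e))) = _ • res O1 le_rfl (mres O1 _ (φ.app W.1 (res E h e)))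
  have h1 := congrArg (res O1 hle) (dFrac_smul chart hj hO1 hφ U e e')
  rw [res_smul] at h1
  have h2 : ∀ m : Γ(E, U.1), res O1 hle (mres O1 (dOpen_le (j := j) chart U e) (φ.app U.1 m)) =
      mres O1 (dOpen_le (j := j) chart W (res E h e)) (φ.app W.1 (res E h m)) := fun m => by
    refine (res_res O1 _ hle _).trans ?_
    exact (vres_nat φ h (dOpen_le (j := j) chart W (res E h e)) m).symm
  rw [h2, h2] at h1
  rw [Amp73.res_self]
  exact h1.trans (dFrac_smul chart hj hO1 hφ W (res E h e) (res E h e')).symm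

include hE hP hO1 hφ in
theorem IsCoord.refine_open {U W : S.affineOpens} (h : W.1 ≤ U.1) {e : Γ(E, U.1)} {V : X.Opens}
    {hV : V ≤ g ⁻¹ᵁ W.1} (hfr : IsFrame L V (res L (hV.trans (g.preimage_mono h)) (v.app U.1 e)))
    {θ : Γ(P, dOpen j chart U e) ⟶ Γ(X, V)}
    (hθ : IsCoord v chart hj U e V (hV.trans (g.preimage_mono h)) θ)
    {θW : Γ(P, dOpen j chart W (res E h e)) ⟶ Γ(X, V)}
    (hW : IsCoord v chart hj W (res E h e) V hV θW) :
    affMor (isAffineOpen_dOpen chart hj U e) θ = affMor (isAffineOpen_dOpen chart hj W (res E h e)) θW := by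
  rw [← affMor_map (isAffineOpen_dOpen chart hj U e) (isAffineOpen_dOpen chart hj W (res E h e)) (dOpen_mono h e hP) θW]
  congr 1
  refine hθ.unique hE hj hP hfr ⟨?_, fun e' => ?_⟩
  · have h1 := congrArg (fun q => S.presheaf.map (homOfLE h).op ≫ q) hW.base
    rw [← Category.assoc, Scheme.Hom.map_appLE, Scheme.Hom.map_appLE] at h1
    rw [← Category.assoc, Scheme.Hom.appLE_map]
    exact h1
  · have h1 := hW.frac (res E h e')
    rw [vres_nat, vres_nat, ← dFrac_res hj hO1 hφ h e e' (dOpen_mono h e hP)] at h1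
    exact h1

theorem basicOpen_dFrac_le (U : S.affineOpens) (e e' : Γ(E, U.1)) :
    P.basicOpen (dFrac chart hj U e e') ≤ dOpen j chart U e' := by
  let em := RelProj.emb p chart U.1 U.2
  intro z hz
  obtain ⟨y, hy, rfl⟩ := P.basicOpen_le _ hz
  refine ⟨y, fun hmem => ?_, rfl⟩
  have hu : y ∈ (Proj (𝒮.deg U.1 U.2)).basicOpen (em.app (dOpen j chart U e) (dFrac chart hj U e e')) := by
    rw [← Scheme.preimage_basicOpen]
    exact hz
  obtain ⟨B, i, hyB, huB⟩ : ∃ (B : (Proj (𝒮.deg U.1 U.2)).Opens) (i : B ≤ em ⁻¹ᵁ dOpen j chart U e), y ∈ B ∧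
      IsUnit ((Proj (𝒮.deg U.1 U.2)).presheaf.map (homOfLE i).op (em.app (dOpen j chart U e) (dFrac chart hj U e e'))) :=
    ⟨_, (Proj (𝒮.deg U.1 U.2)).basicOpen_le _, hu, RingedSpace.isUnit_res_basicOpen _ _⟩
  obtain ⟨b, hb⟩ := huB.exists_right_inv
  have h1 := congrArg (fun q : (ProjectiveSpectrum.Proj.structureSheaf (𝒮.deg U.1 U.2)).1.obj (op B) => (q.1 ⟨y, hyB⟩).val) hb
  have hy' : jR j U.1 e ∉ (y : ProjectiveSpectrum (𝒮.deg U.1 U.2)).asHomogeneousIdeal :=
    (preimage_dOpen chart U e).le (i hyB)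
  have h2 : Localization.mk (jR j U.1 e') (⟨jR j U.1 e, hy'⟩ :
      (y : ProjectiveSpectrum (𝒮.deg U.1 U.2)).asHomogeneousIdeal.toIdeal.primeCompl) *
      ((b : (ProjectiveSpectrum.Proj.structureSheaf (𝒮.deg U.1 U.2)).1.obj (op B)).1 ⟨y, hyB⟩).val = 1 := by
    refine Eq.trans ?_ (h1.trans HomogeneousLocalization.val_one)
    refine Eq.trans ?_ (HomogeneousLocalization.val_mul _ _).symm
    exact congrArg (· * _) (emb_app_dFrac_val chart hj U e e' ⟨y, i hyB⟩).symm
  have hunit := IsUnit.of_mul_eq_one _ h2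
  rw [Localization.mk_eq_mk', IsLocalization.mk'_eq_mul_mk'_one, IsUnit.mul_iff] at hunit
  exact (IsLocalization.AtPrime.isUnit_to_map_iff (GrTwist.Loc (𝒮.deg U.1 U.2) y) _ _).mp hunit.1 hmem

include hE hP hO1 hφ in
theorem IsCoord.change {U : S.affineOpens} {e e₂ : Γ(E, U.1)} {V : X.Opens} {hV : V ≤ g ⁻¹ᵁ U.1}
    (hfr : IsFrame L V (res L hV (v.app U.1 e))) (hfr₂ : IsFrame L V (res L hV (v.app U.1 e₂)))
    {θ : Γ(P, dOpen j chart U e) ⟶ Γ(X, V)} (hθ : IsCoord v chart hj U e V hV θ)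
    {θ₂ : Γ(P, dOpen j chart U e₂) ⟶ Γ(X, V)} (hθ₂ : IsCoord v chart hj U e₂ V hV θ₂) :
    affMor (isAffineOpen_dOpen chart hj U e) θ = affMor (isAffineOpen_dOpen chart hj U e₂) θ₂ := by
  let a := dFrac chart hj U e e₂
  have hQ : IsAffineOpen (P.basicOpen a) := (isAffineOpen_dOpen chart hj U e).basicOpen a
  have hunit : IsUnit (θ a) := by
    have h := hfr₂
    rw [← hθ.frac e₂, Amp73.isFrame_smul_iff hfr] at h
    exact h
  have := (isAffineOpen_dOpen chart hj U e).isLocalization_basicOpen a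
  let θQ : Γ(P, P.basicOpen a) ⟶ Γ(X, V) :=
    CommRingCat.ofHom (IsLocalization.Away.lift (S := Γ(P, P.basicOpen a)) a hunit)
  have hθQ : P.presheaf.map (homOfLE (P.basicOpen_le a)).op ≫ θQ = θ :=
    CommRingCat.hom_ext (RingHom.ext fun z => IsLocalization.Away.lift_eq a hunit z)
  have hle₂ := basicOpen_dFrac_le (chart := chart) hj U e e₂
  have key : θ₂ = P.presheaf.map (homOfLE hle₂).op ≫ θQ := by
    refine hθ₂.unique hE hj hP hfr₂ ⟨?_, fun m => ?_⟩
    · rw [← Category.assoc, Scheme.Hom.appLE_map]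
      have h := hθ.base
      rw [← hθQ, ← Category.assoc, Scheme.Hom.appLE_map] at h
      exact h
    · rw [← hθ.frac e₂, ← hθ.frac m, ← mul_smul, CommRingCat.comp_apply]
      refine congrArg (· • res L hV (v.app U.1 e)) ?_
      have h : P.presheaf.map (homOfLE hle₂).op (dFrac chart hj U e₂ m) *
          P.presheaf.map (homOfLE (P.basicOpen_le a)).op a =
          P.presheaf.map (homOfLE (P.basicOpen_le a)).op (dFrac chart hj U e m) := by
        refine ((isFrame_dOpen chart hj hO1 hφ U e) _ (P.basicOpen_le a)).1 ?_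
        show _ • res O1 (P.basicOpen_le a) _ = _ • res O1 (P.basicOpen_le a) _
        rw [mul_smul]
        have h1 := congrArg (res O1 (P.basicOpen_le a)) (dFrac_smul chart hj hO1 hφ U e e₂)
        have h2 := congrArg (res O1 (P.basicOpen_le a)) (dFrac_smul chart hj hO1 hφ U e m)
        have h3 := congrArg (res O1 hle₂) (dFrac_smul chart hj hO1 hφ U e₂ m)
        rw [res_smul] at h1 h2 h3
        rw [h1, h2]
        simp only [mres, res_res] at h3 ⊢
        exact h3
      have h' := congrArg θQ h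
      rw [map_mul] at h'
      rw [← hθQ]
      exact h'
  rw [key, affMor_map _ hQ hle₂, ← hθQ, affMor_map _ hQ (P.basicOpen_le a)]

end Groth.Agent.EGAProj74
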