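import Groth.Agent.Approx60.ChowMain
import Groth.Agent.EGA73.QuasiProjective

/-!
Chow's lemma with an isomorphism over some nonempty open, no finiteness on the components
(the core construction of `Approx60.ChowCore` for an open which need not be dense).
-/

set_option autoImplicit false

universe u

open CategoryTheory CategoryTheory.Limits AlgebraicGeometry Opposite TopologicalSpace

noncomputable section

set_option backward.isDefEq.respectTransparency false
set_option backward.defeqAttrib.useBackward true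

namespace Groth.Agent.EGAProj74.ChowNonempty

open Groth.Agent.Approx60 Groth.Agent.Approx60.Chow

/-- The core of Chow's lemma: compatible maps of a dense open into compactified affine pieces. -/
theorem core {S X : Scheme.{u}} (f : X ⟶ S) [IsSeparated f] [CompactSpace X]
    [QuasiSeparatedSpace X] {k : ℕ} (W : Fin k → X.Opens) (hW : ⨆ i, W i = ⊤) (n : Fin k → ℕ)
    (j : ∀ i, (W i : Scheme.{u}) ⟶ CohB1.ProjSpaceOver (n i) S)
    (hj : ∀ i, j i ≫ CohB1.ProjSpaceOver.toBase (n i) S = (W i).ι ≫ f)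
    (O : ∀ i, (CohB1.ProjSpaceOver (n i) S).Opens)
    (jO : ∀ i, (W i : Scheme.{u}) ⟶ (O i : Scheme.{u})) (hjO : ∀ i, jO i ≫ (O i).ι = j i)
    [∀ i, IsClosedImmersion (jO i)]
    (U : X.Opens) [CompactSpace (U : Scheme.{u})]
    (g : ∀ i, (U : Scheme.{u}) ⟶ CohB1.ProjSpaceOver (n i) S)
    (hg : ∀ i, g i ≫ CohB1.ProjSpaceOver.toBase (n i) S = U.ι ≫ f)
    (hgO : ∀ i, g i ⁻¹ᵁ O i = U.ι ⁻¹ᵁ W i)
    (hgj : ∀ i {T : Scheme.{u}} (a : T ⟶ U) (b : T ⟶ W i), a ≫ U.ι = b ≫ (W i).ι → a ≫ g i = b ≫ j i) :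
    ∃ (N : ℕ) (X' : Scheme.{u}) (π : X' ⟶ X) (J : X' ⟶ CohB1.ProjSpaceOver N S),
      IsImmersion J ∧ J ≫ CohB1.ProjSpaceOver.toBase N S = π ≫ f ∧ IsProper π ∧
      IsIso (π ∣_ U) ∧ IsSchemeTheoreticallyDominant (π ⁻¹ᵁ U).ι := by
  obtain ⟨N, P, c, pr, hc, hpr, hlift⟩ := exists_prod_proj S k n
  obtain ⟨l, hlt, hl⟩ := hlift (U.ι ≫ f) g hg
  let tP := c ≫ CohB1.ProjSpaceOver.toBase N S
  have hN := Segre.isProper_toBase N S
  have htP : IsProper tP := inferInstance
  have hsep : ∀ i, IsSeparated (CohB1.ProjSpaceOver.toBase (n i) S) := fun i =>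
    (Segre.isProper_toBase (n i) S).toIsSeparated
  let Q := pullback f tP
  let G : (U : Scheme.{u}) ⟶ Q := pullback.lift U.ι l hlt.symm
  have : QuasiSeparatedSpace Q := quasiSeparatedSpace_of_quasiSeparated (pullback.fst f tP)
  have : QuasiCompact G := quasiCompact_of_compactSpace G
  let τ := G.toImage
  have hτ : IsSchemeTheoreticallyDominant τ := MP99.dominant_toImage G
  let π : G.image ⟶ X := G.imageι ≫ pullback.fst f tP
  let qP : G.image ⟶ P := G.imageι ≫ pullback.snd f tP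
  have hπf : qP ≫ tP = π ≫ f := by
    simp only [π, qP, Category.assoc, ← pullback.condition]
  have hτπ : τ ≫ π = U.ι := by
    simp only [τ, π, Scheme.Hom.toImage_imageι_assoc]; exact pullback.lift_fst _ _ _
  have hτq : ∀ i, τ ≫ qP ≫ pr i = g i := fun i => by
    simp only [τ, qP, Category.assoc, Scheme.Hom.toImage_imageι_assoc]
    rw [← hl i]; exact pullback.lift_snd_assoc _ _ _ _
  have hqt : ∀ i, (qP ≫ pr i) ≫ CohB1.ProjSpaceOver.toBase (n i) S = π ≫ f := fun i => by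
    rw [Category.assoc, hpr, hπf]
  have hπp : IsProper π := inferInstance
  have hqPd : G.imageι ≫ pullback.snd f tP = qP := rfl
  have hπd : G.imageι ≫ pullback.fst f tP = π := rfl
  clear_value qP π
  have hdom : ∀ V : G.image.Opens, IsSchemeTheoreticallyDominant (τ ∣_ V) := fun V =>
    IsSchemeTheoreticallyDominant.of_isPullback (isPullback_morphismRestrict τ V).flip
  -- over each piece
  have hagree : ∀ i, ∀ (V : G.image.Opens) (hV : V ≤ π ⁻¹ᵁ W i),
      V.ι ≫ qP ≫ pr i = G.image.homOfLE hV ≫ (π ∣_ W i) ≫ j i := by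
    intro i V hV
    refine ext_of_isSchemeTheoreticallyDominant (CohB1.ProjSpaceOver.toBase (n i) S) ?_ (τ ∣_ V) ?_
    · simp only [Category.assoc] at hqt ⊢
      rw [hqt, hj, morphismRestrict_ι_assoc, Scheme.homOfLE_ι_assoc]
    · rw [morphismRestrict_ι_assoc, hτq]
      refine (hgj i _ ((τ ∣_ V) ≫ G.image.homOfLE hV ≫ (π ∣_ W i)) ?_).trans (by simp only [Category.assoc])
      simp only [Category.assoc, morphismRestrict_ι, Scheme.homOfLE_ι_assoc, morphismRestrict_ι_assoc, hτπ]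
  have hle : ∀ i, π ⁻¹ᵁ W i ≤ (qP ≫ pr i) ⁻¹ᵁ O i := by
    intro i x hx
    have h1 := congrArg (fun z => z ⟨x, hx⟩) (hagree i (π ⁻¹ᵁ W i) le_rfl)
    show (qP ≫ pr i) x ∈ O i
    have h2 : (qP ≫ pr i) x = j i ((π ∣_ W i) ⟨x, hx⟩) := by
      rw [Scheme.homOfLE_rfl, Category.id_comp] at h1
      exact h1
    rw [h2, ← hjO]
    exact ((jO i) _).2
  -- the inverse image of each piece maps to the closed subscheme `W i` of `O i`
  have hfac : ∀ i, ∃ h : ((qP ≫ pr i) ⁻¹ᵁ O i : Scheme.{u}) ⟶ W i,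
      h ≫ jO i = (qP ≫ pr i) ∣_ O i ∧ h ≫ (W i).ι = ((qP ≫ pr i) ⁻¹ᵁ O i).ι ≫ π := by
    intro i
    let T := (qP ≫ pr i) ⁻¹ᵁ O i
    let r := (qP ≫ pr i) ∣_ O i
    have hTU : τ ⁻¹ᵁ T = U.ι ⁻¹ᵁ W i := by
      rw [← hgO i, ← hτq i]; rfl
    let b : (τ ⁻¹ᵁ T : Scheme.{u}) ⟶ W i := IsOpenImmersion.lift (W i).ι ((τ ⁻¹ᵁ T).ι ≫ U.ι) (by
      rw [Scheme.Opens.range_ι]
      rintro _ ⟨y, rfl⟩
      exact hTU.le y.2)
    have hb : b ≫ (W i).ι = (τ ⁻¹ᵁ T).ι ≫ U.ι := IsOpenImmersion.lift_fac _ _ _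
    have hbj : b ≫ jO i = (τ ∣_ T) ≫ r := by
      rw [← cancel_mono (O i).ι, Category.assoc, hjO, ← hgj i _ b hb.symm]
      simp only [r, Category.assoc, morphismRestrict_ι]
      rw [← Category.assoc (τ ∣_ T), morphismRestrict_ι, Category.assoc]
      rw [hτq i]
    have hlift' : pullback.lift (τ ∣_ T) b hbj.symm ≫ pullback.fst r (jO i) = τ ∣_ T := pullback.lift_fst _ _ _
    have : IsIso (pullback.fst r (jO i)) := by
      refine IsClosedImmersion.isIso_iff_ker_eq_bot.mpr (le_bot_iff.mp ?_)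
      refine le_trans (Scheme.Hom.le_ker_comp (pullback.lift (τ ∣_ T) b hbj.symm) _) ?_
      rw [hlift', (hdom T).ker_eq_bot]
    refine ⟨inv (pullback.fst r (jO i)) ≫ pullback.snd r (jO i), ?_, ?_⟩
    · rw [Category.assoc, ← pullback.condition, IsIso.inv_hom_id_assoc]
    · refine ext_of_isSchemeTheoreticallyDominant f ?_ (τ ∣_ T) ?_
      · have hr : r ≫ (O i).ι = T.ι ≫ qP ≫ pr i := morphismRestrict_ι _ _
        rw [Category.assoc, Category.assoc, ← hj i, ← hjO i, Category.assoc,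
          ← pullback.condition_assoc, IsIso.inv_hom_id_assoc, ← Category.assoc r, hr,
          Category.assoc, hqt i]
        simp only [T, Category.assoc]
      · have h3 : (τ ∣_ T) ≫ inv (pullback.fst r (jO i)) ≫ pullback.snd r (jO i) = b := by
          rw [← Category.assoc, show (τ ∣_ T) ≫ inv (pullback.fst r (jO i)) = pullback.lift (τ ∣_ T) b hbj.symm
            from (IsIso.comp_inv_eq _).2 hlift'.symm]
          exact pullback.lift_snd _ _ _
        rw [← Category.assoc, h3, hb, morphismRestrict_ι_assoc, hτπ]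
  have hTW : ∀ i, (qP ≫ pr i) ⁻¹ᵁ O i ≤ π ⁻¹ᵁ W i := fun i x hx => by
    obtain ⟨h, -, h2⟩ := hfac i
    have h3 := congrArg (fun z => z ⟨x, hx⟩) h2
    show π x ∈ W i
    rw [show π x = (W i).ι (h ⟨x, hx⟩) from h3.symm]
    exact (h ⟨x, hx⟩).2
  -- the map to the product is an immersion
  let Ω : P.Opens := ⨆ i, pr i ⁻¹ᵁ O i
  have hΩ : qP ⁻¹ᵁ Ω = ⊤ := top_le_iff.1 fun x _ => by
    obtain ⟨i, hi⟩ := Opens.mem_iSup.1 (hW.ge (Opens.mem_top (π x)))
    exact (le_iSup (fun i => pr i ⁻¹ᵁ O i) i) (hle i hi)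
  let ψ : G.image ⟶ (Ω : Scheme.{u}) := IsOpenImmersion.lift Ω.ι qP (by
    rw [Scheme.Opens.range_ι]
    rintro _ ⟨x, rfl⟩
    exact hΩ.ge (Opens.mem_top x))
  have hψ : ψ ≫ Ω.ι = qP := IsOpenImmersion.lift_fac _ _ _
  have hψc : IsClosedImmersion ψ := by
    refine (IsZariskiLocalAtTarget.iff_of_iSup_eq_top (P := @IsClosedImmersion)
      (fun i => Ω.ι ⁻¹ᵁ (pr i ⁻¹ᵁ O i)) ?_).2 fun i => ?_
    · rw [← Scheme.Hom.preimage_iSup]; exact Ω.ι_preimage_self
    let O' := pr i ⁻¹ᵁ O i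
    let T := qP ⁻¹ᵁ O'
    obtain ⟨h, hh1, hh2⟩ : ∃ h : (T : Scheme.{u}) ⟶ W i, h ≫ jO i = (qP ≫ pr i) ∣_ O i ∧ h ≫ (W i).ι = T.ι ≫ π :=
      hfac i
    have hmap : (qP ∣_ O') ≫ (pr i ∣_ O i) = (qP ≫ pr i) ∣_ O i := (morphismRestrict_comp qP (pr i) (O i)).symm
    let Y := pullback (jO i) (pr i ∣_ O i)
    let a : (T : Scheme.{u}) ⟶ Y := pullback.lift h (qP ∣_ O') (by rw [hh1, hmap])
    let e : Y ⟶ Q := pullback.lift (pullback.fst (jO i) (pr i ∣_ O i) ≫ (W i).ι)
      (pullback.snd (jO i) (pr i ∣_ O i) ≫ O'.ι) (by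
        rw [Category.assoc, Category.assoc, ← hj i, ← hjO i, Category.assoc, pullback.condition_assoc,
          ← Category.assoc (pr i ∣_ O i), morphismRestrict_ι, Category.assoc, hpr i])
    have he2 : e ≫ pullback.snd f tP = pullback.snd (jO i) (pr i ∣_ O i) ≫ O'.ι := pullback.lift_snd _ _ _
    have hae : a ≫ e = T.ι ≫ G.imageι := by
      apply pullback.hom_ext
      · rw [Category.assoc, pullback.lift_fst, pullback.lift_fst_assoc, hh2, Category.assoc, hπd]
      · rw [Category.assoc, he2, pullback.lift_snd_assoc, morphismRestrict_ι, Category.assoc, hqPd]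
    have he : IsImmersion e := by
      have : IsImmersion (e ≫ pullback.snd f tP) := by rw [he2]; infer_instance
      exact IsImmersion.of_comp e (pullback.snd f tP)
    have hainj : Function.Injective e := fun y y' hy => e.isEmbedding.injective hy
    have : IsImmersion a := by
      have : IsImmersion (a ≫ e) := by rw [hae]; infer_instance
      exact IsImmersion.of_comp a e
    have harange : Set.range a = e ⁻¹' Set.range G.imageι := by
      ext y
      constructor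
      · rintro ⟨x, rfl⟩
        refine ⟨T.ι x, ?_⟩
        rw [← Scheme.Hom.comp_apply, ← Scheme.Hom.comp_apply, hae]
      · rintro ⟨x, hx⟩
        have hxT : x ∈ T := by
          show qP x ∈ O'
          have h2 := congrArg (pullback.snd f tP) hx
          rw [← Scheme.Hom.comp_apply, ← Scheme.Hom.comp_apply, he2] at h2
          rw [show qP x = (G.imageι ≫ pullback.snd f tP) x by rw [hqPd], h2]
          exact (pullback.snd (jO i) (pr i ∣_ O i) y).2
        refine ⟨⟨x, hxT⟩, hainj ?_⟩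
        rw [← hx, ← Scheme.Hom.comp_apply, hae]; rfl
    have hac : IsClosedImmersion a := IsClosedImmersion.of_isPreimmersion a
      (harange ▸ G.imageι.isClosedEmbedding.isClosed_range.preimage e.continuous)
    have hqc : IsClosedImmersion (qP ∣_ O') := by
      rw [show qP ∣_ O' = a ≫ pullback.snd (jO i) (pr i ∣_ O i) from (pullback.lift_snd _ _ _).symm]
      infer_instance
    have hO' : O' ≤ Ω := le_iSup (fun i => pr i ⁻¹ᵁ O i) i
    have hiso : IsIso (Ω.ι ∣_ O') := by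
      refine isIso_of_isOpenImmersion_of_opensRange_eq_top _ (top_le_iff.1 fun y _ => ?_)
      exact ⟨⟨⟨y.1, hO' y.2⟩, y.2⟩, Subtype.ext (by rw [morphismRestrict_base_coe]; rfl)⟩
    have h5 : IsClosedImmersion ((ψ ≫ Ω.ι) ∣_ O') := by rw [hψ]; exact hqc
    rw [morphismRestrict_comp] at h5
    exact (MorphismProperty.cancel_right_of_respectsIso @IsClosedImmersion _ (Ω.ι ∣_ O')).1 h5
  have hqPimm : IsImmersion qP := by rw [← hψ]; infer_instance
  -- the isomorphism over `U`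
  let V := π ⁻¹ᵁ U
  let s : (U : Scheme.{u}) ⟶ V := IsOpenImmersion.lift V.ι τ (by
    rw [Scheme.Opens.range_ι]
    rintro _ ⟨x, rfl⟩
    show π (τ x) ∈ U
    rw [← Scheme.Hom.comp_apply, hτπ]
    exact x.2)
  have hs : s ≫ V.ι = τ := IsOpenImmersion.lift_fac _ _ _
  have hsπ : s ≫ (π ∣_ U) = 𝟙 _ := by
    rw [← cancel_mono U.ι, Category.assoc, morphismRestrict_ι, ← Category.assoc, hs, hτπ, Category.id_comp]
  have hsdom : IsSchemeTheoreticallyDominant s :=
    IsSchemeTheoreticallyDominant.of_isPullback (f := τ) (g := V.ι) (pX := 𝟙 _) (pY := s)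
      (IsPullback.of_horiz_isIso_mono ⟨by rw [Category.id_comp, hs]⟩)
  have hπs : (π ∣_ U) ≫ s = 𝟙 _ := by
    have : IsSeparated (qP ≫ tP) := by
      rw [hπf]; infer_instance
    rw [← cancel_mono V.ι, Category.id_comp]
    refine ext_of_isSchemeTheoreticallyDominant (qP ≫ tP) ?_ s ?_
    · rw [hπf, Category.assoc, Category.assoc, reassoc_of% hs, reassoc_of% hτπ, morphismRestrict_ι_assoc]
    · rw [← Category.assoc, ← Category.assoc, hsπ, Category.id_comp]
  refine ⟨N, G.image, π, qP ≫ c, inferInstance, by rw [Category.assoc]; exact hπf, inferInstance,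
    ⟨s, hπs, hsπ⟩, ?_⟩
  have hsiso : IsIso s := ⟨π ∣_ U, hsπ, hπs⟩
  have : IsSchemeTheoreticallyDominant (s ≫ V.ι) := by rw [hs]; exact hτ
  rw [show (π ⁻¹ᵁ U).ι = inv s ≫ (s ≫ V.ι) by simp [V]]
  infer_instance

theorem exists_open {X : Scheme.{u}} [Nonempty X] {k : ℕ} (W : Fin k → X.Opens) :
    ∃ U : X.Opens, IsAffineOpen U ∧ (U : Set X).Nonempty ∧ ∀ i, U ≤ W i ∨ U ⊓ W i = ⊥ := by
  classical
  suffices h : ∀ s : Finset (Fin k), ∃ U : X.Opens, (U : Set X).Nonempty ∧ ∀ i ∈ s, U ≤ W i ∨ U ⊓ W i = ⊥ by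
    obtain ⟨U, ⟨x, hx⟩, hU⟩ := h Finset.univ
    obtain ⟨U', hU', hxU', hle⟩ := exists_isAffineOpen_mem_and_subset hx
    replace hle : U' ≤ U := hle
    refine ⟨U', hU', ⟨x, hxU'⟩, fun i => (hU i (Finset.mem_univ i)).imp (fun h => le_trans hle h)
      fun h => eq_bot_iff.2 ((inf_le_inf_right _ hle).trans (le_of_eq h))⟩
  intro s
  induction s using Finset.induction with
  | empty => exact ⟨⊤, ⟨Classical.arbitrary X, trivial⟩, fun i hi => absurd hi (Finset.notMem_empty i)⟩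
  | insert a s _ ih =>
    obtain ⟨U, hne, hU⟩ := ih
    by_cases h : ((U ⊓ W a : X.Opens) : Set X).Nonempty
    · refine ⟨U ⊓ W a, h, fun i hi => ?_⟩
      rcases Finset.mem_insert.1 hi with rfl | hi
      · exact Or.inl inf_le_right
      · exact (hU i hi).imp (fun h => inf_le_left.trans h) fun h => eq_bot_iff.2 ((inf_le_inf_right _ inf_le_left).trans (le_of_eq h))
    · refine ⟨U, hne, fun i hi => ?_⟩
      rcases Finset.mem_insert.1 hi with rfl | hi
      · exact Or.inr (Opens.ext (Set.not_nonempty_iff_eq_empty.1 h))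
      · exact hU i hi

/-- Chow's lemma over a nonempty open. -/
theorem chow {X S : Scheme.{u}} (f : X ⟶ S) [CompactSpace S] [QuasiSeparatedSpace S]
    [IsSeparated f] [LocallyOfFiniteType f] [QuasiCompact f] [Nonempty X] :
    ∃ (N : ℕ) (X' : Scheme.{u}) (π : X' ⟶ X) (J : X' ⟶ CohB1.ProjSpaceOver N S),
      IsImmersion J ∧ J ≫ CohB1.ProjSpaceOver.toBase N S = π ≫ f ∧ IsProper π ∧
      ∃ U : X.Opens, (U : Set X).Nonempty ∧ IsIso (π ∣_ U) := by
  classical
  have : CompactSpace X := QuasiCompact.compactSpace_of_compactSpace f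
  have : QuasiSeparatedSpace X := quasiSeparatedSpace_of_quasiSeparated f
  have hcov : ∀ x : X, ∃ (W : X.Opens) (V : S.Opens), IsAffineOpen W ∧ IsAffineOpen V ∧ x ∈ W ∧ W ≤ f ⁻¹ᵁ V := by
    intro x
    obtain ⟨V, hV, hxV, -⟩ := exists_isAffineOpen_mem_and_subset (U := (⊤ : S.Opens)) (x := f x) trivial
    obtain ⟨W, hW, hxW, hWV⟩ := exists_isAffineOpen_mem_and_subset (U := f ⁻¹ᵁ V) (x := x) hxV
    exact ⟨W, V, hW, hV, hxW, hWV⟩
  choose W₀ V₀ hW₀ hV₀ hxW₀ hWV₀ using hcov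
  obtain ⟨T, hT⟩ := (CompactSpace.isCompact_univ (X := X)).elim_finite_subcover (fun x => (W₀ x : Set X))
    (fun x => (W₀ x).2) (fun x _ => Set.mem_iUnion.2 ⟨x, hxW₀ x⟩)
  let k := T.card
  let x : Fin k → X := fun i => (T.equivFin.symm i).1
  let W : Fin k → X.Opens := fun i => W₀ (x i)
  have hW : ⨆ i, W i = ⊤ := top_le_iff.1 fun y _ => by
    obtain ⟨z, hz, hy⟩ := Set.mem_iUnion₂.1 (hT (Set.mem_univ y))
    exact Opens.mem_iSup.2 ⟨T.equivFin ⟨z, hz⟩, by simpa [W, x] using hy⟩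
  choose n j O jO σ hcl hjO hjt hσt hσO using fun i =>
    exists_piece f (W i) (hW₀ (x i)) (V₀ (x i)) (hV₀ (x i)) (hWV₀ (x i))
  obtain ⟨U, hUaff, hUne, hUW⟩ := exists_open W
  have : CompactSpace (U : Scheme.{u}) := isCompact_iff_compactSpace.1 hUaff.isCompact
  let g : ∀ i, (U : Scheme.{u}) ⟶ CohB1.ProjSpaceOver (n i) S := fun i =>
    if h : U ≤ W i then X.homOfLE h ≫ j i else U.ι ≫ f ≫ σ i
  have hg : ∀ i, g i ≫ CohB1.ProjSpaceOver.toBase (n i) S = U.ι ≫ f := fun i => by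
    simp only [g]
    split_ifs with h
    · rw [Category.assoc, hjt, Scheme.homOfLE_ι_assoc]
    · simp only [Category.assoc, hσt, Category.comp_id]
  have hgO : ∀ i, g i ⁻¹ᵁ O i = U.ι ⁻¹ᵁ W i := fun i => by
    ext y
    show g i y ∈ O i ↔ U.ι y ∈ W i
    simp only [g]
    split_ifs with h
    · refine iff_of_true ?_ (h y.2)
      rw [← hjO i, ← Category.assoc]
      exact ((X.homOfLE h ≫ jO i) y).2
    · refine iff_of_false (fun hh => ?_) (fun hh => ?_)
      · have : f (U.ι y) ∈ σ i ⁻¹ᵁ O i := hh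
        rw [hσO i] at this
        exact this
      · have h3 : U.ι y ∈ U ⊓ W i := ⟨y.2, hh⟩
        rw [(hUW i).resolve_left h] at h3
        exact h3
  have hgj : ∀ i {T : Scheme.{u}} (a : T ⟶ U) (b : T ⟶ W i), a ≫ U.ι = b ≫ (W i).ι → a ≫ g i = b ≫ j i := by
    intro i T a b hab
    simp only [g]
    split_ifs with h
    · rw [← Category.assoc]
      congr 1
      rw [← cancel_mono (W i).ι, Category.assoc, Scheme.homOfLE_ι, hab]
    · have : IsEmpty T := ⟨fun p => by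
        have h3 : U.ι (a p) ∈ U ⊓ W i := ⟨(a p).2, by
          rw [← Scheme.Hom.comp_apply, hab]; exact (b p).2⟩
        rw [(hUW i).resolve_left h] at h3
        exact h3⟩
      exact isInitialOfIsEmpty.hom_ext _ _
  have := hcl
  obtain ⟨N, X', π, J, h1, h2, h3, h5, -⟩ := core f W hW n j hjt O jO hjO U g hg hgO hgj
  exact ⟨N, X', π, J, h1, h2, h3, U, hUne, h5⟩

end Groth.Agent.EGAProj74.ChowNonempty

end
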