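import Groth.Agent.EGAProj74.BasisIso
import Groth.Agent.LimTop61.PullBC

/-!
A criterion for the adjoint of a map of quasi-coherent modules to be an isomorphism.
-/

set_option autoImplicit false
set_option backward.isDefEq.respectTransparency.types false

universe u

open CategoryTheory CategoryTheory.Limits AlgebraicGeometry TopologicalSpace Opposite TensorProduct
open Groth.Agent.QC70 Groth.Agent.QCPull72 Groth.Agent.LimTop61

noncomputable section

namespace Groth.Agent.EGAProj74

variable {X Y : Scheme.{u}}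

/-- Bijectivity over an affine open passes to its basic opens. -/
theorem bijective_app_basicOpen {M N : X.Modules} [M.IsQuasicoherent] [N.IsQuasicoherent] (φ : M ⟶ N)
    {V : X.Opens} (hV : IsAffineOpen V) (h : Function.Bijective (φ.app V)) (r : Γ(X, V)) :
    Function.Bijective (φ.app (X.basicOpen r)) := by
  have hM := isLocAt_of_isQuasicoherent M hV
  have hN := isLocAt_of_isQuasicoherent N hV
  have hu : IsUnit (resO X (X.basicOpen_le r) r) := RingedSpace.isUnit_res_basicOpen _ r
  constructor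
  · refine (injective_iff_map_eq_zero (φ.app (X.basicOpen r)).hom).mpr fun s hs => ?_
    obtain ⟨n, t, ht⟩ := hM.exists_of r s
    have h0 : res N (X.basicOpen_le r) (φ.app V t) = 0 := by
      rw [← app_res, ht, Scheme.Modules.Hom.app_smul]
      exact (congrArg _ hs).trans (smul_zero _)
    obtain ⟨k, hk⟩ := hN.eq_zero_of r _ h0
    have h1 : r ^ k • t = 0 := h.1 (by rw [Scheme.Modules.Hom.app_smul, hk, map_zero])
    have h2 := congrArg (res M (X.basicOpen_le r)) h1
    rw [res_smul, res_zero, ht, smul_smul] at h2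
    rw [show resO X (X.basicOpen_le r) (r ^ k) = resO X (X.basicOpen_le r) r ^ k from map_pow (X.presheaf.map (homOfLE (X.basicOpen_le r)).op).hom r k, ← pow_add] at h2
    exact (hu.pow _).smul_eq_zero.mp h2
  · intro s
    obtain ⟨n, t, ht⟩ := hN.exists_of r s
    obtain ⟨t', rfl⟩ := h.2 t
    obtain ⟨b, hb⟩ := (hu.pow n).exists_left_inv
    refine ⟨b • res M (X.basicOpen_le r) t', ?_⟩
    rw [Scheme.Modules.Hom.app_smul, app_res, ht, smul_smul, hb, one_smul]

/-- A morphism of quasi-coherent modules bijective on an affine cover is an isomorphism. -/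
theorem isIso_of_affine_cover {M N : X.Modules} [M.IsQuasicoherent] [N.IsQuasicoherent] (φ : M ⟶ N)
    (h : ∀ x : X, ∃ V : X.Opens, IsAffineOpen V ∧ x ∈ V ∧ Function.Bijective (φ.app V)) : IsIso φ := by
  refine isIso_of_basis φ {W | ∃ (V : X.Opens) (_ : IsAffineOpen V) (r : Γ(X, V)),
    Function.Bijective (φ.app V) ∧ W = X.basicOpen r} ?_ ?_
  · intro W z hz
    obtain ⟨V, hV, hzV, hb⟩ := h z
    obtain ⟨r, hr, hzr⟩ := hV.exists_basicOpen_le ⟨z, hz⟩ hzV
    exact ⟨_, ⟨V, hV, r, hb, rfl⟩, hzr, hr⟩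
  · rintro W ⟨V, hV, r, hb, rfl⟩
    exact bijective_app_basicOpen φ hV hb r

/-- The adjoint of `θ : F → f_* G` is an isomorphism if on an affine cover `θ` is a base change. -/
theorem isIso_adjunct_of_baseChange (f : Y ⟶ X) {F : X.Modules} [F.IsQuasicoherent] {G : Y.Modules}
    [G.IsQuasicoherent] (θ : F ⟶ (Scheme.Modules.pushforward f).obj G)
    (h : ∀ y : Y, ∃ (U : X.Opens) (_ : IsAffineOpen U) (V : Y.Opens) (_ : IsAffineOpen V) (e : V ≤ f ⁻¹ᵁ U),
      y ∈ V ∧ letI := (f.appLE U V e).hom.toAlgebra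
        ∃ E : (Γ(Y, V) ⊗[Γ(X, U)] Γ(F, U)) →ₗ[Γ(Y, V)] Γ(G, V),
          Function.Bijective E ∧ ∀ x, E (1 ⊗ₜ x) = res G e (θ.app U x)) :
    IsIso (((Scheme.Modules.pullbackPushforwardAdjunction f).homEquiv _ _).symm θ) := by
  set α := ((Scheme.Modules.pullbackPushforwardAdjunction f).homEquiv _ _).symm θ
  have := isQuasicoherent_pullback f F
  refine isIso_of_affine_cover α fun y => ?_
  obtain ⟨U, hU, V, hV, e, hy, E, hE, hE1⟩ := h y
  refine ⟨V, hV, hy, ?_⟩
  let _ := (f.appLE U V e).hom.toAlgebra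
  obtain ⟨E₀, hE₀⟩ := exists_baseChange_equiv f F hU hV e
  have hα : ∀ x, α.app V (unitSec f F e x) = res G e (θ.app U x) := by
    intro x
    have hh := Equiv.apply_symm_apply ((Scheme.Modules.pullbackPushforwardAdjunction f).homEquiv F G) θ
    rw [Adjunction.homEquiv_unit] at hh
    refine (app_res α e _).trans (congrArg (res G e) ?_)
    exact ConcreteCategory.congr_hom (congrArg (fun a => Scheme.Modules.Hom.app a U) hh) x
  have key : ∀ z, α.app V z = E (E₀ z) := by
    intro z
    obtain ⟨w, rfl⟩ := E₀.symm.surjective z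
    rw [LinearEquiv.apply_symm_apply]
    induction w using TensorProduct.induction_on with
    | zero => rw [map_zero, map_zero, map_zero]
    | add a b ha hb => rw [map_add, map_add, map_add, ha, hb]
    | tmul c x =>
      have hc : c ⊗ₜ[Γ(X, U)] x = c • ((1 : Γ(Y, V)) ⊗ₜ[Γ(X, U)] x) := by rw [smul_tmul', smul_eq_mul, mul_one]
      rw [hc, E₀.symm.map_smul, E.map_smul, Scheme.Modules.Hom.app_smul, hE1, ← hα]
      exact congrArg (fun q => c • α.app V q) ((E₀.symm_apply_eq).mpr (hE₀ x).symm)
  rw [show ((α.app V) : Γ((Scheme.Modules.pullback f).obj F, V) → Γ(G, V)) = E ∘ E₀ from funext key]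
  exact hE.comp E₀.bijective

end Groth.Agent.EGAProj74
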