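import Groth.Agent.EGAProj74.FracSections
import Groth.Agent.EGAProj74.QCohCrit
import Groth.Prelude.Def_RelProj3

/-!
The base change map `O(D₊(ψ f)) ⊗ M(n)~(D₊(f)) → N(n)~(D₊(ψ f))` of a semilinear map of graded modules.
-/

set_option autoImplicit false
set_option backward.isDefEq.respectTransparency.types false

universe u

open CategoryTheory CategoryTheory.Limits AlgebraicGeometry TopologicalSpace Opposite TensorProduct
open scoped HomogeneousIdeal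

noncomputable section

namespace Groth.Agent.EGAProj74.TildeBaseChange

open GrT FracSections

variable {A σ : Type u} [CommRing A] [SetLike σ A] [AddSubgroupClass σ A] {𝒜 : ℕ → σ}
  [GradedRing 𝒜] {B σ' : Type u} [CommRing B] [SetLike σ' B] [AddSubgroupClass σ' B] {ℬ : ℕ → σ'} [GradedRing ℬ]
  (ψ : 𝒜 →+*ᵍ ℬ) (hψ : ℬ₊ ≤ (𝒜₊).map ψ)
  {M τ : Type u} [AddCommGroup M] [Module A M] [SetLike τ M] [AddSubgroupClass τ M] {ℳ : ℕ → τ}
  [SetLike.GradedSMul 𝒜 ℳ] [DirectSum.Decomposition ℳ]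
  {N τ' : Type u} [AddCommGroup N] [Module B N] [SetLike τ' N] [AddSubgroupClass τ' N] {𝒩 : ℕ → τ'}
  [SetLike.GradedSMul ℬ 𝒩] [DirectSum.Decomposition 𝒩]
  (v : M →ₛₗ[ψ.toRingHom] N) (hv : ∀ (i : ℕ) (m : M), m ∈ ℳ i → v m ∈ 𝒩 i)
  {d : ℕ} {f : A} (hf : f ∈ 𝒜 d) (n : ℤ)

theorem preimage_le : Proj.basicOpen ℬ (ψ f) ≤ Proj.map ψ hψ ⁻¹ᵁ Proj.basicOpen 𝒜 f :=
  (Proj.map_preimage_basicOpen ψ hψ f).ge

/-- The functions upstairs as an algebra over the functions downstairs. -/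
@[reducible] def algebraSections : Algebra Γ(Proj 𝒜, Proj.basicOpen 𝒜 f) Γ(Proj ℬ, Proj.basicOpen ℬ (ψ f)) :=
  ((Proj.map ψ hψ).appLE _ _ (preimage_le ψ hψ)).hom.toAlgebra

theorem appLE_scal (hd : 0 < d) {b : A} {l : ℕ} (hb : b ∈ 𝒜 (l * d)) :
    (Proj.map ψ hψ).appLE _ _ (preimage_le ψ hψ) (scal hf hd l hb) =
      scal (ψ.map_mem hf) hd l (ψ.map_mem hb) := by
  refine ext_val fun y => ?_
  refine Eq.trans (HomogeneousLocalization.val_localRingHom _) ?_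
  erw [scal_val]
  refine (GrTwist.locMap_mk ψ hψ y.1 _ _).trans ?_
  congr 1
  exact Subtype.ext (map_pow ψ f l)

/-- The comparison on sections. -/
def push (s : Γ(GrMod.tilde 𝒜 ℳ n, Proj.basicOpen 𝒜 f)) : Γ(GrMod.tilde ℬ 𝒩 n, Proj.basicOpen ℬ (ψ f)) :=
  QC70.res (GrMod.tilde ℬ 𝒩 n) (preimage_le ψ hψ) ((GrMod.comap ψ hψ v hv n).app (Proj.basicOpen 𝒜 f) s)

theorem push_fracF {q : ℕ} {m : M} (hm : m ∈ ℳ q) (k : ℕ) (hq : (q : ℤ) = k * d + n) :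
    push ψ hψ v hv n (fracF hf hm k hq) = fracF (ψ.map_mem hf) (hv q m hm) k hq := by
  refine fracF_ext fun y => ?_
  refine Eq.trans (GrMod.comap_app_val ψ hψ v hv n (Proj.basicOpen 𝒜 f) _ ⟨y.1, preimage_le ψ hψ y.2⟩) ?_
  erw [GrMod.locModMap_mk]
  exact frac_congr (by rw [map_pow]; rfl)

theorem exists_lift :
    letI := algebraSections ψ hψ (f := f)
    ∃ E : (Γ(Proj ℬ, Proj.basicOpen ℬ (ψ f)) ⊗[Γ(Proj 𝒜, Proj.basicOpen 𝒜 f)]
        Γ(GrMod.tilde 𝒜 ℳ n, Proj.basicOpen 𝒜 f)) →ₗ[Γ(Proj ℬ, Proj.basicOpen ℬ (ψ f))]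
        Γ(GrMod.tilde ℬ 𝒩 n, Proj.basicOpen ℬ (ψ f)),
      ∀ s, E (1 ⊗ₜ s) = push ψ hψ v hv n s := by
  letI := algebraSections ψ hψ (f := f)
  letI : Module Γ(Proj 𝒜, Proj.basicOpen 𝒜 f) Γ(GrMod.tilde ℬ 𝒩 n, Proj.basicOpen ℬ (ψ f)) :=
    Module.compHom _ (algebraMap Γ(Proj 𝒜, Proj.basicOpen 𝒜 f) Γ(Proj ℬ, Proj.basicOpen ℬ (ψ f)))
  haveI : IsScalarTower Γ(Proj 𝒜, Proj.basicOpen 𝒜 f) Γ(Proj ℬ, Proj.basicOpen ℬ (ψ f))
      Γ(GrMod.tilde ℬ 𝒩 n, Proj.basicOpen ℬ (ψ f)) :=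
    IsScalarTower.of_algebraMap_smul fun _ _ => rfl
  let l : Γ(GrMod.tilde 𝒜 ℳ n, Proj.basicOpen 𝒜 f) →ₗ[Γ(Proj 𝒜, Proj.basicOpen 𝒜 f)]
      Γ(GrMod.tilde ℬ 𝒩 n, Proj.basicOpen ℬ (ψ f)) :=
    { toFun := push ψ hψ v hv n
      map_add' := fun a b => by
        simp only [push, map_add]
        exact QC70.res_add _ _ _
      map_smul' := fun r a => by
        simp only [push]
        rw [Scheme.Modules.Hom.app_smul]
        exact QC70.res_smul _ _ _ }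
  exact ⟨l.liftBaseChange _, fun s => (LinearMap.liftBaseChange_tmul _ _ _ _).trans (one_smul _ _)⟩

variable {hd : 0 < d}

theorem lift_tmul_fracF
    {E : letI := algebraSections ψ hψ (f := f)
      (Γ(Proj ℬ, Proj.basicOpen ℬ (ψ f)) ⊗[Γ(Proj 𝒜, Proj.basicOpen 𝒜 f)]
        Γ(GrMod.tilde 𝒜 ℳ n, Proj.basicOpen 𝒜 f)) →ₗ[Γ(Proj ℬ, Proj.basicOpen ℬ (ψ f))]
        Γ(GrMod.tilde ℬ 𝒩 n, Proj.basicOpen ℬ (ψ f))}
    (hE : ∀ s, E (letI := algebraSections ψ hψ (f := f); 1 ⊗ₜ s) = push ψ hψ v hv n s)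
    {e : ℕ} {b : B} (hb : b ∈ ℬ (e * d)) {q k : ℕ} {m : M} (hm : m ∈ ℳ q) (hq : (q : ℤ) = k * d + n) :
    E (letI := algebraSections ψ hψ (f := f); scal (ψ.map_mem hf) hd e hb ⊗ₜ fracF hf hm k hq) =
      fracF (ψ.map_mem hf) (gsmul_mem ℬ 𝒩 hb (hv q m hm)) (e + k) (by push_cast; rw [hq]; ring) := by
  letI := algebraSections ψ hψ (f := f)
  have h1 : scal (ψ.map_mem hf) hd e hb ⊗ₜ[Γ(Proj 𝒜, Proj.basicOpen 𝒜 f)] fracF hf hm k hq =
      scal (ψ.map_mem hf) hd e hb • ((1 : Γ(Proj ℬ, Proj.basicOpen ℬ (ψ f))) ⊗ₜ fracF hf hm k hq) := by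
    rw [TensorProduct.smul_tmul', smul_eq_mul, mul_one]
  rw [h1, map_smul, hE, push_fracF, scal_smul_fracF]

include hf hd in
theorem bijective_lift
    {E : letI := algebraSections ψ hψ (f := f)
      (Γ(Proj ℬ, Proj.basicOpen ℬ (ψ f)) ⊗[Γ(Proj 𝒜, Proj.basicOpen 𝒜 f)]
        Γ(GrMod.tilde 𝒜 ℳ n, Proj.basicOpen 𝒜 f)) →ₗ[Γ(Proj ℬ, Proj.basicOpen ℬ (ψ f))]
        Γ(GrMod.tilde ℬ 𝒩 n, Proj.basicOpen ℬ (ψ f))}
    (hE : ∀ s, E (letI := algebraSections ψ hψ (f := f); 1 ⊗ₜ s) = push ψ hψ v hv n s)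
    (g : letI := algebraSections ψ hψ (f := f)
      N →+ Γ(Proj ℬ, Proj.basicOpen ℬ (ψ f)) ⊗[Γ(Proj 𝒜, Proj.basicOpen 𝒜 f)]
        Γ(GrMod.tilde 𝒜 ℳ n, Proj.basicOpen 𝒜 f))
    (hshift : ∀ (k q : ℕ) (x : N), x ∈ 𝒩 q → (q : ℤ) = k * d + n → g (ψ f • x) = g x)
    (htmul : ∀ (e : ℕ) (b : B) (hb : b ∈ ℬ (e * d)) (k q : ℕ) (m : M) (hm : m ∈ ℳ q) (hq : (q : ℤ) = k * d + n),
      g (b • v m) = (letI := algebraSections ψ hψ (f := f); scal (ψ.map_mem hf) hd e hb ⊗ₜ fracF hf hm k hq))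
    (hsurj : ∀ (k q : ℕ) (x : N) (hx : x ∈ 𝒩 q) (hq : (q : ℤ) = k * d + n),
      ∃ z, E z = fracF (ψ.map_mem hf) hx k hq) :
    Function.Bijective E := by
  letI := algebraSections ψ hψ (f := f)
  have hpow : ∀ (a k q : ℕ) (x : N), x ∈ 𝒩 q → (q : ℤ) = k * d + n → g (ψ f ^ a • x) = g x := by
    intro a
    induction a with
    | zero => intros; rw [pow_zero, one_smul]
    | succ a ih =>
      intro k q x hx hq
      rw [pow_succ', mul_smul]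
      refine (hshift (a + k) (a * d + q) _ (gsmul_mem ℬ 𝒩 (pow_mem (ψ.map_mem hf) a) hx) ?_).trans (ih k q x hx hq)
      push_cast; rw [hq]; ring
  have key : ∀ z, ∃ (k q : ℕ) (x : N) (hx : x ∈ 𝒩 q) (hq : (q : ℤ) = k * d + n),
      g x = z ∧ E z = fracF (ψ.map_mem hf) hx k hq := by
    intro z
    induction z using TensorProduct.induction_on with
    | zero =>
      have h0 : 0 ≤ ((n.natAbs : ℤ) * d + n) := by
        have h1 : (n.natAbs : ℤ) * 1 ≤ (n.natAbs : ℤ) * d := mul_le_mul_of_nonneg_left (by omega) (by omega)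
        omega
      exact ⟨n.natAbs, ((n.natAbs : ℤ) * d + n).toNat, 0, zero_mem _, Int.toNat_of_nonneg h0, map_zero _,
        by rw [map_zero, fracF_zero]⟩
    | tmul c s =>
      obtain ⟨e, b, hb, rfl⟩ := exists_scal (ψ.map_mem hf) hd c
      obtain ⟨k, q, m, hm, hq, rfl⟩ := exists_fracF hf hd s
      exact ⟨e + k, e * d + q, b • v m, gsmul_mem ℬ 𝒩 hb (hv q m hm), by push_cast; rw [hq]; ring,
        htmul e b hb k q m hm hq, lift_tmul_fracF ψ hψ v hv hf n hE hb hm hq⟩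
    | add z z' hz hz' =>
      obtain ⟨k, q, x, hx, hq, rfl, hzE⟩ := hz
      obtain ⟨k', q', x', hx', hq', rfl, hzE'⟩ := hz'
      have hdeg : k' * d + q = k * d + q' := by
        have : ((k' * d + q : ℕ) : ℤ) = ((k * d + q' : ℕ) : ℤ) := by push_cast; rw [hq, hq']; ring
        exact_mod_cast this
      have hx1 : ψ f ^ k' • x ∈ 𝒩 (k' * d + q) := gsmul_mem ℬ 𝒩 (pow_mem (ψ.map_mem hf) k') hx
      have hx2 : ψ f ^ k • x' ∈ 𝒩 (k' * d + q) := hdeg ▸ gsmul_mem ℬ 𝒩 (pow_mem (ψ.map_mem hf) k) hx'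
      have hK : ((k' * d + q : ℕ) : ℤ) = ((k + k' : ℕ) : ℤ) * d + n := by push_cast; rw [hq]; ring
      refine ⟨k + k', k' * d + q, ψ f ^ k' • x + ψ f ^ k • x', add_mem hx1 hx2, hK, ?_, ?_⟩
      · rw [map_add, hpow k' k q x hx hq, hpow k k' q' x' hx' hq']
      · rw [map_add, hzE, hzE', fracF_add (ψ.map_mem hf) hx1 hx2]
        congr 1
        · exact fracF_eq_of_smul _ _ _ _ _ (by rw [smul_smul, pow_add]; rfl)
        · exact fracF_eq_of_smul _ _ _ _ _ (by rw [smul_smul, add_comm, pow_add]; rfl)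
  refine ⟨(injective_iff_map_eq_zero E).2 fun z hz => ?_, fun s => ?_⟩
  · obtain ⟨k, q, x, hx, hq, rfl, hE'⟩ := key z
    obtain ⟨a, ha⟩ := FracSections.exists_pow_smul_eq_zero (ψ.map_mem hf) hd (hE'.symm.trans hz)
    rw [← hpow a k q x hx hq]
    exact (congrArg g ha).trans (map_zero g)
  · obtain ⟨k, q, x, hx, hq, rfl⟩ := exists_fracF (ψ.map_mem hf) hd s
    exact hsurj k q x hx hq

end Groth.Agent.EGAProj74.TildeBaseChange
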