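import Groth.Agent.EGA73.TwistInvertible

/-!
Unit sections of twisting sheaves from pairs of homogeneous elements.
-/

set_option autoImplicit false

universe u

open CategoryTheory Limits AlgebraicGeometry TopologicalSpace Opposite GrTilde

noncomputable section

namespace Groth.Agent.EGAProj74

open Groth.Agent.EGA73

variable {R A : Type u} [CommRing R] [CommRing A] [Algebra R A] (𝒜 : ℕ → Submodule R A) [GradedAlgebra 𝒜]

/-- `p / q` as a unit section of `O(b)` where `p` and `q` are nowhere vanishing. -/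
def fracUnit {b : ℤ} {U : Opens (ProjectiveSpectrum.top 𝒜)} {i j : ℕ} {p q : A} (hp : p ∈ 𝒜 i) (hq : q ∈ 𝒜 j)
    (hpU : ∀ x : U, p ∉ x.1.asHomogeneousIdeal) (hqU : ∀ x : U, q ∉ x.1.asHomogeneousIdeal)
    (h : (i : ℤ) = j + b) : TwistUnit (𝒜 := 𝒜) b U where
  fwd := ofTildeFun _ _ (fracSect hp hq hqU h)
  bwd := ofTildeFun _ _ (fracSect hq hp hpU (by omega))
  mul_eq x := by
    show Localization.mk _ _ * Localization.mk _ _ = 1
    rw [Localization.mk_mul, ← Localization.mk_self (1 : x.1.asHomogeneousIdeal.toIdeal.primeCompl),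
      Localization.mk_eq_mk_iff, Localization.r_iff_exists]
    exact ⟨1, by simp [mul_comm]⟩

/-- `(a / b) ^ n` as a unit section of `O(nd)` on `D₊(ab)`. -/
def pairUnit {d i j : ℕ} {a b : A} (ha : a ∈ 𝒜 i) (hb : b ∈ 𝒜 j) (hij : i = j + d) (n : ℤ) :
    TwistUnit (𝒜 := 𝒜) (n * d) (ProjectiveSpectrum.basicOpen 𝒜 (a * b)) :=
  have hne : ∀ x : (ProjectiveSpectrum.basicOpen 𝒜 (a * b)),
      a ∉ x.1.asHomogeneousIdeal ∧ b ∉ x.1.asHomogeneousIdeal := fun x =>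
    ⟨fun h => x.2 (Ideal.mul_mem_right _ _ h), fun h => x.2 (Ideal.mul_mem_left _ _ h)⟩
  fracUnit 𝒜 (SetLike.mul_mem_graded (SetLike.pow_mem_graded n.toNat ha) (SetLike.pow_mem_graded (-n).toNat hb))
    (SetLike.mul_mem_graded (SetLike.pow_mem_graded n.toNat hb) (SetLike.pow_mem_graded (-n).toNat ha))
    (fun x => mul_notMem (pow_notMem (hne x).1 _) (pow_notMem (hne x).2 _))
    (fun x => mul_notMem (pow_notMem (hne x).2 _) (pow_notMem (hne x).1 _))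
    (by subst hij; push_cast; obtain ⟨k, rfl | rfl⟩ := n.eq_nat_or_neg <;> simp <;> ring)

variable {𝒜}

theorem exists_unit_of_iSup {d : ℕ} (hcov : (⨆ f : 𝒜 d, Proj.basicOpen 𝒜 (f : A)) = ⊤) (n : ℤ)
    (x : ProjectiveSpectrum.top 𝒜) :
    ∃ U : Opens (ProjectiveSpectrum.top 𝒜), x ∈ U ∧ Nonempty (TwistUnit (𝒜 := 𝒜) (n * d) U) := by
  have hx : x ∈ (⨆ f : 𝒜 d, Proj.basicOpen 𝒜 (f : A)) := hcov ▸ Opens.mem_top x
  obtain ⟨f, hf⟩ := Opens.mem_iSup.mp hx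
  exact ⟨ProjectiveSpectrum.basicOpen 𝒜 (f : A), hf, ⟨powUnit 𝒜 f.2 n⟩⟩

theorem twist_invertible_and_tensor (hcov : (⨆ f : 𝒜 1, Proj.basicOpen 𝒜 (f : A)) = ⊤) :
    (∀ n : ℤ, PicF.IsInvertible (Twist.twist 𝒜 n)) ∧
      (∀ m n : ℤ, Nonempty (CohB1.tensorMod (Twist.twist 𝒜 m) (Twist.twist 𝒜 n) ≅ Twist.twist 𝒜 (m + n))) ∧
      ∀ n : ℕ, Nonempty (Twist.twist 𝒜 (n : ℤ) ≅ CohB1.tensorPow (Twist.twist 𝒜 1) n) := by
  have hunit : ∀ (n : ℤ) (x : ProjectiveSpectrum.top 𝒜),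
      ∃ U : Opens (ProjectiveSpectrum.top 𝒜), x ∈ U ∧ Nonempty (TwistUnit (𝒜 := 𝒜) n U) := fun n x => by
    simpa using exists_unit_of_iSup hcov n x
  have htens : ∀ m n : ℤ,
      Nonempty (CohB1.tensorMod (Twist.twist 𝒜 m) (Twist.twist 𝒜 n) ≅ Twist.twist 𝒜 (m + n)) := fun m n =>
    ⟨tensIso (twistIsoTilde 𝒜 m) (Iso.refl _) ≪≫ mulIso m n (hunit n) ≪≫ (twistIsoTilde 𝒜 (m + n)).symm⟩
  refine ⟨fun n x => ?_, htens, fun n => ?_⟩
  · obtain ⟨U, hxU, ⟨e⟩⟩ := hunit n x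
    exact ⟨U, hxU, nonempty_twist_restrict_iso e⟩
  · induction n with
    | zero => exact nonempty_twist_zero_iso
    | succ n ih =>
      obtain ⟨i⟩ := ih
      obtain ⟨j⟩ := htens (n : ℤ) 1
      exact ⟨(eqToIso (by push_cast; rfl)) ≪≫ j.symm ≪≫ tensIso i (Iso.refl _)⟩

/-- A quasi-compact open subset of `Proj` is covered by standard opens of a single degree. -/
theorem exists_degree_cover {Y : (Proj 𝒜).Opens} (hY : IsCompact (Y : Set (Proj 𝒜))) :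
    ∃ d : ℕ, 0 < d ∧ ∀ y : Proj 𝒜, y ∈ Y → ∃ f ∈ 𝒜 d, y ∈ Proj.basicOpen 𝒜 f := by
  classical
  let ι := {p : ℕ × A // 0 < p.1 ∧ p.2 ∈ 𝒜 p.1}
  have hcov : (Y : Set (Proj 𝒜)) ⊆ ⋃ p : ι, (Proj.basicOpen 𝒜 p.1.2 : Set (Proj 𝒜)) := fun y _ => by
    obtain ⟨e, g, he, hg, hy⟩ : ∃ (e : ℕ) (g : A), 0 < e ∧ g ∈ 𝒜 e ∧ g ∉ (y : ProjectiveSpectrum 𝒜).asHomogeneousIdeal := by
      by_contra! H
      refine (y : ProjectiveSpectrum 𝒜).not_irrelevant_le ?_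
      intro a ha
      rw [HomogeneousIdeal.mem_irrelevant_iff] at ha
      rw [← DirectSum.sum_support_decompose 𝒜 a]
      refine sum_mem fun i _ => ?_
      rcases Nat.eq_zero_or_pos i with rfl | hi
      · rw [← GradedRing.proj_apply, ha]; exact zero_mem _
      · exact H i _ hi (DirectSum.decompose 𝒜 a i).2
    exact Set.mem_iUnion.mpr ⟨⟨(e, g), he, hg⟩, hy⟩
  obtain ⟨t, ht⟩ := hY.elim_finite_subcover (fun p : ι => (Proj.basicOpen 𝒜 p.1.2 : Set (Proj 𝒜)))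
    (fun p => (Proj.basicOpen 𝒜 p.1.2).isOpen) hcov
  refine ⟨∏ p ∈ t, p.1.1, Finset.prod_pos fun p _ => p.2.1, fun y hy => ?_⟩
  obtain ⟨p, hpt, hyp⟩ := Set.mem_iUnion₂.mp (ht hy)
  obtain ⟨m, hm⟩ : p.1.1 ∣ ∏ q ∈ t, q.1.1 := Finset.dvd_prod_of_mem _ hpt
  have hm0 : 0 < m := Nat.pos_of_mul_pos_left (hm ▸ Finset.prod_pos fun (q : ι) _ => q.2.1)
  refine ⟨p.1.2 ^ m, ?_, ?_⟩
  · rw [hm, mul_comm]; exact SetLike.pow_mem_graded m p.2.2
  · rw [Proj.basicOpen_pow 𝒜 _ _ hm0]; exact hyp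

theorem exists_basicOpen_mul_cover {Y : (Proj 𝒜).Opens} (hY : IsCompact (Y : Set (Proj 𝒜))) :
    ∃ d : ℕ, 0 < d ∧
      (∀ y : Proj 𝒜, y ∈ Y →
        ∃ (i j : ℕ) (a b : A), a ∈ 𝒜 i ∧ b ∈ 𝒜 j ∧ i = j + d ∧ y ∈ Proj.basicOpen 𝒜 (a * b)) ∧
      ∀ n : ℤ, PicF.IsInvertible ((Twist.twist 𝒜 (n * d)).restrict Y.ι) := by
  obtain ⟨d, hd, hcov⟩ := exists_degree_cover hY
  refine ⟨d, hd, fun y hy => ?_, fun n => isInvertible_restrict_opens (L := Twist.twist 𝒜 (n * d)) _ fun y hy => ?_⟩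
  · obtain ⟨f, hf, hyf⟩ := hcov y hy
    exact ⟨d, 0, f, 1, hf, SetLike.GradedOne.one_mem, (zero_add d).symm, by rwa [mul_one]⟩
  · obtain ⟨f, hf, hyf⟩ := hcov y hy
    exact ⟨Proj.basicOpen 𝒜 f, hyf,
      nonempty_twist_restrict_iso (U := Proj.basicOpen 𝒜 f) (powUnit 𝒜 hf n)⟩

/-- `f` is a unit at `x` iff `f / 1` generates the fractions of its degree, on the locus where that degree has a unit. -/
theorem mem_basicOpen_iff_span_eq_top {d i j : ℕ} {a b : A} (ha : a ∈ 𝒜 i) (hb : b ∈ 𝒜 j) (hij : i = j + d)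
    (x : ProjectiveSpectrum 𝒜) (hx : x ∈ ProjectiveSpectrum.basicOpen 𝒜 (a * b)) {n : ℕ}
    (f : 𝒜 (n * d)) :
    x ∈ ProjectiveSpectrum.basicOpen 𝒜 (f : A) ↔
      Submodule.span (Twist.A0 𝒜 x) {(Twist.globalOf 𝒜 f).1 ⟨x, trivial⟩} = ⊤ := by
  have hxa : a ∉ x.asHomogeneousIdeal := fun h => hx (Ideal.mul_mem_right _ _ h)
  have hxb : b ∉ x.asHomogeneousIdeal := fun h => hx (Ideal.mul_mem_left _ _ h)
  constructor
  · intro hf
    rw [Submodule.eq_top_iff']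
    rintro ⟨q, hq⟩
    suffices H : ∀ q ∈ Twist.twistAt 𝒜 ((n * d : ℕ) : ℤ) x, ∃ c : Twist.A0 𝒜 x,
        c.val * Localization.mk (f : A) 1 = q by
      obtain ⟨c, hc⟩ := H q hq
      refine Submodule.mem_span_singleton.mpr ⟨c, Subtype.ext ?_⟩
      rw [Twist.coe_smul_val]
      exact hc
    intro q hq
    induction hq using Submodule.span_induction with
    | zero => exact ⟨0, by rw [HomogeneousLocalization.val_zero, zero_mul]⟩
    | add q q' _ _ h h' =>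
      obtain ⟨c, hc⟩ := h
      obtain ⟨c', hc'⟩ := h'
      exact ⟨c + c', by rw [HomogeneousLocalization.val_add, add_mul, hc, hc']⟩
    | smul e q _ h =>
      obtain ⟨c, hc⟩ := h
      exact ⟨e * c, by rw [HomogeneousLocalization.val_mul, mul_assoc, hc, Algebra.smul_def,
        HomogeneousLocalization.algebraMap_apply]⟩
    | mem q hq =>
      obtain ⟨i', j', r, g, hg, hij', rfl⟩ := hq
      have hi' : i' = j' + n * d := by exact_mod_cast hij'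
      have hden : g.1 * f.1 ∈ x.asHomogeneousIdeal.toIdeal.primeCompl := mul_notMem hg hf
      refine ⟨HomogeneousLocalization.mk ⟨j' + n * d, ⟨r.1, hi' ▸ r.2⟩,
        ⟨g.1 * f.1, SetLike.mul_mem_graded g.2 f.2⟩, hden⟩, ?_⟩
      rw [HomogeneousLocalization.val_mk, Localization.mk_mul, Localization.mk_eq_mk_iff, Localization.r_iff_exists]
      exact ⟨1, by simp; ring⟩
  · intro htop hfx
    let u := pairUnit 𝒜 ha hb hij (n : ℤ)
    have hu : (u.fwd.1 ⟨x, hx⟩).1 ∈ Twist.twistAt 𝒜 ((n * d : ℕ) : ℤ) x := by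
      have := (u.fwd.1 ⟨x, hx⟩).2
      rwa [Nat.cast_mul]
    obtain ⟨c, hc⟩ := Submodule.mem_span_singleton.mp
      (htop ▸ Submodule.mem_top : (⟨_, hu⟩ : Twist.twistAt 𝒜 ((n * d : ℕ) : ℤ) x) ∈ Submodule.span (Twist.A0 𝒜 x) {(Twist.globalOf 𝒜 f).1 ⟨x, trivial⟩})
    have hc' : c.val * Localization.mk (f : A) (1 : x.asHomogeneousIdeal.toIdeal.primeCompl) = (u.fwd.1 ⟨x, hx⟩).1 :=
      (Twist.coe_smul_val _ x c _).symm.trans (congrArg Subtype.val hc)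
    have h1 := congrArg (· * (u.bwd.1 ⟨x, hx⟩).1) hc'
    dsimp only at h1
    rw [u.mul_eq ⟨x, hx⟩, mul_assoc, mul_comm (Localization.mk (f : A) _), ← mul_assoc] at h1
    have hunit : IsUnit (Localization.mk (f : A) (1 : x.asHomogeneousIdeal.toIdeal.primeCompl)) :=
      IsUnit.of_mul_eq_one_right _ h1
    rw [Localization.mk_one_eq_algebraMap] at hunit
    exact (IsLocalization.AtPrime.isUnit_to_map_iff (Twist.Loc 𝒜 x) x.asHomogeneousIdeal.toIdeal _).mp hunit hfx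

end Groth.Agent.EGAProj74
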