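import Groth.Agent.EGAProj74.FormProj
import Groth.Agent.EGAProj74.FracSections
import Groth.Agent.EGAProj74.TildeBaseChange
import Groth.Agent.EGAProj74.TwistUnits
import Groth.Agent.EGA73.ProjMorph
import Groth.Agent.Var76.RegMulX
import Groth.Agent.Var76.RegTools
import Mathlib.AlgebraicGeometry.IdealSheaf.Subscheme

/-!
A closed subscheme of projective space is the `Proj` of the quotient by the forms vanishing on it.
-/

set_option autoImplicit false
set_option backward.isDefEq.respectTransparency.types false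

universe u

open CategoryTheory CategoryTheory.Limits AlgebraicGeometry TopologicalSpace Opposite
open scoped HomogeneousIdeal

noncomputable section

namespace Groth.Agent.EGAProj74.ClosedSubProj

open Groth.Agent.Amp73 Var76.LineBundle FracSections

variable {R : Type u} [CommRing R] {n : ℕ}

local notation "𝕊" => CohB1.polyGrading n R

/-- The standard chart. -/
abbrev D (R : Type u) [CommRing R] {n : ℕ} (j : Fin (n + 1)) : (Proj (CohB1.polyGrading n R)).Opens :=
  Proj.basicOpen (CohB1.polyGrading n R) (MvPolynomial.X j)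

theorem hX (j : Fin (n + 1)) : (MvPolynomial.X j : MvPolynomial (Fin (n + 1)) R) ∈ 𝕊 1 :=
  MvPolynomial.isHomogeneous_X R j

theorem iSup_D : ⨆ j : Fin (n + 1), D R j = ⊤ :=
  top_le_iff.mp fun x _ => Opens.mem_iSup.mpr (FormProj.exists_mem_basicOpen_X x)

/-- The unit section `X_j ^ m` of `O(m)` on the chart. -/
def unit (R : Type u) [CommRing R] {n : ℕ} (m : ℕ) (j : Fin (n + 1)) :
    EGA73.TwistUnit (𝒜 := CohB1.polyGrading n R) (m : ℤ)
      (ProjectiveSpectrum.basicOpen (CohB1.polyGrading n R) (MvPolynomial.X j)) :=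
  fracUnit (CohB1.polyGrading n R) (i := m) (j := 0) (p := MvPolynomial.X j ^ m) (q := 1)
    (by simpa using SetLike.pow_mem_graded m (hX (R := R) j))
    SetLike.GradedOne.one_mem (fun x => GrT.pow_notMem x.2 m)
    (fun x h => x.1.isPrime.ne_top ((Ideal.eq_top_iff_one _).mpr h)) (by simp)

/-- The section `X_j ^ m` of `O(m)` on the chart. -/
def frame (R : Type u) [CommRing R] {n : ℕ} (m : ℕ) (j : Fin (n + 1)) :
    Γ(Twist.twist (CohB1.polyGrading n R) (m : ℤ), D R j) := (unit R m j).fwd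

theorem isFrame_frame (m : ℕ) (j : Fin (n + 1)) : IsFrame (Twist.twist 𝕊 (m : ℤ)) (D R j) (frame R m j) :=
  Var76.Reg.isFrame_unit (unit R m j)

theorem res_globalOf {m : ℕ} (G : 𝕊 m) (j : Fin (n + 1)) :
    res (Twist.twist 𝕊 (m : ℤ)) (le_top (a := D R j)) (Twist.globalOf 𝕊 G) =
      scal (hX j) one_pos m (b := (G : MvPolynomial (Fin (n + 1)) R)) (by rw [mul_one]; exact G.2) •
        frame R m j := by
  refine Subtype.ext (funext fun x => Subtype.ext ?_)
  refine Eq.trans ?_ (Twist.coe_smul_val _ x.1 _ _).symm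
  erw [scal_val]
  show Localization.mk (G : MvPolynomial (Fin (n + 1)) R) _ =
    Localization.mk _ _ * Localization.mk (MvPolynomial.X j ^ m : MvPolynomial (Fin (n + 1)) R) _
  rw [Localization.mk_mul, Localization.mk_eq_mk_iff, Localization.r_iff_exists]
  exact ⟨1, by simp [mul_comm]⟩

variable {Z : Scheme.{u}} (i : Z ⟶ Proj (CohB1.polyGrading n R))

/-- The inverse image of a form, as a function on the chart of the subscheme. -/
def coeff {d : ℕ} (G : 𝕊 d) (j : Fin (n + 1)) : Γ(Z, i ⁻¹ᵁ D R j) :=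
  i.app (D R j) (scal (hX j) one_pos d (b := (G : MvPolynomial (Fin (n + 1)) R)) (by rw [mul_one]; exact G.2))

theorem res_pullSec {m : ℕ} (G : 𝕊 m) (j : Fin (n + 1)) :
    res ((Scheme.Modules.pullback i).obj (Twist.twist 𝕊 (m : ℤ))) (i.preimage_mono (le_top (a := D R j)))
        (ProjUP.pullSec i (Twist.twist 𝕊 (m : ℤ)) (Twist.globalOf 𝕊 G)) =
      coeff i G j • pullS i (Twist.twist 𝕊 (m : ℤ)) (D R j) (frame R m j) := by
  refine Eq.trans ?_ (pullS_smul i _ _ _ _)
  rw [← res_globalOf]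
  exact res_pullS i _ _ _

theorem pullSec_eq_zero_iff {m : ℕ} (G : 𝕊 m) :
    ProjUP.pullSec i (Twist.twist 𝕊 (m : ℤ)) (Twist.globalOf 𝕊 G) = 0 ↔ ∀ j, coeff i G j = 0 := by
  have hfr : ∀ j, Function.Bijective fun c : Γ(Z, i ⁻¹ᵁ D R j) =>
      c • pullS i (Twist.twist 𝕊 (m : ℤ)) (D R j) (frame R m j) := fun j => by
    have h := isFrame_pullS i (Var76.Reg.isInvertible_twist (n := n) (A := R) (m : ℤ)) (isFrame_frame m j)
      (i ⁻¹ᵁ D R j) le_rfl
    simp only [res_self] at h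
    exact h
  constructor
  · intro h j
    refine (hfr j).1 ?_
    show coeff i G j • _ = (0 : Γ(Z, i ⁻¹ᵁ D R j)) • _
    rw [← res_pullSec, h, zero_smul]
    exact map_zero _
  · intro h
    refine TopCat.Sheaf.eq_of_locally_eq'
      (F := ⟨((Scheme.Modules.pullback i).obj (Twist.twist 𝕊 (m : ℤ))).presheaf,
        ((Scheme.Modules.pullback i).obj (Twist.twist 𝕊 (m : ℤ))).isSheaf⟩)
      (fun j : Fin (n + 1) => i ⁻¹ᵁ D R j) ⊤ (fun j => homOfLE le_top) ?_ _ _ fun j => ?_
    · intro z _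
      obtain ⟨j, hj⟩ := FormProj.exists_mem_basicOpen_X (i z)
      exact Opens.mem_iSup.mpr ⟨j, hj⟩
    · refine (res_pullSec i G j).trans ?_
      rw [h j, zero_smul]
      exact (map_zero _).symm

theorem basicOpen_coeff_one (j k : Fin (n + 1)) :
    Z.basicOpen (coeff i ⟨MvPolynomial.X j, hX j⟩ k) = i ⁻¹ᵁ (D R k ⊓ D R j) := by
  rw [coeff, ← Scheme.preimage_basicOpen]
  congr 1
  rw [GrT.proj_basicOpen_eq (d := 1) (l := 1) (a := MvPolynomial.X j) (f := MvPolynomial.X k) _
    (by rw [mul_one]; exact hX j) (by rw [pow_one, mul_one]; exact hX k)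
    (fun x => HomogeneousLocalization.val_injective _ ((scal_val _ _ _ _ _).trans ?_)), Proj.basicOpen_mul]
  rfl

theorem app_scal_eq_of_mul {k : Fin (n + 1)} {b b' : MvPolynomial (Fin (n + 1)) R} {l l' : ℕ}
    (hb : b ∈ 𝕊 (l * 1)) (hb' : b' ∈ 𝕊 (l' * 1)) (h : MvPolynomial.X k ^ l' * b = MvPolynomial.X k ^ l * b') :
    i.app (D R k) (scal (hX k) one_pos l hb) = i.app (D R k) (scal (hX k) one_pos l' hb') := by
  rw [scal_eq_of_mul (hX k) one_pos hb hb' h]

theorem coeff_pow_mul {d : ℕ} (G : 𝕊 d) (j k : Fin (n + 1)) :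
    ∀ (N : ℕ) (hN : MvPolynomial.X j ^ N * (G : MvPolynomial (Fin (n + 1)) R) ∈ 𝕊 (N + d)),
      coeff i ⟨_, hN⟩ k = coeff i ⟨MvPolynomial.X j, hX j⟩ k ^ N * coeff i G k := by
  intro N
  induction N with
  | zero =>
    intro hN
    rw [pow_zero (coeff i ⟨MvPolynomial.X j, hX j⟩ k), one_mul]
    exact app_scal_eq_of_mul i _ _ (by simp)
  | succ N ih =>
    intro hN
    have hN' : MvPolynomial.X j ^ N * (G : MvPolynomial (Fin (n + 1)) R) ∈ 𝕊 (N + d) :=
      SetLike.mul_mem_graded (by simpa using SetLike.pow_mem_graded N (hX j)) G.2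
    rw [pow_succ' (coeff i ⟨MvPolynomial.X j, hX j⟩ k), mul_assoc, ← ih hN', coeff, coeff, coeff, ← map_mul, scal_mul]
    exact app_scal_eq_of_mul i _ _ (by ring)

theorem coeff_eq_zero_iff [IsClosedImmersion i] {d : ℕ} (G : 𝕊 d) (j : Fin (n + 1)) :
    coeff i G j = 0 ↔ ∃ (N : ℕ) (hN : MvPolynomial.X j ^ N * (G : MvPolynomial (Fin (n + 1)) R) ∈ 𝕊 (N + d)),
      ProjUP.pullSec i (Twist.twist 𝕊 ((N + d : ℕ) : ℤ)) (Twist.globalOf 𝕊 ⟨_, hN⟩) = 0 := by
  constructor
  · intro h
    have hmem : ∀ N, MvPolynomial.X j ^ N * (G : MvPolynomial (Fin (n + 1)) R) ∈ 𝕊 (N + d) := fun N =>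
      SetLike.mul_mem_graded (by simpa using SetLike.pow_mem_graded N (hX j)) G.2
    have hk : ∀ k, ∃ N, coeff i ⟨MvPolynomial.X j, hX j⟩ k ^ N * coeff i G k = 0 := fun k => by
      have haff : IsAffineOpen (i ⁻¹ᵁ D R k) :=
        (Proj.isAffineOpen_basicOpen 𝕊 _ (hX k) one_pos).preimage i
      refine exists_pow_mul_eq_zero_of_res_basicOpen_eq_zero_of_isAffineOpen Z haff _ _ ?_
      have hb := basicOpen_coeff_one i j k
      show Z.presheaf.map (homOfLE (Z.basicOpen_le _)).op (coeff i G k) = 0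
      have hkj : D R k ⊓ D R j ≤ D R j := inf_le_right
      have key : (Proj 𝕊).presheaf.map (homOfLE (inf_le_left : D R k ⊓ D R j ≤ D R k)).op
          (scal (hX k) one_pos d (b := (G : MvPolynomial (Fin (n + 1)) R)) (by rw [mul_one]; exact G.2)) =
        (Proj 𝕊).presheaf.map (homOfLE hkj).op
            (scal (hX j) one_pos d (b := (G : MvPolynomial (Fin (n + 1)) R)) (by rw [mul_one]; exact G.2)) *
          (Proj 𝕊).presheaf.map (homOfLE (inf_le_left : D R k ⊓ D R j ≤ D R k)).op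
            (scal (hX k) one_pos d (b := MvPolynomial.X j ^ d) (by simpa using SetLike.pow_mem_graded d (hX j))) := by
        refine Subtype.ext (funext fun x => HomogeneousLocalization.val_injective _ ?_)
        refine Eq.trans ?_ (HomogeneousLocalization.val_mul _ _).symm
        show Localization.mk _ _ = Localization.mk _ _ * Localization.mk _ _
        rw [Localization.mk_mul, Localization.mk_eq_mk_iff, Localization.r_iff_exists]
        exact ⟨1, by simp; ring⟩
      rw [coeff]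
      have h2 : ∀ (W : (Proj 𝕊).Opens) (hW : W ≤ D R k) (V : Z.Opens) (hV : V = i ⁻¹ᵁ W)
          (hV' : V ≤ i ⁻¹ᵁ D R k) (s : Γ(Proj 𝕊, D R k)),
          i.app W ((Proj 𝕊).presheaf.map (homOfLE hW).op s) = 0 →
            Z.presheaf.map (homOfLE hV').op (i.app (D R k) s) = 0 := by
        rintro W hW V rfl hV' s hs
        exact congr($(i.naturality (homOfLE hW).op) s).symm.trans hs
      refine h2 _ inf_le_left _ hb _ _ ?_
      rw [key, map_mul]
      have h3 : i.app (D R k ⊓ D R j) ((Proj 𝕊).presheaf.map (homOfLE hkj).op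
          (scal (hX j) one_pos d (b := (G : MvPolynomial (Fin (n + 1)) R)) (by rw [mul_one]; exact G.2))) = 0 := by
        rw [← ConcreteCategory.comp_apply, Scheme.Hom.naturality, ConcreteCategory.comp_apply]
        exact (congrArg _ h).trans (map_zero _)
      rw [h3, zero_mul]
    choose Nk hNk using hk
    refine ⟨Finset.univ.sup Nk, hmem _, (pullSec_eq_zero_iff i _).mpr fun k => ?_⟩
    rw [coeff_pow_mul i G j k, ← Nat.sub_add_cancel (Finset.le_sup (f := Nk) (Finset.mem_univ k)), pow_add, mul_assoc,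
      hNk k, mul_zero]
  · rintro ⟨N, hN, h⟩
    refine Eq.trans ?_ ((pullSec_eq_zero_iff i _).mp h j)
    exact app_scal_eq_of_mul i _ _ (by ring)

variable {B : Type u} [CommRing B] [Algebra R B] (ℬ : ℕ → Submodule R B) [GradedAlgebra ℬ]
  (φ : CohB1.polyGrading n R →+*ᵍ ℬ) (hφ : ℬ₊ ≤ ((CohB1.polyGrading n R)₊).map φ)

theorem app_map_eq_zero_iff {d : ℕ} (G : 𝕊 d) (j : Fin (n + 1)) :
    (Proj.map φ hφ).app (D R j)
        (scal (hX j) one_pos d (b := (G : MvPolynomial (Fin (n + 1)) R)) (by rw [mul_one]; exact G.2)) = 0 ↔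
      ∃ N : ℕ, φ (MvPolynomial.X j ^ N * (G : MvPolynomial (Fin (n + 1)) R)) = 0 := by
  have hf' : φ (MvPolynomial.X j) ∈ ℬ 1 := φ.map_mem (hX j)
  have hb : φ (G : MvPolynomial (Fin (n + 1)) R) ∈ ℬ (d * 1) := by rw [mul_one]; exact φ.map_mem G.2
  have e : (Proj.map φ hφ).appLE _ _ (TildeBaseChange.preimage_le φ hφ)
      (scal (hX j) one_pos d (b := (G : MvPolynomial (Fin (n + 1)) R)) (by rw [mul_one]; exact G.2)) =
        scal hf' one_pos d hb := TildeBaseChange.appLE_scal φ hφ (hX j) one_pos _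
  have hinj : ∀ s, (Proj.map φ hφ).app (D R j) s = 0 ↔
      (Proj.map φ hφ).appLE _ _ (TildeBaseChange.preimage_le φ hφ) s = 0 := fun s => by
    rw [Scheme.Hom.appLE, ConcreteCategory.comp_apply]
    have : IsIso (homOfLE (TildeBaseChange.preimage_le φ hφ (f := (MvPolynomial.X j : MvPolynomial (Fin (n + 1)) R)))) :=
      ⟨homOfLE (Proj.map_preimage_basicOpen φ hφ _).le, rfl, rfl⟩
    refine (map_eq_zero_iff _ ?_).symm
    exact ((ConcreteCategory.isIso_iff_bijective _).mp (Functor.map_isIso _ _)).1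
  rw [hinj, e]
  constructor
  · intro h0
    have hm : (φ (G : MvPolynomial (Fin (n + 1)) R)) ∈ ℬ d := φ.map_mem G.2
    have h1 : fracF (ℳ := ℬ) (n := 0) hf' hm d (by simp) = 0 := by
      rw [show fracF (ℳ := ℬ) (n := 0) hf' hm d (by simp) =
          scal hf' one_pos d hb • fracF (ℳ := ℬ) hf' (SetLike.GradedOne.one_mem (A := ℬ)) 0 (n := 0) (by simp) from ?_,
        h0, zero_smul]
      rw [scal_smul_fracF]
      exact fracF_eq_of_smul hf' _ _ _ _ (by simp)
    obtain ⟨N, hN⟩ := FracSections.exists_pow_smul_eq_zero hf' one_pos h1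
    refine ⟨N, ?_⟩
    rw [map_mul, map_pow]
    exact hN
  · rintro ⟨N, hN⟩
    refine ext_val fun x => ?_
    refine (scal_val hf' one_pos d hb x).trans ?_
    show _ = (0 : GrTwist.A0 ℬ x.1).val
    rw [HomogeneousLocalization.val_zero, ← Localization.mk_zero (1 : x.1.asHomogeneousIdeal.toIdeal.primeCompl),
      Localization.mk_eq_mk_iff, Localization.r_iff_exists]
    refine ⟨⟨φ (MvPolynomial.X j) ^ N, GrT.pow_notMem x.2 N⟩, ?_⟩
    rw [map_mul, map_pow] at hN
    simp [hN]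

include hφ in
theorem exists_iso [IsClosedImmersion i] (hs : Function.Surjective φ)
    (hker : ∀ (d : ℕ) (F : MvPolynomial (Fin (n + 1)) R) (hF : F ∈ 𝕊 d),
      φ F = 0 ↔ ProjUP.pullSec i (Twist.twist 𝕊 d) (Twist.globalOf 𝕊 ⟨F, hF⟩) = 0) :
    ∃ e : Z ≅ Proj ℬ, e.hom ≫ Proj.map φ hφ = i := by
  have := EGA73.isClosedImmersion_map_of_surjective φ hs hφ
  have hk : i.ker = (Proj.map φ hφ).ker := by
    refine Scheme.IdealSheafData.ext_of_iSup_eq_top
      (fun j : Fin (n + 1) => ⟨D R j, Proj.isAffineOpen_basicOpen 𝕊 _ (hX j) one_pos⟩) iSup_D fun j => ?_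
    rw [Scheme.Hom.ker_apply, Scheme.Hom.ker_apply]
    ext s
    obtain ⟨l, b, hb, rfl⟩ := exists_scal (hX j) one_pos s
    rw [RingHom.mem_ker, RingHom.mem_ker]
    refine (coeff_eq_zero_iff i (⟨b, by rwa [mul_one] at hb⟩ : 𝕊 l) j).trans
      (Iff.trans ?_ (app_map_eq_zero_iff ℬ φ hφ (⟨b, by rwa [mul_one] at hb⟩ : 𝕊 l) j).symm)
    refine exists_congr fun N => ⟨fun ⟨hN, h⟩ => (hker _ _ hN).mpr h, fun h => ⟨?_, (hker _ _ _).mp h⟩⟩
    exact SetLike.mul_mem_graded (by simpa using SetLike.pow_mem_graded N (hX j)) (by rwa [mul_one] at hb)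
  let e₁ := asIso i.toImage
  let e₂ := asIso (Proj.map φ hφ).toImage
  have key : ∀ (I J : (Proj 𝕊).IdealSheafData) (h : I = J),
      (eqToHom (by rw [h]) : I.subscheme ⟶ J.subscheme) ≫ J.subschemeι = I.subschemeι := by
    rintro I _ rfl; simp
  refine ⟨e₁ ≪≫ (eqToIso (by rw [hk]) : i.ker.subscheme ≅ (Proj.map φ hφ).ker.subscheme) ≪≫ e₂.symm, ?_⟩
  have h2 : e₂.inv ≫ Proj.map φ hφ = (Proj.map φ hφ).imageι := by
    rw [Iso.inv_comp_eq]
    exact (Scheme.Hom.toImage_imageι _).symm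
  simp only [Iso.trans_hom, Iso.symm_hom, Category.assoc, h2]
  rw [show (eqToIso _).hom ≫ (Proj.map φ hφ).imageι = i.imageι from key _ _ hk]
  exact i.toImage_imageι

end Groth.Agent.EGAProj74.ClosedSubProj
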