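import Groth.Agent.EGAProj74.Dom

/-!
Composition of maps of Proj on domains of definition.
-/

set_option autoImplicit false

universe u

open CategoryTheory CategoryTheory.Limits AlgebraicGeometry TopologicalSpace Opposite
open HomogeneousLocalization
open scoped HomogeneousIdeal

noncomputable section

namespace Groth.Agent.EGAProj74

variable {A σ : Type u} [CommRing A] [SetLike σ A] [AddSubgroupClass σ A] {𝒜 : ℕ → σ} [GradedRing 𝒜]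
variable {B τ : Type u} [CommRing B] [SetLike τ B] [AddSubgroupClass τ B] {ℬ : ℕ → τ} [GradedRing ℬ]
variable {A' σ' : Type u} [CommRing A'] [SetLike σ' A'] [AddSubgroupClass σ' A'] {𝒜' : ℕ → σ'} [GradedRing 𝒜']
variable {B' τ' : Type u} [CommRing B'] [SetLike τ' B'] [AddSubgroupClass τ' B'] {ℬ' : ℕ → τ'} [GradedRing ℬ']

theorem domOpen_comp_left (ψ : 𝒜 →+*ᵍ ℬ) (f : ℬ →+*ᵍ ℬ') (hf : ℬ'₊ ≤ (ℬ₊).map f) :
    RelCone.domOpen (f.comp ψ) = Proj.map f hf ⁻¹ᵁ RelCone.domOpen ψ := by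
  refine Opens.ext (Set.ext fun x => ?_)
  exact (RelCone.mem_domOpen _ x).trans
    ((RelCone.mem_domOpen ψ ((Proj.map f hf).base x)).symm)

theorem domOpen_comp_right (ψ : 𝒜' →+*ᵍ ℬ) (f : 𝒜 →+*ᵍ 𝒜') (hf : 𝒜'₊ ≤ (𝒜₊).map f) :
    RelCone.domOpen (ψ.comp f) = RelCone.domOpen ψ := by
  refine Opens.ext (Set.ext fun x => ?_)
  refine (RelCone.mem_domOpen _ x).trans (Iff.trans ?_ (RelCone.mem_domOpen ψ x).symm)
  constructor
  · rintro ⟨a, ha, hax⟩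
    refine ⟨f a, ?_, hax⟩
    have := irrelevant_toIdeal_le_span ha
    refine (Ideal.span_le (I := (HomogeneousIdeal.irrelevant 𝒜').toIdeal.comap f)).mpr ?_ this
    rintro b ⟨d, hd, hb⟩
    exact HomogeneousIdeal.mem_irrelevant_of_mem _ hd (f.map_mem hb)
  · rintro ⟨b, hb, hbx⟩
    by_contra! h
    have hle : Ideal.map f.toRingHom (HomogeneousIdeal.irrelevant 𝒜).toIdeal ≤
        x.asHomogeneousIdeal.toIdeal.comap ψ.toRingHom :=
      Ideal.map_le_iff_le_comap.mpr (fun a ha => h a ha)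
    exact hbx (hle (hf hb))

theorem domMap_comp_left (ψ : 𝒜 →+*ᵍ ℬ) (f : ℬ →+*ᵍ ℬ') (hf : ℬ'₊ ≤ (ℬ₊).map f)
    (q : (RelCone.domOpen (f.comp ψ) : Scheme.{u}) ⟶ (RelCone.domOpen ψ : Scheme.{u}))
    (hq : q ≫ (RelCone.domOpen ψ).ι = (RelCone.domOpen (f.comp ψ)).ι ≫ Proj.map f hf) :
    q ≫ domMap ψ = domMap (f.comp ψ) := by
  refine domMap_eq _ fun d hd a ha => ?_
  let S₁ := Spec.map (CommRingCat.ofHom (Away.map f (ψ a)))
  have h1 : domChart (f.comp ψ) hd a ha ≫ q = S₁ ≫ domChart ψ hd a ha := by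
    refine (cancel_mono (RelCone.domOpen ψ).ι).mp ?_
    refine (Category.assoc _ _ _).trans (((domChart (f.comp ψ) hd a ha) ≫= hq).trans ?_)
    refine ((Category.assoc _ _ _).symm.trans ((domChart_ι (f.comp ψ) hd a ha) =≫ _)).trans ?_
    refine Eq.trans ?_ ((S₁ ≫= domChart_ι ψ hd a ha).symm.trans (Category.assoc _ _ _).symm)
    exact Proj.awayι_comp_map f hf hd (ψ a) (ψ.map_mem ha)
  refine (Category.assoc _ _ _).symm.trans ((h1 =≫ _).trans ((Category.assoc _ _ _).trans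
    ((S₁ ≫= domChart_domMap ψ hd a ha).trans ?_)))
  refine (Category.assoc _ _ _).symm.trans ?_
  refine ((Spec.map_comp _ _).symm =≫ _).trans ?_
  rw [← CommRingCat.ofHom_comp, ← Away.map_comp]
  rfl

theorem domMap_comp_right (ψ : 𝒜' →+*ᵍ ℬ) (f : 𝒜 →+*ᵍ 𝒜') (hf : 𝒜'₊ ≤ (𝒜₊).map f)
    (q : (RelCone.domOpen (ψ.comp f) : Scheme.{u}) ⟶ (RelCone.domOpen ψ : Scheme.{u}))
    (hq : q ≫ (RelCone.domOpen ψ).ι = (RelCone.domOpen (ψ.comp f)).ι) :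
    q ≫ domMap ψ ≫ Proj.map f hf = domMap (ψ.comp f) := by
  refine domMap_eq _ fun d hd a ha => ?_
  have h1 : domChart (ψ.comp f) hd a ha ≫ q = domChart ψ hd (f a) (f.map_mem ha) := by
    refine (cancel_mono (RelCone.domOpen ψ).ι).mp ?_
    refine (Category.assoc _ _ _).trans (((domChart (ψ.comp f) hd a ha) ≫= hq).trans ?_)
    exact (domChart_ι (ψ.comp f) hd a ha).trans (domChart_ι ψ hd (f a) (f.map_mem ha)).symm
  let S₁ := Spec.map (CommRingCat.ofHom (Away.map ψ (f a)))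
  refine (Category.assoc _ _ _).symm.trans ((h1 =≫ _).trans ((Category.assoc _ _ _).symm.trans
    ((domChart_domMap ψ hd (f a) (f.map_mem ha) =≫ _).trans ((Category.assoc _ _ _).trans
      ((S₁ ≫= Proj.awayι_comp_map f hf hd a ha).trans ?_)))))
  refine (Category.assoc _ _ _).symm.trans ?_
  refine ((Spec.map_comp _ _).symm =≫ _).trans ?_
  rw [← CommRingCat.ofHom_comp, ← Away.map_comp]
  rfl

theorem domOpen_comm (ψ : 𝒜 →+*ᵍ ℬ) (ψ' : 𝒜' →+*ᵍ ℬ') (f : 𝒜 →+*ᵍ 𝒜') (g : ℬ →+*ᵍ ℬ')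
    (hf : 𝒜'₊ ≤ (𝒜₊).map f) (hg : ℬ'₊ ≤ (ℬ₊).map g) (e : g.comp ψ = ψ'.comp f) :
    RelCone.domOpen ψ' = Proj.map g hg ⁻¹ᵁ RelCone.domOpen ψ := by
  rw [← domOpen_comp_left ψ g hg, e, domOpen_comp_right ψ' f hf]

theorem domMap_comm (ψ : 𝒜 →+*ᵍ ℬ) (ψ' : 𝒜' →+*ᵍ ℬ') (f : 𝒜 →+*ᵍ 𝒜') (g : ℬ →+*ᵍ ℬ')
    (hf : 𝒜'₊ ≤ (𝒜₊).map f) (hg : ℬ'₊ ≤ (ℬ₊).map g) (e : g.comp ψ = ψ'.comp f)
    (q : (RelCone.domOpen ψ' : Scheme.{u}) ⟶ (RelCone.domOpen ψ : Scheme.{u}))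
    (hq : q ≫ (RelCone.domOpen ψ).ι = (RelCone.domOpen ψ').ι ≫ Proj.map g hg) :
    q ≫ domMap ψ = domMap ψ' ≫ Proj.map f hf := by
  have key : ∀ (χ : 𝒜 →+*ᵍ ℬ'), χ = g.comp ψ → χ = ψ'.comp f →
      ∀ i : (RelCone.domOpen χ : Scheme.{u}) ⟶ (RelCone.domOpen ψ' : Scheme.{u}),
      i ≫ (RelCone.domOpen ψ').ι = (RelCone.domOpen χ).ι →
      i ≫ q ≫ domMap ψ = i ≫ domMap ψ' ≫ Proj.map f hf := by
    intro χ h1 h2 i hi
    have l : i ≫ domMap ψ' ≫ Proj.map f hf = domMap χ := by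
      subst h2; exact domMap_comp_right ψ' f hf i hi
    rw [l]
    subst h1
    rw [← Category.assoc]
    exact domMap_comp_left ψ g hg (i ≫ q) (by rw [Category.assoc, hq, reassoc_of% hi])
  have hd : RelCone.domOpen (ψ'.comp f) = RelCone.domOpen ψ' := domOpen_comp_right ψ' f hf
  let i := ((Proj ℬ').isoOfEq hd).hom
  have := key (ψ'.comp f) e.symm rfl i (Scheme.isoOfEq_hom_ι _ _)
  exact (cancel_epi i).mp this

theorem domMap_congr {ψ ψ' : 𝒜 →+*ᵍ ℬ} (e : ψ = ψ')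
    (q : (RelCone.domOpen ψ : Scheme.{u}) ⟶ (RelCone.domOpen ψ' : Scheme.{u}))
    (hq : q ≫ (RelCone.domOpen ψ').ι = (RelCone.domOpen ψ).ι) : q ≫ domMap ψ' = domMap ψ := by
  subst e
  have : q = 𝟙 _ := by rw [← cancel_mono (RelCone.domOpen ψ).ι, hq, Category.id_comp]
  rw [this, Category.id_comp]

end Groth.Agent.EGAProj74
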