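import Groth.Agent.EGAProj74.ConeImmersion
import Groth.Agent.EGAProj74.DomComp

/-!
Morphisms of projective cones over a morphism of bases.
-/

set_option autoImplicit false

universe u

open CategoryTheory CategoryTheory.Limits AlgebraicGeometry TopologicalSpace Opposite
open HomogeneousLocalization
open scoped HomogeneousIdeal

noncomputable section

namespace Groth.Agent.EGAProj74

section ring

variable {A B C σ τ υ : Type u} [CommRing A] [SetLike σ A] [AddSubgroupClass σ A] {𝒜 : ℕ → σ} [GradedRing 𝒜]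
  [CommRing B] [SetLike τ B] [AddSubgroupClass τ B] {ℬ : ℕ → τ} [GradedRing ℬ]
  [CommRing C] [SetLike υ C] [AddSubgroupClass υ C] {𝒞 : ℕ → υ} [GradedRing 𝒞]
  (ψ : 𝒜 →+*ᵍ ℬ) (φ : ℬ →+*ᵍ 𝒞)

theorem domOpen_comp_le : RelCone.domOpen (φ.comp ψ) ≤ RelCone.domOpen φ := fun x hx => by
  obtain ⟨d, f, hd, hf, hfx⟩ := exists_of_mem_domOpen _ hx
  exact basicOpen_le_domOpen φ hd (ψ.map_mem hf) hfx

theorem mem_domOpen_comp_iff (w : RelCone.domOpen φ) :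
    ((domMap φ).base w : Proj ℬ) ∈ RelCone.domOpen ψ ↔ w.1 ∈ RelCone.domOpen (φ.comp ψ) := by
  have key : ∀ (d : ℕ) (_ : 0 < d) (f : A), f ∈ 𝒜 d →
      (((domMap φ).base w : Proj ℬ) ∈ Proj.basicOpen ℬ (ψ f) ↔ w.1 ∈ Proj.basicOpen 𝒞 (φ (ψ f))) := by
    intro d hd f hf
    exact SetLike.ext_iff.mp (domMap_preimage_basicOpen φ hd (ψ f) (ψ.map_mem hf)) w
  constructor
  · intro h
    obtain ⟨d, f, hd, hf, hfx⟩ := exists_of_mem_domOpen _ h
    exact basicOpen_le_domOpen (φ.comp ψ) hd hf ((key d hd f hf).mp hfx)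
  · intro h
    obtain ⟨d, f, hd, hf, hfx⟩ := exists_of_mem_domOpen _ h
    exact basicOpen_le_domOpen ψ hd hf ((key d hd f hf).mpr hfx)

theorem domMap_comp
    (q : (RelCone.domOpen (φ.comp ψ) : Scheme.{u}) ⟶ (RelCone.domOpen φ : Scheme.{u}))
    (hq : q ≫ (RelCone.domOpen φ).ι = (RelCone.domOpen (φ.comp ψ)).ι)
    (q' : (RelCone.domOpen (φ.comp ψ) : Scheme.{u}) ⟶ (RelCone.domOpen ψ : Scheme.{u}))
    (hq' : q' ≫ (RelCone.domOpen ψ).ι = q ≫ domMap φ) :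
    q' ≫ domMap ψ = domMap (φ.comp ψ) := by
  refine domMap_eq _ fun d hd a ha => ?_
  have h1 : domChart (φ.comp ψ) hd a ha ≫ q = domChart φ hd (ψ a) (ψ.map_mem ha) := by
    refine (cancel_mono (RelCone.domOpen φ).ι).mp ?_
    refine (Category.assoc _ _ _).trans (((domChart (φ.comp ψ) hd a ha) ≫= hq).trans ?_)
    exact (domChart_ι (φ.comp ψ) hd a ha).trans (domChart_ι φ hd (ψ a) (ψ.map_mem ha)).symm
  let S₁ := Spec.map (CommRingCat.ofHom (Away.map φ (ψ a)))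
  have h2 : domChart (φ.comp ψ) hd a ha ≫ q' = S₁ ≫ domChart ψ hd a ha := by
    refine (cancel_mono (RelCone.domOpen ψ).ι).mp ?_
    refine (Category.assoc _ _ _).trans (((domChart (φ.comp ψ) hd a ha) ≫= hq').trans ?_)
    refine (Category.assoc _ _ _).symm.trans ((h1 =≫ _).trans ((domChart_domMap φ hd _ _).trans ?_))
    exact ((S₁ ≫= domChart_ι ψ hd a ha).symm.trans (Category.assoc _ _ _).symm)
  refine (Category.assoc _ _ _).symm.trans ((h2 =≫ _).trans ((Category.assoc _ _ _).trans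
    ((S₁ ≫= domChart_domMap ψ hd a ha).trans ?_)))
  refine (Category.assoc _ _ _).symm.trans ?_
  refine ((Spec.map_comp _ _).symm =≫ _).trans ?_
  rw [← CommRingCat.ofHom_comp, ← Away.map_comp]
  rfl

end ring

section projQMap

variable {S S' : Scheme.{u}} {g : S' ⟶ S} {𝒜 : RelProj.QCGrAlg S} {ℬ : RelProj.QCGrAlg S'}
  (v : RelProj.QGrHom g 𝒜 ℬ)
  {PA : Scheme.{u}} {pA : PA ⟶ S}
  {chartA : ∀ (U : S.Opens) (hU : IsAffineOpen U), (((pA ⁻¹ᵁ U : PA.Opens) : Scheme.{u}) ≅ Proj (𝒜.deg U hU))}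
  {PB : Scheme.{u}} {pB : PB ⟶ S'}
  {chartB : ∀ (U : S'.Opens) (hU : IsAffineOpen U), (((pB ⁻¹ᵁ U : PB.Opens) : Scheme.{u}) ≅ Proj (ℬ.deg U hU))}

theorem projQMap_chart {h : PB ⟶ PA} (hh : RelProj.IsProjQMap v pA chartA pB chartB h) (V : APair g)
    (hirr : (ℬ.deg V.U' V.hU')₊ ≤ ((𝒜.deg V.U V.hU)₊).map (v.gradedAt V.U V.hU V.U' V.hU' V.hle)) :
    RelProj.emb pB chartB V.U' V.hU' ≫ h =
      Proj.map (v.gradedAt V.U V.hU V.U' V.hU' V.hle) hirr ≫ RelProj.emb pA chartA V.U V.hU := by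
  have : IsIso (RelCone.domOpen (v.gradedAt V.U V.hU V.U' V.hU' V.hle)).ι := by
    rw [domOpen_eq_top_of_le _ hirr]; exact inferInstanceAs (IsIso (Proj _).topIso.hom)
  rw [← cancel_epi (RelCone.domOpen (v.gradedAt V.U V.hU V.U' V.hU' V.hle)).ι, reassoc_of% (ι_map_eq_domMap _ hirr)]
  have := (isProjQMapOn_iff v).mp ((isProjQMap_iff v).mp hh).2 V.U V.hU V.U' V.hU' V.hle
  rw [← this, qι_ι_assoc]

theorem exists_domQ_pair {x : PB} (hx : x ∈ RelProj.domQ v pB chartB) :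
    ∃ (V : APair g) (y : Proj (ℬ.deg V.U' V.hU')),
      y ∈ RelCone.domOpen (v.gradedAt V.U V.hU V.U' V.hU' V.hle) ∧ (RelProj.emb pB chartB V.U' V.hU').base y = x := by
  obtain ⟨W, y, hy, hyx⟩ := Opens.mem_iSup.mp hx
  exact ⟨⟨W.1.1.1, W.1.1.2, W.1.2.1, W.1.2.2, W.2⟩, y, hy, hyx⟩

theorem exists_emb_pair (x : PB) :
    ∃ (V : APair g) (y : Proj (ℬ.deg V.U' V.hU')), (RelProj.emb pB chartB V.U' V.hU').base y = x := by
  obtain ⟨V, hV⟩ := APair.exists_mem g (pB.base x)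
  obtain ⟨y, hy⟩ : x ∈ (RelProj.emb pB chartB V.U' V.hU').opensRange := by rw [opensRange_emb]; exact hV
  exact ⟨V, y, hy⟩

end projQMap

variable {Y Y' : Scheme.{u}} {q : Y' ⟶ Y} {𝒮 : RelProj.QCGrAlg Y} {𝒮' : RelProj.QCGrAlg Y'}
  {u : RelProj.QGrHom q 𝒮 𝒮'}
  {𝒮h : RelProj.QCGrAlg Y} {ι : 𝒮.toQCAlg ⟶ 𝒮h.toQCAlg} {z : 𝒮h.presheaf.obj (op ⊤)}
  (hz : RelCone.IsPolyOver 𝒮 𝒮h ι z)
  {𝒮h' : RelProj.QCGrAlg Y'} {ι' : 𝒮'.toQCAlg ⟶ 𝒮h'.toQCAlg} {z' : 𝒮h'.presheaf.obj (op ⊤)}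
  (hz' : RelCone.IsPolyOver 𝒮' 𝒮h' ι' z')
  {uh : RelProj.QGrHom q 𝒮h 𝒮h'}
  (huh : ∀ U : Y.Opens, ι.hom.app (op U) ≫ uh.app U = u.app U ≫ ι'.hom.app (op (q ⁻¹ᵁ U)))
  (huhz : (uh.app ⊤).hom z = RelCone.restrictTop 𝒮h' z' (q ⁻¹ᵁ ⊤))

include huh in
theorem gradedAt_ι (V : APair q) :
    (uh.gradedAt V.U V.hU V.U' V.hU' V.hle).comp (RelProj.gradedHomAt ι hz.graded V.U V.hU) =
      (RelProj.gradedHomAt ι' hz'.graded V.U' V.hU').comp (u.gradedAt V.U V.hU V.U' V.hU' V.hle) := by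
  ext x
  have e1 := congr(CommRingCat.Hom.hom $(huh V.U) x)
  have e2 := congr(CommRingCat.Hom.hom $(ι'.hom.naturality (homOfLE V.hle).op) ((u.app V.U).hom x))
  exact (congrArg (𝒮h'.presheaf.map (homOfLE V.hle).op).hom e1).trans e2.symm

include huhz in
theorem gradedAt_z (V : APair q) :
    uh.gradedAt V.U V.hU V.U' V.hU' V.hle (RelCone.restrictTop 𝒮h z V.U) =
      RelCone.restrictTop 𝒮h' z' V.U' := by
  have e1 := congr(CommRingCat.Hom.hom $(uh.naturality (le_top : V.U ≤ ⊤)) z)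
  have e2 : (𝒮h'.presheaf.map (homOfLE (q.preimage_mono (le_top : V.U ≤ ⊤))).op).hom
      (RelCone.restrictTop 𝒮h' z' (q ⁻¹ᵁ ⊤)) = RelCone.restrictTop 𝒮h' z' (q ⁻¹ᵁ V.U) :=
    congr(CommRingCat.Hom.hom $((𝒮h'.presheaf.map_comp _ _).symm) z')
  have e3 : (uh.app V.U).hom (RelCone.restrictTop 𝒮h z V.U) = RelCone.restrictTop 𝒮h' z' (q ⁻¹ᵁ V.U) :=
    e1.symm.trans ((congrArg _ huhz).trans e2)
  exact (congrArg (𝒮h'.presheaf.map (homOfLE V.hle).op).hom e3).trans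
    congr(CommRingCat.Hom.hom $((𝒮h'.presheaf.map_comp _ _).symm) z')

include hz hz' huh huhz in
theorem gradedAt_retraction
    {θ : 𝒮h.toQCAlg ⟶ 𝒮.toQCAlg} (hθ : RelProj.IsGradedHom θ) (hθι : ι ≫ θ = 𝟙 _)
    (hθz : (θ.hom.app (op ⊤)).hom z = 0)
    {θ' : 𝒮h'.toQCAlg ⟶ 𝒮'.toQCAlg} (hθ' : RelProj.IsGradedHom θ') (hθι' : ι' ≫ θ' = 𝟙 _)
    (hθz' : (θ'.hom.app (op ⊤)).hom z' = 0) (V : APair q) :
    (RelProj.gradedHomAt θ' hθ' V.U' V.hU').comp (uh.gradedAt V.U V.hU V.U' V.hU' V.hle) =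
      (u.gradedAt V.U V.hU V.U' V.hU' V.hle).comp (RelProj.gradedHomAt θ hθ V.U V.hU) := by
  ext x
  obtain ⟨p, rfl⟩ := exists_poly (RelProj.gradedHomAt ι hz.graded V.U V.hU) (hz.bij V.U V.hU) x
  have h1 : ∀ (U : Y.Opens) (hU : IsAffineOpen U) a,
      RelProj.gradedHomAt θ hθ U hU (RelProj.gradedHomAt ι hz.graded U hU a) = a := fun U hU a =>
    congr(CommRingCat.Hom.hom ((RelSpec.QCAlg.Hom.hom $hθι).app (op U)) a)
  have h1' : ∀ (U : Y'.Opens) (hU : IsAffineOpen U) a,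
      RelProj.gradedHomAt θ' hθ' U hU (RelProj.gradedHomAt ι' hz'.graded U hU a) = a := fun U hU a =>
    congr(CommRingCat.Hom.hom ((RelSpec.QCAlg.Hom.hom $hθι').app (op U)) a)
  induction p using Polynomial.induction_on' with
  | add p q hp hq => rw [Polynomial.eval₂_add, map_add, map_add, hp, hq]
  | monomial n a =>
    rw [Polynomial.eval₂_monomial]
    change RelProj.gradedHomAt θ' hθ' V.U' V.hU' (uh.gradedAt V.U V.hU V.U' V.hU' V.hle
        (RelProj.gradedHomAt ι hz.graded V.U V.hU a * RelCone.restrictTop 𝒮h z V.U ^ n)) =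
      u.gradedAt V.U V.hU V.U' V.hU' V.hle (RelProj.gradedHomAt θ hθ V.U V.hU
        (RelProj.gradedHomAt ι hz.graded V.U V.hU a * RelCone.restrictTop 𝒮h z V.U ^ n))
    rw [map_mul, map_mul, map_mul, map_mul, map_pow, map_pow, map_pow, map_pow, h1,
      gradedHomAt_retraction hθ hθz V.U V.hU, gradedAt_z huhz V, gradedHomAt_retraction hθ' hθz' V.U' V.hU']
    have e : uh.gradedAt V.U V.hU V.U' V.hU' V.hle (RelProj.gradedHomAt ι hz.graded V.U V.hU a) =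
        RelProj.gradedHomAt ι' hz'.graded V.U' V.hU' (u.gradedAt V.U V.hU V.U' V.hU' V.hle a) :=
      congr($(gradedAt_ι hz hz' huh V) a)
    rw [e, h1', map_zero]

variable {PC : Scheme.{u}} {pC : PC ⟶ Y}
  {chartC : ∀ (U : Y.Opens) (hU : IsAffineOpen U), (((pC ⁻¹ᵁ U : PC.Opens) : Scheme.{u}) ≅ Proj (𝒮h.deg U hU))}
  (hC : RelProj.IsRelProj 𝒮h pC chartC)
  {PC' : Scheme.{u}} {pC' : PC' ⟶ Y'}
  {chartC' : ∀ (U : Y'.Opens) (hU : IsAffineOpen U), (((pC' ⁻¹ᵁ U : PC'.Opens) : Scheme.{u}) ≅ Proj (𝒮h'.deg U hU))}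
  (hC' : RelProj.IsRelProj 𝒮h' pC' chartC')
  {Φh : ((RelProj.domQ uh pC' chartC' : PC'.Opens) : Scheme.{u}) ⟶ PC}
  (hΦh : RelProj.IsProjQMapOn uh pC chartC pC' chartC' (RelProj.domQ uh pC' chartC') Φh)

include hC hΦh in
theorem Φh_apply_mem_iff (V : APair q) (w : RelCone.domOpen (uh.gradedAt V.U V.hU V.U' V.hU' V.hle)) :
    Φh.base ((qι uh (p' := pC') (chart' := chartC') V.U V.hU V.U' V.hU' V.hle).base w) ∈
        RelCone.pointedProjCone 𝒮 hz pC chartC ↔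
      w.1 ∈ RelCone.domOpen ((uh.gradedAt V.U V.hU V.U' V.hU' V.hle).comp
        (RelProj.gradedHomAt ι hz.graded V.U V.hU)) := by
  have e : Φh.base ((qι uh (p' := pC') (chart' := chartC') V.U V.hU V.U' V.hU' V.hle).base w) =
      (RelProj.emb pC chartC V.U V.hU).base ((domMap (uh.gradedAt V.U V.hU V.U' V.hU' V.hle)).base w) :=
    congr(($((isProjQMapOn_iff uh).mp hΦh V.U V.hU V.U' V.hU' V.hle)).base w)
  rw [e, emb_mem_pointedProjCone_iff hz hC, mem_domOpen_comp_iff]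

include hC hC' hΦh huh in
theorem image_preimage_pointedProjCone_le :
    (RelProj.domQ uh pC' chartC').ι ''ᵁ (Φh ⁻¹ᵁ RelCone.pointedProjCone 𝒮 hz pC chartC) ≤
      RelCone.pointedProjCone 𝒮' hz' pC' chartC' := by
  rintro _ ⟨x, hx, rfl⟩
  obtain ⟨V, y, hy, hyx⟩ := exists_domQ_pair uh x.2
  obtain rfl : x = (qι uh V.U V.hU V.U' V.hU' V.hle).base ⟨y, hy⟩ :=
    (RelProj.domQ uh pC' chartC').ι.isOpenEmbedding.injective (hyx.symm.trans (qι_base uh _ _ _ _ _ ⟨y, hy⟩).symm)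
  have h := (Φh_apply_mem_iff hz hC hΦh V ⟨y, hy⟩).mp hx
  rw [gradedAt_ι hz hz' huh V] at h
  refine Eq.subst (motive := fun t => t ∈ RelCone.pointedProjCone 𝒮' hz' pC' chartC') (qι_base uh _ _ _ _ _ ⟨y, hy⟩).symm ?_
  exact (emb_mem_pointedProjCone_iff hz' hC' _ _ y).mpr (domOpen_comp_le _ _ h)

variable {P' : Scheme.{u}} {p' : P' ⟶ Y'}
  {chart' : ∀ (U : Y'.Opens) (hU : IsAffineOpen U), (((p' ⁻¹ᵁ U : P'.Opens) : Scheme.{u}) ≅ Proj (𝒮'.deg U hU))}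
  (hP' : RelProj.IsRelProj 𝒮' p' chart')

include hP' in
theorem domOpen_ι'_comp (htop : RelProj.domQ u p' chart' = ⊤) (V : APair q) :
    RelCone.domOpen ((RelProj.gradedHomAt ι' hz'.graded V.U' V.hU').comp (u.gradedAt V.U V.hU V.U' V.hU' V.hle)) =
      RelCone.domOpen (RelProj.gradedHomAt ι' hz'.graded V.U' V.hU') := by
  refine le_antisymm (domOpen_comp_le _ _) fun y hy => ?_
  refine (mem_domOpen_comp_iff _ _ ⟨y, hy⟩).mp ?_
  rw [← preimage_domQ u hP' V.hU V.hU' V.hle, htop]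
  trivial

include hz hz' huh huhz hC' hP' in
theorem domQ_cone_eq_top (htop : RelProj.domQ u p' chart' = ⊤) : RelProj.domQ uh pC' chartC' = ⊤ := by
  refine top_le_iff.mp fun x _ => ?_
  obtain ⟨V, y, rfl⟩ := exists_emb_pair (g := q) (chartB := chartC') x
  refine (emb_mem_domQ_iff uh hC' V.hU V.hU' V.hle y).mpr ?_
  by_cases hy : RelCone.restrictTop 𝒮h' z' V.U' ∈ y.asHomogeneousIdeal
  · refine domOpen_comp_le (RelProj.gradedHomAt ι hz.graded V.U V.hU) _ ?_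
    rw [gradedAt_ι hz hz' huh V, domOpen_ι'_comp hz' hP' htop V]
    by_contra hne
    refine y.not_irrelevant_le (irrelevant_le_of_le (RelProj.gradedHomAt ι' hz'.graded V.U' V.hU')
      (hz'.deg_z _ V.hU') (hz'.bij _ V.hU') (fun d hd a ha => ?_) hy)
    by_contra hay
    exact hne (basicOpen_le_domOpen _ hd ha ((Proj.mem_basicOpen _ _ y).mpr hay))
  · refine basicOpen_le_domOpen _ one_pos (hz.deg_z V.U V.hU) ((Proj.mem_basicOpen _ _ y).mpr ?_)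
    rwa [gradedAt_z huhz V]

include hC hC' hΦh huh hP' in
theorem image_preimage_pointedProjCone_eq (htop : RelProj.domQ u p' chart' = ⊤) :
    (RelProj.domQ uh pC' chartC').ι ''ᵁ (Φh ⁻¹ᵁ RelCone.pointedProjCone 𝒮 hz pC chartC) =
      RelCone.pointedProjCone 𝒮' hz' pC' chartC' := by
  refine le_antisymm (image_preimage_pointedProjCone_le hz hz' huh hC hC' hΦh) fun x hx => ?_
  obtain ⟨V, y, rfl⟩ := exists_emb_pair (g := q) (chartB := chartC') x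
  have h := (emb_mem_pointedProjCone_iff hz' hC' _ _ y).mp hx
  rw [← domOpen_ι'_comp hz' hP' htop V, ← gradedAt_ι hz hz' huh V] at h
  have hy := domOpen_comp_le _ _ h
  exact ⟨(qι uh V.U V.hU V.U' V.hU' V.hle).base ⟨y, hy⟩, (Φh_apply_mem_iff hz hC hΦh V ⟨y, hy⟩).mpr h,
    qι_base uh _ _ _ _ _ ⟨y, hy⟩⟩

end Groth.Agent.EGAProj74
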