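import Groth.Agent.EGAProj74.ProjCone
import Groth.Agent.EGAProj74.DomComp

/-!
The retraction of the pointed projective cone.
-/

set_option autoImplicit false

universe u

open CategoryTheory CategoryTheory.Limits AlgebraicGeometry TopologicalSpace Opposite
open scoped HomogeneousIdeal

noncomputable section

namespace Groth.Agent.EGAProj74

section ring

variable {A B : Type u} [CommRing A] [CommRing B] {𝒜 : ℕ → AddSubgroup A} [GradedRing 𝒜]
  {ℬ : ℕ → AddSubgroup B} [GradedRing ℬ]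

/-- Two points of `Proj` containing the same homogeneous elements of positive degree are equal. -/
theorem proj_ext {x y : Proj 𝒜}
    (h : ∀ (d : ℕ), 0 < d → ∀ a ∈ 𝒜 d, a ∈ x.asHomogeneousIdeal ↔ a ∈ y.asHomogeneousIdeal) : x = y := by
  classical
  have key : ∀ x y : Proj 𝒜,
      (∀ (d : ℕ), 0 < d → ∀ a ∈ 𝒜 d, a ∈ x.asHomogeneousIdeal ↔ a ∈ y.asHomogeneousIdeal) →
      x.asHomogeneousIdeal.toIdeal ≤ y.asHomogeneousIdeal.toIdeal := by
    intro x y h b hb
    rw [← DirectSum.sum_support_decompose 𝒜 b]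
    refine Submodule.sum_mem _ fun i _ => ?_
    have hbi : (DirectSum.decompose 𝒜 b i : A) ∈ x.asHomogeneousIdeal.toIdeal :=
      x.asHomogeneousIdeal.isHomogeneous i hb
    rcases Nat.eq_zero_or_pos i with rfl | hi
    · obtain ⟨e, f, he, hf, hfy⟩ : ∃ (e : ℕ) (f : A), 0 < e ∧ f ∈ 𝒜 e ∧ f ∉ y.asHomogeneousIdeal.toIdeal := by
        by_contra! h'
        refine y.not_irrelevant_le (irrelevant_toIdeal_le_span.trans (Ideal.span_le.mpr ?_))
        rintro a ⟨e, he, ha⟩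
        exact h' e a he ha
      refine (y.isPrime.mem_or_mem ?_).resolve_right hfy
      exact (h e he _ (by simpa using SetLike.mul_mem_graded (SetLike.coe_mem (DirectSum.decompose 𝒜 b 0)) hf)).mp
        (Ideal.mul_mem_right f x.asHomogeneousIdeal.toIdeal hbi)
    · exact (h i hi _ (SetLike.coe_mem _)).mp hbi
  exact ProjectiveSpectrum.ext (HomogeneousIdeal.toIdeal_injective
    (le_antisymm (key x y h) (key y x fun d hd a ha => (h d hd a ha).symm)))

theorem mem_domMap_iff (ψ : 𝒜 →+*ᵍ ℬ) (w : RelCone.domOpen ψ) {d : ℕ} (hd : 0 < d) {a : A} (ha : a ∈ 𝒜 d) :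
    a ∈ ((domMap ψ).base w : Proj 𝒜).asHomogeneousIdeal ↔ ψ a ∈ (w.1 : Proj ℬ).asHomogeneousIdeal := by
  have h : w ∈ domMap ψ ⁻¹ᵁ Proj.basicOpen 𝒜 a ↔
      w ∈ (RelCone.domOpen ψ).ι ⁻¹ᵁ Proj.basicOpen ℬ (ψ a) :=
    SetLike.ext_iff.mp (domMap_preimage_basicOpen ψ hd a ha) w
  exact not_iff_not.mp h

variable (ι : 𝒜 →+*ᵍ ℬ) {z : B} (hz : z ∈ ℬ 1)
  (bij : Function.Bijective (Polynomial.eval₂RingHom ι.toRingHom z))

/-- Setting `z = 0`. -/
def polyRetraction : ℬ →+*ᵍ 𝒜 where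
  toRingHom := (Polynomial.evalRingHom 0).comp (RingEquiv.ofBijective _ bij).symm.toRingHom
  map_mem {k} {x} hx := by
    obtain ⟨p, rfl⟩ := exists_poly ι bij x
    change Polynomial.eval 0 ((RingEquiv.ofBijective _ bij).symm (RingEquiv.ofBijective _ bij p)) ∈ 𝒜 k
    rw [RingEquiv.symm_apply_apply, ← Polynomial.coeff_zero_eq_eval_zero]
    have := (coeff_mem_of_mem ι hz bij hx).1 0 (Nat.zero_le k)
    rwa [Nat.sub_zero] at this

theorem polyRetraction_ι (a : A) : polyRetraction ι hz bij (ι a) = a := by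
  have e : RingEquiv.ofBijective _ bij (Polynomial.C a) = ι a := Polynomial.eval₂_C _ _
  change Polynomial.eval 0 ((RingEquiv.ofBijective _ bij).symm (ι a)) = a
  rw [← e, RingEquiv.symm_apply_apply, Polynomial.eval_C]

include hz bij in
theorem surjective_domMap_poly : Function.Surjective (domMap ι).base := by
  intro y
  let θ := polyRetraction ι hz bij
  have hirr : ¬ (HomogeneousIdeal.irrelevant ℬ).toIdeal ≤ (y.asHomogeneousIdeal.comap θ).toIdeal := by
    intro hle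
    refine y.not_irrelevant_le (irrelevant_toIdeal_le_span.trans (Ideal.span_le.mpr ?_))
    rintro a ⟨d, hd, ha⟩
    have := hle (HomogeneousIdeal.mem_irrelevant_of_mem ℬ hd (ι.map_mem ha))
    change θ (ι a) ∈ y.asHomogeneousIdeal.toIdeal at this
    rwa [polyRetraction_ι] at this
  let x : Proj ℬ := (⟨y.asHomogeneousIdeal.comap θ, y.isPrime.comap θ.toRingHom, hirr⟩ : ProjectiveSpectrum ℬ)
  have hx : x ∈ RelCone.domOpen ι := by
    by_contra hx
    refine y.not_irrelevant_le (irrelevant_toIdeal_le_span.trans (Ideal.span_le.mpr ?_))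
    rintro a ⟨d, hd, ha⟩
    by_contra hay
    refine hx ((RelCone.mem_domOpen ι x).mpr ⟨a, HomogeneousIdeal.mem_irrelevant_of_mem 𝒜 hd ha, ?_⟩)
    change θ (ι a) ∉ y.asHomogeneousIdeal.toIdeal
    rwa [polyRetraction_ι]
  refine ⟨⟨x, hx⟩, proj_ext fun d hd a ha => ?_⟩
  rw [mem_domMap_iff ι ⟨x, hx⟩ hd ha]
  change θ (ι a) ∈ y.asHomogeneousIdeal.toIdeal ↔ _
  rw [polyRetraction_ι]
  rfl

end ring

variable {Y : Scheme.{u}} {𝒮 𝒮h : RelProj.QCGrAlg Y} {ι : 𝒮.toQCAlg ⟶ 𝒮h.toQCAlg}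
  {z : 𝒮h.presheaf.obj (op ⊤)} (hz : RelCone.IsPolyOver 𝒮 𝒮h ι z)
  {PC : Scheme.{u}} {pC : PC ⟶ Y}
  {chartC : ∀ (U : Y.Opens) (hU : IsAffineOpen U),
    (((pC ⁻¹ᵁ U : PC.Opens) : Scheme.{u}) ≅ Proj (𝒮h.deg U hU))}

/-- The piece of the pointed projective cone over an affine open. -/
def pcι (U : Y.Opens) (hU : IsAffineOpen U) :
    (RelCone.domOpen (RelProj.gradedHomAt ι hz.graded U hU) : Scheme.{u}) ⟶
      ((RelCone.pointedProjCone 𝒮 hz pC chartC : PC.Opens) : Scheme.{u}) :=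
  IsOpenImmersion.lift (RelCone.pointedProjCone 𝒮 hz pC chartC).ι
    ((RelCone.domOpen (RelProj.gradedHomAt ι hz.graded U hU)).ι ≫ RelProj.emb pC chartC U hU) (by
      rw [Scheme.Opens.range_ι]
      rintro _ ⟨y, rfl⟩
      exact Opens.mem_iSup.mpr ⟨⟨U, hU⟩, y.1, y.2, rfl⟩)

@[reassoc]
theorem pcι_ι (U : Y.Opens) (hU : IsAffineOpen U) :
    pcι hz (pC := pC) (chartC := chartC) U hU ≫ (RelCone.pointedProjCone 𝒮 hz pC chartC).ι =
      (RelCone.domOpen (RelProj.gradedHomAt ι hz.graded U hU)).ι ≫ RelProj.emb pC chartC U hU :=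
  IsOpenImmersion.lift_fac ..

instance (U : Y.Opens) (hU : IsAffineOpen U) :
    IsOpenImmersion (pcι hz (pC := pC) (chartC := chartC) U hU) :=
  have : IsOpenImmersion (pcι hz (pC := pC) (chartC := chartC) U hU ≫
      (RelCone.pointedProjCone 𝒮 hz pC chartC).ι) := by rw [pcι_ι]; infer_instance
  IsOpenImmersion.of_comp _ (RelCone.pointedProjCone 𝒮 hz pC chartC).ι

theorem exists_pcι_apply (x : ((RelCone.pointedProjCone 𝒮 hz pC chartC : PC.Opens) : Scheme.{u})) :
    ∃ (U : Y.Opens) (hU : IsAffineOpen U) (w : RelCone.domOpen (RelProj.gradedHomAt ι hz.graded U hU)),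
      (pcι hz U hU).base w = x := by
  obtain ⟨⟨U, hU⟩, y, hy, hyx⟩ := Opens.mem_iSup.mp x.2
  refine ⟨U, hU, ⟨y, hy⟩, (RelCone.pointedProjCone 𝒮 hz pC chartC).ι.isOpenEmbedding.injective ?_⟩
  exact congr(($(pcι_ι hz (pC := pC) (chartC := chartC) U hU)).base ⟨y, hy⟩).trans hyx

variable {P : Scheme.{u}} {p : P ⟶ Y}
  {chart : ∀ (U : Y.Opens) (hU : IsAffineOpen U), (((p ⁻¹ᵁ U : P.Opens) : Scheme.{u}) ≅ Proj (𝒮.deg U hU))}

theorem pcHom_ext {T : Scheme.{u}}
    {r r' : ((RelCone.pointedProjCone 𝒮 hz pC chartC : PC.Opens) : Scheme.{u}) ⟶ T}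
    (h : ∀ (U : Y.Opens) (hU : IsAffineOpen U), pcι hz U hU ≫ r = pcι hz U hU ≫ r') : r = r' := by
  refine Scheme.hom_ext_of_forall _ _ fun x => ?_
  obtain ⟨U, hU, w, hw⟩ := exists_pcι_apply hz x
  refine ⟨(pcι hz U hU).opensRange, ⟨w, hw⟩, ?_⟩
  rw [← cancel_epi (pcι hz U hU).isoOpensRange.hom]
  simp only [← Category.assoc, Scheme.Hom.isoOpensRange_hom_ι]
  exact h U hU

/-- The defining condition of the retraction, on the pieces. -/
theorem retraction_iff (r : ((RelCone.pointedProjCone 𝒮 hz pC chartC : PC.Opens) : Scheme.{u}) ⟶ P) :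
    (∀ (U : Y.Opens) (hU : IsAffineOpen U) (d : ℕ) (hd : 0 < d) (f : 𝒮.presheaf.obj (op U)) (hf : f ∈ 𝒮.deg U hU d)
        (g : Spec (CommRingCat.of (HomogeneousLocalization.Away (𝒮h.deg U hU) ((RelProj.gradedHomAt ι hz.graded U hU) f))) ⟶
          ((RelCone.pointedProjCone 𝒮 hz pC chartC : PC.Opens) : Scheme.{u})),
        g ≫ (RelCone.pointedProjCone 𝒮 hz pC chartC).ι =
            Proj.awayι (𝒮h.deg U hU) ((RelProj.gradedHomAt ι hz.graded U hU) f) ((RelProj.gradedHomAt ι hz.graded U hU).2 hf) hd ≫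
              RelProj.emb pC chartC U hU →
          g ≫ r =
            Spec.map (CommRingCat.ofHom (HomogeneousLocalization.Away.map (RelProj.gradedHomAt ι hz.graded U hU) f)) ≫
              Proj.awayι (𝒮.deg U hU) f hf hd ≫ RelProj.emb p chart U hU) ↔
      ∀ (U : Y.Opens) (hU : IsAffineOpen U),
        pcι hz U hU ≫ r = domMap (RelProj.gradedHomAt ι hz.graded U hU) ≫ RelProj.emb p chart U hU := by
  constructor
  · intro h U hU
    refine dom_hom_ext _ _ _ fun d hd f hf => ?_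
    rw [domChart_domMap_assoc]
    refine (Category.assoc _ _ _).symm.trans ((h U hU d hd f hf _ ?_).trans (Category.assoc _ _ _).symm)
    rw [Category.assoc, pcι_ι, domChart_ι_assoc]
  · intro h U hU d hd f hf g hg
    obtain rfl : g = domChart _ hd f hf ≫ pcι hz U hU := by
      rw [← cancel_mono (RelCone.pointedProjCone 𝒮 hz pC chartC).ι, hg, Category.assoc, pcι_ι,
        domChart_ι_assoc]
    rw [Category.assoc, h, domChart_domMap_assoc]

variable (hC : RelProj.IsRelProj 𝒮h pC chartC) (hP : RelProj.IsRelProj 𝒮 p chart)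

include hC in
theorem pcι_congr (U : Y.Opens) (hU : IsAffineOpen U)
    (ψ : 𝒮.deg U hU →+*ᵍ 𝒮h.deg U hU)
    (e : ψ = RelProj.gradedHomAt ι hz.graded U hU)
    (k : (RelCone.domOpen ψ : Scheme.{u}) ⟶ ((RelCone.pointedProjCone 𝒮 hz pC chartC : PC.Opens) : Scheme.{u}))
    (hk : k ≫ (RelCone.pointedProjCone 𝒮 hz pC chartC).ι =
      (RelCone.domOpen ψ).ι ≫ RelProj.emb pC chartC U hU)
    (r : ((RelCone.pointedProjCone 𝒮 hz pC chartC : PC.Opens) : Scheme.{u}) ⟶ P)
    (h : k ≫ r = domMap ψ ≫ RelProj.emb p chart U hU) :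
    pcι hz U hU ≫ r = domMap (RelProj.gradedHomAt ι hz.graded U hU) ≫ RelProj.emb p chart U hU := by
  subst e
  obtain rfl : k = pcι hz U hU := by
    rw [← cancel_mono (RelCone.pointedProjCone 𝒮 hz pC chartC).ι, hk, pcι_ι]
  exact h

include hC hP in
theorem existsUnique_retraction :
    ∃! r : ((RelCone.pointedProjCone 𝒮 hz pC chartC : PC.Opens) : Scheme.{u}) ⟶ P,
      ∀ (U : Y.Opens) (hU : IsAffineOpen U),
        pcι hz U hU ≫ r = domMap (RelProj.gradedHomAt ι hz.graded U hU) ≫ RelProj.emb p chart U hU := by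
  obtain ⟨v, hv, -⟩ := existsUnique_projQMapOn (RelProj.QGrHom.ofHom ι hz.graded) hC hP
  let e := (PC.isoOfEq (pointedProjCone_eq_domQ hz hC)).hom
  refine ⟨e ≫ v, fun U hU => ?_, fun r hr => pcHom_ext hz fun U hU => ?_⟩
  · refine pcι_congr hz hC U hU _ (gradedAt_ofHom ι hz.graded U hU)
      (qι (RelProj.QGrHom.ofHom ι hz.graded) U hU U hU le_rfl ≫
        (PC.isoOfEq (pointedProjCone_eq_domQ hz hC)).inv) ?_ _ ?_
    · rw [Category.assoc, Scheme.isoOfEq_inv_ι, qι_ι]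
    · rw [Category.assoc, Iso.inv_hom_id_assoc]
      exact (isProjQMapOn_iff _).mp hv U hU U hU le_rfl
  · rw [hr U hU]
    symm
    refine pcι_congr hz hC U hU _ (gradedAt_ofHom ι hz.graded U hU)
      (qι (RelProj.QGrHom.ofHom ι hz.graded) U hU U hU le_rfl ≫
        (PC.isoOfEq (pointedProjCone_eq_domQ hz hC)).inv) ?_ _ ?_
    · rw [Category.assoc, Scheme.isoOfEq_inv_ι, qι_ι]
    · rw [Category.assoc, Iso.inv_hom_id_assoc]
      exact (isProjQMapOn_iff _).mp hv U hU U hU le_rfl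

section props

variable {r : ((RelCone.pointedProjCone 𝒮 hz pC chartC : PC.Opens) : Scheme.{u}) ⟶ P}
  (hr : ∀ (U : Y.Opens) (hU : IsAffineOpen U),
    pcι hz U hU ≫ r = domMap (RelProj.gradedHomAt ι hz.graded U hU) ≫ RelProj.emb p chart U hU)

include hC hP hr

theorem retraction_over : r ≫ p = (RelCone.pointedProjCone 𝒮 hz pC chartC).ι ≫ pC := by
  refine pcHom_ext hz fun U hU => ?_
  rw [reassoc_of% (hr U hU), emb_p hP, pcι_ι_assoc, emb_p hC,
    reassoc_of% (domMap_toSpecZero (RelProj.gradedHomAt ι hz.graded U hU))]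
  simp only [← Spec.map_comp_assoc, strZero_gradedHomAt]

theorem isPullback_pcι (U : Y.Opens) (hU : IsAffineOpen U) :
    IsPullback (domMap (RelProj.gradedHomAt ι hz.graded U hU)) (pcι hz U hU)
      (RelProj.emb p chart U hU) r := by
  refine IsOpenImmersion.isPullback _ _ _ _ (hr U hU) ?_
  rw [opensRange_emb, ← Scheme.Hom.comp_preimage, retraction_over hz hC hP hr]
  refine Opens.ext (Set.ext fun x => ?_)
  constructor
  · intro hx
    obtain ⟨y, hy⟩ : x.1 ∈ (RelProj.emb pC chartC U hU).opensRange := by rw [opensRange_emb]; exact hx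
    have hyd : y ∈ RelCone.domOpen (RelProj.gradedHomAt ι hz.graded U hU) :=
      (emb_mem_pointedProjCone_iff hz hC U hU y).mp (hy.symm ▸ x.2)
    refine ⟨⟨y, hyd⟩, (RelCone.pointedProjCone 𝒮 hz pC chartC).ι.isOpenEmbedding.injective ?_⟩
    exact congr(($(pcι_ι hz (pC := pC) (chartC := chartC) U hU)).base ⟨y, hyd⟩).trans hy
  · rintro ⟨w, rfl⟩
    change (pC.base ((RelCone.pointedProjCone 𝒮 hz pC chartC).ι.base ((pcι hz U hU).base w))) ∈ U
    rw [show (RelCone.pointedProjCone 𝒮 hz pC chartC).ι.base ((pcι hz U hU).base w) =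
      (RelProj.emb pC chartC U hU).base w.1 from
      congr(($(pcι_ι hz (pC := pC) (chartC := chartC) U hU)).base w)]
    change (RelProj.emb pC chartC U hU).base w.1 ∈ pC ⁻¹ᵁ U
    rw [← opensRange_emb (chart := chartC) U hU]
    exact ⟨w.1, rfl⟩

set_option backward.isDefEq.respectTransparency false in
theorem isAffineHom_retraction : IsAffineHom r := by
  refine IsZariskiLocalAtTarget.of_iSup_eq_top (P := @IsAffineHom.{u}) (fun U : Y.affineOpens => p ⁻¹ᵁ U.1) (by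
    rw [← Scheme.Hom.preimage_iSup, iSup_affineOpens_eq_top, Scheme.Hom.preimage_top]) fun U => ?_
  refine ((MorphismProperty.arrow_mk_iso_iff @IsAffineHom.{u})
    (morphismRestrictEq r (opensRange_emb (chart := chart) U.1 U.2)).symm).mpr ?_
  refine ((MorphismProperty.arrow_mk_iso_iff @IsAffineHom.{u})
    (morphismRestrictOpensRange r (RelProj.emb p chart U.1 U.2))).mpr ?_
  rw [← (isPullback_pcι hz hC hP hr U.1 U.2).flip.isoPullback_inv_snd]
  exact (MorphismProperty.cancel_left_of_respectsIso @IsAffineHom.{u} _ _).mpr inferInstance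

theorem surjective_retraction : Function.Surjective r.base := by
  intro x
  obtain ⟨U, hU, y, rfl⟩ := exists_emb_apply (chart := chart) x
  obtain ⟨w, rfl⟩ := surjective_domMap_poly (RelProj.gradedHomAt ι hz.graded U hU) (hz.deg_z U hU) (hz.bij U hU) y
  exact ⟨(pcι hz U hU).base w, congr(($(hr U hU)).base w)⟩

omit hC hP in
theorem retraction_infinity {θ : 𝒮h.toQCAlg ⟶ 𝒮.toQCAlg} (hθ : RelProj.IsGradedHom θ) (hιθ : ι ≫ θ = 𝟙 _)
    (hirr : ∀ (U : Y.Opens) (hU : IsAffineOpen U),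
      (𝒮.deg U hU)₊ ≤ ((𝒮h.deg U hU)₊).map (RelProj.gradedHomAt θ hθ U hU))
    (j : P ⟶ PC) (hj : RelProj.IsRelProjMap θ hθ hirr chartC chart j)
    (j' : P ⟶ ((RelCone.pointedProjCone 𝒮 hz pC chartC : PC.Opens) : Scheme.{u}))
    (hj' : j' ≫ (RelCone.pointedProjCone 𝒮 hz pC chartC).ι = j) : j' ≫ r = 𝟙 P := by
  refine hom_ext_emb (chart := chart) fun U hU => ?_
  rw [Category.comp_id]
  let ψ := RelProj.gradedHomAt ι hz.graded U hU
  let t := RelProj.gradedHomAt θ hθ U hU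
  have hid : t.comp ψ = GradedRingHom.id (𝒮.deg U hU) := by
    ext a
    exact congr(CommRingCat.Hom.hom ((RelSpec.QCAlg.Hom.hom $hιθ).app (op U)) a)
  have hd : RelCone.domOpen (t.comp ψ) = Proj.map t (hirr U hU) ⁻¹ᵁ RelCone.domOpen ψ :=
    domOpen_comp_left ψ t (hirr U hU)
  let q : (RelCone.domOpen (t.comp ψ) : Scheme.{u}) ⟶ (RelCone.domOpen ψ : Scheme.{u}) :=
    IsOpenImmersion.lift (RelCone.domOpen ψ).ι ((RelCone.domOpen (t.comp ψ)).ι ≫ Proj.map t (hirr U hU)) (by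
      rw [Scheme.Opens.range_ι]
      rintro _ ⟨x, rfl⟩
      exact hd.le x.2)
  have hq : q ≫ (RelCone.domOpen ψ).ι = (RelCone.domOpen (t.comp ψ)).ι ≫ Proj.map t (hirr U hU) :=
    IsOpenImmersion.lift_fac ..
  have hone : ∀ χ : 𝒮.deg U hU →+*ᵍ 𝒮.deg U hU, χ = GradedRingHom.id _ →
      RelCone.domOpen χ = ⊤ ∧ domMap χ = (RelCone.domOpen χ).ι := by
    rintro _ rfl
    refine ⟨domOpen_eq_top_of_le _ (by simp), ?_⟩
    rw [← ι_map_eq_domMap _ (by simp), Proj.map_id, Category.comp_id]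
  obtain ⟨htop, hmap⟩ := hone _ hid
  have : IsIso (RelCone.domOpen (t.comp ψ)).ι := by
    rw [htop]; exact inferInstanceAs (IsIso (Proj (𝒮.deg U hU)).topIso.hom)
  rw [← cancel_epi (RelCone.domOpen (t.comp ψ)).ι]
  have h1 : (RelCone.domOpen (t.comp ψ)).ι ≫ RelProj.emb p chart U hU ≫ j' = q ≫ pcι hz U hU := by
    rw [← cancel_mono (RelCone.pointedProjCone 𝒮 hz pC chartC).ι]
    simp only [Category.assoc]
    rw [hj', pcι_ι, (isRelProjMap_iff j).mp hj U hU, reassoc_of% hq]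
  rw [reassoc_of% h1, hr U hU, reassoc_of% (domMap_comp_left ψ t (hirr U hU) q hq), hmap]

end props

end Groth.Agent.EGAProj74
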