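import Groth.Agent.EGAProj74.QMapProps
import Groth.Agent.EGAProj74.ConeRetraction
import Groth.Agent.EGAProj74.ConeQ

/-!
Preimages of standard opens under `Proj(u)`, and non-emptiness of standard opens.
-/

set_option autoImplicit false

universe u

open CategoryTheory CategoryTheory.Limits AlgebraicGeometry TopologicalSpace Opposite
open scoped HomogeneousIdeal

noncomputable section

namespace Groth.Agent.EGAProj74

section ring

variable {A σ : Type u} [CommRing A] [SetLike σ A] [AddSubgroupClass σ A] {𝒜 : ℕ → σ} [GradedRing 𝒜]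

/-- A standard open is empty exactly when the element is nilpotent. -/
theorem isNilpotent_iff_basicOpen_eq_bot {d : ℕ} (hd : 0 < d) {a : A} (ha : a ∈ 𝒜 d) :
    IsNilpotent a ↔ Proj.basicOpen 𝒜 a = ⊥ := by
  refine ⟨fun h => le_bot_iff.mp fun x hx => ?_, fun h => ?_⟩
  · obtain ⟨k, hk⟩ := h
    exact (Proj.mem_basicOpen 𝒜 a x).mp hx (x.isPrime.mem_of_pow_mem k (hk ▸ zero_mem _))
  have hirr := HomogeneousIdeal.mem_irrelevant_of_mem 𝒜 hd ha
  have hh : (⊥ : Ideal A).IsHomogeneous 𝒜 :=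
    HomogeneousIdeal.toIdeal_bot (𝒜 := 𝒜) ▸ (⊥ : HomogeneousIdeal 𝒜).isHomogeneous
  rw [← mem_nilradical, nilradical, Ideal.zero_eq_bot,
    Ideal.IsHomogeneous.radical_eq (𝒜 := 𝒜) (I := (⊥ : Ideal A)) hh]
  refine Submodule.mem_sInf.mpr fun J hJ => ?_
  by_contra haJ
  obtain ⟨hJh, -, hJp⟩ := hJ
  let x : Proj 𝒜 := (⟨⟨J, hJh⟩, hJp, fun hle => haJ (hle hirr)⟩ : ProjectiveSpectrum 𝒜)
  have hx : x ∈ Proj.basicOpen 𝒜 a := (Proj.mem_basicOpen 𝒜 a x).mpr haJ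
  rw [h] at hx
  exact hx

theorem exists_mem_basicOpen {d : ℕ} (hd : 0 < d) {a : A} (ha : a ∈ 𝒜 d) (h : ¬ IsNilpotent a) :
    ∃ x : Proj 𝒜, x ∈ Proj.basicOpen 𝒜 a := by
  by_contra! h'
  exact h ((isNilpotent_iff_basicOpen_eq_bot hd ha).mpr (le_bot_iff.mp fun x hx => h' x hx))

theorem exists_pos_notMem (x : Proj 𝒜) :
    ∃ (e : ℕ) (g : A), 0 < e ∧ g ∈ 𝒜 e ∧ x ∈ Proj.basicOpen 𝒜 g := by
  by_contra! h
  refine (x : ProjectiveSpectrum 𝒜).not_irrelevant_le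
    (irrelevant_toIdeal_le_span.trans (Ideal.span_le.mpr ?_))
  rintro a ⟨e, he, ha⟩
  exact not_not.mp fun hax => h e a he ha ((Proj.mem_basicOpen 𝒜 a x).mpr hax)

/-- The standard opens of positive degree form a basis. -/
theorem exists_basicOpen_le {x : Proj 𝒜} {O : (Proj 𝒜).Opens} (hx : x ∈ O) :
    ∃ (d : ℕ) (f : A), 0 < d ∧ f ∈ 𝒜 d ∧ x ∈ Proj.basicOpen 𝒜 f ∧ Proj.basicOpen 𝒜 f ≤ O := by
  classical
  obtain ⟨_, ⟨a, rfl⟩, hxa, haO⟩ :=
    (ProjectiveSpectrum.isTopologicalBasis_basic_opens 𝒜).exists_subset_of_mem_open hx O.2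
  obtain ⟨e, g, he, hg, hxg⟩ := exists_pos_notMem x
  have hxa' : x ∈ Proj.basicOpen 𝒜 a := hxa
  rw [Proj.basicOpen_eq_iSup_proj, Opens.mem_iSup] at hxa'
  obtain ⟨i, hi⟩ := hxa'
  refine ⟨i + e, GradedRing.proj 𝒜 i a * g, by omega, SetLike.mul_mem_graded (SetLike.coe_mem _) hg,
    by rw [Proj.basicOpen_mul]; exact ⟨hi, hxg⟩, fun y hy => haO ?_⟩
  rw [Proj.basicOpen_mul] at hy
  have hy' : y ∈ Proj.basicOpen 𝒜 a := by
    rw [Proj.basicOpen_eq_iSup_proj, Opens.mem_iSup]; exact ⟨i, hy.1⟩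
  exact hy'

end ring

section res

variable {S : Scheme.{u}} {𝒮 : RelProj.QCGrAlg S} {P : Scheme.{u}} {p : P ⟶ S}
  {chart : ∀ (U : S.Opens) (hU : IsAffineOpen U), (((p ⁻¹ᵁ U : P.Opens) : Scheme.{u}) ≅ Proj (𝒮.deg U hU))}
  (hP : RelProj.IsRelProj 𝒮 p chart)

include hP

theorem mem_basicOpen_res_iff {U D : S.Opens} (hU : IsAffineOpen U) (hD : IsAffineOpen D) (i : D ≤ U)
    {y : Proj (𝒮.deg U hU)} {y' : Proj (𝒮.deg D hD)}
    (e : (RelProj.emb p chart U hU).base y = (RelProj.emb p chart D hD).base y') (t : 𝒮.presheaf.obj (op U)) :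
    y ∈ Proj.basicOpen (𝒮.deg U hU) t ↔
      y' ∈ Proj.basicOpen (𝒮.deg D hD) ((𝒮.presheaf.map (homOfLE i).op).hom t) := by
  have hy : (Proj.map (𝒮.res hU hD i) (irrelevant_le_map_res 𝒮 hU hD i)).base y' = y := by
    refine (RelProj.emb p chart U hU).isOpenEmbedding.injective ?_
    rw [e, ← map_res_emb' hP hU hD i]
    rfl
  exact hy ▸ SetLike.ext_iff.mp (Proj.map_preimage_basicOpen (𝒮.res hU hD i) (irrelevant_le_map_res 𝒮 hU hD i) t) y'

omit hP in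
theorem exists_lift_res {U D : S.Opens} (hU : IsAffineOpen U) (hD : IsAffineOpen D)
    {y : Proj (𝒮.deg U hU)} (hy : p.base ((RelProj.emb p chart U hU).base y) ∈ D) :
    ∃ y' : Proj (𝒮.deg D hD), (RelProj.emb p chart U hU).base y = (RelProj.emb p chart D hD).base y' := by
  obtain ⟨y', hy'⟩ : (RelProj.emb p chart U hU).base y ∈ (RelProj.emb p chart D hD).opensRange := by
    rw [opensRange_emb]; exact hy
  exact ⟨y', hy'.symm⟩

omit hP in
theorem exists_lift (x : P) {D : S.Opens} (hD : IsAffineOpen D) (hx : p.base x ∈ D) :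
    ∃ y : Proj (𝒮.deg D hD), (RelProj.emb p chart D hD).base y = x := by
  obtain ⟨y, hy⟩ : x ∈ (RelProj.emb p chart D hD).opensRange := by rw [opensRange_emb]; exact hx
  exact ⟨y, hy⟩

omit hP in
theorem emb_mem (U : S.Opens) (hU : IsAffineOpen U) (y : Proj (𝒮.deg U hU)) :
    p.base ((RelProj.emb p chart U hU).base y) ∈ U := by
  change (RelProj.emb p chart U hU).base y ∈ p ⁻¹ᵁ U
  rw [← opensRange_emb (chart := chart) U hU]
  exact ⟨y, rfl⟩

end res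

section qmap

variable {S S' : Scheme.{u}} {g : S' ⟶ S} {𝒮 : RelProj.QCGrAlg S} {𝒮' : RelProj.QCGrAlg S'}
  (u : RelProj.QGrHom g 𝒮 𝒮')
  {P' : Scheme.{u}} {p' : P' ⟶ S'}
  {chart' : ∀ (U' : S'.Opens) (hU' : IsAffineOpen U'), (((p' ⁻¹ᵁ U' : P'.Opens) : Scheme.{u}) ≅ Proj (𝒮'.deg U' hU'))}
  {P : Scheme.{u}} {p : P ⟶ S}
  {chart : ∀ (U : S.Opens) (hU : IsAffineOpen U), (((p ⁻¹ᵁ U : P.Opens) : Scheme.{u}) ≅ Proj (𝒮.deg U hU))}

theorem emb_mem_domQ_of_mem_basicOpen {U : S.Opens} (hU : IsAffineOpen U) {U' : S'.Opens} (hU' : IsAffineOpen U')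
    (hle : U' ≤ g ⁻¹ᵁ U) {d : ℕ} (hd : 0 < d) {f : 𝒮.presheaf.obj (op U)} (hf : f ∈ 𝒮.deg U hU d)
    {y : Proj (𝒮'.deg U' hU')} (hy : y ∈ Proj.basicOpen (𝒮'.deg U' hU') ((u.appLE U U' hle).hom f)) :
    (RelProj.emb p' chart' U' hU').base y ∈ RelProj.domQ u p' chart' :=
  Opens.mem_iSup.mpr ⟨⟨(⟨U, hU⟩, ⟨U', hU'⟩), hle⟩, y,
    basicOpen_le_domOpen (u.gradedAt U hU U' hU' hle) hd hf hy, rfl⟩

variable {u} {r : (RelProj.domQ u p' chart' : Scheme.{u}) ⟶ P}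
  (hr : RelProj.IsProjQMapOn u p chart p' chart' (RelProj.domQ u p' chart') r)
  (hP' : RelProj.IsRelProj 𝒮' p' chart')

include hr hP'

theorem qmap_mem_basicOpen_iff {U : S.Opens} (hU : IsAffineOpen U) {U' : S'.Opens} (hU' : IsAffineOpen U')
    (hle : U' ≤ g ⁻¹ᵁ U) {d : ℕ} (hd : 0 < d) {f : 𝒮.presheaf.obj (op U)} (hf : f ∈ 𝒮.deg U hU d)
    (z : (RelProj.domQ u p' chart' : Scheme.{u})) (y : Proj (𝒮'.deg U' hU'))
    (hz : (RelProj.emb p' chart' U' hU').base y = (RelProj.domQ u p' chart').ι.base z) :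
    r.base z ∈ RelProj.emb p chart U hU ''ᵁ Proj.basicOpen (𝒮.deg U hU) f ↔
      y ∈ Proj.basicOpen (𝒮'.deg U' hU') ((u.appLE U U' hle).hom f) := by
  have hy : y ∈ RelCone.domOpen (u.gradedAt U hU U' hU' hle) :=
    (emb_mem_domQ_iff u hP' hU hU' hle y).mp (by rw [hz]; exact z.2)
  have hq : (qι u U hU U' hU' hle).base ⟨y, hy⟩ = z :=
    (RelProj.domQ u p' chart').ι.isOpenEmbedding.injective
      ((qι_base u U hU U' hU' hle ⟨y, hy⟩).trans hz)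
  have hrz : r.base z = (RelProj.emb p chart U hU).base ((domMap (u.gradedAt U hU U' hU' hle)).base ⟨y, hy⟩) := by
    rw [← hq]
    exact congr($((isProjQMapOn_iff u).mp hr U hU U' hU' hle).base ⟨y, hy⟩)
  rw [hrz]
  refine Iff.trans ⟨fun ⟨w, hw, hwe⟩ => (RelProj.emb p chart U hU).isOpenEmbedding.injective hwe ▸ hw,
    fun h => ⟨_, h, rfl⟩⟩ ?_
  exact not_iff_not.mpr (mem_domMap_iff (u.gradedAt U hU U' hU' hle) ⟨y, hy⟩ hd hf)

/-- A point sent into `p⁻¹(U)` lies over an affine pair with first member `U`. -/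
theorem exists_pair_over (hP : RelProj.IsRelProj 𝒮 p chart) {U : S.Opens}
    (z : (RelProj.domQ u p' chart' : Scheme.{u})) (hz : p.base (r.base z) ∈ U) :
    ∃ (U' : S'.Opens) (hU' : IsAffineOpen U') (_ : U' ≤ g ⁻¹ᵁ U) (y : Proj (𝒮'.deg U' hU')),
      (RelProj.emb p' chart' U' hU').base y = (RelProj.domQ u p' chart').ι.base z := by
  have h : p.base (r.base z) = g.base (p'.base ((RelProj.domQ u p' chart').ι.base z)) :=
    congr($(projQMapOn_over u hP' hP hr).base z)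
  obtain ⟨_, ⟨U', hU', rfl⟩, hzU', hle⟩ := (Scheme.isBasis_affineOpens S').exists_subset_of_mem_open
    (show p'.base ((RelProj.domQ u p' chart').ι.base z) ∈ g ⁻¹ᵁ U from (show g.base _ ∈ U from h ▸ hz))
    (g ⁻¹ᵁ U).2
  obtain ⟨y, hy⟩ := exists_lift (chart := chart') ((RelProj.domQ u p' chart').ι.base z) hU' hzU'
  exact ⟨U', hU', hle, y, hy⟩

theorem isDominant_qmap_iff (hP : RelProj.IsRelProj 𝒮 p chart) :
    IsDominant r ↔ ∀ (U : S.Opens) (hU : IsAffineOpen U) (d : ℕ), 0 < d → ∀ f ∈ 𝒮.deg U hU d,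
      ¬ IsNilpotent f → ∃ (U' : S'.Opens) (hU' : IsAffineOpen U') (hle : U' ≤ g ⁻¹ᵁ U),
        ¬ IsNilpotent ((u.appLE U U' hle).hom f) := by
  constructor
  · intro h U hU d hd f hf hnil
    obtain ⟨x, hx⟩ := exists_mem_basicOpen hd hf hnil
    obtain ⟨_, hz, ⟨z, rfl⟩⟩ := dense_iff_inter_open.mp h.denseRange
      (RelProj.emb p chart U hU ''ᵁ Proj.basicOpen (𝒮.deg U hU) f : P.Opens)
      (RelProj.emb p chart U hU ''ᵁ Proj.basicOpen (𝒮.deg U hU) f : P.Opens).2 ⟨_, x, hx, rfl⟩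
    obtain ⟨U', hU', hle, y, hy⟩ := exists_pair_over hr hP' hP (U := U) z (by
      obtain ⟨w, -, hw⟩ := hz
      rw [← hw]; exact emb_mem U hU w)
    refine ⟨U', hU', hle, fun hn => ?_⟩
    have := (qmap_mem_basicOpen_iff hr hP' hU hU' hle hd hf z y hy).mp hz
    have hb := (isNilpotent_iff_basicOpen_eq_bot (𝒜 := 𝒮'.deg U' hU') hd (a := (u.appLE U U' hle).hom f)
      ((u.gradedAt U hU U' hU' hle).map_mem hf)).mp hn
    rw [hb] at this
    exact this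
  · intro h
    refine ⟨dense_iff_inter_open.mpr fun O hO hne => ?_⟩
    obtain ⟨x, hx⟩ := hne
    obtain ⟨U, hU, y, rfl⟩ := exists_emb_apply (chart := chart) x
    obtain ⟨d, f, hd, hf, hyf, hfO⟩ := exists_basicOpen_le (O := RelProj.emb p chart U hU ⁻¹ᵁ ⟨O, hO⟩) hx
    obtain ⟨U', hU', hle, hn⟩ := h U hU d hd f hf fun hn => by
      rw [(isNilpotent_iff_basicOpen_eq_bot hd hf).mp hn] at hyf; exact hyf
    obtain ⟨w, hw⟩ := exists_mem_basicOpen hd ((u.gradedAt U hU U' hU' hle).map_mem hf) hn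
    let z : (RelProj.domQ u p' chart' : Scheme.{u}) :=
      ⟨_, emb_mem_domQ_of_mem_basicOpen u hU hU' hle hd hf (p' := p') (chart' := chart') hw⟩
    obtain ⟨v, hv, hve⟩ := (qmap_mem_basicOpen_iff hr hP' hU hU' hle hd hf z w rfl).mpr hw
    exact ⟨r.base z, hve ▸ hfO hv, ⟨z, rfl⟩⟩

end qmap

end Groth.Agent.EGAProj74
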