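import Groth.Agent.EGAProj74.BasisIso
import Groth.Agent.EGAProj74.QMapPre
import Groth.Agent.EGAProj74.GrT.TildeQCoh
import Groth.Prelude.Def_RelProj3

/-!
When the comparison `M(n)~ ⟶ Φ_*(N(n)~)` is an isomorphism.
-/

set_option autoImplicit false
set_option backward.isDefEq.respectTransparency.types false

universe u

open CategoryTheory CategoryTheory.Limits AlgebraicGeometry TopologicalSpace Opposite
open scoped HomogeneousIdeal

noncomputable section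

namespace Groth.Agent.EGAProj74

variable {A σ : Type u} [CommRing A] [SetLike σ A] [AddSubgroupClass σ A] {𝒜 : ℕ → σ}
  [GradedRing 𝒜] {B σ' : Type u} [CommRing B] [SetLike σ' B] [AddSubgroupClass σ' B] {ℬ : ℕ → σ'} [GradedRing ℬ]
  (ψ : 𝒜 →+*ᵍ ℬ) (hψ : ℬ₊ ≤ (𝒜₊).map ψ)
  {M τ : Type u} [AddCommGroup M] [Module A M] [SetLike τ M] [AddSubgroupClass τ M] {ℳ : ℕ → τ}
  [SetLike.GradedSMul 𝒜 ℳ] [DirectSum.Decomposition ℳ]
  {N τ' : Type u} [AddCommGroup N] [Module B N] [SetLike τ' N] [AddSubgroupClass τ' N] {𝒩 : ℕ → τ'}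
  [SetLike.GradedSMul ℬ 𝒩] [DirectSum.Decomposition 𝒩]
  (v : M →ₛₗ[ψ.toRingHom] N) (hv : ∀ (i : ℕ) (m : M), m ∈ ℳ i → v m ∈ 𝒩 i)

include hv in
theorem isIso_comap_of
    (hinj : ∀ (d : ℕ), 0 < d → ∀ g ∈ 𝒜 d, ∀ (i : ℕ), ∀ m ∈ ℳ i, ∀ K : ℕ, ψ g ^ K • v m = 0 →
      ∃ K' : ℕ, g ^ K' • m = 0)
    (hsurj : ∀ (d : ℕ), 0 < d → ∀ g ∈ 𝒜 d, ∀ (i : ℕ), ∀ n' ∈ 𝒩 i,
      ∃ (K : ℕ) (m : M), m ∈ ℳ (K * d + i) ∧ v m = ψ g ^ K • n')
    (n : ℤ) : IsIso (GrMod.comap ψ hψ v hv n) := by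
  refine isIso_of_basis _ {W | ∃ (d : ℕ) (_ : 0 < d) (g : A) (_ : g ∈ 𝒜 d), W = Proj.basicOpen 𝒜 g} ?_ ?_
  · intro W z hz
    obtain ⟨d, g, hd, hg, hzg, hgW⟩ := exists_basicOpen_le (O := W) hz
    exact ⟨_, ⟨d, hd, g, hg, rfl⟩, hzg, hgW⟩
  rintro _ ⟨d, hd, g, hg, rfl⟩
  have hmem : ∀ x : (Proj.map ψ hψ ⁻¹ᵁ Proj.basicOpen 𝒜 g : (Proj ℬ).Opens),
      ψ g ∉ x.1.asHomogeneousIdeal := fun x => x.2
  constructor
  · refine (injective_iff_map_eq_zero ((GrMod.comap ψ hψ v hv n).app (Proj.basicOpen 𝒜 g)).hom).mpr fun s hs => ?_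
    obtain ⟨k, i, m, hm, hi, hts⟩ := GrT.exists_frac_eq hd hg
      (s : GrMod.sect 𝒜 ℳ n (op (ProjectiveSpectrum.basicOpen 𝒜 g)))
    obtain ⟨K, hK⟩ := GrT.exists_pow_smul_eq_zero_of_frac (ℳ := 𝒩) hd (ψ.map_mem hg) (hv i m hm)
      (h := ψ g ^ k) (fun x => GrT.pow_notMem x.2 k) (fun x => by
        have h0 := congrArg (fun q : Γ((Scheme.Modules.pushforward (Proj.map ψ hψ)).obj (GrMod.tilde ℬ 𝒩 n),
          Proj.basicOpen 𝒜 g) => GrMod.val (V := Proj.map ψ hψ ⁻¹ᵁ Proj.basicOpen 𝒜 g) q ⟨x.1, x.2⟩) hs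
        have e := GrMod.comap_app_val ψ hψ v hv n (Proj.basicOpen 𝒜 g) s ⟨x.1, x.2⟩
        have e' := e.trans (congrArg (GrMod.locModMap ψ hψ v x.1) (hts ⟨ProjectiveSpectrum.comap ψ hψ x.1, x.2⟩))
        refine Eq.trans ?_ (e'.symm.trans h0)
        erw [GrMod.locModMap_mk]
        exact GrT.frac_congr (by rw [map_pow]))
    obtain ⟨K', hK'⟩ := hinj d hd g hg i m hm K hK
    refine GrT.sect_ext fun x => (hts x).trans ?_
    exact GrT.frac_eq_zero_iff.mpr ⟨g ^ K', GrT.pow_notMem x.2 K', hK'⟩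
  · intro t
    obtain ⟨k, i, n', hn', hi, hts⟩ := GrT.exists_frac_eq (ℳ := 𝒩) hd (ψ.map_mem hg)
      (t : GrMod.sect ℬ 𝒩 n (op (ProjectiveSpectrum.basicOpen ℬ (ψ g))))
    obtain ⟨K, m, hm, hvm⟩ := hsurj d hd g hg i n' hn'
    have hden : g ^ (K + k) ∈ 𝒜 ((K + k) * d) := by simpa using SetLike.pow_mem_graded (K + k) hg
    refine ⟨GrT.fracSect (U := ProjectiveSpectrum.basicOpen 𝒜 g) (n := n) hm hden
      (fun x => GrT.pow_notMem x.2 _) (by push_cast; rw [hi]; ring), Subtype.ext (funext fun x => Subtype.ext ?_)⟩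
    refine (GrMod.comap_app_val ψ hψ v hv n (Proj.basicOpen 𝒜 g) _ x).trans ?_
    refine Eq.trans ?_ (hts x).symm
    erw [GrMod.locModMap_mk]
    exact GrT.frac_congr (by rw [hvm, map_pow, smul_smul, pow_add, mul_comm]; rfl)

include hv in
theorem isIso_comap_of_bijective (hbij : Function.Bijective v) (n : ℤ) : IsIso (GrMod.comap ψ hψ v hv n) := by
  classical
  refine isIso_comap_of ψ hψ v hv (fun d _ g _ i m _ K h => ⟨K, hbij.1 ?_⟩) (fun d _ g _ i n' hn' => ?_) n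
  · rw [map_zero, LinearMap.map_smulₛₗ, map_pow]
    exact h
  · obtain ⟨m, rfl⟩ := hbij.2 n'
    have key : ∀ y : M, v (DirectSum.decompose ℳ y i) = DirectSum.decompose 𝒩 (v y) i := by
      intro y
      induction y using DirectSum.Decomposition.inductionOn ℳ with
      | zero => simp
      | @homogeneous l y =>
        by_cases hlk : l = i
        · subst hlk
          rw [DirectSum.decompose_of_mem_same _ y.2, DirectSum.decompose_of_mem_same _ (hv _ _ y.2)]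
        · rw [DirectSum.decompose_of_mem_ne _ y.2 hlk, DirectSum.decompose_of_mem_ne _ (hv _ _ y.2) hlk, map_zero]
      | add p q hp hq => simp [DirectSum.decompose_add, hp, hq]
    refine ⟨0, DirectSum.decompose ℳ m i, by rw [zero_mul, zero_add]; exact SetLike.coe_mem _, ?_⟩
    rw [pow_zero, one_smul, key, DirectSum.decompose_of_mem_same _ hn']

end Groth.Agent.EGAProj74
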