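import Groth.Agent.EGAProj74.VeryAmpleData
import Groth.Agent.EGAProj74.BundleEpi
import Groth.Agent.Amp73.Local
import Groth.Agent.Amp73.GlobGen

/-!
Tensor products of very ample modules.
-/

set_option autoImplicit false
set_option backward.isDefEq.respectTransparency.types false

universe u

open CategoryTheory CategoryTheory.Limits AlgebraicGeometry TopologicalSpace Opposite
open scoped HomogeneousIdeal

noncomputable section

namespace Groth.Agent.EGAProj74

open Var76.LineBundle Var76.ZeroScheme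

variable {X S : Scheme.{u}} {g : X ⟶ S} {L L' : X.Modules} {E E' : S.Modules}
  (v : E ⟶ (Scheme.Modules.pushforward g).obj L) (v' : E' ⟶ (Scheme.Modules.pushforward g).obj L')

/-- The pairing of two data. -/
def dataPairing : Mero90.Pairing E E' ((Scheme.Modules.pushforward g).obj (CohB1.tensorMod L L')) where
  b U m n := Amp73.tm L L' (v.app U m) (v'.app U n)
  add_left U m m' n := by rw [map_add]; exact Amp73.tm_add_left _ _ _
  add_right U m n n' := by rw [map_add]; exact Amp73.tm_add_right _ _ _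
  smul_left U r m n := by
    rw [Scheme.Modules.Hom.app_smul]
    exact Amp73.tm_smul_left (g.app U r) (v.app U m) (v'.app U n)
  smul_right U r m n := by
    rw [Scheme.Modules.Hom.app_smul]
    exact Amp73.tm_smul_right (g.app U r) (v.app U m) (v'.app U n)
  nat U V h m n := by
    refine (congrArg₂ (Amp73.tm L L') (mres_app v h m) (mres_app v' h n)).trans ?_
    exact (Amp73.res_tm (g.preimage_mono h) _ _).symm

/-- The product of two data. -/
abbrev tensData : CohB1.tensorMod E E' ⟶ (Scheme.Modules.pushforward g).obj (CohB1.tensorMod L L') :=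
  (dataPairing v v').lift

theorem res_tensData (U : S.Opens) (m : Γ(E, U)) (n : Γ(E', U)) {V : X.Opens} (hV : V ≤ g ⁻¹ᵁ U) :
    res _ hV ((tensData v v').app U (Amp73.tm E E' m n)) =
      Amp73.tm L L' (res L hV (v.app U m)) (res L' hV (v'.app U n)) :=
  (congrArg (res _ hV) ((dataPairing v v').lift_tmul U m n)).trans (Amp73.res_tm hV _ _)

variable {v v'}

theorem isImmData_tensor (hE : Coh.IsQCoh E) (hE' : Coh.IsQCoh E') (hL : PicF.IsInvertible L)
    (hL' : PicF.IsInvertible L') (h : IsImmData v) (h' : IsGenerating v') : IsImmData (tensData v v') := by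
  have key : ∀ (U : S.affineOpens) (e : Γ(E, U.1)) (e' : Γ(E', U.1)),
      genOpen (tensData v v') U (Amp73.tm E E' e e') ≤ genOpen v U e := by
    intro U e e'
    refine le_genOpen genOpen_le (Amp73.isFrame_of_locally _ fun x hx => ?_)
    obtain ⟨W, hxW, hW, b, hb⟩ := Mero90.exists_affine_frame hL' x _ hx
    obtain ⟨W₂, hxW₂, hW₂, a, ha⟩ := Mero90.exists_affine_frame hL x W.1 hxW
    have i : W₂.1 ≤ genOpen (tensData v v') U (Amp73.tm E E' e e') := hW₂.trans hW
    refine ⟨W₂.1, i, hxW₂, ?_⟩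
    have hb' := hb.res hW₂
    have hfr := (isFrame_genOpen (v := tensData v v') (U := U) (e := Amp73.tm E E' e e')).res i
    rw [res_res, res_tensData] at hfr
    obtain ⟨c, hc⟩ := (ha W₂.1 le_rfl).2 (res L (i.trans genOpen_le) (v.app U.1 e))
    obtain ⟨d, hd⟩ := (hb' W₂.1 le_rfl).2 (res L' (i.trans genOpen_le) (v'.app U.1 e'))
    dsimp only at hc hd
    rw [Amp73.res_self] at hc hd
    rw [← hc, ← hd, Amp73.tm_smul, Amp73.isFrame_smul_iff (Amp73.isFrame_tm ha hb')] at hfr
    rw [res_res, ← hc, Amp73.isFrame_smul_iff ha]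
    exact isUnit_of_mul_isUnit_left hfr
  have hcovx : ∀ x : X, ∃ (U : S.affineOpens) (e : Γ(E, U.1)) (e' : Γ(E', U.1)),
      x ∈ genOpen (tensData v v') U (Amp73.tm E E' e e') := by
    intro x
    obtain ⟨U₁, e, V, hV, hx, hfr⟩ := h.1 x
    obtain ⟨U₂, e', V', hV', hx', hfr'⟩ := h' x
    obtain ⟨_, ⟨W, hW, rfl⟩, hxW, hWU⟩ := (Scheme.isBasis_affineOpens S).exists_subset_of_mem_open
      (show g x ∈ ((U₁.1 ⊓ U₂.1 : S.Opens) : Set S) from ⟨hV hx, hV' hx'⟩) (U₁.1 ⊓ U₂.1).isOpen
    have h₁ : W ≤ U₁.1 := fun z hz => (hWU hz).1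
    have h₂ : W ≤ U₂.1 := fun z hz => (hWU hz).2
    let V₀ : X.Opens := V ⊓ V' ⊓ g ⁻¹ᵁ W
    have i₁ : V₀ ≤ V := inf_le_left.trans inf_le_left
    have i₂ : V₀ ≤ V' := inf_le_left.trans inf_le_right
    have hV₀ : V₀ ≤ g ⁻¹ᵁ W := inf_le_right
    refine ⟨⟨W, hW⟩, res E h₁ e, res E' h₂ e', le_genOpen (v := tensData v v') (U := ⟨W, hW⟩) (e := Amp73.tm E E' (res E h₁ e) (res E' h₂ e')) hV₀ ?_ (show x ∈ V₀ from ⟨⟨hx, hx'⟩, hxW⟩)⟩
    have f1 := hfr.res i₁
    have f2 := hfr'.res i₂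
    rw [res_res] at f1 f2
    rw [res_tensData, vres_nat v h₁ hV₀, vres_nat v' h₂ hV₀]
    exact Amp73.isFrame_tm f1 f2
  let ι : Type u := Σ U : S.affineOpens, Γ(E, U.1) × Γ(E', U.1)
  let ℓ : ∀ i : ι, Γ(E, i.1.1) →ₗ[Γ(S, i.1.1)] Γ(CohB1.tensorMod E E', i.1.1) := fun i =>
    { toFun := fun m => Amp73.tm E E' m i.2.2
      map_add' := fun a b => Amp73.tm_add_left a b i.2.2
      map_smul' := fun r a => Amp73.tm_smul_left r a i.2.2 }
  refine isImmData_of_transfer hE (Amp73.isQCoh_tensorMod hE hE') h ?_ (fun i : ι => i.1) (fun i => i.2.1) ℓ ?_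
    (fun i => key i.1 i.2.1 i.2.2) ?_
  · intro x
    obtain ⟨U, e, e', hx⟩ := hcovx x
    exact ⟨U, Amp73.tm E E' e e', _, genOpen_le, hx, isFrame_genOpen⟩
  · intro x
    obtain ⟨U, e, e', hx⟩ := hcovx x
    exact ⟨⟨U, e, e'⟩, hx⟩
  · intro i m a ha
    show a • res (CohB1.tensorMod L L') (genOpen_le (v := tensData v v') (U := i.1) (e := Amp73.tm E E' i.2.1 i.2.2))
        ((tensData v v').app i.1.1 (Amp73.tm E E' i.2.1 i.2.2)) =
      res (CohB1.tensorMod L L') (genOpen_le (v := tensData v v') (U := i.1) (e := Amp73.tm E E' i.2.1 i.2.2))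
        ((tensData v v').app i.1.1 (Amp73.tm E E' m i.2.2))
    rw [res_tensData, res_tensData, ← Amp73.tm_smul_left]
    exact congrArg (fun q => Amp73.tm L L' q _) ha

theorem isRelVeryAmple_tensor (hL : PicF.IsInvertible L) (hva : RelProj.IsRelVeryAmple g L)
    (hL' : PicF.IsInvertible L') (hE' : Coh.IsQCoh E') (s : (Scheme.Modules.pullback g).obj E' ⟶ L') [Epi s] :
    RelProj.IsRelVeryAmple g (CohB1.tensorMod L L') := by
  obtain ⟨E, v, hE, hv⟩ := exists_immData hva
  exact (isImmData_tensor hE hE' hL hL' hv (isGenerating_homEquiv hE' hL' s)).isRelVeryAmple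
    (Amp73.isQCoh_tensorMod hE hE')

theorem isRelVeryAmple_tensor_of_veryAmple (hL : PicF.IsInvertible L) (hL' : PicF.IsInvertible L')
    (hva : RelProj.IsRelVeryAmple g L) (hva' : RelProj.IsRelVeryAmple g L') :
    RelProj.IsRelVeryAmple g (CohB1.tensorMod L L') := by
  obtain ⟨E, v, hE, hv⟩ := exists_immData hva
  obtain ⟨E', v', hE', hv'⟩ := exists_immData hva'
  exact (isImmData_tensor hE hE' hL hL' hv hv'.1).isRelVeryAmple (Amp73.isQCoh_tensorMod hE hE')

end Groth.Agent.EGAProj74
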