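import Groth.Agent.EGAProj74.BundleProjection
import Groth.Agent.EGAProj74.VeryAmpleTensor

/-!
External tensor products of very ample modules.
-/

set_option autoImplicit false
set_option backward.isDefEq.respectTransparency.types false

universe u

open CategoryTheory CategoryTheory.Limits AlgebraicGeometry TopologicalSpace Opposite
open scoped HomogeneousIdeal

noncomputable section

namespace Groth.Agent.EGAProj74

open Var76.LineBundle Var76.ZeroScheme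

theorem isFrame_of_isFrame_tm {X : Scheme.{u}} {L L' : X.Modules} (hL : PicF.IsInvertible L)
    (hL' : PicF.IsInvertible L') {U : X.Opens} {m : Γ(L, U)} {n : Γ(L', U)}
    (h : IsFrame (CohB1.tensorMod L L') U (Amp73.tm L L' m n)) : IsFrame L U m ∧ IsFrame L' U n := by
  have key : ∀ x ∈ U, ∃ (W : X.Opens) (hW : W ≤ U), x ∈ W ∧ IsFrame L W (res L hW m) ∧ IsFrame L' W (res L' hW n) := by
    intro x hx
    obtain ⟨W, hxW, hW, b, hb⟩ := Mero90.exists_affine_frame hL' x _ hx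
    obtain ⟨W₂, hxW₂, hW₂, a, ha⟩ := Mero90.exists_affine_frame hL x W.1 hxW
    have i : W₂.1 ≤ U := hW₂.trans hW
    have hb' := hb.res hW₂
    have hfr := h.res i
    rw [Amp73.res_tm] at hfr
    obtain ⟨c, hc⟩ := (ha W₂.1 le_rfl).2 (res L i m)
    obtain ⟨d, hd⟩ := (hb' W₂.1 le_rfl).2 (res L' i n)
    dsimp only at hc hd
    rw [Amp73.res_self] at hc hd
    rw [← hc, ← hd, Amp73.tm_smul, Amp73.isFrame_smul_iff (Amp73.isFrame_tm ha hb')] at hfr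
    refine ⟨W₂.1, i, hxW₂, ?_, ?_⟩
    · rw [← hc, Amp73.isFrame_smul_iff ha]; exact isUnit_of_mul_isUnit_left hfr
    · rw [← hd, Amp73.isFrame_smul_iff hb']; exact isUnit_of_mul_isUnit_right hfr
  exact ⟨Amp73.isFrame_of_locally m fun x hx => by obtain ⟨W, hW, hxW, h1, -⟩ := key x hx; exact ⟨W, hW, hxW, h1⟩,
    Amp73.isFrame_of_locally n fun x hx => by obtain ⟨W, hW, hxW, -, h2⟩ := key x hx; exact ⟨W, hW, hxW, h2⟩⟩

theorem exists_castData {X S : Scheme.{u}} {E : S.Modules} {L : X.Modules} {g g' : X ⟶ S} (hg : g = g')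
    (v : E ⟶ (Scheme.Modules.pushforward g).obj L) (hv : IsGenerating v) :
    ∃ v' : E ⟶ (Scheme.Modules.pushforward g').obj L, IsGenerating v' ∧
      ∀ (U : S.Opens) (e : Γ(E, U)) (V : X.Opens) (h : V ≤ g ⁻¹ᵁ U) (h' : V ≤ g' ⁻¹ᵁ U),
        res L h' (v'.app U e) = res L h (v.app U e) := by
  subst hg
  exact ⟨v, hv, fun _ _ _ _ _ => rfl⟩

theorem res_of_adj {X Q S : Scheme.{u}} {E : S.Modules} {M : X.Modules} {h : X ⟶ Q} {b : Q ⟶ S}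
    (w : (Scheme.Modules.pullback b).obj E ⟶ (Scheme.Modules.pushforward h).obj M) {U : S.Opens} {W : Q.Opens}
    (hW : W ≤ b ⁻¹ᵁ U) (e : Γ(E, U)) {V : X.Opens} (hV : V ≤ h ⁻¹ᵁ W) :
    res M hV (w.app W (res _ hW (Amp73.pullS b E U e))) =
      res M (show V ≤ (h ≫ b) ⁻¹ᵁ U from hV.trans (h.preimage_mono hW)) ((adjData w).app U e) := by
  rw [vres_nat w hW hV, adjData_app]
  rfl

set_option maxHeartbeats 1000000 in
theorem isRelVeryAmple_prod {S X₁ X₂ Y₁ Y₂ P Q : Scheme.{u}} (y₁ : Y₁ ⟶ S) (y₂ : Y₂ ⟶ S)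
    (f₁ : X₁ ⟶ Y₁) (f₂ : X₂ ⟶ Y₂) (p₁ : P ⟶ X₁) (p₂ : P ⟶ X₂) (hP : IsPullback p₁ p₂ (f₁ ≫ y₁) (f₂ ≫ y₂))
    (q₁ : Q ⟶ Y₁) (q₂ : Q ⟶ Y₂) (hQ : q₁ ≫ y₁ = q₂ ≫ y₂) (h : P ⟶ Q)
    (hh₁ : h ≫ q₁ = p₁ ≫ f₁) (hh₂ : h ≫ q₂ = p₂ ≫ f₂)
    (L₁ : X₁.Modules) (hL₁ : PicF.IsInvertible L₁) (hva₁ : RelProj.IsRelVeryAmple f₁ L₁)
    (L₂ : X₂.Modules) (hL₂ : PicF.IsInvertible L₂) (hva₂ : RelProj.IsRelVeryAmple f₂ L₂) :
    RelProj.IsRelVeryAmple h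
      (CohB1.tensorMod ((Scheme.Modules.pullback p₁).obj L₁) ((Scheme.Modules.pullback p₂).obj L₂)) := by
  obtain ⟨E₁, v₁, hE₁, hv₁, P₁, 𝒮₁, j₁, hj₁, π₁, chart₁, hP₁, r₁, hr₁, hc₁⟩ := exists_immData hva₁
  obtain ⟨E₂, v₂, hE₂, hv₂, P₂, 𝒮₂, j₂, hj₂, π₂, chart₂, hP₂, r₂, hr₂, hc₂⟩ := exists_immData hva₂
  obtain ⟨O₁, lam₁, hO₁⟩ := exists_isRelTwist (hP := hP₁) 1
  obtain ⟨O₂, lam₂, hO₂⟩ := exists_isRelTwist (hP := hP₂) 1
  obtain ⟨φ₁, hφ₁⟩ := exists_canonical hE₁ hj₁ hO₁ hP₁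
  obtain ⟨φ₂, hφ₂⟩ := exists_canonical hE₂ hj₂ hO₂ hP₂
  have hc₁' := hc₁.pull hE₁ hj₁ hO₁ hφ₁ (f := p₁) hv₁
  have hc₂' := hc₂.pull hE₂ hj₂ hO₂ hφ₂ (f := p₂) hv₂
  obtain ⟨a₁, ha₁, haeq₁⟩ := exists_castData hh₁.symm (pullData p₁ v₁) (hv₁.pull p₁ v₁)
  obtain ⟨a₂, ha₂, haeq₂⟩ := exists_castData hh₂.symm (pullData p₂ v₂) (hv₂.pull p₂ v₂)
  let M₁ := (Scheme.Modules.pullback p₁).obj L₁
  let M₂ := (Scheme.Modules.pullback p₂).obj L₂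
  let w₁ : (Scheme.Modules.pullback q₁).obj E₁ ⟶ (Scheme.Modules.pushforward h).obj M₁ :=
    ((Scheme.Modules.pullbackPushforwardAdjunction q₁).homEquiv E₁ ((Scheme.Modules.pushforward h).obj M₁)).symm a₁
  let w₂ : (Scheme.Modules.pullback q₂).obj E₂ ⟶ (Scheme.Modules.pushforward h).obj M₂ :=
    ((Scheme.Modules.pullbackPushforwardAdjunction q₂).homEquiv E₂ ((Scheme.Modules.pushforward h).obj M₂)).symm a₂
  have hw₁ : adjData w₁ = a₁ := Equiv.apply_symm_apply _ a₁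
  have hw₂ : adjData w₂ = a₂ := Equiv.apply_symm_apply _ a₂
  have hg₁ : IsGenerating w₁ := isGenerating_of_adjData w₁ (by rw [hw₁]; exact ha₁)
  have hg₂ : IsGenerating w₂ := isGenerating_of_adjData w₂ (by rw [hw₂]; exact ha₂)
  let E := CohB1.tensorMod ((Scheme.Modules.pullback q₁).obj E₁) ((Scheme.Modules.pullback q₂).obj E₂)
  have : E₁.IsQuasicoherent := hE₁
  have : E₂.IsQuasicoherent := hE₂
  have hE : Coh.IsQCoh E := Amp73.isQCoh_tensorMod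
    (QCPull72.isQuasicoherent_pullback q₁ E₁) (QCPull72.isQuasicoherent_pullback q₂ E₂)
  let v := tensData w₁ w₂
  -- the pieces
  let ι : Type u := Σ (U₁ : Y₁.affineOpens) (U₂ : Y₂.affineOpens)
    (W : {W : Q.affineOpens // W.1 ≤ q₁ ⁻¹ᵁ U₁.1 ∧ W.1 ≤ q₂ ⁻¹ᵁ U₂.1}), Γ(E₁, U₁.1) × Γ(E₂, U₂.1)
  let s₁ : ∀ i : ι, Γ(E₁, i.1.1) → Γ((Scheme.Modules.pullback q₁).obj E₁, i.2.2.1.1.1) :=
    fun i m => res _ i.2.2.1.2.1 (Amp73.pullS q₁ E₁ i.1.1 m)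
  let s₂ : ∀ i : ι, Γ(E₂, i.2.1.1) → Γ((Scheme.Modules.pullback q₂).obj E₂, i.2.2.1.1.1) :=
    fun i m => res _ i.2.2.1.2.2 (Amp73.pullS q₂ E₂ i.2.1.1 m)
  let t : ∀ i : ι, Γ(E, i.2.2.1.1.1) := fun i => Amp73.tm _ _ (s₁ i i.2.2.2.1) (s₂ i i.2.2.2.2)
  have hres₁ : ∀ (i : ι) (m : Γ(E₁, i.1.1)) (V : P.Opens) (hV : V ≤ h ⁻¹ᵁ i.2.2.1.1.1)
      (hV' : V ≤ (p₁ ≫ f₁) ⁻¹ᵁ i.1.1),
      res M₁ hV (w₁.app _ (s₁ i m)) = res M₁ hV' ((pullData p₁ v₁).app i.1.1 m) := fun i m V hV hV' => by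
    rw [res_of_adj, hw₁]; exact haeq₁ _ _ _ _ _
  have hres₂ : ∀ (i : ι) (m : Γ(E₂, i.2.1.1)) (V : P.Opens) (hV : V ≤ h ⁻¹ᵁ i.2.2.1.1.1)
      (hV' : V ≤ (p₂ ≫ f₂) ⁻¹ᵁ i.2.1.1),
      res M₂ hV (w₂.app _ (s₂ i m)) = res M₂ hV' ((pullData p₂ v₂).app i.2.1.1 m) := fun i m V hV hV' => by
    rw [res_of_adj, hw₂]; exact haeq₂ _ _ _ _ _
  have hMinv₁ : PicF.IsInvertible M₁ := Amp73.isInvertible_pullback p₁ hL₁
  have hMinv₂ : PicF.IsInvertible M₂ := Amp73.isInvertible_pullback p₂ hL₂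
  have hle₁' : ∀ i : ι, genOpen v i.2.2.1.1 (t i) ≤ (p₁ ≫ f₁) ⁻¹ᵁ i.1.1 := fun i => by
    rw [← hh₁]; exact genOpen_le.trans (h.preimage_mono i.2.2.1.2.1)
  have hle₂' : ∀ i : ι, genOpen v i.2.2.1.1 (t i) ≤ (p₂ ≫ f₂) ⁻¹ᵁ i.2.1.1 := fun i => by
    rw [← hh₂]; exact genOpen_le.trans (h.preimage_mono i.2.2.1.2.2)
  have hle : ∀ i : ι, genOpen v i.2.2.1.1 (t i) ≤ genOpen (pullData p₁ v₁) i.1 i.2.2.2.1 ∧
      genOpen v i.2.2.1.1 (t i) ≤ genOpen (pullData p₂ v₂) i.2.1 i.2.2.2.2 := fun i => by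
    have hfr := isFrame_genOpen (v := v) (U := i.2.2.1.1) (e := t i)
    rw [res_tensData] at hfr
    obtain ⟨h1, h2⟩ := isFrame_of_isFrame_tm hMinv₁ hMinv₂ hfr
    rw [hres₁ i _ _ _ (hle₁' i)] at h1
    rw [hres₂ i _ _ _ (hle₂' i)] at h2
    exact ⟨le_genOpen _ h1, le_genOpen _ h2⟩
  have hcov : ∀ x : P, ∃ i : ι, x ∈ genOpen v i.2.2.1.1 (t i) := by
    intro x
    obtain ⟨U₁, e₁, V₁, hV₁, hx₁, hf₁⟩ := hv₁.pull p₁ v₁ x
    obtain ⟨U₂, e₂, V₂, hV₂, hx₂, hf₂⟩ := hv₂.pull p₂ v₂ x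
    have hx1 : q₁ (h x) ∈ U₁.1 := by
      have := hV₁ hx₁; rw [← hh₁] at this; exact this
    have hx2 : q₂ (h x) ∈ U₂.1 := by
      have := hV₂ hx₂; rw [← hh₂] at this; exact this
    obtain ⟨_, ⟨W, hW, rfl⟩, hxW, hWU⟩ := (Scheme.isBasis_affineOpens Q).exists_subset_of_mem_open
      (show h x ∈ ((q₁ ⁻¹ᵁ U₁.1 ⊓ q₂ ⁻¹ᵁ U₂.1 : Q.Opens) : Set Q) from ⟨hx1, hx2⟩)
      (q₁ ⁻¹ᵁ U₁.1 ⊓ q₂ ⁻¹ᵁ U₂.1).isOpen
    let i : ι := ⟨U₁, U₂, ⟨⟨W, hW⟩, fun z hz => (hWU hz).1, fun z hz => (hWU hz).2⟩, e₁, e₂⟩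
    let V₀ : P.Opens := V₁ ⊓ V₂ ⊓ h ⁻¹ᵁ W
    have i₁ : V₀ ≤ V₁ := inf_le_left.trans inf_le_left
    have i₂ : V₀ ≤ V₂ := inf_le_left.trans inf_le_right
    have hV₀ : V₀ ≤ h ⁻¹ᵁ W := inf_le_right
    refine ⟨i, le_genOpen (v := v) (U := i.2.2.1.1) (e := t i) hV₀ ?_ (show x ∈ V₀ from ⟨⟨hx₁, hx₂⟩, hxW⟩)⟩
    have g1 := hf₁.res i₁
    have g2 := hf₂.res i₂
    rw [res_res] at g1 g2
    rw [res_tensData, hres₁ i _ _ hV₀ (i₁.trans hV₁), hres₂ i _ _ hV₀ (i₂.trans hV₂)]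
    exact Amp73.isFrame_tm g1 g2
  have hv : IsGenerating v := fun x => by
    obtain ⟨i, hi⟩ := hcov x
    exact ⟨i.2.2.1.1, t i, genOpen v i.2.2.1.1 (t i), genOpen_le, hi, isFrame_genOpen⟩
  obtain ⟨𝒮, j, hj, PE, π, chart, hPE, O, lam, hO⟩ := exists_projBundle hE
  obtain ⟨φ, hφ⟩ := exists_canonical hE hj hO hPE
  obtain ⟨r, hr⟩ := exists_classifies hE hj hPE hO hφ hv
  have hrimm : IsImmersion r := by
    refine isImmersion_of_pieces r (fun i : ι => dOpen j chart i.2.2.1.1 (t i)) (fun x => ?_) fun i => ?_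
    · obtain ⟨i, hi⟩ := hcov x
      exact ⟨i, (hr.coord _ _ _ genOpen_le isFrame_genOpen).1 hi⟩
    obtain ⟨πa, hπa, hπa'⟩ := exists_projection (b := q₁) hh₁ hE₁ hj₁ hP₁ hE hj hO hφ hc₁' hv hr i.1 i.2.2.1.1
      i.2.2.1.2.1 i.2.2.2.1 (fun m => Amp73.tm _ _ (s₁ i m) (s₂ i i.2.2.2.2))
      (fun a b => by
        simp only [s₁]
        rw [← Amp73.tm_add_left, ← Amp73.res_add]
        exact congrArg (fun q => Amp73.tm _ _ (res _ _ q) _) (map_add _ a b))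
      (fun s a => by
        simp only [s₁]
        rw [Amp73.pullS_smul, res_smul, Amp73.tm_smul_left]
        rfl)
      (hle i).1 (fun m a ha => by
        show a • res (CohB1.tensorMod M₁ M₂) _ (v.app _ _) = res (CohB1.tensorMod M₁ M₂) _ (v.app _ _)
        rw [res_tensData, res_tensData, ← Amp73.tm_smul_left, hres₁ i _ _ _ (hle₁' i), hres₁ i _ _ _ (hle₁' i)]
        exact congrArg (fun q => Amp73.tm M₁ M₂ q _) ha)
    obtain ⟨πb, hπb, hπb'⟩ := exists_projection (b := q₂) hh₂ hE₂ hj₂ hP₂ hE hj hO hφ hc₂' hv hr i.2.1 i.2.2.1.1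
      i.2.2.1.2.2 i.2.2.2.2 (fun m => Amp73.tm _ _ (s₁ i i.2.2.2.1) (s₂ i m))
      (fun a b => by
        simp only [s₂]
        rw [← Amp73.tm_add_right, ← Amp73.res_add]
        exact congrArg (fun q => Amp73.tm _ _ _ (res _ _ q)) (map_add _ a b))
      (fun s a => by
        simp only [s₂]
        rw [Amp73.pullS_smul, res_smul, Amp73.tm_smul_right]
        rfl)
      (hle i).2 (fun m a ha => by
        show a • res (CohB1.tensorMod M₁ M₂) _ (v.app _ _) = res (CohB1.tensorMod M₁ M₂) _ (v.app _ _)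
        rw [res_tensData, res_tensData, ← Amp73.tm_smul_right, hres₂ i _ _ _ (hle₂' i), hres₂ i _ _ _ (hle₂' i)]
        exact congrArg (fun q => Amp73.tm M₁ M₂ _ q) ha)
    have hcond : πa ≫ π₁ ≫ y₁ = πb ≫ π₂ ≫ y₂ := by
      rw [reassoc_of% hπa, reassoc_of% hπb, hQ]
    refine ⟨_, pullback.lift πa πb hcond, ?_⟩
    have hA₁ : p₁ ≫ r₁ ≫ π₁ ≫ y₁ = p₁ ≫ f₁ ≫ y₁ := by rw [← hc₁.comp_eq, Category.assoc]
    have hA₂ : p₂ ≫ r₂ ≫ π₂ ≫ y₂ = p₂ ≫ f₂ ≫ y₂ := by rw [← hc₂.comp_eq, Category.assoc]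
    let m : P ⟶ pullback (π₁ ≫ y₁) (π₂ ≫ y₂) :=
      pullback.lift (p₁ ≫ r₁) (p₂ ≫ r₂) (by rw [Category.assoc, Category.assoc, hA₁, hA₂, hP.w])
    have hm : IsImmersion m := by
      have h1 : m = hP.isoPullback.hom ≫ pullback.map (f₁ ≫ y₁) (f₂ ≫ y₂) (π₁ ≫ y₁) (π₂ ≫ y₂) r₁ r₂ (𝟙 S)
          (by rw [Category.comp_id, ← hc₁.comp_eq, Category.assoc])
          (by rw [Category.comp_id, ← hc₂.comp_eq, Category.assoc]) := by
        apply pullback.hom_ext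
        · refine (pullback.lift_fst _ _ _).trans ?_
          rw [Category.assoc]
          erw [pullback.lift_fst]
          rw [IsPullback.isoPullback_hom_fst_assoc]
        · refine (pullback.lift_snd _ _ _).trans ?_
          rw [Category.assoc]
          erw [pullback.lift_snd]
          rw [IsPullback.isoPullback_hom_snd_assoc]
      have h2 : IsImmersion (pullback.map (f₁ ≫ y₁) (f₂ ≫ y₂) (π₁ ≫ y₁) (π₂ ≫ y₂) r₁ r₂ (𝟙 S)
          (by rw [Category.comp_id, ← hc₁.comp_eq, Category.assoc])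
          (by rw [Category.comp_id, ← hc₂.comp_eq, Category.assoc])) :=
        MorphismProperty.pullbackMap (P := @IsImmersion) hr₁ hr₂ (by rw [← hc₁.comp_eq, Category.assoc]) (by rw [← hc₂.comp_eq, Category.assoc])
      rw [h1]; infer_instance
    have heq : (r ∣_ dOpen j chart i.2.2.1.1 (t i)) ≫ pullback.lift πa πb hcond =
        (r ⁻¹ᵁ dOpen j chart i.2.2.1.1 (t i)).ι ≫ m := by
      apply pullback.hom_ext
      · rw [Category.assoc, pullback.lift_fst, Category.assoc, pullback.lift_fst]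
        exact hπa'
      · rw [Category.assoc, pullback.lift_snd, Category.assoc, pullback.lift_snd]
        exact hπb'
    rw [heq]
    infer_instance
  exact (show IsImmData v from ⟨hv, PE, 𝒮, j, hj, π, chart, hPE, r, hrimm, hr⟩).isRelVeryAmple hE

end Groth.Agent.EGAProj74
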