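import Groth.Agent.EGAProj74.ExtSection
import Groth.Agent.EGAProj74.VeryAmpleProd
import Groth.Agent.EGA73.QuasiProjective

/-!
Charts for `L ⊗ f^*K^n` from charts for `L` and `K`.
-/

set_option autoImplicit false
set_option backward.isDefEq.respectTransparency.types false

universe u

open CategoryTheory CategoryTheory.Limits AlgebraicGeometry Opposite TopologicalSpace

noncomputable section

namespace Groth.Agent.EGAProj74

open Groth.Agent.Var76.LineBundle Groth.Agent.Var76.ZeroScheme Groth.Agent.Amp73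
open Groth.Agent.EGA73.BundleImmersion

variable {X Y Z : Scheme.{u}}

/-- Denominators are cleared by a power of the element inverted. -/
theorem exists_pow_mul_mem {R : Type*} [CommRing R] (A : Set R) {c u : R} (hc : c ∈ Subring.closure A)
    (hu : u * c = 1) {a : R} (ha : a ∈ Subring.closure (A ∪ {u})) : ∃ N : ℕ, c ^ N * a ∈ Subring.closure A := by
  have up : ∀ {a : R} {N : ℕ}, c ^ N * a ∈ Subring.closure A → ∀ M, N ≤ M → c ^ M * a ∈ Subring.closure A := by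
    intro a N h M hM
    rw [← Nat.sub_add_cancel hM, pow_add, mul_assoc]
    exact mul_mem (pow_mem hc _) h
  induction ha using Subring.closure_induction with
  | mem x hx =>
    rcases hx with hx | hx
    · exact ⟨0, by rw [pow_zero, one_mul]; exact Subring.subset_closure hx⟩
    · rw [Set.mem_singleton_iff] at hx
      refine ⟨1, ?_⟩
      rw [hx, pow_one, mul_comm, hu]
      exact one_mem _
  | zero => exact ⟨0, by rw [mul_zero]; exact zero_mem _⟩
  | one => exact ⟨0, by rw [pow_zero, one_mul]; exact one_mem _⟩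
  | add x y _ _ hx hy =>
    obtain ⟨N, hN⟩ := hx
    obtain ⟨M, hM⟩ := hy
    exact ⟨max N M, by rw [mul_add]; exact add_mem (up hN _ (le_max_left _ _)) (up hM _ (le_max_right _ _))⟩
  | neg x _ hx =>
    obtain ⟨N, hN⟩ := hx
    exact ⟨N, by rw [mul_neg]; exact neg_mem hN⟩
  | mul x y _ _ hx hy =>
    obtain ⟨N, hN⟩ := hx
    obtain ⟨M, hM⟩ := hy
    exact ⟨N + M, by rw [pow_add, mul_mul_mul_comm]; exact mul_mem hN hM⟩

theorem hasChart_of_basicOpen {L : X.Modules} {q : X ⟶ Z} {U : Z.affineOpens} {T : Set Γ(L, q ⁻¹ᵁ U.1)} {x : X}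
    {s : Γ(L, q ⁻¹ᵁ U.1)} (hs : s ∈ T) {G : X.Opens} (hG : G ≤ q ⁻¹ᵁ U.1) (hGe : flocus s = G) (c : Γ(X, G))
    (hc : c ∈ Subring.closure (chartGens q U T s hG)) (hx : x ∈ X.basicOpen c) (ha : IsAffineOpen (X.basicOpen c))
    (hcl : Subring.closure (fres (X.basicOpen_le c) '' chartGens q U T s hG ∪
      {d | d * fres (X.basicOpen_le c) c = 1}) = ⊤) : HasChart q U T x := by
  subst hGe
  exact ⟨s, hs, c, hc, hx, ha, hcl⟩

theorem flocus_app {L M : X.Modules} (e : L ≅ M) {W : X.Opens} (s : Γ(L, W)) :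
    flocus (e.hom.app W s) = flocus s := by
  refine le_antisymm (le_flocus s (flocus_le _) ?_) (le_flocus _ (flocus_le s) ?_)
  · have h := isFrame_flocus (e.hom.app W s)
    rw [← Mero90.app_res] at h
    exact (isFrame_app_iff e.hom _).1 h
  · rw [← Mero90.app_res]
    exact (isFrame_app_iff e.hom _).2 (isFrame_flocus s)

/-- A section of `O ⊗ K^d ⊗ K` whose locus is a basic open of the locus of `k`. -/
theorem exists_flocus_basicOpen {K : Y.Modules} (hK : PicF.IsInvertible K) {Ω : Y.Opens}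
    (hΩ : IsCompact (Ω : Set Y)) (hΩ' : IsQuasiSeparated (Ω : Set Y)) (k : Γ(K, Ω)) (c₀ : Γ(Y, flocus k)) :
    ∃ (d : ℕ) (κ : Γ(CohB1.tensorMod (CohB1.tensorMod (Coh.structureModule Y) (CohB1.tensorPow K d)) K, Ω)),
      flocus κ = Y.basicOpen c₀ := by
  obtain ⟨d, hd⟩ := exists_extend (F := Coh.structureModule Y) hΩ hΩ' hK k
    (Mero90.isQCoh_of_isInvertible EGA73.isInvertible_structureModule) (c₀ : Γ(Coh.structureModule Y, flocus k))
  obtain ⟨t', ht'⟩ := hd d le_rfl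
  let one : Γ(Coh.structureModule Y, flocus k) := (1 : Γ(Y, flocus k))
  have hone : IsFrame (Coh.structureModule Y) (flocus k) one := isFrame_one (flocus k)
  let fr := tm _ K (tm (Coh.structureModule Y) (CohB1.tensorPow K d) one (epow (res K (flocus_le k) k) d))
    (res K (flocus_le k) k)
  have hfr : IsFrame _ (flocus k) fr :=
    isFrame_tm (isFrame_tm hone (isFrame_epow (isFrame_flocus k) d)) (isFrame_flocus k)
  have hQ : PicF.IsInvertible (CohB1.tensorMod (Coh.structureModule Y) (CohB1.tensorPow K d)) :=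
    EGA73.isInvertible_tensorMod EGA73.isInvertible_structureModule (EGA73.isInvertible_tensorPow hK d)
  let κ := tm _ K t' k
  have hc : c₀ • fr = res _ (flocus_le k) κ := by
    show c₀ • tm _ K _ _ = res _ _ (tm _ K t' k)
    rw [res_tm, ht', ← tm_smul_left, ← tm_smul_left]
    exact congrArg (fun a => tm _ K (tm _ _ a _) _) (mul_one c₀)
  have hinf := flocus_inf_eq_basicOpen κ (flocus_le k) hfr hc
  refine ⟨d, κ, le_antisymm ?_ (hinf.ge.trans inf_le_left)⟩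
  refine (le_inf le_rfl (le_flocus k (flocus_le κ) ?_)).trans hinf.le
  have h := isFrame_flocus κ
  rw [show res _ (flocus_le κ) κ = tm _ K (res _ (flocus_le κ) t') (res K (flocus_le κ) k) from res_tm _ _ _] at h
  exact (isFrame_of_isFrame_tm hQ hK h).2

set_option maxHeartbeats 3200000 in
theorem exists_hasChart_comp (f : X ⟶ Y) (g : Y ⟶ Z) [QuasiCompact f] [QuasiCompact g] [QuasiSeparated f]
    [QuasiSeparated g] [LocallyOfFiniteType f] {L : X.Modules} {K : Y.Modules} (hL : PicF.IsInvertible L)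
    (hK : PicF.IsInvertible K) (hLva : RelProj.IsRelVeryAmple f L) (hKva : RelProj.IsRelVeryAmple g K) (x : X) :
    ∃ (G₁ : X.Opens) (n₀ : ℕ), x ∈ G₁ ∧ ∀ n, n₀ ≤ n → ∀ y ∈ G₁, ∃ (U : Z.affineOpens)
      (T : Set Γ(CohB1.tensorMod L ((Scheme.Modules.pullback f).obj (CohB1.tensorPow K n)), (f ≫ g) ⁻¹ᵁ U.1)),
      HasChart (f ≫ g) U T y := by
  classical
  obtain ⟨U, hU, hxU, -⟩ := exists_isAffineOpen_mem_and_subset (U := (⊤ : Z.Opens)) (x := g (f x)) trivial
  obtain ⟨TK, k, hkT, c₀, hc₀, hy, hVa, hclK⟩ :=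
    EGA73.ChartSources.exists_hasChart_of_isRelVeryAmple hKva (f x) (U := ⟨U, hU⟩) hxU
  let Ω : Y.Opens := g ⁻¹ᵁ U
  let V : Y.Opens := Y.basicOpen c₀
  have hVk : V ≤ flocus k := Y.basicOpen_le c₀
  obtain ⟨T₁, hT₁⟩ := EGA73.ChartSources.exists_hasChart_of_isRelVeryAmple hLva x (U := ⟨V, hVa⟩) hy
  obtain ⟨T₀, -, hT₀, s₁, hs₁, c₁, hc₁, hx₁, hG₁a, hcl₁⟩ := hT₁.exists_finite
  obtain ⟨d, κ, hκ⟩ := exists_flocus_basicOpen hK (g.isCompact_preimage hU.isCompact)
    (g.isQuasiSeparated_preimage hU.isQuasiSeparated) k c₀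
  let Q := CohB1.tensorMod (CohB1.tensorMod (Coh.structureModule Y) (CohB1.tensorPow K d)) K
  have hQ : PicF.IsInvertible Q := EGA73.isInvertible_tensorMod (EGA73.isInvertible_tensorMod
    EGA73.isInvertible_structureModule (EGA73.isInvertible_tensorPow hK d)) hK
  let P' := (Scheme.Modules.pullback f).obj Q
  let P := (Scheme.Modules.pullback f).obj K
  have hP' : PicF.IsInvertible P' := isInvertible_pullback f hQ
  have hP : PicF.IsInvertible P := isInvertible_pullback f hK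
  let T : Γ(P', f ⁻¹ᵁ Ω) := pullS f Q Ω κ
  have hT : flocus T = f ⁻¹ᵁ V := by
    show flocus (pullS f Q Ω κ) = _
    rw [flocus_pullS f hQ, hκ]
  have hΩc : IsCompact ((f ⁻¹ᵁ Ω : X.Opens) : Set X) := f.isCompact_preimage (g.isCompact_preimage hU.isCompact)
  have hΩq : IsQuasiSeparated ((f ⁻¹ᵁ Ω : X.Opens) : Set X) :=
    f.isQuasiSeparated_preimage (g.isQuasiSeparated_preimage hU.isQuasiSeparated)
  have hext : ∀ σ : Γ(L, f ⁻¹ᵁ V), ∃ n₀, ∀ n, n₀ ≤ n → ∃ t' : Γ(CohB1.tensorMod L (CohB1.tensorPow P' n), f ⁻¹ᵁ Ω),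
      res _ (flocus_le T) t' = tm L (CohB1.tensorPow P' n) (res L hT.le σ) (epow (res P' (flocus_le T) T) n) :=
    fun σ => exists_extend hΩc hΩq hP' T (Mero90.isQCoh_of_isInvertible hL) (res L hT.le σ)
  choose N₀ hN₀ using hext
  let q₀ := hT₀.toFinset.sup N₀
  have hσ : ∀ σ ∈ T₀, ∃ t' : Γ(CohB1.tensorMod L (CohB1.tensorPow P' q₀), f ⁻¹ᵁ Ω),
      res _ (flocus_le T) t' = tm L (CohB1.tensorPow P' q₀) (res L hT.le σ) (epow (res P' (flocus_le T) T) q₀) :=
    fun σ h => hN₀ σ q₀ (Finset.le_sup (f := N₀) (hT₀.mem_toFinset.2 h))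
  choose t' ht' using hσ
  let A := CohB1.tensorMod (CohB1.tensorMod L (CohB1.tensorPow P' q₀)) P'
  have hA₁ : PicF.IsInvertible (CohB1.tensorMod L (CohB1.tensorPow P' q₀)) :=
    EGA73.isInvertible_tensorMod hL (EGA73.isInvertible_tensorPow hP' q₀)
  have hA : PicF.IsInvertible A := EGA73.isInvertible_tensorMod hA₁ hP'
  let G := flocus s₁
  have hGV : G ≤ f ⁻¹ᵁ V := flocus_le s₁
  have hGk : G ≤ f ⁻¹ᵁ flocus k := hGV.trans (f.preimage_mono hVk)
  have hGΩ : G ≤ f ⁻¹ᵁ Ω := hGk.trans (f.preimage_mono (flocus_le k))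
  let pk : Γ(K, Ω) → Γ(P, f ⁻¹ᵁ Ω) := fun k' => pullS f K Ω k'
  have hpk : ∀ {W : X.Opens}, W ≤ f ⁻¹ᵁ flocus k → ∀ hW : W ≤ f ⁻¹ᵁ Ω, IsFrame P W (res P hW (pk k)) := by
    intro W hW hW'
    have h1 := (flocus_pullS f hK k).ge
    have h2 := (isFrame_flocus (pullS f K Ω k)).res (hW.trans h1)
    rw [res_res] at h2
    exact h2
  let e : ∀ σ ∈ T₀, Γ(A, f ⁻¹ᵁ Ω) := fun σ h => tm _ P' (t' σ h) T
  have hres_e : ∀ σ (h : σ ∈ T₀) (W : X.Opens) (hW : W ≤ f ⁻¹ᵁ V) (hW' : W ≤ f ⁻¹ᵁ Ω),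
      res A hW' (e σ h) = tm _ P' (tm L (CohB1.tensorPow P' q₀) (res L hW σ) (epow (res P' hW' T) q₀))
        (res P' hW' T) := by
    intro σ h W hW hW'
    show res _ hW' (tm _ P' (t' σ h) T) = _
    rw [res_tm, ← res_res _ (flocus_le T) (hW.trans hT.ge) (t' σ h), ht', res_tm, res_epow, res_res, res_res]
  let D := (d + 1) * q₀ + (d + 1)
  refine ⟨X.basicOpen c₁, D + 1, hx₁, fun n hn y hy₁ => ⟨⟨U, hU⟩, ?_⟩⟩
  obtain ⟨l, rfl⟩ : ∃ l, n = D + (l + 1) := ⟨n - D - 1, by omega⟩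
  let M := CohB1.tensorMod L ((Scheme.Modules.pullback f).obj (CohB1.tensorPow K (D + (l + 1))))
  let iQ : P' ≅ CohB1.tensorPow P (d + 1) :=
    (Scheme.Modules.pullback f).mapIso (EGA73.tensIso (EGA73.tensUnitLeft _) (Iso.refl _)) ≪≫ pullPowIso f hK (d + 1)
  let iP : CohB1.tensorMod (CohB1.tensorMod (CohB1.tensorPow P' q₀) P') (CohB1.tensorPow P (l + 1)) ≅
      (Scheme.Modules.pullback f).obj (CohB1.tensorPow K (D + (l + 1))) :=
    EGA73.tensIso (EGA73.tensIso (powIso iQ q₀ ≪≫ powMul P (d + 1) q₀) iQ ≪≫ powAdd P ((d + 1) * q₀) (d + 1)) (Iso.refl _) ≪≫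
      powAdd P D (l + 1) ≪≫ (pullPowIso f hK (D + (l + 1))).symm
  let Φ : CohB1.tensorMod A (CohB1.tensorPow P (l + 1)) ≅ M :=
    EGA73.tensIso (EGA73.tensAssoc' _ _ _) (Iso.refl _) ≪≫ EGA73.tensAssoc' _ _ _ ≪≫ EGA73.tensIso (Iso.refl L) iP
  let E : ∀ σ ∈ T₀, Γ(K, Ω) → Γ(CohB1.tensorMod A (CohB1.tensorPow P (l + 1)), f ⁻¹ᵁ Ω) :=
    fun σ h k' => tm A (CohB1.tensorPow P (l + 1)) (e σ h) (tm _ P (epow (pk k) l) (pk k'))
  have hresE : ∀ σ (h : σ ∈ T₀) (k' : Γ(K, Ω)) (W : X.Opens) (hW : W ≤ f ⁻¹ᵁ Ω),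
      res _ hW (E σ h k') = tm A (CohB1.tensorPow P (l + 1)) (res A hW (e σ h))
        (tm _ P (epow (res P hW (pk k)) l) (res P hW (pk k'))) := by
    intro σ h k' W hW
    show res _ hW (tm A _ (e σ h) (tm _ P _ _)) = _
    rw [res_tm]
    exact congrArg (tm A (CohB1.tensorPow P (l + 1)) _) ((res_tm _ _ _).trans (by rw [res_epow]))
  let TM : Set Γ(M, (f ≫ g) ⁻¹ᵁ U) :=
    {m | ∃ (σ : Γ(L, f ⁻¹ᵁ V)) (h : σ ∈ T₀) (k' : Γ(K, Ω)), Φ.hom.app (f ⁻¹ᵁ Ω) (E σ h k') = m}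
  refine ⟨TM, ?_⟩
  let s : Γ(M, (f ≫ g) ⁻¹ᵁ U) := Φ.hom.app (f ⁻¹ᵁ Ω) (E s₁ hs₁ k)
  have hfe : IsFrame A G (res A hGΩ (e s₁ hs₁)) := by
    rw [hres_e s₁ hs₁ G hGV hGΩ]
    have hTf : IsFrame P' G (res P' hGΩ T) := by
      have h2 := (isFrame_flocus T).res (hGV.trans hT.ge)
      rwa [res_res] at h2
    exact isFrame_tm (isFrame_tm (isFrame_flocus s₁) (isFrame_epow hTf q₀)) hTf
  have hse : flocus s = G := by
    show flocus (Φ.hom.app (f ⁻¹ᵁ Ω) (E s₁ hs₁ k)) = G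
    rw [flocus_app]
    refine le_antisymm ?_ (le_flocus _ hGΩ ?_)
    · let W := flocus (E s₁ hs₁ k)
      have hW : W ≤ f ⁻¹ᵁ Ω := flocus_le _
      have h : IsFrame _ W (res _ hW (E s₁ hs₁ k)) := isFrame_flocus _
      rw [hresE] at h
      obtain ⟨h1, -⟩ := isFrame_of_isFrame_tm hA (EGA73.isInvertible_tensorPow hP (l + 1)) h
      rw [show res A hW (e s₁ hs₁) = tm _ P' (res _ hW (t' s₁ hs₁)) (res P' hW T) from res_tm _ _ _] at h1
      obtain ⟨h2, h3⟩ := isFrame_of_isFrame_tm hA₁ hP' h1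
      have hWT : W ≤ flocus T := le_flocus T hW h3
      have hWV : W ≤ f ⁻¹ᵁ V := hWT.trans hT.le
      rw [← res_res _ (flocus_le T) hWT (t' s₁ hs₁), ht', res_tm, res_res] at h2
      exact le_flocus s₁ hWV (isFrame_of_isFrame_tm hL (EGA73.isInvertible_tensorPow hP' q₀) h2).1
    · rw [hresE]
      exact isFrame_tm hfe (isFrame_tm (isFrame_epow (hpk hGk _) l) (hpk hGk _))
  let γ := chartGens (f ≫ g) ⟨U, hU⟩ TM s (G := G) hGΩ
  let ρ : Γ(Y, flocus k) →+* Γ(X, G) := (f.appLE (flocus k) G hGk).hom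
  have hresΦ : ∀ σ (h : σ ∈ T₀) (k' : Γ(K, Ω)),
      res M hGΩ (Φ.hom.app (f ⁻¹ᵁ Ω) (E σ h k')) = Φ.hom.app G (tm A (CohB1.tensorPow P (l + 1)) (res A hGΩ (e σ h))
        (tm _ P (epow (res P hGΩ (pk k)) l) (res P hGΩ (pk k')))) := fun σ h k' => by
    rw [← Mero90.app_res, hresE]
  have hρgens : ∀ a ∈ chartGens g ⟨U, hU⟩ TK k (flocus_le k), ρ a ∈ γ := by
    rintro a (⟨t, rfl⟩ | ⟨k', -, ha⟩)
    · refine Set.mem_union_left _ ⟨t, ?_⟩
      rw [← Scheme.Hom.appLE_comp_appLE f g U (flocus k) G (flocus_le k) hGk]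
      rfl
    · refine Set.mem_union_right _ ⟨_, ⟨s₁, hs₁, k', rfl⟩, ?_⟩
      have h1 : res P hGΩ (pk k') = f.appLE (flocus k) G hGk a • res P hGΩ (pk k) := by
        have h2 : res P hGk (pullS f K (flocus k) (a • res K (flocus_le k) k)) =
            res P hGk (pullS f K (flocus k) (res K (flocus_le k) k')) := congrArg _ (congrArg _ ha)
        rw [pullS_smul, res_smul, ← res_pullS f K (flocus_le k), ← res_pullS f K (flocus_le k), res_res, res_res] at h2
        exact h2.symm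
      show f.appLE (flocus k) G hGk a • res M hGΩ s = res M hGΩ (Φ.hom.app _ (E s₁ hs₁ k'))
      rw [show res M hGΩ s = _ from hresΦ s₁ hs₁ k, hresΦ s₁ hs₁ k', h1, tm_smul_right]
      erw [tm_smul_right]
      rw [Scheme.Modules.Hom.app_smul]
  let c0 := ρ c₀
  have hc0 : c0 ∈ Subring.closure γ := by
    have : ρ c₀ ∈ Subring.map ρ (Subring.closure _) := Subring.mem_map.2 ⟨c₀, hc₀, rfl⟩
    rw [RingHom.map_closure] at this
    exact Subring.closure_mono (Set.image_subset_iff.2 hρgens) this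
  let ρV : Γ(Y, V) →+* Γ(X, G) := (f.appLE V G hGV).hom
  have hρV : ∀ a, ρV (fres hVk a) = ρ a := fun a =>
    ConcreteCategory.congr_hom (Scheme.Hom.map_appLE f hGV (homOfLE hVk).op) a
  have hc0u : IsUnit c0 := by
    show IsUnit (ρ c₀)
    rw [← hρV]
    exact (RingedSpace.isUnit_res_basicOpen _ c₀).map ρV
  obtain ⟨u, hu⟩ := hc0u.exists_left_inv
  have hbase : ∀ b, ρV b ∈ Subring.closure (γ ∪ {u}) := by
    intro b
    have hb : ρV b ∈ Subring.map ρV ⊤ := Subring.mem_map.2 ⟨b, trivial, rfl⟩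
    rw [← hclK, RingHom.map_closure] at hb
    refine Subring.closure_mono ?_ hb
    rintro _ ⟨a, ha | ha, rfl⟩
    · obtain ⟨a', ha', rfl⟩ := ha
      exact Set.mem_union_left _ (by rw [hρV]; exact hρgens a' ha')
    · refine Set.mem_union_right _ ?_
      have h1 : ρV a * c0 = 1 := by
        show ρV a * ρ c₀ = 1
        rw [← hρV, ← map_mul]
        exact (congrArg ρV ha).trans (map_one ρV)
      show ρV a = u
      calc ρV a = u * c0 * ρV a := by rw [hu, one_mul]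
        _ = u * (ρV a * c0) := by ring
        _ = u := by rw [h1, mul_one]
  have hold : chartGens f ⟨V, hVa⟩ T₀ s₁ (flocus_le s₁) ⊆ Subring.closure (γ ∪ {u}) := by
    rintro a (⟨b, rfl⟩ | ⟨σ, hσ', ha⟩)
    · exact hbase b
    · refine Subring.subset_closure (Set.mem_union_left _ (Set.mem_union_right _ ⟨_, ⟨σ, hσ', k, rfl⟩, ?_⟩))
      show a • res M hGΩ s = res M hGΩ (Φ.hom.app _ (E σ hσ' k))
      rw [show res M hGΩ s = _ from hresΦ s₁ hs₁ k, hresΦ σ hσ' k, hres_e s₁ hs₁ G hGV hGΩ, hres_e σ hσ' G hGV hGΩ,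
        ← ha, tm_smul_left, tm_smul_left, tm_smul_left, Scheme.Modules.Hom.app_smul]
  obtain ⟨N, hN⟩ := exists_pow_mul_mem γ hc0 hu ((Subring.closure_le.2 hold) hc₁)
  let c := c0 * (c0 ^ N * c₁)
  have hc : c ∈ Subring.closure γ := mul_mem hc0 hN
  have hbc : X.basicOpen c = X.basicOpen c₁ := by
    show X.basicOpen (c0 * (c0 ^ N * c₁)) = _
    rw [X.basicOpen_mul, X.basicOpen_mul, Scheme.basicOpen_of_isUnit _ (hc0u.pow N),
      Scheme.basicOpen_of_isUnit _ hc0u, inf_eq_right.2 (X.basicOpen_le c₁), inf_eq_right.2 (X.basicOpen_le c₁)]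
  refine hasChart_of_basicOpen (s := s) ⟨s₁, hs₁, k, rfl⟩ hGΩ hse c hc (hbc.ge hy₁) (hbc.symm ▸ hG₁a) ?_
  let R := Subring.closure (fres (X.basicOpen_le c) '' γ ∪ {d | d * fres (X.basicOpen_le c) c = 1})
  let r : Γ(X, G) →+* Γ(X, X.basicOpen c) := (X.presheaf.map (homOfLE (X.basicOpen_le c)).op).hom
  obtain ⟨v, hv⟩ := (show IsUnit (r c) from RingedSpace.isUnit_res_basicOpen _ c).exists_left_inv
  have hvR : v ∈ R := Subring.subset_closure (Set.mem_union_right _ hv)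
  have hrγ : ∀ a ∈ Subring.closure γ, r a ∈ R := by
    intro a ha
    have : r a ∈ Subring.map r (Subring.closure γ) := Subring.mem_map.2 ⟨a, ha, rfl⟩
    rw [RingHom.map_closure] at this
    exact Subring.closure_mono Set.subset_union_left this
  have hru : r u ∈ R := by
    have h1 : r u = r (c0 ^ N * c₁) * v := by
      calc r u = r u * (v * r c) := by rw [hv, mul_one]
        _ = r (u * c0) * r (c0 ^ N * c₁) * v := by simp only [c, map_mul]; ring
        _ = _ := by rw [hu, map_one, one_mul]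
    rw [h1]
    exact mul_mem (hrγ _ hN) hvR
  have hrall : ∀ a ∈ Subring.closure (γ ∪ {u}), r a ∈ R := by
    intro a ha
    have : a ∈ Subring.comap r R := (Subring.closure_le.2 fun b hb => by
      rcases hb with hb | hb
      · exact hrγ b (Subring.subset_closure hb)
      · rw [Set.mem_singleton_iff] at hb; rw [hb]; exact hru) ha
    exact this
  have key : ∀ (W : X.Opens) (hWG : W ≤ G), X.basicOpen c = W → ∀ w : Γ(X, W),
      w ∈ Subring.closure (fres hWG '' chartGens f ⟨V, hVa⟩ T₀ s₁ (flocus_le s₁) ∪ {d | d * fres hWG c₁ = 1}) →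
        ∃ b ∈ R, ∀ h : W ≤ X.basicOpen c, fres h b = w := by
    intro W hWG hW w hw
    subst hW
    refine ⟨w, ?_, fun h => congr($(X.presheaf.map_id _).hom w)⟩
    refine (Subring.closure_le.2 ?_) hw
    rintro z (⟨a, ha, rfl⟩ | hz)
    · exact hrall a (hold ha)
    · have h1 : z = r (c0 * c0 ^ N) * v := by
        have hz' : z * r c₁ = 1 := hz
        calc z = z * (v * r c) := by rw [hv, mul_one]
          _ = r (c0 * c0 ^ N) * v * (z * r c₁) := by simp only [c, map_mul]; ring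
          _ = _ := by rw [hz', mul_one]
      rw [h1]
      exact mul_mem (hrγ _ (mul_mem hc0 (pow_mem hc0 N))) hvR
  refine top_le_iff.1 fun b _ => ?_
  obtain ⟨b', hb', hbb⟩ := key (X.basicOpen c₁) (X.basicOpen_le c₁) hbc
    (fres hbc.ge b) (hcl₁.ge (Subring.mem_top _))
  have h1 := congrArg (fres hbc.le) (hbb hbc.ge)
  simp only [fres_fres] at h1
  have h2 : b' = b := by simpa [fres] using h1
  exact h2 ▸ hb'

/-- EGA II 4.4.10 (ii). -/
theorem eventually_isRelVeryAmple_comp [CompactSpace Z] (f : X ⟶ Y) (g : Y ⟶ Z) [QuasiCompact f] [QuasiCompact g]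
    [LocallyOfFiniteType f] {L : X.Modules} {K : Y.Modules} (hL : PicF.IsInvertible L) (hK : PicF.IsInvertible K)
    (hLva : RelProj.IsRelVeryAmple f L) (hKva : RelProj.IsRelVeryAmple g K) :
    ∃ n₀ : ℕ, 0 < n₀ ∧ ∀ n, n₀ ≤ n → RelProj.IsRelVeryAmple (f ≫ g)
      (CohB1.tensorMod L ((Scheme.Modules.pullback f).obj (CohB1.tensorPow K n))) := by
  classical
  have := EGA73.QuasiProjective.quasiSeparated_of_isRelVeryAmple hLva
  have := EGA73.QuasiProjective.quasiSeparated_of_isRelVeryAmple hKva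
  choose G n₀ hxG hG using exists_hasChart_comp f g hL hK hLva hKva
  have : CompactSpace X := QuasiCompact.compactSpace_of_compactSpace (f ≫ g)
  obtain ⟨T, hT⟩ := isCompact_univ.elim_finite_subcover (fun x => (G x : Set X)) (fun x => (G x).2)
    fun x _ => Set.mem_iUnion.2 ⟨x, hxG x⟩
  refine ⟨T.sup n₀ + 1, Nat.succ_pos _, fun n hn => ?_⟩
  have hd : ∀ y : X, ∃ (U : Z.affineOpens)
      (T : Set Γ(CohB1.tensorMod L ((Scheme.Modules.pullback f).obj (CohB1.tensorPow K n)), (f ≫ g) ⁻¹ᵁ U.1)),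
      HasChart (f ≫ g) U T y := fun y => by
    obtain ⟨x, hx, hy⟩ := Set.mem_iUnion₂.1 (hT (Set.mem_univ y))
    exact hG x n (((Finset.le_sup hx).trans (Nat.le_succ _)).trans hn) y hy
  obtain ⟨𝒯, j, P, p, chart, O1, lam, i, hF, hj, hP, hO1, hi, hip, hτ⟩ :=
    EGA73.QuasiProjective.exists_immersion_pushforward (f ≫ g)
      (EGA73.isInvertible_tensorMod hL (isInvertible_pullback f (EGA73.isInvertible_tensorPow hK n))) hd
  exact ⟨_, hF, 𝒯, j, hj, P, p, chart, hP, O1, lam, hO1, i, hi, hip, hτ⟩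

end Groth.Agent.EGAProj74
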