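import Groth.Agent.EGAProj74.BaseChange
import Groth.Prelude.Def_RelProj2

/-!
Restriction maps of quasi-coherent graded algebras.
-/

set_option autoImplicit false

universe u

open CategoryTheory CategoryTheory.Limits AlgebraicGeometry TopologicalSpace Opposite
open scoped HomogeneousIdeal

noncomputable section

namespace Groth.Agent.EGAProj74

variable {S : Scheme.{u}} (𝒮 : RelProj.QCGrAlg S)

theorem res_res_apply {U V W : S.Opens} (i : V ≤ U) (j : W ≤ V) (x : 𝒮.presheaf.obj (op U)) :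
    (𝒮.presheaf.map (homOfLE j).op).hom ((𝒮.presheaf.map (homOfLE i).op).hom x) =
      (𝒮.presheaf.map (homOfLE (j.trans i)).op).hom x := by
  rw [← CommRingCat.comp_apply, ← Functor.map_comp]
  rfl

theorem res_comp {U V W : S.Opens} (hU : IsAffineOpen U) (hV : IsAffineOpen V) (hW : IsAffineOpen W)
    (i : V ≤ U) (j : W ≤ V) :
    (𝒮.res hV hW j).comp (𝒮.res hU hV i) = 𝒮.res hU hW (j.trans i) := by
  ext x
  exact res_res_apply 𝒮 i j x

/-- The restriction to a basic open is base change along the restriction of functions. -/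
theorem isPushout_basicOpen (A : RelSpec.QCAlg S) {U : S.Opens} (hU : IsAffineOpen U) (r : Γ(S, U)) :
    IsPushout (S.presheaf.map (homOfLE (S.basicOpen_le r)).op) (A.str.app (op U))
      (A.str.app (op (S.basicOpen r))) (A.presheaf.map (homOfLE (S.basicOpen_le r)).op) := by
  let := (S.presheaf.map (homOfLE (S.basicOpen_le r)).op).hom.toAlgebra
  let := (A.presheaf.map (homOfLE (S.basicOpen_le r)).op).hom.toAlgebra
  have : IsLocalization.Away r Γ(S, S.basicOpen r) := hU.isLocalization_basicOpen r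
  have : IsLocalization.Away ((A.str.app (op U)).hom r) (A.presheaf.obj (op (S.basicOpen r))) :=
    A.isQC U hU r
  have hH : (A.str.app (op (S.basicOpen r))).hom.comp (algebraMap Γ(S, U) Γ(S, S.basicOpen r)) =
      (algebraMap (A.presheaf.obj (op U)) (A.presheaf.obj (op (S.basicOpen r)))).comp
        (A.str.app (op U)).hom :=
    congr($(A.str.naturality (homOfLE (S.basicOpen_le r)).op).hom)
  have : IsLocalization ((Submonoid.powers r).map (A.str.app (op U)).hom)
      (A.presheaf.obj (op (S.basicOpen r))) := by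
    rw [Submonoid.map_powers]; infer_instance
  exact (CommRingCat.isPushout_of_isLocalization (A.str.app (op U)).hom
    (A.str.app (op (S.basicOpen r))).hom hH (Submonoid.powers r)).flip

theorem res_zero_sq {U V : S.Opens} (hU : IsAffineOpen U) (hV : IsAffineOpen V) (i : V ≤ U) :
    𝒮.strZero U hU ≫ CommRingCat.ofHom (zeroHom (𝒮.res hU hV i)) =
      S.presheaf.map (homOfLE i).op ≫ 𝒮.strZero V hV := by
  ext x : 2
  exact Subtype.ext (congr($(𝒮.str.naturality (homOfLE i).op).hom x)).symm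

/-- The base change square of a restriction to a basic open, in degree-zero form. -/
theorem isPushout_res {U : S.Opens} (hU : IsAffineOpen U) (r : Γ(S, U)) :
    IsPushout (S.presheaf.map (homOfLE (S.basicOpen_le r)).op)
      (𝒮.strZero U hU ≫ CommRingCat.ofHom (algebraMap (𝒮.deg U hU 0) (𝒮.presheaf.obj (op U))))
      (𝒮.strZero (S.basicOpen r) (hU.basicOpen r) ≫
        CommRingCat.ofHom (algebraMap (𝒮.deg (S.basicOpen r) (hU.basicOpen r) 0)
          (𝒮.presheaf.obj (op (S.basicOpen r)))))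
      (CommRingCat.ofHom (𝒮.res hU (hU.basicOpen r) (S.basicOpen_le r) :
        𝒮.presheaf.obj (op U) →+* 𝒮.presheaf.obj (op (S.basicOpen r)))) :=
  isPushout_basicOpen 𝒮.toQCAlg hU r

theorem irrelevant_le_map_res_of_eq {U : S.Opens} (hU : IsAffineOpen U) {D : S.Opens}
    (hD : IsAffineOpen D) (r : Γ(S, U)) (e : D = S.basicOpen r) (i : D ≤ U) :
    (𝒮.deg D hD)₊ ≤ ((𝒮.deg U hU)₊).map (𝒮.res hU hD i) := by
  subst e; exact 𝒮.irrelevant_le_map U hU r

/-- The irrelevant ideal of the sections over a smaller affine open is generated by restrictions. -/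
theorem irrelevant_le_map_res {U V : S.Opens} (hU : IsAffineOpen U) (hV : IsAffineOpen V)
    (i : V ≤ U) : (𝒮.deg V hV)₊ ≤ ((𝒮.deg U hU)₊).map (𝒮.res hU hV i) := by
  classical
  intro b hb
  set I : Ideal (𝒮.presheaf.obj (op V)) := (((𝒮.deg U hU)₊).map (𝒮.res hU hV i)).toIdeal
  change b ∈ I
  let J : Ideal Γ(S, V) :=
    Ideal.comap (𝒮.str.app (op V)).hom
      (Submodule.comap (LinearMap.toSpanSingleton (𝒮.presheaf.obj (op V)) (𝒮.presheaf.obj (op V)) b) I :
        Ideal (𝒮.presheaf.obj (op V)))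
  have hJ : ∀ c : Γ(S, V), c ∈ J ↔ (𝒮.str.app (op V)).hom c * b ∈ I := fun c => Iff.rfl
  suffices J = ⊤ by simpa [hJ] using (Ideal.eq_top_iff_one J).mp this
  by_contra hne
  obtain ⟨M, hM, hJM⟩ := Ideal.exists_le_maximal J hne
  let x : V := hV.isoSpec.inv.base ⟨M, hM.isPrime⟩
  obtain ⟨r, s, hrs, hxr⟩ := exists_basicOpen_le_affine_inter hV hU x.1 ⟨x.2, i x.2⟩
  let D := S.basicOpen r
  let c := (𝒮.str.app (op V)).hom r
  let ψ := 𝒮.res hV (hV.basicOpen r) (S.basicOpen_le r)
  let := ψ.toRingHom.toAlgebra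
  have : IsLocalization.Away c (𝒮.presheaf.obj (op D)) := 𝒮.isQC V hV r
  have h1 : ψ b ∈ I.map ψ.toRingHom := by
    have h2 : ψ b ∈ (((𝒮.deg U hU)₊).map (𝒮.res hU (hV.basicOpen r) ((S.basicOpen_le r).trans i))).toIdeal :=
      irrelevant_le_map_res_of_eq 𝒮 hU (hV.basicOpen r) s hrs _
        ((irrelevant_toIdeal_le_span.trans (Ideal.span_le.mpr ?_) : _ ≤ ((𝒮.deg D (hV.basicOpen r))₊).toIdeal.comap ψ) hb)
    · rw [← res_comp 𝒮 hU hV (hV.basicOpen r) i (S.basicOpen_le r)] at h2
      change ψ b ∈ Ideal.map (ψ.toRingHom.comp (𝒮.res hU hV i).toRingHom) _ at h2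
      rw [← Ideal.map_map] at h2
      exact h2
    · rintro a ⟨d, hd, ha⟩
      exact HomogeneousIdeal.mem_irrelevant_of_mem _ hd (ψ.map_mem ha)
  obtain ⟨m, hm⟩ : ∃ m, c ^ m * b ∈ I := by
    obtain ⟨⟨⟨a, ha⟩, t⟩, hat⟩ := (IsLocalization.mem_map_algebraMap_iff (Submonoid.powers c)
      (𝒮.presheaf.obj (op D))).mp h1
    change algebraMap _ _ b * _ = _ at hat
    rw [← map_mul] at hat
    obtain ⟨⟨_, k, rfl⟩, hk⟩ := IsLocalization.exists_of_eq (M := Submonoid.powers c) hat
    obtain ⟨_, l, rfl⟩ := t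
    refine ⟨k + l, ?_⟩
    have e : c ^ (k + l) * b = c ^ k * (b * c ^ l) := by ring
    rw [e]
    dsimp only at hk
    rw [hk]
    exact Ideal.mul_mem_left _ _ ha
  have hr : r ^ m ∈ J := (hJ _).mpr (by rw [map_pow]; exact hm)
  have hrM : r ∈ M := hM.isPrime.mem_of_pow_mem m (hJM hr)
  have : ⟨M, hM.isPrime⟩ ∈ PrimeSpectrum.basicOpen r := by
    rw [← hV.fromSpec_preimage_basicOpen]
    exact hxr
  exact this hrM

end Groth.Agent.EGAProj74
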