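import Groth.Agent.EGAProj74.RelSpecBasic
import Groth.Agent.EGAProj74.QC
import Groth.Agent.EGAProj74.Glue
import Groth.Agent.EGAProj74.Dom
import Groth.Prelude.Def_RelSpec2

/-!
Affine cones over a general base.
-/

set_option autoImplicit false

universe u

open CategoryTheory CategoryTheory.Limits AlgebraicGeometry TopologicalSpace Opposite
open scoped HomogeneousIdeal

noncomputable section

namespace Groth.Agent.EGAProj74

section ring

variable {A B : CommRingCat.{u}} {𝒜 : ℕ → AddSubgroup A} [GradedRing 𝒜]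
  {ℬ : ℕ → AddSubgroup B} [GradedRing ℬ]

theorem mem_vertexCompl_iff {x : PrimeSpectrum A} :
    x ∈ RelCone.vertexCompl 𝒜 ↔ ¬ (HomogeneousIdeal.irrelevant 𝒜).toIdeal ≤ x.asIdeal := Iff.rfl

theorem preimage_vertexCompl_le (g : A ⟶ B) (ψ : 𝒜 →+*ᵍ ℬ) (hψ : ∀ a, g.hom a = ψ a) :
    Spec.map g ⁻¹ᵁ RelCone.vertexCompl 𝒜 ≤ RelCone.vertexCompl ℬ := by
  intro x hx hB
  refine hx fun a ha => ?_
  change g.hom a ∈ x.asIdeal
  refine hB ?_
  rw [SetLike.mem_coe, hψ, HomogeneousIdeal.toIdeal_irrelevant]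
  have ha' : a ∈ (HomogeneousIdeal.irrelevant 𝒜).toIdeal := ha
  refine (Ideal.map_le_iff_le_comap.mpr ?_) (Ideal.mem_map_of_mem (ψ : 𝒜 →+*ᵍ ℬ).toRingHom ha')
  refine irrelevant_toIdeal_le_span.trans (Ideal.span_le.mpr ?_)
  rintro b ⟨d, hd, hb⟩
  exact HomogeneousIdeal.mem_irrelevant_of_mem ℬ hd (ψ.map_mem hb)

theorem preimage_vertexCompl_eq (g : A ⟶ B) (ψ : 𝒜 →+*ᵍ ℬ) (hψ : ∀ a, g.hom a = ψ a)
    (h : ℬ₊ ≤ (𝒜₊).map ψ) :
    Spec.map g ⁻¹ᵁ RelCone.vertexCompl 𝒜 = RelCone.vertexCompl ℬ := by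
  refine le_antisymm (preimage_vertexCompl_le g ψ hψ) fun x hx hA => hx fun b hb => ?_
  have hb' : b ∈ ((𝒜₊).map ψ).toIdeal := h hb
  rw [HomogeneousIdeal.toIdeal_map] at hb'
  refine (Ideal.map_le_iff_le_comap.mpr ?_) hb'
  intro a ha
  have := hA ha
  change g.hom a ∈ x.asIdeal at this
  rw [hψ] at this
  exact this

end ring

variable {S : Scheme.{u}} (𝒮 : RelProj.QCGrAlg S)

theorem res_eq_map {U V : S.Opens} (hU : IsAffineOpen U) (hV : IsAffineOpen V) (i : V ≤ U)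
    (a : 𝒮.presheaf.obj (op U)) :
    (𝒮.presheaf.map (homOfLE i).op).hom a = 𝒮.res hU hV i a := rfl

theorem preimage_vertexCompl_res {U V : S.Opens} (hU : IsAffineOpen U) (hV : IsAffineOpen V) (i : V ≤ U) :
    Spec.map (𝒮.presheaf.map (homOfLE i).op) ⁻¹ᵁ RelCone.vertexCompl (𝒮.deg U hU) =
      RelCone.vertexCompl (𝒮.deg V hV) :=
  preimage_vertexCompl_eq _ (𝒮.res hU hV i) (fun _ => rfl) (irrelevant_le_map_res 𝒮 hU hV i)

theorem preimage_pointedCone (U : S.Opens) (hU : IsAffineOpen U) :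
    𝒮.toQCAlg.ι U hU ⁻¹ᵁ RelCone.pointedCone 𝒮 = RelCone.vertexCompl (𝒮.deg U hU) := by
  refine le_antisymm (fun y hy => ?_) fun y hy => ?_
  · obtain ⟨⟨V, hV⟩, z, hz, hzy⟩ := Opens.mem_iSup.mp hy
    change (𝒮.toQCAlg.ι V hV).base z = (𝒮.toQCAlg.ι U hU).base y at hzy
    change z ∈ RelCone.vertexCompl (𝒮.deg V hV) at hz
    have hπ : 𝒮.toQCAlg.π.base ((𝒮.toQCAlg.ι U hU).base y) ∈ U ⊓ V := by
      refine ⟨?_, ?_⟩
      · change (𝒮.toQCAlg.ι U hU).base y ∈ 𝒮.toQCAlg.π ⁻¹ᵁ U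
        rw [← opensRange_specι 𝒮.toQCAlg U hU]; exact ⟨y, rfl⟩
      · change (𝒮.toQCAlg.ι U hU).base y ∈ 𝒮.toQCAlg.π ⁻¹ᵁ V
        rw [← opensRange_specι 𝒮.toQCAlg V hV]; exact ⟨z, hzy⟩
    obtain ⟨_, ⟨W, hW, rfl⟩, hxW, hWle⟩ := (Scheme.isBasis_affineOpens S).exists_subset_of_mem_open
      hπ (U ⊓ V).2
    have iU : W ≤ U := fun x hx => (hWle hx).1
    have iV : W ≤ V := fun x hx => (hWle hx).2
    obtain ⟨w, hw⟩ : (𝒮.toQCAlg.ι U hU).base y ∈ (𝒮.toQCAlg.ι W hW).opensRange := by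
      rw [opensRange_specι]; exact hxW
    have hwU : (Spec.map (𝒮.presheaf.map (homOfLE iU).op)).base w = y := by
      refine (𝒮.toQCAlg.ι U hU).isOpenEmbedding.injective ?_
      refine Eq.trans ?_ (hw)
      exact congr(($(map_res_specι 𝒮.toQCAlg hU hW iU)).base w)
    have hwV : (Spec.map (𝒮.presheaf.map (homOfLE iV).op)).base w = z := by
      refine (𝒮.toQCAlg.ι V hV).isOpenEmbedding.injective ?_
      refine Eq.trans ?_ (hw.trans hzy.symm)
      exact congr(($(map_res_specι 𝒮.toQCAlg hV hW iV)).base w)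
    have h1 : w ∈ RelCone.vertexCompl (𝒮.deg W hW) := by
      refine (preimage_vertexCompl_res 𝒮 hV hW iV).le ?_
      change (Spec.map (𝒮.presheaf.map (homOfLE iV).op)).base w ∈ RelCone.vertexCompl (𝒮.deg V hV)
      exact hwV.symm ▸ hz
    have h2 := (preimage_vertexCompl_res 𝒮 hU hW iU).ge h1
    exact hwU ▸ h2
  · exact Opens.mem_iSup.mpr ⟨⟨U, hU⟩, y, hy, rfl⟩

section vertex

variable {𝒮} (h0 : RelCone.StrZeroBij 𝒮) {aug : 𝒮.toQCAlg ⟶ RelSpec.QCAlg.unit S}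
  (haug : RelCone.IsAugmentation 𝒮 aug)

theorem aug_str (U : S.Opens) (x : Γ(S, U)) :
    (aug.hom.app (op U)).hom ((𝒮.str.app (op U)).hom x) = x := by
  have := congr(($(aug.comm)).app (op U))
  exact congr(CommRingCat.Hom.hom $this x)

theorem aug_surjective (U : S.Opens) : Function.Surjective (aug.hom.app (op U)).hom :=
  fun x => ⟨(𝒮.str.app (op U)).hom x, aug_str U x⟩

include h0 haug in
theorem ker_aug (U : S.Opens) (hU : IsAffineOpen U) :
    RingHom.ker (aug.hom.app (op U)).hom = ((𝒮.deg U hU)₊).toIdeal := by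
  classical
  let _ := 𝒮.graded U hU
  have hirr : ∀ x ∈ ((𝒮.deg U hU)₊).toIdeal, (aug.hom.app (op U)).hom x = 0 := by
    intro x hx
    refine (irrelevant_toIdeal_le_span.trans (Ideal.span_le.mpr ?_) hx :
      x ∈ RingHom.ker (aug.hom.app (op U)).hom)
    rintro b ⟨d, hd, hb⟩
    obtain ⟨e, rfl⟩ : ∃ e, d = e + 1 := ⟨d - 1, by omega⟩
    exact haug U hU e b hb
  refine le_antisymm (fun x hx => ?_) hirr
  obtain ⟨r, hr⟩ := (h0 U hU).2 ((DirectSum.decompose (𝒮.deg U hU) x) 0)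
  have hr' : (𝒮.str.app (op U)).hom r = ((DirectSum.decompose (𝒮.deg U hU) x) 0 : 𝒮.presheaf.obj (op U)) :=
    congr(($hr : 𝒮.deg U hU 0).1)
  have hsub : x - (𝒮.str.app (op U)).hom r ∈ ((𝒮.deg U hU)₊).toIdeal := by
    refine (HomogeneousIdeal.mem_irrelevant_iff _ _).mpr ?_
    rw [map_sub, hr', GradedRing.proj_apply, GradedRing.proj_apply,
      DirectSum.decompose_of_mem_same (𝒮.deg U hU) (SetLike.coe_mem _), sub_self]
  have h2 : (aug.hom.app (op U)).hom ((𝒮.str.app (op U)).hom r) = 0 := by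
    have := hirr _ hsub
    rw [map_sub, RingHom.mem_ker.mp hx, zero_sub, neg_eq_zero] at this
    exact this
  rw [aug_str] at h2
  have h3 : (𝒮.str.app (op U)).hom r = 0 := (congrArg _ h2).trans (map_zero _)
  rwa [h3, sub_zero] at hsub

include h0 haug in
theorem range_aug (U : S.Opens) (hU : IsAffineOpen U) :
    Set.range (Spec.map (aug.hom.app (op U))).base =
      ((RelCone.vertexCompl (𝒮.deg U hU) : TopologicalSpace.Opens _) : Set _)ᶜ := by
  refine (range_comap_of_surjective _ _ (aug_surjective U)).trans ?_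
  rw [ker_aug h0 haug U hU]
  exact (compl_compl _).symm

variable (aug) in
/-- The vertex over an affine open. -/
def vertexAt (U : S.Opens) (hU : IsAffineOpen U) : (U : Scheme.{u}) ⟶ 𝒮.toQCAlg.spec :=
  hU.isoSpec.hom ≫ Spec.map (aug.hom.app (op U)) ≫ 𝒮.toQCAlg.ι U hU

theorem isoSpec_hom_res {U V : S.Opens} (hU : IsAffineOpen U) (hV : IsAffineOpen V) (i : V ≤ U) :
    S.homOfLE i ≫ hU.isoSpec.hom = hV.isoSpec.hom ≫ Spec.map (S.presheaf.map (homOfLE i).op) := by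
  rw [← cancel_mono hU.fromSpec, Category.assoc, Category.assoc, hU.isoSpec_hom_fromSpec,
    Scheme.homOfLE_ι, hU.map_fromSpec hV (homOfLE i).op, hV.isoSpec_hom_fromSpec]

theorem isVertex_iff (ε : S ⟶ 𝒮.toQCAlg.spec) :
    RelCone.IsVertex 𝒮 aug ε ↔ ∀ (U : S.Opens) (hU : IsAffineOpen U), U.ι ≫ ε = vertexAt aug U hU := by
  constructor
  · intro h U hU
    exact (hU.isoSpec_hom_fromSpec_assoc ε).symm.trans (congrArg (hU.isoSpec.hom ≫ ·) (h.chart U hU))
  · intro h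
    refine ⟨?_, fun U hU => ?_⟩
    · refine hom_ext_over (𝟙 S) fun U hU => ?_
      change U.ι ≫ ε ≫ _ = U.ι ≫ 𝟙 S
      rw [reassoc_of% (h U hU), vertexAt, Category.assoc, Category.assoc, 𝒮.toQCAlg.ι_π,
        ← Spec.map_comp_assoc, Category.comp_id]
      have e : 𝒮.str.app (op U) ≫ aug.hom.app (op U) = 𝟙 Γ(S, U) :=
        CommRingCat.hom_ext (RingHom.ext fun x => aug_str U x)
      refine Eq.trans ?_ hU.isoSpec_hom_fromSpec
      refine congrArg (hU.isoSpec.hom ≫ ·) ?_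
      exact (congrArg (fun t => Spec.map t ≫ hU.fromSpec) e).trans ((congrArg (· ≫ hU.fromSpec) (Spec.map_id _)).trans (Category.id_comp _))
    · rw [← cancel_epi hU.isoSpec.hom, IsAffineOpen.isoSpec_hom_fromSpec_assoc, h U hU, vertexAt]
      rfl

theorem existsUnique_vertex : ∃! ε : S ⟶ 𝒮.toQCAlg.spec, RelCone.IsVertex 𝒮 aug ε := by
  simp only [isVertex_iff]
  refine existsUnique_glue (𝟙 S) (fun U hU => vertexAt aug U hU) fun U hU r => ?_
  change S.homOfLE (S.basicOpen_le r) ≫ _ = _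
  rw [vertexAt, vertexAt, reassoc_of% (isoSpec_hom_res hU (hU.basicOpen r) (S.basicOpen_le r))]
  congr 1
  have key : Spec.map (S.presheaf.map (homOfLE (S.basicOpen_le r)).op) ≫ Spec.map (aug.hom.app (op U)) =
      Spec.map (aug.hom.app (op (S.basicOpen r))) ≫ Spec.map (𝒮.presheaf.map (homOfLE (S.basicOpen_le r)).op) :=
    (Spec.map_comp _ _).symm.trans ((congrArg Spec.map (aug.hom.naturality (homOfLE (S.basicOpen_le r)).op).symm).trans
      (Spec.map_comp _ _))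
  refine (Category.assoc _ _ _).symm.trans ?_
  refine (congrArg (· ≫ 𝒮.toQCAlg.ι U hU) key).trans ?_
  refine (Category.assoc _ _ _).trans ?_
  exact congrArg (Spec.map (aug.hom.app (op (S.basicOpen r))) ≫ ·) (map_res_specι 𝒮.toQCAlg hU (hU.basicOpen r) _)

theorem isClosedImmersion_vertex {ε : S ⟶ 𝒮.toQCAlg.spec} (hε : RelCone.IsVertex 𝒮 aug ε) :
    IsClosedImmersion ε := by
  have : IsClosedImmersion (ε ≫ 𝒮.toQCAlg.π) := by rw [hε.comp_π]; infer_instance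
  exact IsClosedImmersion.of_comp ε 𝒮.toQCAlg.π

include h0 haug in
theorem preimage_range_vertex {ε : S ⟶ 𝒮.toQCAlg.spec} (hε : RelCone.IsVertex 𝒮 aug ε)
    (U : S.Opens) (hU : IsAffineOpen U) :
    (𝒮.toQCAlg.ι U hU).base ⁻¹' (Set.range ε.base) =
      ((RelCone.vertexCompl (𝒮.deg U hU) : TopologicalSpace.Opens _) : Set _)ᶜ := by
  rw [← range_aug h0 haug U hU]
  refine Set.Subset.antisymm ?_ ?_
  · rintro y ⟨s, hs⟩
    have hsU : s ∈ U := by
      have e : (ε ≫ 𝒮.toQCAlg.π).base s = s := by rw [hε.comp_π]; rfl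
      rw [Scheme.Hom.comp_apply, hs] at e
      rw [← e]
      change (𝒮.toQCAlg.ι U hU).base y ∈ 𝒮.toQCAlg.π ⁻¹ᵁ U
      rw [← opensRange_specι 𝒮.toQCAlg U hU]; exact ⟨y, rfl⟩
    obtain ⟨t, rfl⟩ : s ∈ Set.range hU.fromSpec.base := by rw [hU.range_fromSpec]; exact hsU
    refine ⟨t, (𝒮.toQCAlg.ι U hU).isOpenEmbedding.injective ?_⟩
    rw [← hs, ← Scheme.Hom.comp_apply, ← Scheme.Hom.comp_apply, hε.chart U hU]
    rfl
  · rintro _ ⟨t, rfl⟩
    refine ⟨hU.fromSpec.base t, ?_⟩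
    rw [← Scheme.Hom.comp_apply, ← Scheme.Hom.comp_apply, hε.chart U hU]
    rfl

include h0 haug in
theorem pointedCone_eq_compl {ε : S ⟶ 𝒮.toQCAlg.spec} (hε : RelCone.IsVertex 𝒮 aug ε) :
    ((RelCone.pointedCone 𝒮 : 𝒮.toQCAlg.spec.Opens) : Set 𝒮.toQCAlg.spec) = (Set.range ε.base)ᶜ := by
  ext x
  obtain ⟨⟨U, hU⟩, hx⟩ := Opens.mem_iSup.mp ((iSup_affineOpens_eq_top S).ge (Set.mem_univ (𝒮.toQCAlg.π.base x)))
  obtain ⟨y, rfl⟩ : x ∈ (𝒮.toQCAlg.ι U hU).opensRange := by rw [opensRange_specι]; exact hx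
  have h1 := preimage_pointedCone 𝒮 U hU
  have h2 := preimage_range_vertex h0 haug hε U hU
  constructor
  · intro h h'
    have : y ∈ (𝒮.toQCAlg.ι U hU).base ⁻¹' (Set.range ε.base) := h'
    rw [h2] at this
    exact this (h1.le h)
  · intro h
    refine h1.ge ?_
    by_contra hy
    exact h (h2.ge hy)

end vertex

end Groth.Agent.EGAProj74
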