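import Groth.Agent.EGAProj74.ConeFibreRing
import Groth.Agent.EGAProj74.GenDegOne

/-!
Charts and fibres of the retractions of the pointed cones over a general base.
-/

set_option autoImplicit false

universe u

open CategoryTheory CategoryTheory.Limits AlgebraicGeometry TopologicalSpace Opposite
open scoped HomogeneousIdeal

noncomputable section

namespace Groth.Agent.EGAProj74.ConeFib

open HomogeneousLocalization in
theorem awayLift_awayMap {B L : Type u} [CommRing B] [CommRing L] {ℬ : ℕ → AddSubgroup B} [GradedRing ℬ]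
    {a b x : B} {m : ℕ} (hb : b ∈ ℬ m) (hx : x = a * b) (g : B →+* L) (ha : IsUnit (g a)) (hgx : IsUnit (g x))
    (q : Away ℬ a) :
    IsLocalization.Away.lift (S := Localization.Away x) x hgx (awayMap ℬ hb hx q).val =
      IsLocalization.Away.lift (S := Localization.Away a) a ha q.val := by
  rw [val_awayMap]
  refine RingHom.congr_fun (f := (IsLocalization.Away.lift x hgx).comp _) ?_ q.val
  refine IsLocalization.ringHom_ext (Submonoid.powers a) (RingHom.ext fun c => ?_)
  simp only [RingHom.comp_apply, IsLocalization.Away.lift_eq, Localization.awayLift]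

variable {Y : Scheme.{u}} {𝒮 𝒮h : RelProj.QCGrAlg Y} {ι : 𝒮.toQCAlg ⟶ 𝒮h.toQCAlg}
  {z : 𝒮h.presheaf.obj (op ⊤)} (hz : RelCone.IsPolyOver 𝒮 𝒮h ι z)
  {PC : Scheme.{u}} {pC : PC ⟶ Y}
  {chartC : ∀ (U : Y.Opens) (hU : IsAffineOpen U),
    (((pC ⁻¹ᵁ U : PC.Opens) : Scheme.{u}) ≅ Proj (𝒮h.deg U hU))}
  (hC : RelProj.IsRelProj 𝒮h pC chartC)
  {i : 𝒮.toQCAlg.spec ⟶ PC} (hi : RelCone.IsConeImm 𝒮 hz pC chartC i)
  {P : Scheme.{u}} {p : P ⟶ Y}
  {chart : ∀ (U : Y.Opens) (hU : IsAffineOpen U), (((p ⁻¹ᵁ U : P.Opens) : Scheme.{u}) ≅ Proj (𝒮.deg U hU))}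
  (hP : RelProj.IsRelProj 𝒮 p chart)
  {r : ((RelCone.pointedProjCone 𝒮 hz pC chartC : PC.Opens) : Scheme.{u}) ⟶ P}
  (hr : ∀ (U : Y.Opens) (hU : IsAffineOpen U),
    pcι hz U hU ≫ r = domMap (RelProj.gradedHomAt ι hz.graded U hU) ≫ RelProj.emb p chart U hU)
  {i' : ((RelCone.pointedCone 𝒮 : 𝒮.toQCAlg.spec.Opens) : Scheme.{u}) ⟶
    ((RelCone.pointedProjCone 𝒮 hz pC chartC : PC.Opens) : Scheme.{u})}
  (hi' : i' ≫ (RelCone.pointedProjCone 𝒮 hz pC chartC).ι = (RelCone.pointedCone 𝒮).ι ≫ i)
  (U : Y.Opens) (hU : IsAffineOpen U) {f : 𝒮.presheaf.obj (op U)} (hf : f ∈ 𝒮.deg U hU 1)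

/-- The chart of `Proj 𝒮` at `f`. -/
abbrev pChart : Spec (CommRingCat.of (HomogeneousLocalization.Away (𝒮.deg U hU) f)) ⟶ P :=
  Proj.awayι (𝒮.deg U hU) f hf one_pos ≫ RelProj.emb p chart U hU

include hC hP hr in
theorem isPullback_projChart :
    IsPullback (domChart (RelProj.gradedHomAt ι hz.graded U hU) one_pos f hf ≫ pcι hz U hU)
      (Spec.map (CommRingCat.ofHom (HomogeneousLocalization.Away.map (RelProj.gradedHomAt ι hz.graded U hU) f)))
      r (pChart (chart := chart) U hU hf) :=
  (isPullback_domChart (RelProj.gradedHomAt ι hz.graded U hU) one_pos f hf).flip.paste_horiz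
    (isPullback_pcι hz hC hP hr U hU).flip

/-- The chart of the pointed cone at `f`. -/
def eChart : Spec (CommRingCat.of (Localization.Away f)) ⟶
    ((RelCone.pointedCone 𝒮 : 𝒮.toQCAlg.spec.Opens) : Scheme.{u}) :=
  IsOpenImmersion.lift (RelCone.pointedCone 𝒮).ι
    (Spec.map (CommRingCat.ofHom (algebraMap _ (Localization.Away f))) ≫ 𝒮.toQCAlg.ι U hU) (by
      rw [Scheme.Opens.range_ι]
      rintro _ ⟨c, rfl⟩
      refine (preimage_pointedCone 𝒮 U hU).ge fun hle => ?_
      have hc : (Spec.map (CommRingCat.ofHom (algebraMap _ (Localization.Away f)))).base c ∈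
          (PrimeSpectrum.basicOpen f : Set (PrimeSpectrum (𝒮.presheaf.obj (op U)))) := by
        rw [← PrimeSpectrum.localization_away_comap_range (Localization.Away f) f]
        exact ⟨c, rfl⟩
      exact hc (hle (HomogeneousIdeal.mem_irrelevant_of_mem _ one_pos hf)))

@[reassoc]
theorem eChart_ι : eChart U hU hf ≫ (RelCone.pointedCone 𝒮).ι =
    Spec.map (CommRingCat.ofHom (algebraMap _ (Localization.Away f))) ≫ 𝒮.toQCAlg.ι U hU :=
  IsOpenImmersion.lift_fac ..

instance : IsOpenImmersion (eChart U hU hf) :=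
  have : IsOpenImmersion (Spec.map (CommRingCat.ofHom (algebraMap _ (Localization.Away f)))) :=
    IsOpenImmersion.of_isLocalization f
  have : IsOpenImmersion (eChart U hU hf ≫ (RelCone.pointedCone 𝒮).ι) := by
    rw [eChart_ι]; infer_instance
  IsOpenImmersion.of_comp _ (RelCone.pointedCone 𝒮).ι

include hf in
theorem isUnit_evalOne : IsUnit (((algebraMap (𝒮.presheaf.obj (op U)) (Localization.Away f)).comp
    (hz.evalOne U hU)) (RelProj.gradedHomAt ι hz.graded U hU f)) := by
  have : hz.evalOne U hU (RelProj.gradedHomAt ι hz.graded U hU f) = f := hz.evalOne_ι U hU f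
  rw [RingHom.comp_apply, this]
  exact IsLocalization.Away.algebraMap_isUnit f

/-- `S[z]_(f) → S_f`, setting `z = 1`. -/
def projToAff : HomogeneousLocalization.Away (𝒮h.deg U hU) (RelProj.gradedHomAt ι hz.graded U hU f) →+*
    Localization.Away f :=
  (IsLocalization.Away.lift (S := Localization.Away (RelProj.gradedHomAt ι hz.graded U hU f)) _
    (isUnit_evalOne hz U hU hf)).comp
    (algebraMap _ (Localization.Away (RelProj.gradedHomAt ι hz.graded U hU f)))

theorem projToAff_map :
    (projToAff hz U hU hf).comp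
        (HomogeneousLocalization.Away.map (RelProj.gradedHomAt ι hz.graded U hU) f) =
      algebraMap (HomogeneousLocalization.Away (𝒮.deg U hU) f) (Localization.Away f) := by
  ext q
  obtain ⟨k, a, ha, rfl⟩ := HomogeneousLocalization.Away.mk_surjective (𝒮.deg U hU) hf q
  rw [RingHom.comp_apply, HomogeneousLocalization.algebraMap_apply, HomogeneousLocalization.Away.map_mk]
  · have hu : IsUnit (algebraMap (𝒮.presheaf.obj (op U)) (Localization.Away f) f ^ k) :=
      (IsLocalization.Away.algebraMap_isUnit f).pow k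
    refine hu.mul_right_cancel ?_
    rw [val_mk_eq hf k a ha]
    have h1 := congrArg (IsLocalization.Away.lift (S := Localization.Away (RelProj.gradedHomAt ι hz.graded U hU f)) _
        (isUnit_evalOne hz U hU hf))
      (val_mk_eq ((RelProj.gradedHomAt ι hz.graded U hU).map_mem hf) k _
        ((RelProj.gradedHomAt ι hz.graded U hU).map_mem ha))
    rw [map_mul, map_pow] at h1
    have key : ∀ c, IsLocalization.Away.lift (S := Localization.Away (RelProj.gradedHomAt ι hz.graded U hU f)) _
        (isUnit_evalOne hz U hU hf) (algebraMap _ _ (RelProj.gradedHomAt ι hz.graded U hU c)) =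
        algebraMap _ (Localization.Away f) c := fun c =>
      (IsLocalization.Away.lift_eq ..).trans
        (congrArg (algebraMap _ (Localization.Away f)) (hz.evalOne_ι U hU c))
    exact (congrArg (fun t => _ * t ^ k) (key f).symm).trans (h1.trans (key a))

theorem SpecMap_awayZToBase_awayι :
    Spec.map (CommRingCat.ofHom (algebraMap _ (Localization.Away f))) ≫
        Spec.map (CommRingCat.ofHom (hz.awayZToBase U hU)) ≫
          Proj.awayι (𝒮h.deg U hU) (RelCone.restrictTop 𝒮h z U) (hz.deg_z U hU) one_pos =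
      Spec.map (CommRingCat.ofHom (projToAff hz U hU hf)) ≫
        Proj.awayι (𝒮h.deg U hU) (RelProj.gradedHomAt ι hz.graded U hU f)
          ((RelProj.gradedHomAt ι hz.graded U hU).map_mem hf) one_pos := by
  set g := (algebraMap (𝒮.presheaf.obj (op U)) (Localization.Away f)).comp (hz.evalOne U hU) with hg
  set a := RelCone.restrictTop 𝒮h z U
  set b := RelProj.gradedHomAt ι hz.graded U hU f
  have hb : b ∈ 𝒮h.deg U hU 1 := (RelProj.gradedHomAt ι hz.graded U hU).map_mem hf
  have ha : IsUnit (g a) := by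
    rw [hg, RingHom.comp_apply, hz.evalOne_z, map_one]; exact isUnit_one
  have hab : IsUnit (g (a * b)) := by rw [map_mul]; exact ha.mul (isUnit_evalOne hz U hU hf)
  let γ : HomogeneousLocalization.Away (𝒮h.deg U hU) (a * b) →+* Localization.Away f :=
    (IsLocalization.Away.lift (S := Localization.Away (a * b)) (a * b) hab).comp (algebraMap _ _)
  have h1 : (algebraMap _ (Localization.Away f)).comp (hz.awayZToBase U hU) =
      γ.comp (HomogeneousLocalization.awayMap (𝒮h.deg U hU) hb (rfl : a * b = a * b)) := by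
    ext q
    change _ = IsLocalization.Away.lift (S := Localization.Away (a * b)) (a * b) hab
      (HomogeneousLocalization.awayMap (𝒮h.deg U hU) hb (rfl : a * b = a * b) q).val
    rw [awayLift_awayMap hb rfl g ha hab q]
    refine RingHom.congr_fun (f := (algebraMap _ (Localization.Away f)).comp
      (IsLocalization.Away.lift (S := Localization.Away a) a (g := hz.evalOne U hU)
        (by rw [hz.evalOne_z]; exact isUnit_one))) ?_ q.val
    refine IsLocalization.ringHom_ext (Submonoid.powers a) (RingHom.ext fun c => ?_)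
    simp only [RingHom.comp_apply, IsLocalization.Away.lift_eq, hg]
  have h2 : projToAff hz U hU hf =
      γ.comp (HomogeneousLocalization.awayMap (𝒮h.deg U hU) (hz.deg_z U hU) (mul_comm a b)) := by
    ext q
    exact (awayLift_awayMap (hz.deg_z U hU) (mul_comm a b) g (isUnit_evalOne hz U hU hf) hab q).symm
  clear_value γ
  rw [← Spec.map_comp_assoc, ← CommRingCat.ofHom_comp, h1, h2, CommRingCat.ofHom_comp,
    CommRingCat.ofHom_comp, Spec.map_comp_assoc, Spec.map_comp_assoc, Proj.SpecMap_awayMap_awayι,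
    Proj.SpecMap_awayMap_awayι]

include hi hi' in
theorem eChart_lift : eChart U hU hf ≫ i' =
    Spec.map (CommRingCat.ofHom (projToAff hz U hU hf)) ≫
      domChart (RelProj.gradedHomAt ι hz.graded U hU) one_pos f hf ≫ pcι hz U hU := by
  rw [← cancel_mono (RelCone.pointedProjCone 𝒮 hz pC chartC).ι]
  simp only [Category.assoc]
  rw [hi', eChart_ι_assoc, hi U hU, pcι_ι, domChart_ι_assoc]
  simpa only [Category.assoc] using congrArg (· ≫ RelProj.emb pC chartC U hU) (SpecMap_awayZToBase_awayι hz U hU hf)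

include hi hi' hr in
theorem eChart_retraction : eChart U hU hf ≫ i' ≫ r =
    Spec.map (CommRingCat.ofHom (algebraMap (HomogeneousLocalization.Away (𝒮.deg U hU) f) (Localization.Away f))) ≫
      pChart (chart := chart) U hU hf := by
  rw [reassoc_of% (eChart_lift hz hi hi' U hU hf), hr U hU, domChart_domMap_assoc,
    ← projToAff_map hz U hU hf, CommRingCat.ofHom_comp, Spec.map_comp_assoc]

include hC hP hi hr hi' in
theorem preimage_pChart :
    (i' ≫ r) ⁻¹ᵁ (pChart (chart := chart) U hU hf).opensRange = (eChart U hU hf).opensRange := by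
  ext x
  constructor
  · rintro ⟨q, hq⟩
    have hy : (Proj.awayι (𝒮.deg U hU) f hf one_pos).base q ∈ Proj.basicOpen (𝒮.deg U hU) f := by
      rw [← Proj.opensRange_awayι (𝒮.deg U hU) f hf one_pos]; exact ⟨q, rfl⟩
    change (RelProj.emb p chart U hU).base ((Proj.awayι (𝒮.deg U hU) f hf one_pos).base q) = (i' ≫ r).base x at hq
    generalize (Proj.awayι (𝒮.deg U hU) f hf one_pos).base q = y' at hy hq
    obtain ⟨c, hcx⟩ : x.1 ∈ (𝒮.toQCAlg.ι U hU).opensRange := by
      rw [opensRange_specι]
      change 𝒮.toQCAlg.π.base x.1 ∈ U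
      have hov : (i' ≫ r) ≫ p = (RelCone.pointedCone 𝒮).ι ≫ 𝒮.toQCAlg.π := by
        rw [Category.assoc, retraction_over hz hC hP hr, reassoc_of% hi', coneImm_over hz hC hi]
      have hx2 : p.base ((i' ≫ r).base x) = 𝒮.toQCAlg.π.base x.1 := congr(($hov).base x)
      rw [← hx2, ← hq]
      change (RelProj.emb p chart U hU).base y' ∈ p ⁻¹ᵁ U
      rw [← opensRange_emb (chart := chart) U hU]
      exact ⟨y', rfl⟩
    obtain ⟨y'', hy'', hmem⟩ := retraction_apply hz hC hi hr hi' U hU x c hcx
    obtain rfl : y' = y'' := (RelProj.emb p chart U hU).isOpenEmbedding.injective (hq.trans hy'')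
    have hfc : c ∈ (PrimeSpectrum.basicOpen f : Set (PrimeSpectrum (𝒮.presheaf.obj (op U)))) := fun hac =>
      (Proj.mem_basicOpen _ _ y').mp hy ((hmem 1 one_pos f hf).mpr hac)
    rw [← PrimeSpectrum.localization_away_comap_range (Localization.Away f) f] at hfc
    obtain ⟨w, hw⟩ := hfc
    refine ⟨w, (RelCone.pointedCone 𝒮).ι.isOpenEmbedding.injective ?_⟩
    refine (congr(($(eChart_ι U hU hf)).base w)).trans ?_
    exact (congrArg (𝒮.toQCAlg.ι U hU).base hw).trans hcx
  · rintro ⟨w, rfl⟩
    change (i' ≫ r).base ((eChart U hU hf).base w) ∈ (pChart (chart := chart) U hU hf).opensRange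
    exact ⟨_, (congr(($(eChart_retraction hz hi hr hi' U hU hf)).base w)).symm⟩

include hC hP hi hr hi' in
theorem isPullback_eChart :
    IsPullback (eChart U hU hf)
      (Spec.map (CommRingCat.ofHom (algebraMap (HomogeneousLocalization.Away (𝒮.deg U hU) f) (Localization.Away f))))
      (i' ≫ r) (pChart (chart := chart) U hU hf) :=
  (IsOpenImmersion.isPullback _ _ _ _ (eChart_retraction hz hi hr hi' U hU hf)
    (preimage_pChart hz hC hi hP hr hi' U hU hf)).flip

theorem exists_mem_range_pChart (hgen : 𝒮.IsGenDegOne) (x : P) :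
    ∃ (U : Y.Opens) (hU : IsAffineOpen U) (f : 𝒮.presheaf.obj (op U)) (hf : f ∈ 𝒮.deg U hU 1),
      x ∈ Set.range (pChart (chart := chart) U hU hf) := by
  obtain ⟨U, hU, y, rfl⟩ := exists_emb_apply (chart := chart) x
  obtain ⟨f, hf, hfy⟩ : ∃ f ∈ 𝒮.deg U hU 1, f ∉ y.asHomogeneousIdeal.toIdeal := by
    by_contra! h
    exact y.not_irrelevant_le ((irrelevant_le_span_one_of_gen (hgen U hU)).trans (Ideal.span_le.mpr h))
  obtain ⟨q, hq⟩ : y ∈ (Proj.awayι (𝒮.deg U hU) f hf one_pos).opensRange := by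
    rw [Proj.opensRange_awayι]; exact hfy
  exact ⟨U, hU, f, hf, q, congrArg (RelProj.emb p chart U hU).base hq⟩

end Groth.Agent.EGAProj74.ConeFib
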