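import Groth.Agent.EGAProj74.ConeRetraction

/-!
The retraction of the pointed affine cone.
-/

set_option autoImplicit false

universe u

open CategoryTheory CategoryTheory.Limits AlgebraicGeometry TopologicalSpace Opposite
open scoped HomogeneousIdeal

noncomputable section

namespace Groth.Agent.EGAProj74

variable {Y : Scheme.{u}} {𝒮 𝒮h : RelProj.QCGrAlg Y} {ι : 𝒮.toQCAlg ⟶ 𝒮h.toQCAlg}
  {z : 𝒮h.presheaf.obj (op ⊤)} (hz : RelCone.IsPolyOver 𝒮 𝒮h ι z)

/-- The image of a point of `Spec 𝒮(U)` in `Proj 𝒮h(U)`. -/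
abbrev conePoint (U : Y.Opens) (hU : IsAffineOpen U) (c : Spec (𝒮.presheaf.obj (op U))) :
    Proj (𝒮h.deg U hU) :=
  (Proj.awayι (𝒮h.deg U hU) (RelCone.restrictTop 𝒮h z U) (hz.deg_z U hU) one_pos).base
    ((Spec.map (CommRingCat.ofHom (hz.awayZToBase U hU))).base c)

theorem conePoint_mem_iff (U : Y.Opens) (hU : IsAffineOpen U) (c : Spec (𝒮.presheaf.obj (op U)))
    {d : ℕ} (hd : 0 < d) {a : 𝒮.presheaf.obj (op U)} (ha : a ∈ 𝒮.deg U hU d) :
    conePoint hz U hU c ∈ Proj.basicOpen (𝒮h.deg U hU) (RelProj.gradedHomAt ι hz.graded U hU a) ↔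
      a ∉ c.asIdeal := by
  change c ∈ Spec.map (CommRingCat.ofHom (hz.awayZToBase U hU)) ⁻¹ᵁ
    (Proj.awayι (𝒮h.deg U hU) (RelCone.restrictTop 𝒮h z U) (hz.deg_z U hU) one_pos ⁻¹ᵁ
      Proj.basicOpen (𝒮h.deg U hU) (RelProj.gradedHomAt ι hz.graded U hU a)) ↔ _
  have e2 := Proj.awayι_preimage_basicOpen (𝒮h.deg U hU) (hz.deg_z U hU) one_pos
    ((RelProj.gradedHomAt ι hz.graded U hU).map_mem ha) hd
  refine Iff.trans (Iff.of_eq (congrArg (fun O : TopologicalSpace.Opens _ =>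
    c ∈ Spec.map (CommRingCat.ofHom (hz.awayZToBase U hU)) ⁻¹ᵁ O) e2)) ?_
  change hz.awayZToBase U hU _ ∉ c.asIdeal ↔ _
  rw [awayZToBase_elem hz U hU ha]

theorem awayZToBase_zero (U : Y.Opens) (hU : IsAffineOpen U) :
    CommRingCat.ofHom (HomogeneousLocalization.fromZeroRingHom (𝒮h.deg U hU)
        (Submonoid.powers (RelCone.restrictTop 𝒮h z U))) ≫ CommRingCat.ofHom (hz.awayZToBase U hU) =
      CommRingCat.ofHom ((hz.evalOne U hU).comp (algebraMap (𝒮h.deg U hU 0) (𝒮h.presheaf.obj (op U)))) := by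
  ext x
  refine (hz.awayZToBase_of_val U hU _ x.1 0 ?_).trans rfl
  refine (HomogeneousLocalization.val_mk _).trans ?_
  exact congrArg (Localization.mk x.1) (Subtype.ext (pow_zero _).symm)

variable {PC : Scheme.{u}} {pC : PC ⟶ Y}
  {chartC : ∀ (U : Y.Opens) (hU : IsAffineOpen U),
    (((pC ⁻¹ᵁ U : PC.Opens) : Scheme.{u}) ≅ Proj (𝒮h.deg U hU))}
  (hC : RelProj.IsRelProj 𝒮h pC chartC)
  {i : 𝒮.toQCAlg.spec ⟶ PC} (hi : RelCone.IsConeImm 𝒮 hz pC chartC i)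

include hC hi in
theorem coneImm_over : i ≫ pC = 𝒮.toQCAlg.π := by
  refine spec_hom_ext 𝒮.toQCAlg fun U hU => ?_
  rw [reassoc_of% (hi U hU), emb_p hC, Proj.awayι_toSpecZero_assoc, 𝒮.toQCAlg.ι_π,
    ← Spec.map_comp_assoc, ← Spec.map_comp_assoc]
  congr 2
  rw [awayZToBase_zero hz U hU]
  ext x
  change hz.evalOne U hU ((𝒮h.str.app (op U)).hom x) = (𝒮.str.app (op U)).hom x
  have e : (ι.hom.app (op U)).hom ((𝒮.str.app (op U)).hom x) = (𝒮h.str.app (op U)).hom x :=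
    congr(CommRingCat.Hom.hom (($(ι.comm)).app (op U)) x)
  rw [← e]
  exact hz.evalOne_ι U hU _

variable {P : Scheme.{u}} {p : P ⟶ Y}
  {chart : ∀ (U : Y.Opens) (hU : IsAffineOpen U), (((p ⁻¹ᵁ U : P.Opens) : Scheme.{u}) ≅ Proj (𝒮.deg U hU))}
  (hP : RelProj.IsRelProj 𝒮 p chart)
  {r : ((RelCone.pointedProjCone 𝒮 hz pC chartC : PC.Opens) : Scheme.{u}) ⟶ P}
  (hr : ∀ (U : Y.Opens) (hU : IsAffineOpen U),
    pcι hz U hU ≫ r = domMap (RelProj.gradedHomAt ι hz.graded U hU) ≫ RelProj.emb p chart U hU)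
  {i' : ((RelCone.pointedCone 𝒮 : 𝒮.toQCAlg.spec.Opens) : Scheme.{u}) ⟶
    ((RelCone.pointedProjCone 𝒮 hz pC chartC : PC.Opens) : Scheme.{u})}
  (hi' : i' ≫ (RelCone.pointedProjCone 𝒮 hz pC chartC).ι = (RelCone.pointedCone 𝒮).ι ≫ i)

include hC hi hr hi' in
theorem retraction_apply (U : Y.Opens) (hU : IsAffineOpen U) (x : RelCone.pointedCone 𝒮)
    (c : Spec (𝒮.presheaf.obj (op U))) (hcx : (𝒮.toQCAlg.ι U hU).base c = x.1) :
    ∃ y : Proj (𝒮.deg U hU), (i' ≫ r).base x = (RelProj.emb p chart U hU).base y ∧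
      ∀ (d : ℕ), 0 < d → ∀ a ∈ 𝒮.deg U hU d, (a ∈ y.asHomogeneousIdeal ↔ a ∈ c.asIdeal) := by
  have e : i.base x.1 = (RelProj.emb pC chartC U hU).base (conePoint hz U hU c) := by
    rw [← hcx]
    exact congr(($(hi U hU)).base c)
  have hx' : i.base x.1 ∈ RelCone.pointedProjCone 𝒮 hz pC chartC :=
    (preimage_chartImm_pointedProjCone hz hC hi).ge x.2
  have hw : conePoint hz U hU c ∈ RelCone.domOpen (RelProj.gradedHomAt ι hz.graded U hU) :=
    (emb_mem_pointedProjCone_iff hz hC U hU _).mp (e ▸ hx')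
  refine ⟨(domMap (RelProj.gradedHomAt ι hz.graded U hU)).base ⟨_, hw⟩, ?_, fun d hd a ha => ?_⟩
  · have h1 : i'.base x = (pcι hz U hU).base ⟨_, hw⟩ := by
      refine (RelCone.pointedProjCone 𝒮 hz pC chartC).ι.isOpenEmbedding.injective ?_
      refine (congr(($hi').base x)).trans (e.trans ?_)
      exact (congr(($(pcι_ι hz (pC := pC) (chartC := chartC) U hU)).base ⟨_, hw⟩)).symm
    rw [Scheme.Hom.comp_apply, h1]
    exact congr(($(hr U hU)).base ⟨_, hw⟩)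
  · rw [mem_domMap_iff _ _ hd ha]
    have := conePoint_mem_iff hz U hU c hd ha
    rw [Proj.mem_basicOpen] at this
    exact not_iff_not.mp this

include hC hP hi hr hi' in
theorem surjective_pointedRetraction : Function.Surjective (i' ≫ r).base := by
  intro x
  obtain ⟨U, hU, y, rfl⟩ := exists_emb_apply (chart := chart) x
  let c : Spec (𝒮.presheaf.obj (op U)) :=
    (⟨y.asHomogeneousIdeal.toIdeal, y.isPrime⟩ : PrimeSpectrum (𝒮.presheaf.obj (op U)))
  have hc : c ∈ RelCone.vertexCompl (𝒮.deg U hU) := fun hle => y.not_irrelevant_le hle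
  obtain ⟨y', hy', hmem⟩ := retraction_apply hz hC hi hr hi' U hU
    ⟨(𝒮.toQCAlg.ι U hU).base c, (preimage_pointedCone 𝒮 U hU).ge hc⟩ c rfl
  refine ⟨⟨_, (preimage_pointedCone 𝒮 U hU).ge hc⟩, hy'.trans ?_⟩
  rw [proj_ext (x := y') (y := y) hmem]

include hC hP hi hr hi' in
theorem isAffineHom_pointedRetraction : IsAffineHom (i' ≫ r) := by
  refine isAffineHom_of_forall_exists_isAffineOpen _ fun x => ?_
  obtain ⟨U, hU, y, rfl⟩ := exists_emb_apply (chart := chart) x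
  obtain ⟨d, a, hd, ha, hay⟩ : ∃ (d : ℕ) (a : 𝒮.presheaf.obj (op U)), 0 < d ∧ a ∈ 𝒮.deg U hU d ∧
      y ∈ Proj.basicOpen (𝒮.deg U hU) a := by
    by_contra! h'
    refine y.not_irrelevant_le (irrelevant_toIdeal_le_span.trans (Ideal.span_le.mpr ?_))
    rintro b ⟨e, he, hb⟩
    exact not_not.mp fun hby => h' e b he hb ((Proj.mem_basicOpen _ _ y).mpr hby)
  refine ⟨RelProj.emb p chart U hU ''ᵁ Proj.basicOpen (𝒮.deg U hU) a, ⟨y, hay, rfl⟩,
    (Proj.isAffineOpen_basicOpen _ a ha hd).image_of_isOpenImmersion _, ?_⟩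
  let W : 𝒮.toQCAlg.spec.Opens := 𝒮.toQCAlg.ι U hU ''ᵁ PrimeSpectrum.basicOpen a
  have hW : IsAffineOpen W := (IsAffineOpen.Spec_basicOpen a).image_of_isOpenImmersion _
  have hWE : W ≤ RelCone.pointedCone 𝒮 := by
    rintro _ ⟨c, hc, rfl⟩
    refine (preimage_pointedCone 𝒮 U hU).ge fun hle => ?_
    exact hc (hle (HomogeneousIdeal.mem_irrelevant_of_mem _ hd ha))
  have heq : (i' ≫ r) ⁻¹ᵁ (RelProj.emb p chart U hU ''ᵁ Proj.basicOpen (𝒮.deg U hU) a) =
      (RelCone.pointedCone 𝒮).ι ⁻¹ᵁ W := by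
    ext x
    constructor
    · rintro ⟨y', hy', hxy⟩
      change (RelProj.emb p chart U hU).base y' = (i' ≫ r).base x at hxy
      obtain ⟨c, hcx⟩ : x.1 ∈ (𝒮.toQCAlg.ι U hU).opensRange := by
        rw [opensRange_specι]
        change 𝒮.toQCAlg.π.base x.1 ∈ U
        have hov : (i' ≫ r) ≫ p = (RelCone.pointedCone 𝒮).ι ≫ 𝒮.toQCAlg.π := by
          rw [Category.assoc, retraction_over hz hC hP hr, reassoc_of% hi', coneImm_over hz hC hi]
        have hx2 : p.base ((i' ≫ r).base x) = 𝒮.toQCAlg.π.base x.1 := congr(($hov).base x)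
        rw [← hx2, ← hxy]
        change (RelProj.emb p chart U hU).base y' ∈ p ⁻¹ᵁ U
        rw [← opensRange_emb (chart := chart) U hU]
        exact ⟨y', rfl⟩
      obtain ⟨y'', hy'', hmem⟩ := retraction_apply hz hC hi hr hi' U hU x c hcx
      obtain rfl : y' = y'' := (RelProj.emb p chart U hU).isOpenEmbedding.injective (hxy.trans hy'')
      refine ⟨c, fun hac => ?_, hcx⟩
      exact (Proj.mem_basicOpen _ _ y').mp hy' ((hmem d hd a ha).mpr hac)
    · rintro ⟨c, hc, hcx⟩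
      obtain ⟨y', hy', hmem⟩ := retraction_apply hz hC hi hr hi' U hU x c hcx
      exact ⟨y', (Proj.mem_basicOpen _ _ y').mpr fun h => hc ((hmem d hd a ha).mp h), hy'.symm⟩
  rw [heq]
  refine hW.preimage_of_isOpenImmersion _ ?_
  rw [Scheme.Opens.opensRange_ι]
  exact hWE

end Groth.Agent.EGAProj74
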