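import Groth.Agent.EGAProj74.PointedRetraction

/-!
The canonical immersion of the affine cone into the projective cone.
-/

set_option autoImplicit false

universe u

open CategoryTheory CategoryTheory.Limits AlgebraicGeometry TopologicalSpace Opposite
open scoped HomogeneousIdeal

noncomputable section

namespace Groth.Agent.EGAProj74

theorem specMap_app_injective {R S : CommRingCat.{u}} (φ : R ⟶ S) (h : Function.Injective φ.hom)
    (V : (Spec R).Opens) (hV : V = ⊤) : Function.Injective ((Spec.map φ).app V).hom := by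
  subst hV
  intro x y hxy
  have e : ∀ x, (Scheme.ΓSpecIso S).hom.hom (((Spec.map φ).app ⊤).hom x) = φ.hom ((Scheme.ΓSpecIso R).hom.hom x) :=
    fun x => congr(CommRingCat.Hom.hom $(Scheme.ΓSpecIso_naturality φ) x)
  refine (ConcreteCategory.bijective_of_isIso (Scheme.ΓSpecIso R).hom).1 (h ?_)
  exact (e x).symm.trans ((congrArg (Scheme.ΓSpecIso S).hom.hom hxy).trans (e y))

theorem comp_app_injective {X Y Z : Scheme.{u}} (f : X ⟶ Y) (g : Y ⟶ Z) (V : Z.Opens)
    (hg : Function.Injective (g.app V).hom) (hf : Function.Injective (f.app (g ⁻¹ᵁ V)).hom) :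
    Function.Injective ((f ≫ g).app V).hom := by
  rw [Scheme.Hom.comp_app]
  exact hf.comp hg

theorem app_injective_of_comp {X Y Z : Scheme.{u}} (f : X ⟶ Y) (g : Y ⟶ Z) (k : X ⟶ Z) (e : f ≫ g = k)
    (V : Z.Opens) (hk : Function.Injective (k.app V).hom) : Function.Injective (g.app V).hom := by
  subst e
  rw [Scheme.Hom.comp_app] at hk
  exact Function.Injective.of_comp hk

theorem app_injective_of_le {Y Z : Scheme.{u}} (g : Y ⟶ Z) [IsOpenImmersion g] (V : Z.Opens)
    (hV : V ≤ g.opensRange) : Function.Injective (g.app V).hom :=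
  have := g.isIso_app V hV
  (ConcreteCategory.bijective_of_isIso (g.app V)).1

section poly

variable {A B : Type u} [CommRing A] [CommRing B] {𝒜 : ℕ → AddSubgroup A} [GradedRing 𝒜]
  {ℬ : ℕ → AddSubgroup B} [GradedRing ℬ]

theorem awayMap_injective {d : ℕ} {z a : B} (hz : z ∈ ℬ 1) (ha : a ∈ ℬ d) (hd : 0 < d)
    (hnz : z ∈ nonZeroDivisors B) :
    Function.Injective (HomogeneousLocalization.awayMap ℬ hz (rfl : a * z = a * z)) := by
  rw [injective_iff_map_eq_zero]
  intro t ht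
  obtain ⟨k, x, hx, rfl⟩ := HomogeneousLocalization.Away.mk_surjective ℬ ha t
  have h2 := congr(HomogeneousLocalization.val $ht)
  rw [HomogeneousLocalization.Away.mk, HomogeneousLocalization.val_awayMap_mk,
    HomogeneousLocalization.val_zero, Localization.mk_eq_mk', IsLocalization.mk'_eq_zero_iff] at h2
  obtain ⟨⟨_, j, rfl⟩, hj⟩ := h2
  refine HomogeneousLocalization.val_injective _ ?_
  rw [HomogeneousLocalization.Away.val_mk, HomogeneousLocalization.val_zero, Localization.mk_eq_mk',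
    IsLocalization.mk'_eq_zero_iff]
  refine ⟨⟨a ^ j, j, rfl⟩, ?_⟩
  simp only [mul_pow] at hj
  refine (mem_nonZeroDivisors_iff.mp (pow_mem hnz (j + k))).1 _ ?_
  rw [pow_add]; linear_combination hj

theorem awayι_app_injective {d : ℕ} {z a : B} (hz : z ∈ ℬ 1) (ha : a ∈ ℬ d) (hd : 0 < d)
    (hnz : z ∈ nonZeroDivisors B) :
    Function.Injective ((Proj.awayι ℬ z hz one_pos).app (Proj.basicOpen ℬ a)).hom := by
  refine app_injective_of_comp (Spec.map (CommRingCat.ofHom (HomogeneousLocalization.awayMap ℬ ha (mul_comm a z))))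
    _ (Spec.map (CommRingCat.ofHom (HomogeneousLocalization.awayMap ℬ hz (rfl : a * z = a * z))) ≫
      Proj.awayι ℬ a ha hd) ?_ _ ?_
  · rw [Proj.SpecMap_awayMap_awayι, Proj.SpecMap_awayMap_awayι]
    exact awayι_congr _ _ _ _
  · refine comp_app_injective _ _ _ (app_injective_of_le _ _ (Proj.opensRange_awayι ℬ a ha hd).ge)
      (specMap_app_injective _ (awayMap_injective hz ha hd hnz) _ ?_)
    rw [← Proj.opensRange_awayι ℬ a ha hd, Scheme.Hom.preimage_opensRange]

theorem nonZeroDivisors_of_bij (ι : A →+* B) {z : B}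
    (bij : Function.Bijective (Polynomial.eval₂RingHom ι z)) : z ∈ nonZeroDivisors B := by
  let e := RingEquiv.ofBijective _ bij
  have hX : e Polynomial.X = z := Polynomial.eval₂_X _ _
  refine mem_nonZeroDivisors_iff_right.mpr fun x hx => ?_
  obtain ⟨p, rfl⟩ := e.surjective x
  rw [← hX, ← map_mul, EmbeddingLike.map_eq_zero_iff] at hx
  rw [mem_nonZeroDivisors_iff_right.mp (Polynomial.monic_X (R := A)).mem_nonZeroDivisors p hx, map_zero]

end poly

variable {Y : Scheme.{u}} {𝒮 𝒮h : RelProj.QCGrAlg Y} {ι : 𝒮.toQCAlg ⟶ 𝒮h.toQCAlg}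
  {z : 𝒮h.presheaf.obj (op ⊤)} (hz : RelCone.IsPolyOver 𝒮 𝒮h ι z)

theorem eq_awayZToBase (U : Y.Opens) (hU : IsAffineOpen U)
    (θ : HomogeneousLocalization.Away (𝒮h.deg U hU) (RelCone.restrictTop 𝒮h z U) →+* 𝒮.presheaf.obj (op U))
    (hθ : ∀ (q : HomogeneousLocalization.Away (𝒮h.deg U hU) (RelCone.restrictTop 𝒮h z U))
      (k : ℕ) (x : 𝒮.presheaf.obj (op U)), x ∈ 𝒮.deg U hU k →
        q.val = Localization.mk ((ι.hom.app (op U)).hom x)
          ⟨RelCone.restrictTop 𝒮h z U ^ k, pow_mem (Submonoid.mem_powers _) k⟩ → θ q = x) :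
    θ = hz.awayZToBase U hU := by
  classical
  let g := RingEquiv.ofBijective _ (awayZToBase_bijective hz U hU)
  ext q
  obtain ⟨a, rfl⟩ := g.symm.surjective q
  have key : ∀ (k : ℕ) (x : 𝒮.presheaf.obj (op U)), x ∈ 𝒮.deg U hU k → θ (g.symm x) = x := by
    intro k x hx
    let q : HomogeneousLocalization.Away (𝒮h.deg U hU) (RelCone.restrictTop 𝒮h z U) :=
      HomogeneousLocalization.Away.mk _ (hz.deg_z U hU) k ((ι.hom.app (op U)).hom x)
        (by simpa using hz.graded U hU k x hx)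
    have h1 : g q = x := (hz.awayZToBase_of_val U hU q _ k (HomogeneousLocalization.Away.val_mk _ _ _ _ _)).trans
      (hz.evalOne_ι U hU x)
    rw [g.symm_apply_eq.mpr h1.symm]
    exact hθ q k x hx (HomogeneousLocalization.Away.val_mk _ _ _ _ _)
  have h2 : hz.awayZToBase U hU (g.symm a) = a := g.apply_symm_apply a
  rw [h2, ← DirectSum.sum_support_decompose (𝒮.deg U hU) a, map_sum, map_sum]
  exact Finset.sum_congr rfl fun k _ => key k _ (SetLike.coe_mem _)

theorem awayZToBase_res {U V : Y.Opens} (hU : IsAffineOpen U) (hV : IsAffineOpen V) (i : V ≤ U)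
    (e : 𝒮h.res hU hV i (RelCone.restrictTop 𝒮h z U) = RelCone.restrictTop 𝒮h z V)
    (q : HomogeneousLocalization.Away (𝒮h.deg V hV) (𝒮h.res hU hV i (RelCone.restrictTop 𝒮h z U)))
    (q' : HomogeneousLocalization.Away (𝒮h.deg U hU) (RelCone.restrictTop 𝒮h z U))
    (hq : q = HomogeneousLocalization.Away.map (𝒮h.res hU hV i) _ q') :
    hz.awayZToBase V hV (e ▸ q) = (𝒮.presheaf.map (homOfLE i).op).hom (hz.awayZToBase U hU q') := by
  obtain ⟨k, x, hx, rfl⟩ := HomogeneousLocalization.Away.mk_surjective _ (hz.deg_z U hU) q'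
  obtain ⟨p, rfl⟩ := exists_poly (RelProj.gradedHomAt ι hz.graded U hU) (hz.bij U hU) x
  rw [hz.awayZToBase_of_val U hU _ _ k (HomogeneousLocalization.Away.val_mk _ _ _ _ _)]
  refine (hz.awayZToBase_of_val V hV _ (𝒮h.res hU hV i
    (Polynomial.eval₂ (RelProj.gradedHomAt ι hz.graded U hU).toRingHom (RelCone.restrictTop 𝒮h z U) p)) k ?_).trans ?_
  · subst hq
    revert e
    generalize RelCone.restrictTop 𝒮h z V = w
    intro e
    subst e
    exact (congrArg HomogeneousLocalization.val (HomogeneousLocalization.Away.map_mk _ _ _ _ _ _)).trans (HomogeneousLocalization.Away.val_mk _ _ _ _ _)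
  · refine Eq.trans ?_ (congrArg (𝒮.presheaf.map (homOfLE i).op).hom (evalOne_eval₂ hz U hU p)).symm
    have hnat : ((𝒮h.presheaf.map (homOfLE i).op).hom).comp (ι.hom.app (op U)).hom =
        ((ι.hom.app (op V)).hom).comp (𝒮.presheaf.map (homOfLE i).op).hom :=
      (congr(CommRingCat.Hom.hom $(ι.hom.naturality (homOfLE i).op))).symm
    change hz.evalOne V hV ((𝒮h.presheaf.map (homOfLE i).op).hom
      (Polynomial.eval₂ (ι.hom.app (op U)).hom (RelCone.restrictTop 𝒮h z U) p)) = _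
    rw [Polynomial.hom_eval₂, hnat, show (𝒮h.presheaf.map (homOfLE i).op).hom (RelCone.restrictTop 𝒮h z U) =
      RelCone.restrictTop 𝒮h z V from e, ← Polynomial.eval₂_map, evalOne_eval₂ hz V hV,
      Polynomial.eval_one_map]

variable {PC : Scheme.{u}} {pC : PC ⟶ Y}
  {chartC : ∀ (U : Y.Opens) (hU : IsAffineOpen U),
    (((pC ⁻¹ᵁ U : PC.Opens) : Scheme.{u}) ≅ Proj (𝒮h.deg U hU))}
  (hC : RelProj.IsRelProj 𝒮h pC chartC)

theorem chart_res {U V : Y.Opens} (hU : IsAffineOpen U) (hV : IsAffineOpen V) (i : V ≤ U)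
    (e : 𝒮h.res hU hV i (RelCone.restrictTop 𝒮h z U) = RelCone.restrictTop 𝒮h z V) :
    Spec.map (𝒮.presheaf.map (homOfLE i).op) ≫ Spec.map (CommRingCat.ofHom (hz.awayZToBase U hU)) ≫
        Proj.awayι (𝒮h.deg U hU) (RelCone.restrictTop 𝒮h z U) (hz.deg_z U hU) one_pos =
      Spec.map (CommRingCat.ofHom (hz.awayZToBase V hV)) ≫
        Proj.awayι (𝒮h.deg V hV) (RelCone.restrictTop 𝒮h z V) (hz.deg_z V hV) one_pos ≫
          Proj.map (𝒮h.res hU hV i) (irrelevant_le_map_res 𝒮h hU hV i) := by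
  have key : ∀ (w : 𝒮h.presheaf.obj (op V)) (e' : 𝒮h.res hU hV i (RelCone.restrictTop 𝒮h z U) = w)
      (hw : w ∈ 𝒮h.deg V hV 1) (φ : HomogeneousLocalization.Away (𝒮h.deg V hV) w →+* 𝒮.presheaf.obj (op V)),
      (∀ q', φ (e' ▸ HomogeneousLocalization.Away.map (𝒮h.res hU hV i) (RelCone.restrictTop 𝒮h z U) q') =
        (𝒮.presheaf.map (homOfLE i).op).hom (hz.awayZToBase U hU q')) →
      Spec.map (𝒮.presheaf.map (homOfLE i).op) ≫ Spec.map (CommRingCat.ofHom (hz.awayZToBase U hU)) ≫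
          Proj.awayι (𝒮h.deg U hU) (RelCone.restrictTop 𝒮h z U) (hz.deg_z U hU) one_pos =
        Spec.map (CommRingCat.ofHom φ) ≫
          Proj.awayι (𝒮h.deg V hV) w hw one_pos ≫ Proj.map (𝒮h.res hU hV i) (irrelevant_le_map_res 𝒮h hU hV i) := by
    rintro w rfl hw φ hφ
    rw [Proj.awayι_comp_map _ _ one_pos _ (hz.deg_z U hU), ← Spec.map_comp_assoc, ← Spec.map_comp_assoc]
    congr 2
    ext q'
    exact (hφ q').symm
  exact key _ e (hz.deg_z V hV) _ fun q' => awayZToBase_res hz hU hV i e _ q' rfl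

include hC in
theorem existsUnique_coneImm :
    ∃! i : 𝒮.toQCAlg.spec ⟶ PC, RelCone.IsConeImm 𝒮 hz pC chartC i := by
  let G : ∀ (U : Y.Opens), IsAffineOpen U → (((𝒮.toQCAlg.π ⁻¹ᵁ U : 𝒮.toQCAlg.spec.Opens) : Scheme.{u}) ⟶ PC) :=
    fun U hU => (specChart 𝒮.toQCAlg U hU).hom ≫ Spec.map (CommRingCat.ofHom (hz.awayZToBase U hU)) ≫
      Proj.awayι (𝒮h.deg U hU) (RelCone.restrictTop 𝒮h z U) (hz.deg_z U hU) one_pos ≫
        RelProj.emb pC chartC U hU
  obtain ⟨e, he, hu⟩ := existsUnique_glue 𝒮.toQCAlg.π G (by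
    intro U hU r
    have hV := hU.basicOpen r
    have hres : 𝒮h.res hU hV (Y.basicOpen_le r) (RelCone.restrictTop 𝒮h z U) =
        RelCone.restrictTop 𝒮h z (Y.basicOpen r) :=
      congr(CommRingCat.Hom.hom $((𝒮h.presheaf.map_comp (homOfLE (le_top : U ≤ ⊤)).op
        (homOfLE (Y.basicOpen_le r)).op).symm) z)
    have e1 : 𝒮.toQCAlg.spec.homOfLE (𝒮.toQCAlg.π.preimage_mono (Y.basicOpen_le r)) ≫
        (specChart 𝒮.toQCAlg U hU).hom =
        (specChart 𝒮.toQCAlg _ hV).hom ≫ Spec.map (𝒮.presheaf.map (homOfLE (Y.basicOpen_le r)).op) := by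
      rw [← cancel_mono (𝒮.toQCAlg.ι U hU), Category.assoc, Category.assoc, specChart_hom_ι,
        Scheme.homOfLE_ι, map_res_specι 𝒮.toQCAlg hU hV (Y.basicOpen_le r), specChart_hom_ι]
    simp only [G]
    rw [reassoc_of% e1, reassoc_of% (chart_res hz hU hV (Y.basicOpen_le r) hres), map_res_emb' hC])
  refine ⟨e, fun U hU => ?_, fun i hi => hu i fun U hU => ?_⟩
  · rw [← cancel_epi (specChart 𝒮.toQCAlg U hU).hom, specChart_hom_ι_assoc, he U hU]
  · rw [← specChart_hom_ι 𝒮.toQCAlg U hU, Category.assoc, hi U hU]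

variable {i : 𝒮.toQCAlg.spec ⟶ PC} (hi : RelCone.IsConeImm 𝒮 hz pC chartC i)
include hC hi

theorem isPullback_coneImm (U : Y.Opens) (hU : IsAffineOpen U) :
    IsPullback (Spec.map (CommRingCat.ofHom (hz.awayZToBase U hU)) ≫
        Proj.awayι (𝒮h.deg U hU) (RelCone.restrictTop 𝒮h z U) (hz.deg_z U hU) one_pos)
      (𝒮.toQCAlg.ι U hU) (RelProj.emb pC chartC U hU) i := by
  refine IsOpenImmersion.isPullback _ _ _ _ ((hi U hU).trans (Category.assoc _ _ _).symm) ?_
  rw [opensRange_emb, ← Scheme.Hom.comp_preimage, coneImm_over hz hC hi, opensRange_specι]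

set_option backward.isDefEq.respectTransparency false in
theorem coneImm_local {Q : MorphismProperty Scheme.{u}} [IsZariskiLocalAtTarget Q]
    (hQ : ∀ (U : Y.Opens) (hU : IsAffineOpen U), Q (Spec.map (CommRingCat.ofHom (hz.awayZToBase U hU)) ≫
      Proj.awayι (𝒮h.deg U hU) (RelCone.restrictTop 𝒮h z U) (hz.deg_z U hU) one_pos)) : Q i := by
  refine IsZariskiLocalAtTarget.of_iSup_eq_top (fun U : Y.affineOpens => pC ⁻¹ᵁ U.1) (by
    rw [← Scheme.Hom.preimage_iSup, iSup_affineOpens_eq_top, Scheme.Hom.preimage_top]) fun U => ?_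
  refine (Q.arrow_mk_iso_iff (morphismRestrictEq i (opensRange_emb (chart := chartC) U.1 U.2)).symm).mpr ?_
  refine (Q.arrow_mk_iso_iff (morphismRestrictOpensRange i (RelProj.emb pC chartC U.1 U.2))).mpr ?_
  rw [← (isPullback_coneImm hz hC hi U.1 U.2).flip.isoPullback_inv_snd]
  exact (Q.cancel_left_of_respectsIso _ _).mpr (hQ U.1 U.2)

theorem isOpenImmersion_coneImm : IsOpenImmersion i :=
  coneImm_local hz hC hi (Q := @IsOpenImmersion.{u}) fun U hU => by
    have := isIso_SpecMap_awayZToBase hz U hU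
    infer_instance

set_option backward.isDefEq.respectTransparency false in
theorem isAffineHom_coneImm : IsAffineHom i :=
  coneImm_local hz hC hi (Q := @IsAffineHom.{u}) fun U hU => by
    have := isIso_SpecMap_awayZToBase hz U hU
    have : IsAffineHom (Proj.awayι (𝒮h.deg U hU) (RelCone.restrictTop 𝒮h z U) (hz.deg_z U hU) one_pos ≫
        Proj.toSpecZero (𝒮h.deg U hU)) := isAffineHom_of_isAffine _
    have : IsAffineHom (Proj.awayι (𝒮h.deg U hU) (RelCone.restrictTop 𝒮h z U) (hz.deg_z U hU) one_pos) :=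
      IsAffineHom.of_comp _ (Proj.toSpecZero (𝒮h.deg U hU))
    infer_instance

theorem app_injective_coneImm (U : Y.Opens) (hU : IsAffineOpen U) {d : ℕ} {a : 𝒮h.presheaf.obj (op U)}
    (hd : 0 < d) (ha : a ∈ 𝒮h.deg U hU d) :
    Function.Injective (i.app (RelProj.emb pC chartC U hU ''ᵁ Proj.basicOpen (𝒮h.deg U hU) a)).hom := by
  have h1 : Function.Injective ((RelProj.emb pC chartC U hU).app
      (RelProj.emb pC chartC U hU ''ᵁ Proj.basicOpen (𝒮h.deg U hU) a)).hom := by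
    refine app_injective_of_le _ _ ?_
    rintro _ ⟨y, -, rfl⟩
    exact ⟨y, rfl⟩
  have h2 : Function.Injective ((Proj.awayι (𝒮h.deg U hU) (RelCone.restrictTop 𝒮h z U) (hz.deg_z U hU) one_pos).app
      (RelProj.emb pC chartC U hU ⁻¹ᵁ (RelProj.emb pC chartC U hU ''ᵁ Proj.basicOpen (𝒮h.deg U hU) a))).hom := by
    rw [Scheme.Hom.preimage_image_eq]
    exact awayι_app_injective (hz.deg_z U hU) ha hd (nonZeroDivisors_of_bij _ (hz.bij U hU))
  have := isIso_SpecMap_awayZToBase hz U hU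
  refine app_injective_of_comp (𝒮.toQCAlg.ι U hU) i _ (hi U hU) _ ?_
  refine comp_app_injective _ _ _ (comp_app_injective _ _ _ h1 h2) ?_
  exact (ConcreteCategory.bijective_of_isIso _).1

theorem ker_coneImm : i.ker = ⊥ := by
  have := isAffineHom_coneImm hz hC hi
  let I := Σ' (U : Y.Opens) (hU : IsAffineOpen U) (d : ℕ), {a : 𝒮h.presheaf.obj (op U) // 0 < d ∧ a ∈ 𝒮h.deg U hU d}
  refine Scheme.IdealSheafData.ext_of_iSup_eq_top
    (fun s : I => ⟨RelProj.emb pC chartC s.1 s.2.1 ''ᵁ Proj.basicOpen (𝒮h.deg s.1 s.2.1) s.2.2.2.1,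
      (Proj.isAffineOpen_basicOpen _ _ s.2.2.2.2.2 s.2.2.2.2.1).image_of_isOpenImmersion _⟩) ?_ ?_
  · refine top_le_iff.mp fun x _ => ?_
    obtain ⟨U, hU, y, rfl⟩ := exists_emb_apply (chart := chartC) x
    obtain ⟨d, a, hd, ha, hay⟩ : ∃ (d : ℕ) (a : 𝒮h.presheaf.obj (op U)), 0 < d ∧ a ∈ 𝒮h.deg U hU d ∧
        a ∉ y.asHomogeneousIdeal.toIdeal := by
      by_contra! h'
      refine y.not_irrelevant_le (irrelevant_toIdeal_le_span.trans (Ideal.span_le.mpr ?_))
      rintro b ⟨e, he, hb⟩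
      exact h' e b he hb
    exact Opens.mem_iSup.mpr ⟨⟨U, hU, d, a, hd, ha⟩, y, (Proj.mem_basicOpen _ _ y).mpr hay, rfl⟩
  rintro ⟨U, hU, d, a, hd, ha⟩
  refine (Scheme.Hom.ker_apply i _).trans ?_
  exact (RingHom.injective_iff_ker_eq_bot _).mp (app_injective_coneImm hz hC hi U hU hd ha)

end Groth.Agent.EGAProj74
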