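import Groth.Agent.EGAProj74.RelBasic

/-!
Opens of a relative Proj defined by global homogeneous sections.
-/

set_option autoImplicit false

universe u

open CategoryTheory CategoryTheory.Limits AlgebraicGeometry TopologicalSpace Opposite
open scoped HomogeneousIdeal

noncomputable section

namespace Groth.Agent.EGAProj74

variable {S P : Scheme.{u}} {𝒮 : RelProj.QCGrAlg S} {p : P ⟶ S}
  {chart : ∀ (U : S.Opens) (hU : IsAffineOpen U), (((p ⁻¹ᵁ U : P.Opens) : Scheme.{u}) ≅ Proj (𝒮.deg U hU))}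

theorem image_chart_preimage (U : S.Opens) (hU : IsAffineOpen U) (V : (Proj (𝒮.deg U hU)).Opens) :
    (p ⁻¹ᵁ U).ι ''ᵁ ((chart U hU).hom ⁻¹ᵁ V) = RelProj.emb p chart U hU ''ᵁ V := by
  change _ = ((chart U hU).inv ≫ (p ⁻¹ᵁ U).ι) ''ᵁ V
  rw [Scheme.Hom.comp_image, Scheme.Hom.inv_image]

variable (p chart) in
/-- `X_f`. -/
def globalOpen (f : 𝒮.presheaf.obj (op ⊤)) : P.Opens :=
  ⨆ U : S.affineOpens, RelProj.emb p chart U.1 U.2 ''ᵁ
    Proj.basicOpen (𝒮.deg U.1 U.2) ((𝒮.presheaf.map (homOfLE (le_top : U.1 ≤ ⊤)).op).hom f)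

theorem emb_mem_globalOpen_iff (h : RelProj.IsRelProj 𝒮 p chart) (f : 𝒮.presheaf.obj (op ⊤))
    (U : S.Opens) (hU : IsAffineOpen U) (y : Proj (𝒮.deg U hU)) :
    (RelProj.emb p chart U hU).base y ∈ globalOpen p chart f ↔
      y ∈ Proj.basicOpen (𝒮.deg U hU) ((𝒮.presheaf.map (homOfLE (le_top : U ≤ ⊤)).op).hom f) := by
  refine ⟨fun hy => ?_, fun hy => Opens.mem_iSup.mpr ⟨⟨U, hU⟩, y, hy, rfl⟩⟩
  obtain ⟨⟨V, hV⟩, z, hz, hzy⟩ := Opens.mem_iSup.mp hy
  change (RelProj.emb p chart V hV).base z = _ at hzy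
  have hs : p.base ((RelProj.emb p chart U hU).base y) ∈ U ⊓ V := by
    refine ⟨?_, ?_⟩
    · change (RelProj.emb p chart U hU).base y ∈ p ⁻¹ᵁ U
      rw [← opensRange_emb (chart := chart) U hU]
      exact ⟨y, rfl⟩
    · rw [← hzy]
      change (RelProj.emb p chart V hV).base z ∈ p ⁻¹ᵁ V
      rw [← opensRange_emb (chart := chart) V hV]
      exact ⟨z, rfl⟩
  obtain ⟨_, ⟨D, hD, rfl⟩, hsD, hDle⟩ := (Scheme.isBasis_affineOpens S).exists_subset_of_mem_open
    (show p.base ((RelProj.emb p chart U hU).base y) ∈ ((U ⊓ V : S.Opens) : Set S) from hs) (U ⊓ V).2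
  obtain ⟨w, hw⟩ : (RelProj.emb p chart U hU).base y ∈ (RelProj.emb p chart D hD).opensRange := by
    rw [opensRange_emb]; exact hsD
  have key : ∀ (X : S.Opens) (hX : IsAffineOpen X) (i : D ≤ X) (v : Proj (𝒮.deg X hX)),
      (RelProj.emb p chart X hX).base v = (RelProj.emb p chart D hD).base w →
      (v ∈ Proj.basicOpen (𝒮.deg X hX) ((𝒮.presheaf.map (homOfLE (le_top : X ≤ ⊤)).op).hom f) ↔
        w ∈ Proj.basicOpen (𝒮.deg D hD) ((𝒮.presheaf.map (homOfLE (le_top : D ≤ ⊤)).op).hom f)) := by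
    intro X hX i v hv
    obtain rfl : (Proj.map (𝒮.res hX hD i) (irrelevant_le_map_res 𝒮 hX hD i)).base w = v := by
      refine (RelProj.emb p chart X hX).isOpenEmbedding.injective ?_
      rw [hv, ← map_res_emb' h hX hD i]
      rfl
    rw [← res_res_apply 𝒮 (le_top : X ≤ ⊤) i f]
    rfl
  exact (key U hU (fun x hx => (hDle hx).1) y hw.symm).mpr
    ((key V hV (fun x hx => (hDle hx).2) z (hzy.trans hw.symm)).mp hz)

theorem globalOpen_inf (h : RelProj.IsRelProj 𝒮 p chart) (f : 𝒮.presheaf.obj (op ⊤))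
    (U : S.Opens) (hU : IsAffineOpen U) :
    globalOpen p chart f ⊓ p ⁻¹ᵁ U = RelProj.emb p chart U hU ''ᵁ
      Proj.basicOpen (𝒮.deg U hU) ((𝒮.presheaf.map (homOfLE (le_top : U ≤ ⊤)).op).hom f) := by
  have e : RelProj.emb p chart U hU ⁻¹ᵁ globalOpen p chart f =
      Proj.basicOpen (𝒮.deg U hU) ((𝒮.presheaf.map (homOfLE (le_top : U ≤ ⊤)).op).hom f) :=
    Opens.ext (Set.ext fun y => emb_mem_globalOpen_iff h f U hU y)
  rw [← e, Scheme.Hom.image_preimage_eq_opensRange_inf, opensRange_emb, inf_comm]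

end Groth.Agent.EGAProj74
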