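import Groth.Agent.EGAProj74.PolyCone
import Groth.Agent.EGAProj74.ConeBasic
import Groth.Agent.EGAProj74.GlobalSection
import Groth.Agent.EGAProj74.RelMap

/-!
The affine cone and the part at infinity inside the projective cone.
-/

set_option autoImplicit false

universe u

open CategoryTheory CategoryTheory.Limits AlgebraicGeometry TopologicalSpace Opposite
open scoped HomogeneousIdeal

noncomputable section

namespace Groth.Agent.EGAProj74

variable {Y : Scheme.{u}} {𝒮 𝒮h : RelProj.QCGrAlg Y} {ι : 𝒮.toQCAlg ⟶ 𝒮h.toQCAlg}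
  {z : 𝒮h.presheaf.obj (op ⊤)} (hz : RelCone.IsPolyOver 𝒮 𝒮h ι z)

include hz in
theorem evalOne_eval₂ (U : Y.Opens) (hU : IsAffineOpen U) (p : Polynomial (𝒮.presheaf.obj (op U))) :
    hz.evalOne U hU (Polynomial.eval₂ (ι.hom.app (op U)).hom (RelCone.restrictTop 𝒮h z U) p) =
      p.eval 1 := by
  rw [← hz.polyEquiv_apply U hU, RelCone.IsPolyOver.evalOne, RingHom.comp_apply]
  simp

theorem awayZToBase_bijective (U : Y.Opens) (hU : IsAffineOpen U) :
    Function.Bijective (hz.awayZToBase U hU) :=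
  awayZ_bijective (RelProj.gradedHomAt ι hz.graded U hU) (hz.deg_z U hU) (hz.bij U hU) _
    fun q p k hq => (hz.awayZToBase_of_val U hU q _ k hq).trans (evalOne_eval₂ hz U hU p)

variable {PC : Scheme.{u}} {pC : PC ⟶ Y}
  {chartC : ∀ (U : Y.Opens) (hU : IsAffineOpen U),
    (((pC ⁻¹ᵁ U : PC.Opens) : Scheme.{u}) ≅ Proj (𝒮h.deg U hU))}
  (hC : RelProj.IsRelProj 𝒮h pC chartC)

theorem isIso_SpecMap_awayZToBase (U : Y.Opens) (hU : IsAffineOpen U) :
    IsIso (Spec.map (CommRingCat.ofHom (hz.awayZToBase U hU))) := by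
  have : IsIso (CommRingCat.ofHom (hz.awayZToBase U hU)) :=
    (ConcreteCategory.isIso_iff_bijective _).mpr (awayZToBase_bijective hz U hU)
  infer_instance

include hC in
theorem range_coneImm {i : 𝒮.toQCAlg.spec ⟶ PC} (hi : RelCone.IsConeImm 𝒮 hz pC chartC i) :
    Set.range i.base = ((globalOpen pC chartC z : PC.Opens) : Set PC) := by
  have hchart : ∀ (U : Y.Opens) (hU : IsAffineOpen U),
      Set.range (𝒮.toQCAlg.ι U hU ≫ i).base =
        (RelProj.emb pC chartC U hU).base ''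
          ((Proj.basicOpen (𝒮h.deg U hU) (RelCone.restrictTop 𝒮h z U) : TopologicalSpace.Opens _) : Set _) := by
    intro U hU
    have := isIso_SpecMap_awayZToBase hz U hU
    rw [hi U hU, ← Proj.opensRange_awayι (𝒮h.deg U hU) (RelCone.restrictTop 𝒮h z U) (hz.deg_z U hU) one_pos,
      Scheme.Hom.comp_base, Scheme.Hom.comp_base, TopCat.coe_comp, TopCat.coe_comp, Set.range_comp,
      Set.range_eq_univ.mpr (show Function.Surjective (Spec.map (CommRingCat.ofHom (hz.awayZToBase U hU))).base from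
        (Spec.map (CommRingCat.ofHom (hz.awayZToBase U hU))).homeomorph.surjective),
      Set.image_univ, Set.range_comp]
    rfl
  refine Set.Subset.antisymm ?_ fun x hx => ?_
  · rintro _ ⟨c, rfl⟩
    obtain ⟨⟨U, hU⟩, hc⟩ := Opens.mem_iSup.mp ((iSup_affineOpens_eq_top Y).ge (Set.mem_univ (𝒮.toQCAlg.π.base c)))
    obtain ⟨w, rfl⟩ : c ∈ (𝒮.toQCAlg.ι U hU).opensRange := by rw [opensRange_specι]; exact hc
    obtain ⟨y, hy, hyw⟩ := (hchart U hU).le ⟨w, rfl⟩
    have := (emb_mem_globalOpen_iff hC z U hU y).mpr hy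
    rw [hyw] at this
    exact this
  · obtain ⟨U, hU, y, rfl⟩ := exists_emb_apply (chart := chartC) x
    obtain ⟨w, hw⟩ := (hchart U hU).ge ⟨y, (emb_mem_globalOpen_iff hC z U hU y).mp hx, rfl⟩
    exact ⟨_, hw⟩

theorem gradedHomAt_retraction {θ : 𝒮h.toQCAlg ⟶ 𝒮.toQCAlg} (hθ : RelProj.IsGradedHom θ)
    (hθz : (θ.hom.app (op ⊤)).hom z = 0) (U : Y.Opens) (hU : IsAffineOpen U) :
    RelProj.gradedHomAt θ hθ U hU (RelCone.restrictTop 𝒮h z U) = 0 := by
  have := congr(CommRingCat.Hom.hom $(θ.hom.naturality (homOfLE (le_top : U ≤ ⊤)).op) z)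
  refine Eq.trans this ?_
  exact (congrArg (fun t => (𝒮.presheaf.map (homOfLE (le_top : U ≤ ⊤)).op).hom t) hθz).trans (map_zero (𝒮.presheaf.map (homOfLE (le_top : U ≤ ⊤)).op).hom)

variable {P : Scheme.{u}} {p : P ⟶ Y}
  {chart : ∀ (U : Y.Opens) (hU : IsAffineOpen U), (((p ⁻¹ᵁ U : P.Opens) : Scheme.{u}) ≅ Proj (𝒮.deg U hU))}

include hz hC in
theorem range_infinity {θ : 𝒮h.toQCAlg ⟶ 𝒮.toQCAlg} (hθ : RelProj.IsGradedHom θ) (hιθ : ι ≫ θ = 𝟙 _)
    (hθz : (θ.hom.app (op ⊤)).hom z = 0)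
    (hirr : ∀ (U : Y.Opens) (hU : IsAffineOpen U),
      (𝒮.deg U hU)₊ ≤ ((𝒮h.deg U hU)₊).map (RelProj.gradedHomAt θ hθ U hU))
    (j : P ⟶ PC) (hj : RelProj.IsRelProjMap θ hθ hirr chartC chart j) :
    Set.range j.base = ((globalOpen pC chartC z : PC.Opens) : Set PC)ᶜ := by
  have hθι : ∀ (U : Y.Opens) (hU : IsAffineOpen U) (a : 𝒮.presheaf.obj (op U)),
      RelProj.gradedHomAt θ hθ U hU (RelProj.gradedHomAt ι hz.graded U hU a) = a := fun U hU a =>
    congr(CommRingCat.Hom.hom ((RelSpec.QCAlg.Hom.hom $hιθ).app (op U)) a)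
  have hrange := fun (U : Y.Opens) (hU : IsAffineOpen U) =>
    range_map_retraction (RelProj.gradedHomAt ι hz.graded U hU) (hz.deg_z U hU) (hz.bij U hU)
      (RelProj.gradedHomAt θ hθ U hU) (hθι U hU) (gradedHomAt_retraction hθ hθz U hU) (hirr U hU)
  have hj' := (isRelProjMap_iff j).mp hj
  refine Set.Subset.antisymm ?_ fun x hx => ?_
  · rintro _ ⟨c, rfl⟩
    obtain ⟨U, hU, y, rfl⟩ := exists_emb_apply (chart := chart) c
    rw [← Scheme.Hom.comp_apply, hj' U hU, Scheme.Hom.comp_apply]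
    intro h
    exact (hrange U hU).le ⟨y, rfl⟩ ((emb_mem_globalOpen_iff hC z U hU _).mp h)
  · obtain ⟨U, hU, y, rfl⟩ := exists_emb_apply (chart := chartC) x
    obtain ⟨w, hw⟩ := (hrange U hU).ge fun h => hx ((emb_mem_globalOpen_iff hC z U hU y).mpr h)
    refine ⟨(RelProj.emb p chart U hU).base w, ?_⟩
    rw [← Scheme.Hom.comp_apply, hj' U hU, Scheme.Hom.comp_apply, hw]

end Groth.Agent.EGAProj74
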