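import Groth.Agent.EGAProj74.Glue
import Mathlib.AlgebraicGeometry.Pullbacks
import Mathlib.AlgebraicGeometry.Morphisms.Basic

/-!
Gluing and cartesian squares checked on affine pairs of a morphism of bases.
-/

set_option autoImplicit false

universe u

open CategoryTheory CategoryTheory.Limits AlgebraicGeometry TopologicalSpace Opposite

noncomputable section

namespace Groth.Agent.EGAProj74

variable {S S' : Scheme.{u}}

/-- Affine opens of source and target, one over the other. -/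
structure APair (g : S' ⟶ S) where
  /-- the open downstairs -/
  U : S.Opens
  hU : IsAffineOpen U
  /-- the open upstairs -/
  U' : S'.Opens
  hU' : IsAffineOpen U'
  hle : U' ≤ g ⁻¹ᵁ U

theorem APair.exists_mem (g : S' ⟶ S) (s : S') : ∃ V : APair g, s ∈ V.U' := by
  obtain ⟨_, ⟨U, hU, rfl⟩, hgU, -⟩ := (Scheme.isBasis_affineOpens S).exists_subset_of_mem_open
    (Set.mem_univ (g.base s)) isOpen_univ
  obtain ⟨_, ⟨U', hU', rfl⟩, hsU', hU'le⟩ := (Scheme.isBasis_affineOpens S').exists_subset_of_mem_open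
    (show s ∈ ((g ⁻¹ᵁ U : S'.Opens) : Set S') from hgU) (g ⁻¹ᵁ U).2
  exact ⟨⟨U, hU, U', hU', hU'le⟩, hsU'⟩

theorem APair.exists_le {g : S' ⟶ S} (V W : APair g) (s : S') (hs : s ∈ V.U' ⊓ W.U') :
    ∃ D : APair g, D.U ≤ V.U ∧ D.U ≤ W.U ∧ D.U' ≤ V.U' ∧ D.U' ≤ W.U' ∧ s ∈ D.U' := by
  obtain ⟨_, ⟨D, hD, rfl⟩, hgD, hDle⟩ := (Scheme.isBasis_affineOpens S).exists_subset_of_mem_open
    (show g.base s ∈ ((V.U ⊓ W.U : S.Opens) : Set S) from ⟨V.hle hs.1, W.hle hs.2⟩) (V.U ⊓ W.U).2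
  obtain ⟨_, ⟨D', hD', rfl⟩, hsD', hD'le⟩ := (Scheme.isBasis_affineOpens S').exists_subset_of_mem_open
    (show s ∈ ((V.U' ⊓ W.U' ⊓ g ⁻¹ᵁ D : S'.Opens) : Set S') from ⟨hs, hgD⟩) (V.U' ⊓ W.U' ⊓ g ⁻¹ᵁ D).2
  exact ⟨⟨D, hD, D', hD', fun x hx => (hD'le hx).2⟩, fun x hx => (hDle hx).1, fun x hx => (hDle hx).2,
    fun x hx => (hD'le hx).1.1, fun x hx => (hD'le hx).1.2, hsD'⟩

variable {P' T : Scheme.{u}} (p' : P' ⟶ S') (g : S' ⟶ S)

theorem existsUnique_glue_pairs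
    (G : ∀ V : APair g, ((p' ⁻¹ᵁ V.U' : P'.Opens) : Scheme.{u}) ⟶ T)
    (hG : ∀ (V D : APair g) (_ : D.U ≤ V.U) (i : D.U' ≤ V.U'),
      P'.homOfLE (p'.preimage_mono i) ≫ G V = G D) :
    ∃! e : P' ⟶ T, ∀ V : APair g, (p' ⁻¹ᵁ V.U').ι ≫ e = G V := by
  let 𝒰 : P'.OpenCover := P'.openCoverOfIsOpenCover (fun V : APair g => p' ⁻¹ᵁ V.U') <| by
    refine top_le_iff.mp fun x _ => ?_
    obtain ⟨V, hV⟩ := APair.exists_mem g (p'.base x)
    exact Opens.mem_iSup.mpr ⟨V, hV⟩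
  have hcompat : ∀ V W : APair g,
      pullback.fst ((p' ⁻¹ᵁ V.U').ι) ((p' ⁻¹ᵁ W.U').ι) ≫ G V =
        pullback.snd ((p' ⁻¹ᵁ V.U').ι) ((p' ⁻¹ᵁ W.U').ι) ≫ G W := by
    intro V W
    let q : pullback ((p' ⁻¹ᵁ V.U').ι) ((p' ⁻¹ᵁ W.U').ι) ⟶ P' :=
      pullback.fst ((p' ⁻¹ᵁ V.U').ι) ((p' ⁻¹ᵁ W.U').ι) ≫ (p' ⁻¹ᵁ V.U').ι
    refine Scheme.hom_ext_of_forall _ _ fun w => ?_
    have hw : p'.base (q.base w) ∈ V.U' ⊓ W.U' := by
      refine ⟨(pullback.fst ((p' ⁻¹ᵁ V.U').ι) ((p' ⁻¹ᵁ W.U').ι) w).2, ?_⟩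
      have e : q = pullback.snd _ _ ≫ (p' ⁻¹ᵁ W.U').ι := pullback.condition
      rw [e]
      exact (pullback.snd ((p' ⁻¹ᵁ V.U').ι) ((p' ⁻¹ᵁ W.U').ι) w).2
    obtain ⟨D, hDV, hDW, hD'V, hD'W, hsD⟩ := APair.exists_le V W _ hw
    refine ⟨q ⁻¹ᵁ (p' ⁻¹ᵁ D.U'), hsD, ?_⟩
    set O := q ⁻¹ᵁ (p' ⁻¹ᵁ D.U') with hO
    let m : (O : Scheme.{u}) ⟶ (p' ⁻¹ᵁ D.U' : P'.Opens) :=
      IsOpenImmersion.lift (p' ⁻¹ᵁ D.U').ι (O.ι ≫ q) (by
        rw [Scheme.Opens.range_ι]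
        rintro _ ⟨z, rfl⟩
        exact z.2)
    have hm : m ≫ (p' ⁻¹ᵁ D.U').ι = O.ι ≫ q := IsOpenImmersion.lift_fac ..
    have h1 : O.ι ≫ pullback.fst _ _ = m ≫ P'.homOfLE (p'.preimage_mono hD'V) := by
      rw [← cancel_mono (p' ⁻¹ᵁ V.U').ι]
      simp only [Category.assoc, Scheme.homOfLE_ι]
      exact hm.symm
    have h2 : O.ι ≫ pullback.snd _ _ = m ≫ P'.homOfLE (p'.preimage_mono hD'W) := by
      rw [← cancel_mono (p' ⁻¹ᵁ W.U').ι]
      simp only [Category.assoc, Scheme.homOfLE_ι, ← pullback.condition]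
      exact hm.symm
    rw [← Category.assoc, ← Category.assoc, h1, h2, Category.assoc, Category.assoc,
      hG V D hDV hD'V, hG W D hDW hD'W]
  refine ⟨𝒰.glueMorphisms G hcompat, fun V => 𝒰.ι_glueMorphisms G hcompat V, fun e he => ?_⟩
  exact 𝒰.hom_ext _ _ fun V => (he V).trans (𝒰.ι_glueMorphisms G hcompat V).symm

variable {P : Scheme.{u}} {p : P ⟶ S}

/-- A commutative square is cartesian if it is so over the affine pairs. -/
theorem isPullback_of_pairs (h : P' ⟶ P) (hw : h ≫ p = p' ≫ g)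
    (hV : ∀ V : APair g, ∃ (X : Scheme.{u}) (j : X ⟶ P') (t : X ⟶ Spec Γ(S', V.U')) (_ : IsOpenImmersion j),
      j.opensRange = p' ⁻¹ᵁ V.U' ∧ j ≫ p' = t ≫ V.hU'.fromSpec ∧
        IsPullback (j ≫ h) t p (V.hU'.fromSpec ≫ g)) :
    IsPullback h p' p g := by
  let k : P' ⟶ pullback p g := pullback.lift h p' hw
  have hkfst : k ≫ pullback.fst _ _ = h := pullback.lift_fst _ _ _
  have hksnd : k ≫ pullback.snd _ _ = p' := pullback.lift_snd _ _ _
  have hloc : ∀ V : APair g, IsIso (k ∣_ (pullback.snd p g ⁻¹ᵁ V.U')) := by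
    intro V
    obtain ⟨X, j, t, hj, hjr, hjw, hsq⟩ := hV V
    have hc : IsPullback (j ≫ k) t (pullback.snd p g) V.hU'.fromSpec := by
      refine IsPullback.of_right ?_ ?_ (IsPullback.of_hasPullback p g)
      · rwa [Category.assoc, hkfst]
      · rw [Category.assoc, hksnd, hjw]
    have : IsOpenImmersion (j ≫ k) :=
      MorphismProperty.of_isPullback (P := @IsOpenImmersion.{u}) hc.flip
        (inferInstance : IsOpenImmersion V.hU'.fromSpec)
    have hr : (j ≫ k).opensRange = pullback.snd p g ⁻¹ᵁ V.U' := by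
      ext1
      change Set.range (j ≫ k).base = _
      have e : Set.range (pullback.fst (pullback.snd p g) V.hU'.fromSpec).base =
          (pullback.snd p g).base ⁻¹' Set.range V.hU'.fromSpec.base :=
        IsOpenImmersion.range_pullbackFst _ _
      rw [← hc.isoPullback_hom_fst, Scheme.Hom.comp_base, TopCat.coe_comp, Set.range_comp,
        Set.range_eq_univ.mpr (show Function.Surjective hc.isoPullback.hom from
          hc.isoPullback.hom.homeomorph.surjective), Set.image_univ, e, V.hU'.range_fromSpec]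
      rfl
    refine ((MorphismProperty.isomorphisms Scheme.{u}).arrow_mk_iso_iff (morphismRestrictEq k hr).symm).mpr ?_
    refine ((MorphismProperty.isomorphisms Scheme.{u}).arrow_mk_iso_iff
      (morphismRestrictOpensRange k (j ≫ k))).mpr ?_
    have h2 : IsPullback (𝟙 _) j (j ≫ k) k := by
      refine IsOpenImmersion.isPullback _ _ _ _ (by simp) ?_
      rw [hr, ← Scheme.Hom.comp_preimage, hksnd, hjr]
    rw [← h2.flip.isoPullback_inv_snd]
    change IsIso _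
    infer_instance
  have hiso : IsIso k := by
    refine IsZariskiLocalAtTarget.of_iSup_eq_top (P := MorphismProperty.isomorphisms Scheme.{u})
      (fun V : APair g => pullback.snd p g ⁻¹ᵁ V.U') ?_ hloc
    refine top_le_iff.mp fun x _ => ?_
    obtain ⟨V, hs⟩ := APair.exists_mem g ((pullback.snd p g).base x)
    exact Opens.mem_iSup.mpr ⟨V, hs⟩
  exact IsPullback.of_iso_pullback ⟨hw⟩ (asIso k) hkfst hksnd

end Groth.Agent.EGAProj74
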