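import Groth.Agent.EGAProj74.ConeBasic
import Groth.Agent.EGAProj74.GluePairs
import Mathlib.RingTheory.GradedAlgebra.Radical

/-!
Pointed affine cones and morphisms of cones.
-/

set_option autoImplicit false

universe u

open CategoryTheory CategoryTheory.Limits AlgebraicGeometry TopologicalSpace Opposite
open scoped HomogeneousIdeal

noncomputable section

namespace Groth.Agent.EGAProj74

section ring

variable {A B : CommRingCat.{u}} {𝒜 : ℕ → AddSubgroup A} [GradedRing 𝒜]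
  {ℬ : ℕ → AddSubgroup B} [GradedRing ℬ]

theorem preimage_vertexCompl_eq_iff (g : A ⟶ B) (ψ : 𝒜 →+*ᵍ ℬ) (hψ : ∀ a, g.hom a = ψ a) :
    Spec.map g ⁻¹ᵁ RelCone.vertexCompl 𝒜 = RelCone.vertexCompl ℬ ↔ RelCone.domOpen ψ = ⊤ := by
  constructor
  · intro h
    refine top_le_iff.mp fun x _ => (RelCone.mem_domOpen ψ x).mpr ?_
    let q : Spec B := (⟨x.asHomogeneousIdeal.toIdeal, x.isPrime⟩ : PrimeSpectrum B)
    have hq : q ∈ RelCone.vertexCompl ℬ := fun hle => x.not_irrelevant_le hle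
    obtain ⟨a, ha, hax⟩ := Set.not_subset.mp (h.ge hq :
      ¬ ((HomogeneousIdeal.irrelevant 𝒜).toIdeal : Set A) ⊆ (PrimeSpectrum.comap g.hom q).asIdeal)
    refine ⟨a, ha, fun h' => hax ?_⟩
    change g.hom a ∈ x.asHomogeneousIdeal.toIdeal
    rw [hψ]
    exact h'
  · intro h
    refine le_antisymm (preimage_vertexCompl_le g ψ hψ) fun q hq hA => ?_
    let J := q.asIdeal.homogeneousCore ℬ
    have hJirr : ¬ (HomogeneousIdeal.irrelevant ℬ).toIdeal ≤ J.toIdeal := fun hle =>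
      hq (hle.trans (Ideal.toIdeal_homogeneousCore_le ℬ _))
    let x : Proj ℬ := (⟨J, q.isPrime.homogeneousCore, hJirr⟩ : ProjectiveSpectrum ℬ)
    obtain ⟨d, f, hd, hf, hfx⟩ := exists_of_mem_domOpen ψ (h.ge (Set.mem_univ x))
    refine (Proj.mem_basicOpen ℬ _ x).mp hfx
      (Ideal.mem_homogeneousCore_of_homogeneous_of_mem ⟨d, ψ.map_mem hf⟩ ?_)
    have := hA (HomogeneousIdeal.mem_irrelevant_of_mem 𝒜 hd hf)
    change g.hom f ∈ q.asIdeal at this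
    rwa [hψ] at this

end ring

variable {Y Y' : Scheme.{u}} (q : Y' ⟶ Y) {𝒮 : RelProj.QCGrAlg Y} {𝒮' : RelProj.QCGrAlg Y'}
  (gm : ∀ V : APair q, 𝒮.presheaf.obj (op V.U) ⟶ 𝒮'.presheaf.obj (op V.U'))
  (ψ : ∀ V : APair q, 𝒮.deg V.U V.hU →+*ᵍ 𝒮'.deg V.U' V.hU')
  (hψ : ∀ V a, (gm V).hom a = ψ V a)
  (Φ : 𝒮'.toQCAlg.spec ⟶ 𝒮.toQCAlg.spec)
  (hΦ : ∀ V : APair q, 𝒮'.toQCAlg.ι V.U' V.hU' ≫ Φ = Spec.map (gm V) ≫ 𝒮.toQCAlg.ι V.U V.hU)

include hΦ in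
theorem preimage_chart_pointedCone (V : APair q) :
    𝒮'.toQCAlg.ι V.U' V.hU' ⁻¹ᵁ (Φ ⁻¹ᵁ RelCone.pointedCone 𝒮) =
      Spec.map (gm V) ⁻¹ᵁ RelCone.vertexCompl (𝒮.deg V.U V.hU) := by
  rw [← preimage_pointedCone 𝒮 V.U V.hU, ← Scheme.Hom.comp_preimage, hΦ V, Scheme.Hom.comp_preimage]

theorem exists_pair_chart (x : 𝒮'.toQCAlg.spec) :
    ∃ (V : APair q) (y : Spec (𝒮'.presheaf.obj (op V.U'))), (𝒮'.toQCAlg.ι V.U' V.hU').base y = x := by
  obtain ⟨V, hV⟩ := APair.exists_mem q (𝒮'.toQCAlg.π.base x)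
  obtain ⟨y, hy⟩ : x ∈ (𝒮'.toQCAlg.ι V.U' V.hU').opensRange := by rw [opensRange_specι]; exact hV
  exact ⟨V, y, hy⟩

include hψ hΦ in
theorem preimage_pointedCone_le : Φ ⁻¹ᵁ RelCone.pointedCone 𝒮 ≤ RelCone.pointedCone 𝒮' := by
  intro x hx
  obtain ⟨V, y, rfl⟩ := exists_pair_chart q x
  have h := (preimage_chart_pointedCone q gm Φ hΦ V).le hx
  exact (preimage_pointedCone 𝒮' V.U' V.hU').ge (preimage_vertexCompl_le _ (ψ V) (hψ V) h)

include hψ hΦ in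
theorem preimage_pointedCone_eq_iff :
    (∀ V : APair q, RelCone.domOpen (ψ V) = ⊤) ↔ Φ ⁻¹ᵁ RelCone.pointedCone 𝒮 = RelCone.pointedCone 𝒮' := by
  constructor
  · intro h
    refine le_antisymm (preimage_pointedCone_le q gm ψ hψ Φ hΦ) fun x hx => ?_
    obtain ⟨V, y, rfl⟩ := exists_pair_chart q x
    refine (preimage_chart_pointedCone q gm Φ hΦ V).ge ?_
    exact ((preimage_vertexCompl_eq_iff _ (ψ V) (hψ V)).mpr (h V)).ge ((preimage_pointedCone 𝒮' V.U' V.hU').le hx)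
  · intro h V
    refine (preimage_vertexCompl_eq_iff _ (ψ V) (hψ V)).mp ?_
    rw [← preimage_chart_pointedCone q gm Φ hΦ V, h, preimage_pointedCone]

end Groth.Agent.EGAProj74
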