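import Groth.Agent.EGAProj74.ConeQ
import Groth.Agent.EGAProj74.ConeRetraction

/-!
The squares attached to a morphism of cones over a morphism of bases.
-/

set_option autoImplicit false

universe u

open CategoryTheory CategoryTheory.Limits AlgebraicGeometry TopologicalSpace Opposite
open HomogeneousLocalization
open scoped HomogeneousIdeal

noncomputable section

namespace Groth.Agent.EGAProj74

section ring

variable {A B C σ τ υ : Type u} [CommRing A] [SetLike σ A] [AddSubgroupClass σ A] {𝒜 : ℕ → σ} [GradedRing 𝒜]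
  [CommRing B] [SetLike τ B] [AddSubgroupClass τ B] {ℬ : ℕ → τ} [GradedRing ℬ]
  [CommRing C] [SetLike υ C] [AddSubgroupClass υ C] {𝒞 : ℕ → υ} [GradedRing 𝒞]

/-- Both legs out of the domain of a composite. -/
theorem exists_comp_lifts (ψ : 𝒜 →+*ᵍ ℬ) (φ : ℬ →+*ᵍ 𝒞) {χ : 𝒜 →+*ᵍ 𝒞} (h : χ = φ.comp ψ) :
    ∃ (j : (RelCone.domOpen χ : Scheme.{u}) ⟶ (RelCone.domOpen φ : Scheme.{u}))
      (k : (RelCone.domOpen χ : Scheme.{u}) ⟶ (RelCone.domOpen ψ : Scheme.{u})),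
      j ≫ (RelCone.domOpen φ).ι = (RelCone.domOpen χ).ι ∧ k ≫ (RelCone.domOpen ψ).ι = j ≫ domMap φ ∧
        k ≫ domMap ψ = domMap χ := by
  subst h
  let j : (RelCone.domOpen (φ.comp ψ) : Scheme.{u}) ⟶ (RelCone.domOpen φ : Scheme.{u}) :=
    (Proj 𝒞).homOfLE (domOpen_comp_le ψ φ)
  have hj : j ≫ (RelCone.domOpen φ).ι = (RelCone.domOpen (φ.comp ψ)).ι := Scheme.homOfLE_ι _ _
  let k : (RelCone.domOpen (φ.comp ψ) : Scheme.{u}) ⟶ (RelCone.domOpen ψ : Scheme.{u}) :=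
    IsOpenImmersion.lift (RelCone.domOpen ψ).ι (j ≫ domMap φ) (by
      rw [Scheme.Opens.range_ι]
      rintro _ ⟨w, rfl⟩
      refine (mem_domOpen_comp_iff ψ φ (j.base w)).mpr ?_
      have e : (RelCone.domOpen φ).ι.base (j.base w) = w.1 := congr(($hj).base w)
      exact Eq.subst (motive := fun t => t ∈ RelCone.domOpen (φ.comp ψ)) e.symm w.2)
  have hk : k ≫ (RelCone.domOpen ψ).ι = j ≫ domMap φ := IsOpenImmersion.lift_fac ..
  exact ⟨j, k, hj, hk, domMap_comp ψ φ j hj k hk⟩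

end ring

variable {Y Y' : Scheme.{u}} {q : Y' ⟶ Y} {𝒮 : RelProj.QCGrAlg Y} {𝒮' : RelProj.QCGrAlg Y'}
  {u : RelProj.QGrHom q 𝒮 𝒮'}
  {𝒮h : RelProj.QCGrAlg Y} {ι : 𝒮.toQCAlg ⟶ 𝒮h.toQCAlg} {z : 𝒮h.presheaf.obj (op ⊤)}
  (hz : RelCone.IsPolyOver 𝒮 𝒮h ι z)
  {𝒮h' : RelProj.QCGrAlg Y'} {ι' : 𝒮'.toQCAlg ⟶ 𝒮h'.toQCAlg} {z' : 𝒮h'.presheaf.obj (op ⊤)}
  (hz' : RelCone.IsPolyOver 𝒮' 𝒮h' ι' z')
  {uh : RelProj.QGrHom q 𝒮h 𝒮h'}
  (huh : ∀ U : Y.Opens, ι.hom.app (op U) ≫ uh.app U = u.app U ≫ ι'.hom.app (op (q ⁻¹ᵁ U)))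
  (huhz : (uh.app ⊤).hom z = RelCone.restrictTop 𝒮h' z' (q ⁻¹ᵁ ⊤))
  {PC : Scheme.{u}} {pC : PC ⟶ Y}
  {chartC : ∀ (U : Y.Opens) (hU : IsAffineOpen U), (((pC ⁻¹ᵁ U : PC.Opens) : Scheme.{u}) ≅ Proj (𝒮h.deg U hU))}
  (hC : RelProj.IsRelProj 𝒮h pC chartC)
  {PC' : Scheme.{u}} {pC' : PC' ⟶ Y'}
  {chartC' : ∀ (U : Y'.Opens) (hU : IsAffineOpen U), (((pC' ⁻¹ᵁ U : PC'.Opens) : Scheme.{u}) ≅ Proj (𝒮h'.deg U hU))}
  (hC' : RelProj.IsRelProj 𝒮h' pC' chartC')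
  {Φh : ((RelProj.domQ uh pC' chartC' : PC'.Opens) : Scheme.{u}) ⟶ PC}
  (hΦh : RelProj.IsProjQMapOn uh pC chartC pC' chartC' (RelProj.domQ uh pC' chartC') Φh)

include huh huhz in
theorem awayZToBase_pair (V : APair q)
    (e : uh.gradedAt V.U V.hU V.U' V.hU' V.hle (RelCone.restrictTop 𝒮h z V.U) = RelCone.restrictTop 𝒮h' z' V.U')
    (q' : Away (𝒮h.deg V.U V.hU) (RelCone.restrictTop 𝒮h z V.U))
    (q₁ : Away (𝒮h'.deg V.U' V.hU') (uh.gradedAt V.U V.hU V.U' V.hU' V.hle (RelCone.restrictTop 𝒮h z V.U)))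
    (hq : q₁ = Away.map (uh.gradedAt V.U V.hU V.U' V.hU' V.hle) _ q') :
    hz'.awayZToBase V.U' V.hU' (e ▸ q₁) =
      u.gradedAt V.U V.hU V.U' V.hU' V.hle (hz.awayZToBase V.U V.hU q') := by
  obtain ⟨k, x, hx, rfl⟩ := Away.mk_surjective _ (hz.deg_z V.U V.hU) q'
  obtain ⟨p, rfl⟩ := exists_poly (RelProj.gradedHomAt ι hz.graded V.U V.hU) (hz.bij V.U V.hU) x
  rw [hz.awayZToBase_of_val V.U V.hU _ _ k (Away.val_mk _ _ _ _ _)]
  refine (hz'.awayZToBase_of_val V.U' V.hU' _ (uh.gradedAt V.U V.hU V.U' V.hU' V.hle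
    (Polynomial.eval₂ (RelProj.gradedHomAt ι hz.graded V.U V.hU).toRingHom (RelCone.restrictTop 𝒮h z V.U) p)) k ?_).trans ?_
  · subst hq
    revert e
    generalize RelCone.restrictTop 𝒮h' z' V.U' = w
    intro e
    subst e
    exact (congrArg HomogeneousLocalization.val (Away.map_mk _ _ _ _ _ _)).trans (Away.val_mk _ _ _ _ _)
  · refine Eq.trans ?_ (congrArg (u.gradedAt V.U V.hU V.U' V.hU' V.hle) (evalOne_eval₂ hz V.U V.hU p)).symm
    have hnat : (uh.gradedAt V.U V.hU V.U' V.hU' V.hle).toRingHom.comp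
        (RelProj.gradedHomAt ι hz.graded V.U V.hU).toRingHom =
        (RelProj.gradedHomAt ι' hz'.graded V.U' V.hU').toRingHom.comp
          (u.gradedAt V.U V.hU V.U' V.hU' V.hle).toRingHom :=
      congrArg GradedRingHom.toRingHom (gradedAt_ι hz hz' huh V)
    change hz'.evalOne V.U' V.hU' ((uh.gradedAt V.U V.hU V.U' V.hU' V.hle).toRingHom
      (Polynomial.eval₂ (RelProj.gradedHomAt ι hz.graded V.U V.hU).toRingHom (RelCone.restrictTop 𝒮h z V.U) p)) =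
      (u.gradedAt V.U V.hU V.U' V.hU' V.hle).toRingHom (p.eval 1)
    rw [Polynomial.hom_eval₂, hnat, show (uh.gradedAt V.U V.hU V.U' V.hU' V.hle).toRingHom
      (RelCone.restrictTop 𝒮h z V.U) = RelCone.restrictTop 𝒮h' z' V.U' from e, ← Polynomial.eval₂_map,
      show (RelProj.gradedHomAt ι' hz'.graded V.U' V.hU').toRingHom = (ι'.hom.app (op V.U')).hom from rfl,
      evalOne_eval₂ hz' V.U' V.hU', Polynomial.eval_one_map]

include huh huhz in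
theorem exists_cone_lift (V : APair q) :
    ∃ k : Spec (𝒮'.presheaf.obj (op V.U')) ⟶
        (RelCone.domOpen (uh.gradedAt V.U V.hU V.U' V.hU' V.hle) : Scheme.{u}),
      k ≫ (RelCone.domOpen (uh.gradedAt V.U V.hU V.U' V.hU' V.hle)).ι =
          Spec.map (CommRingCat.ofHom (hz'.awayZToBase V.U' V.hU')) ≫
            Proj.awayι (𝒮h'.deg V.U' V.hU') (RelCone.restrictTop 𝒮h' z' V.U') (hz'.deg_z _ V.hU') one_pos ∧
        k ≫ domMap (uh.gradedAt V.U V.hU V.U' V.hU' V.hle) =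
          Spec.map (u.appLE V.U V.U' V.hle) ≫ Spec.map (CommRingCat.ofHom (hz.awayZToBase V.U V.hU)) ≫
            Proj.awayι (𝒮h.deg V.U V.hU) (RelCone.restrictTop 𝒮h z V.U) (hz.deg_z V.U V.hU) one_pos := by
  have key : ∀ (w : 𝒮h'.presheaf.obj (op V.U'))
      (e' : uh.gradedAt V.U V.hU V.U' V.hU' V.hle (RelCone.restrictTop 𝒮h z V.U) = w)
      (hw : w ∈ 𝒮h'.deg V.U' V.hU' 1) (φ : Away (𝒮h'.deg V.U' V.hU') w →+* 𝒮'.presheaf.obj (op V.U')),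
      (∀ q', φ (e' ▸ Away.map (uh.gradedAt V.U V.hU V.U' V.hU' V.hle) (RelCone.restrictTop 𝒮h z V.U) q') =
        u.gradedAt V.U V.hU V.U' V.hU' V.hle (hz.awayZToBase V.U V.hU q')) →
      ∃ k : Spec (𝒮'.presheaf.obj (op V.U')) ⟶
          (RelCone.domOpen (uh.gradedAt V.U V.hU V.U' V.hU' V.hle) : Scheme.{u}),
        k ≫ (RelCone.domOpen (uh.gradedAt V.U V.hU V.U' V.hU' V.hle)).ι =
            Spec.map (CommRingCat.ofHom φ) ≫ Proj.awayι (𝒮h'.deg V.U' V.hU') w hw one_pos ∧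
          k ≫ domMap (uh.gradedAt V.U V.hU V.U' V.hU' V.hle) =
            Spec.map (u.appLE V.U V.U' V.hle) ≫ Spec.map (CommRingCat.ofHom (hz.awayZToBase V.U V.hU)) ≫
              Proj.awayι (𝒮h.deg V.U V.hU) (RelCone.restrictTop 𝒮h z V.U) (hz.deg_z V.U V.hU) one_pos := by
    rintro w rfl hw φ hφ
    refine ⟨Spec.map (CommRingCat.ofHom φ) ≫ domChart _ one_pos _ (hz.deg_z V.U V.hU), ?_, ?_⟩
    · rw [Category.assoc, domChart_ι]
    · rw [Category.assoc, domChart_domMap, chartMap, ← Spec.map_comp_assoc, ← Spec.map_comp_assoc]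
      congr 2
      ext q'
      exact hφ q'
  exact key _ (gradedAt_z huhz V) (hz'.deg_z _ V.hU') _ fun q' => awayZToBase_pair hz hz' huh huhz V _ q' _ rfl

section coneImm

variable {i' : 𝒮'.toQCAlg.spec ⟶ PC'} (hi' : RelCone.IsConeImm 𝒮' hz' pC' chartC' i')

include hz huh huhz hi' in
theorem range_coneImm_subset_domQ :
    Set.range i'.base ⊆ ((RelProj.domQ uh pC' chartC' : PC'.Opens) : Set PC') := by
  rintro _ ⟨x, rfl⟩
  obtain ⟨V, c, rfl⟩ := exists_pair_chart q x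
  obtain ⟨k, hk, -⟩ := exists_cone_lift hz hz' huh huhz V
  have e : i'.base ((𝒮'.toQCAlg.ι V.U' V.hU').base c) =
      (RelProj.emb pC' chartC' V.U' V.hU').base (k.base c).1 := by
    refine (congr(($(hi' V.U' V.hU')).base c)).trans ?_
    exact congrArg (RelProj.emb pC' chartC' V.U' V.hU').base (congr(($hk).base c)).symm
  rw [e]
  exact Opens.mem_iSup.mpr ⟨⟨(⟨V.U, V.hU⟩, ⟨V.U', V.hU'⟩), V.hle⟩, (k.base c).1, (k.base c).2, rfl⟩

include huh huhz hi' hΦh in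
theorem coneImm_square {i : 𝒮.toQCAlg.spec ⟶ PC} (hi : RelCone.IsConeImm 𝒮 hz pC chartC i)
    {Φc : 𝒮'.toQCAlg.spec ⟶ 𝒮.toQCAlg.spec} (hΦc : RelSpec.IsSpecQMap u.toQHom Φc)
    (i'' : 𝒮'.toQCAlg.spec ⟶ ((RelProj.domQ uh pC' chartC' : PC'.Opens) : Scheme.{u}))
    (hi'' : i'' ≫ (RelProj.domQ uh pC' chartC').ι = i') : i'' ≫ Φh = Φc ≫ i := by
  refine Scheme.hom_ext_of_forall _ _ fun x => ?_
  obtain ⟨V, c, hcx⟩ := exists_pair_chart q x
  refine ⟨(𝒮'.toQCAlg.ι V.U' V.hU').opensRange, ⟨c, hcx⟩, ?_⟩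
  obtain ⟨k, hk, hk'⟩ := exists_cone_lift hz hz' huh huhz V
  have h1 : 𝒮'.toQCAlg.ι V.U' V.hU' ≫ i'' = k ≫ qι uh V.U V.hU V.U' V.hU' V.hle := by
    rw [← cancel_mono (RelProj.domQ uh pC' chartC').ι, Category.assoc, hi'', Category.assoc, qι_ι,
      reassoc_of% hk, hi' V.U' V.hU']
  rw [← cancel_epi (𝒮'.toQCAlg.ι V.U' V.hU').isoOpensRange.hom]
  simp only [← Category.assoc, Scheme.Hom.isoOpensRange_hom_ι]
  rw [h1, hΦc V.U V.hU V.U' V.hU' V.hle, Category.assoc, Category.assoc,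
    (isProjQMapOn_iff uh).mp hΦh V.U V.hU V.U' V.hU' V.hle, reassoc_of% hk', hi V.U V.hU]

end coneImm

variable {P : Scheme.{u}} {p : P ⟶ Y}
  {chart : ∀ (U : Y.Opens) (hU : IsAffineOpen U), (((p ⁻¹ᵁ U : P.Opens) : Scheme.{u}) ≅ Proj (𝒮.deg U hU))}
  {P' : Scheme.{u}} {p' : P' ⟶ Y'}
  {chart' : ∀ (U : Y'.Opens) (hU : IsAffineOpen U), (((p' ⁻¹ᵁ U : P'.Opens) : Scheme.{u}) ≅ Proj (𝒮'.deg U hU))}
  (hP' : RelProj.IsRelProj 𝒮' p' chart')
  {Φ : ((RelProj.domQ u p' chart' : P'.Opens) : Scheme.{u}) ⟶ P}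
  (hΦ : RelProj.IsProjQMapOn u p chart p' chart' (RelProj.domQ u p' chart') Φ)

section infinity

variable {θ : 𝒮h.toQCAlg ⟶ 𝒮.toQCAlg} (hθ : RelProj.IsGradedHom θ) (hθι : ι ≫ θ = 𝟙 _)
  (hθz : (θ.hom.app (op ⊤)).hom z = 0)
  {jX : P ⟶ PC} (hjX : RelProj.IsProjQMap (RelProj.QGrHom.ofHom θ hθ) pC chartC p chart jX)
  {θ' : 𝒮h'.toQCAlg ⟶ 𝒮'.toQCAlg} (hθ' : RelProj.IsGradedHom θ') (hθι' : ι' ≫ θ' = 𝟙 _)
  (hθz' : (θ'.hom.app (op ⊤)).hom z' = 0)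
  {jX' : P' ⟶ PC'} (hjX' : RelProj.IsProjQMap (RelProj.QGrHom.ofHom θ' hθ') pC' chartC' p' chart' jX')

omit hz huh huhz in
theorem irrelevant_le_retraction {Z : Scheme.{u}} {ℛ ℛh : RelProj.QCGrAlg Z} {κ : ℛ.toQCAlg ⟶ ℛh.toQCAlg}
    (hκ : RelProj.IsGradedHom κ) {ρ : ℛh.toQCAlg ⟶ ℛ.toQCAlg} (hρ : RelProj.IsGradedHom ρ)
    (h : κ ≫ ρ = 𝟙 _) (U : Z.Opens) (hU : IsAffineOpen U) :
    (ℛ.deg U hU)₊ ≤ ((ℛh.deg U hU)₊).map (RelProj.gradedHomAt ρ hρ U hU) := by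
  rw [HomogeneousIdeal.irrelevant_le]
  intro d hd a ha
  have e : RelProj.gradedHomAt ρ hρ U hU (RelProj.gradedHomAt κ hκ U hU a) = a :=
    congr(CommRingCat.Hom.hom ((RelSpec.QCAlg.Hom.hom $h).app (op U)) a)
  rw [← e]
  change _ ∈ (((ℛh.deg U hU)₊).map (RelProj.gradedHomAt ρ hρ U hU)).toIdeal
  rw [HomogeneousIdeal.toIdeal_map]
  exact Ideal.mem_map_of_mem _ (HomogeneousIdeal.mem_irrelevant_of_mem _ hd
    ((RelProj.gradedHomAt κ hκ U hU).map_mem ha))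

omit hz huh huhz in
theorem retraction_chart {Z : Scheme.{u}} {ℛ ℛh : RelProj.QCGrAlg Z} {κ : ℛ.toQCAlg ⟶ ℛh.toQCAlg}
    (hκ : RelProj.IsGradedHom κ) {ρ : ℛh.toQCAlg ⟶ ℛ.toQCAlg} (hρ : RelProj.IsGradedHom ρ)
    (h : κ ≫ ρ = 𝟙 _) {PA PB : Scheme.{u}} {pA : PA ⟶ Z} {pB : PB ⟶ Z}
    {chartA : ∀ (U : Z.Opens) (hU : IsAffineOpen U), (((pA ⁻¹ᵁ U : PA.Opens) : Scheme.{u}) ≅ Proj (ℛh.deg U hU))}
    {chartB : ∀ (U : Z.Opens) (hU : IsAffineOpen U), (((pB ⁻¹ᵁ U : PB.Opens) : Scheme.{u}) ≅ Proj (ℛ.deg U hU))}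
    {j : PB ⟶ PA} (hj : RelProj.IsProjQMap (RelProj.QGrHom.ofHom ρ hρ) pA chartA pB chartB j)
    (U : Z.Opens) (hU : IsAffineOpen U) :
    RelProj.emb pB chartB U hU ≫ j =
      Proj.map (RelProj.gradedHomAt ρ hρ U hU) (irrelevant_le_retraction hκ hρ h U hU) ≫
        RelProj.emb pA chartA U hU := by
  have hirr : (ℛ.deg U hU)₊ ≤ ((ℛh.deg U hU)₊).map
      ((RelProj.QGrHom.ofHom ρ hρ).gradedAt U hU U hU le_rfl) := by
    rw [gradedAt_ofHom]; exact irrelevant_le_retraction hκ hρ h U hU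
  refine (projQMap_chart (g := 𝟙 Z) _ hj ⟨U, hU, U, hU, le_rfl⟩ hirr).trans ?_
  exact map_congr (gradedAt_ofHom ρ hρ U hU) hirr _ =≫ _

include hz hz' huh huhz hθ hθι hθz hθ' hθι' hθz' in
theorem domOpen_infinity (V : APair q) :
    RelCone.domOpen (u.gradedAt V.U V.hU V.U' V.hU' V.hle) =
      Proj.map (RelProj.gradedHomAt θ' hθ' V.U' V.hU') (irrelevant_le_retraction hz'.graded hθ' hθι' _ _) ⁻¹ᵁ
        RelCone.domOpen (uh.gradedAt V.U V.hU V.U' V.hU' V.hle) :=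
  domOpen_comm _ _ (RelProj.gradedHomAt θ hθ V.U V.hU) _ (irrelevant_le_retraction hz.graded hθ hθι _ _) _
    (gradedAt_retraction hz hz' huh huhz hθ hθι hθz hθ' hθι' hθz' V)

include hz hz' huh huhz hθ hθι hθz hθ' hθι' hθz' hjX' in
theorem image_domQ_subset :
    jX'.base '' ((RelProj.domQ u p' chart' : P'.Opens) : Set P') ⊆
      ((RelProj.domQ uh pC' chartC' : PC'.Opens) : Set PC') := by
  rintro _ ⟨x, hx, rfl⟩
  obtain ⟨V, y, hy, rfl⟩ := exists_domQ_pair u hx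
  rw [domOpen_infinity hz hz' huh huhz hθ hθι hθz hθ' hθι' hθz' V] at hy
  exact Opens.mem_iSup.mpr ⟨⟨(⟨V.U, V.hU⟩, ⟨V.U', V.hU'⟩), V.hle⟩, _, hy,
    (congr(($(retraction_chart hz'.graded hθ' hθι' hjX' V.U' V.hU')).base y)).symm⟩

include hz hz' huh huhz hθ hθι hθz hθ' hθι' hθz' hjX hjX' hΦh hΦ in
theorem infinity_square {T : Scheme.{u}} (d : T ⟶ ((RelProj.domQ u p' chart' : P'.Opens) : Scheme.{u}))
    (e : T ⟶ ((RelProj.domQ uh pC' chartC' : PC'.Opens) : Scheme.{u}))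
    (hde : d ≫ (RelProj.domQ u p' chart').ι ≫ jX' = e ≫ (RelProj.domQ uh pC' chartC').ι) :
    e ≫ Φh = d ≫ Φ ≫ jX := by
  let k : ((RelProj.domQ u p' chart' : P'.Opens) : Scheme.{u}) ⟶
      ((RelProj.domQ uh pC' chartC' : PC'.Opens) : Scheme.{u}) :=
    IsOpenImmersion.lift (RelProj.domQ uh pC' chartC').ι ((RelProj.domQ u p' chart').ι ≫ jX') (by
      rw [Scheme.Opens.range_ι]
      rintro _ ⟨x, rfl⟩
      exact image_domQ_subset hz hz' huh huhz hθ hθι hθz hθ' hθι' hθz' hjX' ⟨x.1, x.2, rfl⟩)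
  have hk : k ≫ (RelProj.domQ uh pC' chartC').ι = (RelProj.domQ u p' chart').ι ≫ jX' :=
    IsOpenImmersion.lift_fac ..
  have hek : e = d ≫ k := by
    rw [← cancel_mono (RelProj.domQ uh pC' chartC').ι, Category.assoc, hk, hde]
  rw [hek, Category.assoc]
  congr 1
  refine domQ_hom_ext u fun U hU U' hU' hle => ?_
  let V : APair q := ⟨U, hU, U', hU', hle⟩
  let ψ := u.gradedAt U hU U' hU' hle
  let ψh := uh.gradedAt U hU U' hU' hle
  let t' := RelProj.gradedHomAt θ' hθ' U' hU'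
  let Q : (RelCone.domOpen ψ : Scheme.{u}) ⟶ (RelCone.domOpen ψh : Scheme.{u}) :=
    IsOpenImmersion.lift (RelCone.domOpen ψh).ι
      ((RelCone.domOpen ψ).ι ≫ Proj.map t' (irrelevant_le_retraction hz'.graded hθ' hθι' _ _)) (by
      rw [Scheme.Opens.range_ι]
      rintro _ ⟨y, rfl⟩
      exact (domOpen_infinity hz hz' huh huhz hθ hθι hθz hθ' hθι' hθz' V).le y.2)
  have hQ : Q ≫ (RelCone.domOpen ψh).ι =
      (RelCone.domOpen ψ).ι ≫ Proj.map t' (irrelevant_le_retraction hz'.graded hθ' hθι' _ _) :=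
    IsOpenImmersion.lift_fac ..
  have h1 : qι u (p' := p') (chart' := chart') U hU U' hU' hle ≫ k = Q ≫ qι uh U hU U' hU' hle := by
    rw [← cancel_mono (RelProj.domQ uh pC' chartC').ι, Category.assoc, hk, qι_ι_assoc, Category.assoc, qι_ι,
      reassoc_of% hQ, retraction_chart hz'.graded hθ' hθι' hjX' U' hU']
  rw [reassoc_of% h1, (isProjQMapOn_iff uh).mp hΦh U hU U' hU' hle,
    reassoc_of% ((isProjQMapOn_iff u).mp hΦ U hU U' hU' hle), retraction_chart hz.graded hθ hθι hjX U hU,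
    reassoc_of% (domMap_comm ψh ψ (RelProj.gradedHomAt θ hθ U hU) t' (irrelevant_le_retraction hz.graded hθ hθι _ _)
      (irrelevant_le_retraction hz'.graded hθ' hθι' _ _)
      (gradedAt_retraction hz hz' huh huhz hθ hθι hθz hθ' hθι' hθz' V) Q hQ)]

end infinity

section retraction

theorem pcι_projQMapOn {Z : Scheme.{u}} {ℛ ℛh : RelProj.QCGrAlg Z} {κ : ℛ.toQCAlg ⟶ ℛh.toQCAlg}
    {w : ℛh.presheaf.obj (op ⊤)} (hw : RelCone.IsPolyOver ℛ ℛh κ w)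
    {PA PB : Scheme.{u}} {pA : PA ⟶ Z} {pB : PB ⟶ Z}
    {chartA : ∀ (U : Z.Opens) (hU : IsAffineOpen U), (((pA ⁻¹ᵁ U : PA.Opens) : Scheme.{u}) ≅ Proj (ℛ.deg U hU))}
    {chartB : ∀ (U : Z.Opens) (hU : IsAffineOpen U), (((pB ⁻¹ᵁ U : PB.Opens) : Scheme.{u}) ≅ Proj (ℛh.deg U hU))}
    (hB : RelProj.IsRelProj ℛh pB chartB)
    {r : ((RelCone.pointedProjCone ℛ hw pB chartB : PB.Opens) : Scheme.{u}) ⟶ PA}
    (hr : RelProj.IsProjQMapOn (RelProj.QGrHom.ofHom κ hw.graded) pA chartA pB chartB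
      (RelCone.pointedProjCone ℛ hw pB chartB) r) (U : Z.Opens) (hU : IsAffineOpen U) :
    pcι hw U hU ≫ r = domMap (RelProj.gradedHomAt κ hw.graded U hU) ≫ RelProj.emb pA chartA U hU := by
  let ψ := (RelProj.QGrHom.ofHom κ hw.graded).gradedAt U hU U hU le_rfl
  let k : (RelCone.domOpen ψ : Scheme.{u}) ⟶ ((RelCone.pointedProjCone ℛ hw pB chartB : PB.Opens) : Scheme.{u}) :=
    IsOpenImmersion.lift (RelCone.pointedProjCone ℛ hw pB chartB).ι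
      ((RelCone.domOpen ψ).ι ≫ RelProj.emb pB chartB U hU) (by
        rw [Scheme.Opens.range_ι]
        rintro _ ⟨y, rfl⟩
        exact (emb_mem_pointedProjCone_iff hw hB U hU y.1).mpr
          ((gradedAt_ofHom κ hw.graded U hU) ▸ y.2))
  have hk : k ≫ (RelCone.pointedProjCone ℛ hw pB chartB).ι =
      (RelCone.domOpen ψ).ι ≫ RelProj.emb pB chartB U hU := IsOpenImmersion.lift_fac ..
  refine pcι_congr hw hB U hU ψ (gradedAt_ofHom κ hw.graded U hU) k hk r ?_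
  refine dom_hom_ext _ _ _ fun d hd f hf => ?_
  have e : (domChart ψ hd f hf ≫ k) ≫ (RelCone.pointedProjCone ℛ hw pB chartB).ι =
      RelProj.awayEmb (RelProj.QGrHom.ofHom κ hw.graded) pB chartB U hU U hU le_rfl hd f hf := by
    rw [Category.assoc, hk, domChart_ι_assoc]; rfl
  have hW : Set.range (RelProj.awayEmb (RelProj.QGrHom.ofHom κ hw.graded) pB chartB U hU U hU le_rfl hd f hf).base ⊆
      Set.range (RelCone.pointedProjCone ℛ hw pB chartB).ι.base := by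
    rw [← e]
    rintro _ ⟨y, rfl⟩
    exact ⟨(domChart ψ hd f hf ≫ k).base y, rfl⟩
  have h := hr U hU U hU le_rfl d hd f hf hW
  rw [← IsOpenImmersion.lift_uniq _ _ hW _ e, Category.assoc] at h
  rw [h, domChart_domMap_assoc]

variable
  {r : ((RelCone.pointedProjCone 𝒮 hz pC chartC : PC.Opens) : Scheme.{u}) ⟶ P}
  (hr : RelProj.IsProjQMapOn (RelProj.QGrHom.ofHom ι hz.graded) p chart pC chartC (RelCone.pointedProjCone 𝒮 hz pC chartC) r)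
  {r' : ((RelCone.pointedProjCone 𝒮' hz' pC' chartC' : PC'.Opens) : Scheme.{u}) ⟶ P'}
  (hr' : RelProj.IsProjQMapOn (RelProj.QGrHom.ofHom ι' hz'.graded) p' chart' pC' chartC'
    (RelCone.pointedProjCone 𝒮' hz' pC' chartC') r')
  {T : Scheme.{u}} (a : T ⟶ ((RelCone.pointedProjCone 𝒮' hz' pC' chartC' : PC'.Opens) : Scheme.{u}))
  (b : T ⟶ ((RelProj.domQ uh pC' chartC' : PC'.Opens) : Scheme.{u}))
  (c : T ⟶ ((RelCone.pointedProjCone 𝒮 hz pC chartC : PC.Opens) : Scheme.{u}))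
  (hab : a ≫ (RelCone.pointedProjCone 𝒮' hz' pC' chartC').ι = b ≫ (RelProj.domQ uh pC' chartC').ι)
  (hbc : b ≫ Φh = c ≫ (RelCone.pointedProjCone 𝒮 hz pC chartC).ι)

include huh hC hC' hΦh hr hr' hab hbc in
theorem exists_local_lift (t : T) :
    ∃ (O : T.Opens) (_ : t ∈ O) (V : APair q)
      (χ : 𝒮.deg V.U V.hU →+*ᵍ 𝒮h'.deg V.U' V.hU') (L : (O : Scheme.{u}) ⟶ (RelCone.domOpen χ : Scheme.{u}))
      (k₂ : (RelCone.domOpen χ : Scheme.{u}) ⟶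
        (RelCone.domOpen (u.gradedAt V.U V.hU V.U' V.hU' V.hle) : Scheme.{u})),
      O.ι ≫ a ≫ r' = L ≫ k₂ ≫ (RelCone.domOpen (u.gradedAt V.U V.hU V.U' V.hU' V.hle)).ι ≫
          RelProj.emb p' chart' V.U' V.hU' ∧
        k₂ ≫ domMap (u.gradedAt V.U V.hU V.U' V.hU' V.hle) = domMap χ ∧
        O.ι ≫ c ≫ r = L ≫ domMap χ ≫ RelProj.emb p chart V.U V.hU := by
  obtain ⟨V, y, hy, hyx⟩ := exists_domQ_pair uh (b.base t).2
  let χ := (uh.gradedAt V.U V.hU V.U' V.hU' V.hle).comp (RelProj.gradedHomAt ι hz.graded V.U V.hU)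
  obtain ⟨j₁, k₁, hj₁, hk₁, hm₁⟩ := exists_comp_lifts (RelProj.gradedHomAt ι hz.graded V.U V.hU)
    (uh.gradedAt V.U V.hU V.U' V.hU' V.hle) (χ := χ) rfl
  obtain ⟨j₂, k₂, hj₂, hk₂, hm₂⟩ := exists_comp_lifts (u.gradedAt V.U V.hU V.U' V.hU' V.hle)
    (RelProj.gradedHomAt ι' hz'.graded V.U' V.hU') (χ := χ) (gradedAt_ι hz hz' huh V)
  let O : T.Opens := (b ≫ (RelProj.domQ uh pC' chartC').ι) ⁻¹ᵁ (pC' ⁻¹ᵁ V.U')
  have ht : t ∈ O := by
    change (RelProj.domQ uh pC' chartC').ι.base (b.base t) ∈ pC' ⁻¹ᵁ V.U'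
    rw [← opensRange_emb (chart := chartC') V.U' V.hU']
    exact ⟨y, hyx⟩
  let β : (O : Scheme.{u}) ⟶ (RelCone.domOpen (uh.gradedAt V.U V.hU V.U' V.hU' V.hle) : Scheme.{u}) :=
    IsOpenImmersion.lift (qι uh (p' := pC') (chart' := chartC') V.U V.hU V.U' V.hU' V.hle) (O.ι ≫ b) (by
      rintro _ ⟨x, rfl⟩
      change _ ∈ (qι uh V.U V.hU V.U' V.hU' V.hle).opensRange
      rw [opensRange_qι uh hC']
      exact x.2)
  have hβ : β ≫ qι uh V.U V.hU V.U' V.hU' V.hle = O.ι ≫ b := IsOpenImmersion.lift_fac ..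
  let L : (O : Scheme.{u}) ⟶ (RelCone.domOpen χ : Scheme.{u}) :=
    IsOpenImmersion.lift (RelCone.domOpen χ).ι
      (β ≫ (RelCone.domOpen (uh.gradedAt V.U V.hU V.U' V.hU' V.hle)).ι) (by
      rw [Scheme.Opens.range_ι]
      rintro _ ⟨x, rfl⟩
      refine (Φh_apply_mem_iff hz hC hΦh V (β.base x)).mp ?_
      have e : Φh.base ((qι uh (p' := pC') (chart' := chartC') V.U V.hU V.U' V.hU' V.hle).base (β.base x)) =
          (RelCone.pointedProjCone 𝒮 hz pC chartC).ι.base (c.base (O.ι.base x)) :=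
        (congr(Φh.base (($hβ).base x))).trans (congr(($hbc).base (O.ι.base x)))
      rw [e]
      exact (c.base (O.ι.base x)).2)
  have hL : L ≫ (RelCone.domOpen χ).ι = β ≫ (RelCone.domOpen (uh.gradedAt V.U V.hU V.U' V.hU' V.hle)).ι :=
    IsOpenImmersion.lift_fac ..
  have hβL : β = L ≫ j₁ := by
    rw [← cancel_mono (RelCone.domOpen (uh.gradedAt V.U V.hU V.U' V.hU' V.hle)).ι, Category.assoc, hj₁, hL]
  refine ⟨O, ht, V, χ, L, k₂, ?_, hm₂, ?_⟩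
  · have ha : O.ι ≫ a = L ≫ j₂ ≫ pcι hz' V.U' V.hU' := by
      rw [← cancel_mono (RelCone.pointedProjCone 𝒮' hz' pC' chartC').ι]
      simp only [Category.assoc]
      rw [hab, pcι_ι, reassoc_of% hj₂, reassoc_of% hL, ← qι_ι uh V.U V.hU V.U' V.hU' V.hle, reassoc_of% hβ]
    rw [reassoc_of% ha, pcι_projQMapOn hz' hC' hr' V.U' V.hU', reassoc_of% hk₂]
  · have hc : O.ι ≫ c = L ≫ k₁ ≫ pcι hz V.U V.hU := by
      rw [← cancel_mono (RelCone.pointedProjCone 𝒮 hz pC chartC).ι]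
      simp only [Category.assoc]
      rw [← hbc, pcι_ι, reassoc_of% hk₁, ← reassoc_of% hβL,
        ← (isProjQMapOn_iff uh).mp hΦh V.U V.hU V.U' V.hU' V.hle, reassoc_of% hβ]
    rw [reassoc_of% hc, pcι_projQMapOn hz hC hr V.U V.hU, reassoc_of% hm₁]

include huh hC hC' hΦh hr hr' hab hbc in
theorem range_subset_domQ :
    Set.range (a ≫ r').base ⊆ ((RelProj.domQ u p' chart' : P'.Opens) : Set P') := by
  rintro _ ⟨t, rfl⟩
  obtain ⟨O, ht, V, χ, L, k₂, h1, -, -⟩ := exists_local_lift hz hz' huh hC hC' hΦh hr hr' a b c hab hbc t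
  have e : (a ≫ r').base t = (RelProj.emb p' chart' V.U' V.hU').base (k₂.base (L.base ⟨t, ht⟩)).1 :=
    congr(($h1).base ⟨t, ht⟩)
  rw [e]
  exact Opens.mem_iSup.mpr ⟨⟨(⟨V.U, V.hU⟩, ⟨V.U', V.hU'⟩), V.hle⟩, _, (k₂.base (L.base ⟨t, ht⟩)).2, rfl⟩

include huh hC hC' hΦh hr hr' hab hbc hΦ in
theorem retraction_square (d : T ⟶ ((RelProj.domQ u p' chart' : P'.Opens) : Scheme.{u}))
    (hd : a ≫ r' = d ≫ (RelProj.domQ u p' chart').ι) : c ≫ r = d ≫ Φ := by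
  refine Scheme.hom_ext_of_forall _ _ fun t => ?_
  obtain ⟨O, ht, V, χ, L, k₂, h1, h2, h3⟩ := exists_local_lift hz hz' huh hC hC' hΦh hr hr' a b c hab hbc t
  refine ⟨O, ht, ?_⟩
  have hd' : O.ι ≫ d = L ≫ k₂ ≫ qι u V.U V.hU V.U' V.hU' V.hle := by
    rw [← cancel_mono (RelProj.domQ u p' chart').ι]
    simp only [Category.assoc]
    rw [← hd, h1, qι_ι]
  rw [h3, reassoc_of% hd', (isProjQMapOn_iff u).mp hΦ V.U V.hU V.U' V.hU' V.hle, reassoc_of% h2]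

end retraction

end Groth.Agent.EGAProj74
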