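import Groth.Agent.EGAProj74.LineSeries
import Groth.Agent.EGAProj74.ExtSection
import Groth.Agent.Amp73.Local
import Groth.Agent.Amp73.Powers
import Groth.Agent.Var76.Frames
import Mathlib.RingTheory.PowerSeries.NoZeroDivisors

/-! A contraction of the zero section forces relative ampleness. -/

set_option autoImplicit false
set_option backward.isDefEq.respectTransparency false

universe u

open CategoryTheory CategoryTheory.Limits AlgebraicGeometry TopologicalSpace Opposite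

noncomputable section

namespace Groth.Agent.EGAProj74.ContractionAmple

open Groth.Agent.EGAProj74 Var76.LineBundle Var76.ZeroScheme Amp73 EGA73.BundleImmersion

/-- Sections over an open give generating loci on that open. -/
theorem exists_hom_restrict {X : Scheme.{u}} {X1 : X.Opens} (M : X.Modules) (s : Γ(M, X1)) :
    ∃ σ : Coh.structureModule (X1 : Scheme.{u}) ⟶ M.restrict X1.ι,
      CohB1.genLocus _ σ = X1.ι ⁻¹ᵁ flocus s := by
  have h : X1.ι ''ᵁ ⊤ ≤ X1 := X1.ι_image_top.le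
  let t : Γ(M.restrict X1.ι, ⊤) := (res M h s : Γ(M, X1.ι ''ᵁ ⊤))
  have hval : ∀ V, val _ (Var76.Frames.ofSection (M.restrict X1.ι) t) V =
      (res M (X1.ι.image_mono (le_top : V ≤ ⊤) |>.trans h) s : Γ(M, X1.ι ''ᵁ V)) := fun V => by
    rw [Var76.Frames.val_ofSection]
    exact res_res M h (X1.ι.image_mono le_top) s
  refine ⟨Var76.Frames.ofSection _ t, le_antisymm ?_ ?_⟩
  · refine (X1.ι.preimage_image_eq _).ge.trans (X1.ι.preimage_mono ?_)
    have h1 := isFrame_genLocus (Var76.Frames.ofSection (M.restrict X1.ι) t)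
    rw [isFrame_restrict_iff, hval] at h1
    exact le_flocus s _ h1
  · rw [← isFrame_iff_le_genLocus, isFrame_restrict_iff, hval]
    have h2 := (isFrame_flocus s).res (X1.ι.image_preimage_le (flocus s))
    rwa [res_res] at h2

variable {X Y C : Scheme.{u}} {L : X.Modules} (hL : PicF.IsInvertible L) (hLq : Coh.IsQCoh L)
  {𝒜 : RelProj.QCGrAlg X} {j : L ⟶ 𝒜.toModule} (hA : RelProj.IsGrSymAlg L 𝒜 j)
  {aug : 𝒜.toQCAlg ⟶ RelSpec.QCAlg.unit X} (haug : RelCone.IsAugmentation 𝒜 aug)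
  {j0 : X ⟶ 𝒜.toQCAlg.spec} (hj0 : RelCone.IsVertex 𝒜 aug j0)

/-- The generic point of the formal line over a point of `U`. -/
def linePrime (U : X.Opens) (hU : IsAffineOpen U) (x : X) (hx : x ∈ U) : PrimeSpectrum (PowerSeries Γ(X, U)) :=
  PrimeSpectrum.comap (PowerSeries.map (Ideal.Quotient.mk (hU.primeIdealOf ⟨x, hx⟩).asIdeal)) ⟨⊥, Ideal.isPrime_bot⟩

theorem mem_linePrime_iff (U : X.Opens) (hU : IsAffineOpen U) (x : X) (hx : x ∈ U) (f : PowerSeries Γ(X, U)) :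
    f ∈ (linePrime U hU x hx).asIdeal ↔ ∀ n, PowerSeries.coeff n f ∈ (hU.primeIdealOf ⟨x, hx⟩).asIdeal := by
  show PowerSeries.map (Ideal.Quotient.mk (hU.primeIdealOf ⟨x, hx⟩).asIdeal) f = 0 ↔ _
  simp only [PowerSeries.ext_iff, PowerSeries.coeff_map, map_zero, Ideal.Quotient.eq_zero_iff_mem]

section point

variable (U : X.Opens) (hU : IsAffineOpen U) (e : Γ(L, U)) (he : IsFrame L U e) (x : X) (hx : x ∈ U)

theorem π_linePoint :
    𝒜.toQCAlg.π (LineSeries.nbhd hLq hA U hU e he (linePrime U hU x hx)) = x := by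
  rw [← Scheme.Hom.comp_apply, LineSeries.nbhd_π, Scheme.Hom.comp_apply]
  refine Eq.trans (congrArg hU.fromSpec ?_) (hU.fromSpec_primeIdealOf ⟨x, hx⟩)
  refine PrimeSpectrum.ext (Ideal.ext fun a => ?_)
  show PowerSeries.C a ∈ (linePrime U hU x hx).asIdeal ↔ _
  rw [mem_linePrime_iff]
  refine ⟨fun h => by simpa using h 0, fun h n => ?_⟩
  rcases n with - | n <;> simp [PowerSeries.coeff_C, h]

include haug hj0

theorem j0_eq_nbhd :
    j0 x = LineSeries.nbhd hLq hA U hU e he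
      (PrimeSpectrum.comap (PowerSeries.constantCoeff (R := Γ(X, U))) (hU.primeIdealOf ⟨x, hx⟩)) := by
  have h := congr($(LineSeries.nbhd_comp_constantCoeff hLq hA U hU e he haug hj0).base (hU.primeIdealOf ⟨x, hx⟩))
  rw [Scheme.Hom.comp_apply, Scheme.Hom.comp_apply, hU.fromSpec_primeIdealOf] at h
  exact h.symm

theorem linePoint_notMem_range :
    LineSeries.nbhd hLq hA U hU e he (linePrime U hU x hx) ∉ Set.range j0.base := by
  rintro ⟨z, hz⟩
  have hz' : j0 z = LineSeries.nbhd hLq hA U hU e he (linePrime U hU x hx) := hz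
  have hzx : z = x := by
    have h := congrArg 𝒜.toQCAlg.π hz'
    rw [← Scheme.Hom.comp_apply, hj0.comp_π, π_linePoint] at h
    exact h
  rw [hzx, j0_eq_nbhd hLq hA haug hj0 U hU e he x hx, LineSeries.nbhd, Scheme.Hom.comp_apply,
    Scheme.Hom.comp_apply] at hz'
  have h2 := congrArg PrimeSpectrum.asIdeal ((𝒜.toQCAlg.ι U hU).isOpenEmbedding.injective hz')
  have h3 : LineSeries.expand hLq hA U hU e he (jR j U e) ∈ (linePrime U hU x hx).asIdeal := by
    let Q := PrimeSpectrum.comap (PowerSeries.constantCoeff (R := Γ(X, U))) (hU.primeIdealOf ⟨x, hx⟩)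
    suffices LineSeries.expand hLq hA U hU e he (jR j U e) ∈ Q.asIdeal from h2.le this
    show PowerSeries.constantCoeff (R := Γ(X, U)) (LineSeries.expand hLq hA U hU e he (jR j U e)) ∈ (hU.primeIdealOf ⟨x, hx⟩).asIdeal
    rw [LineSeries.expand_gen, PowerSeries.constantCoeff_X]
    exact zero_mem _
  rw [LineSeries.expand_gen, mem_linePrime_iff] at h3
  have h4 := h3 1
  rw [PowerSeries.coeff_one_X] at h4
  exact (hU.primeIdealOf ⟨x, hx⟩).2.ne_top ((Ideal.eq_top_iff_one _).2 h4)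

end point

include hL hLq hA haug hj0

/-- The sufficiency in Grauert's criterion. -/
theorem isRelAmple_of_contraction (p : X ⟶ Y) [QuasiCompact p] (V0 : 𝒜.toQCAlg.spec.Opens)
    (hV0 : (V0 : Set 𝒜.toQCAlg.spec) = (Set.range j0.base)ᶜ) (ε : Y ⟶ C) (q : 𝒜.toQCAlg.spec ⟶ C)
    (hjq : j0 ≫ q = p ≫ ε) [IsOpenImmersion (V0.ι ≫ q)]
    (hdisj : Set.range (V0.ι ≫ q).base ∩ Set.range ε.base = ∅) : RelAmple.IsRelAmple p L := by
  refine isRelAmple_of_cover p fun y => ?_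
  obtain ⟨W, hW, hyW, -⟩ := exists_isAffineOpen_mem_and_subset (U := (⊤ : C.Opens)) (x := ε y) trivial
  obtain ⟨Y1, hY1, hyY1, hY1W⟩ := exists_isAffineOpen_mem_and_subset (U := ε ⁻¹ᵁ W) (x := y) hyW
  refine ⟨⟨Y1, hY1⟩, hyY1, ?_⟩
  let X1 := p ⁻¹ᵁ Y1
  let Ω := q ⁻¹ᵁ W
  have hzero : ∀ x : X, q (j0 x) = ε (p x) := fun x => by
    rw [← Scheme.Hom.comp_apply, hjq]; rfl
  have hΩ : ∀ x ∈ X1, j0 x ∈ Ω := fun x hx => by
    show q (j0 x) ∈ W
    rw [hzero]; exact hY1W hx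
  have := compactSpace_preimage p hY1
  refine isAmple_of_le_basis (EGA73.isInvertible_restrict hL _) fun z U0 hz => ?_
  obtain ⟨⟨U, hU⟩, hxU, hUle, e, he⟩ := Mero90.exists_affine_frame hL (X1.ι z) (X1.ι ''ᵁ U0) ⟨z, hz, rfl⟩
  have hU1 : U ≤ X1 := hUle.trans ((X1.ι.image_mono le_top).trans X1.ι_image_top.le)
  set x := X1.ι z with hxdef
  have hle := LineSeries.top_le_preimage hLq hA U hU e he haug hj0 (Ω := Ω) fun a ha => hΩ a (hU1 ha)
  let P := linePrime U hU x hxU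
  let v := LineSeries.nbhd hLq hA U hU e he P
  have hvV0 : v ∈ V0 := hV0.ge (linePoint_notMem_range hLq hA haug hj0 U hU e he x hxU)
  let O : C.Opens := (V0.ι ≫ q) ''ᵁ (V0.ι ⁻¹ᵁ (𝒜.toQCAlg.π ⁻¹ᵁ U))
  have hqv : q v ∈ O := ⟨⟨v, hvV0⟩, by
    show 𝒜.toQCAlg.π v ∈ U
    rw [π_linePoint]; exact hxU, rfl⟩
  obtain ⟨f, hfO, hfv⟩ := hW.exists_basicOpen_le (V := O) ⟨q v, hqv⟩ (hle (Set.mem_univ P))
  let h : Γ(𝒜.toQCAlg.spec, Ω) := q.app W f
  have hbh : 𝒜.toQCAlg.spec.basicOpen h = q ⁻¹ᵁ C.basicOpen f := (Scheme.preimage_basicOpen q f).symm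
  -- the coefficient
  have hP := (LineSeries.mem_basicOpen_iff hLq hA U hU e he h hle P).1 (hbh.ge hfv)
  obtain ⟨n, hn⟩ : ∃ n, PowerSeries.coeff n (LineSeries.series hLq hA U hU e he h hle) ∉
      (hU.primeIdealOf ⟨x, hxU⟩).asIdeal := by
    by_contra hc
    push Not at hc
    exact hP ((mem_linePrime_iff U hU x hxU _).2 hc)
  obtain ⟨n, rfl⟩ : ∃ m, n = m + 1 := by
    rcases n with - | m
    · exfalso
      have h0 : j0 x ∈ 𝒜.toQCAlg.spec.basicOpen h := by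
        rw [j0_eq_nbhd hLq hA haug hj0 U hU e he x hxU, LineSeries.mem_basicOpen_iff hLq hA U hU e he h hle]
        show PowerSeries.constantCoeff (R := Γ(X, U)) _ ∉ (hU.primeIdealOf ⟨x, hxU⟩).asIdeal
        rwa [← PowerSeries.coeff_zero_eq_constantCoeff_apply]
      obtain ⟨w, -, hw⟩ := hfO (hbh.le h0)
      exact (Set.eq_empty_iff_forall_notMem.1 hdisj) (q (j0 x)) ⟨⟨w, hw⟩, ⟨p x, (hzero x).symm⟩⟩
    · exact ⟨m, rfl⟩
  -- the glued section
  let M := CohB1.tensorPow L (n + 1)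
  let I := Σ B : X.affineOpens, {d : Γ(L, B.1) // IsFrame L B.1 d ∧ B.1 ≤ X1}
  have hlei : ∀ i : I, ⊤ ≤ LineSeries.nbhd hLq hA i.1.1 i.1.2 i.2.1 i.2.2.1 ⁻¹ᵁ Ω := fun i =>
    LineSeries.top_le_preimage hLq hA _ _ _ _ haug hj0 fun a ha => hΩ a (i.2.2.2 ha)
  let c : ∀ i : I, Γ(X, i.1.1) := fun i =>
    PowerSeries.coeff (n + 1) (LineSeries.series hLq hA i.1.1 i.1.2 i.2.1 i.2.2.1 h (hlei i))
  let σ : ∀ i : I, Γ(M, i.1.1) := fun i => c i • epow i.2.1 (n + 1)
  have hcompat : TopCat.Presheaf.IsCompatible M.presheaf (fun i : I => i.1.1) σ := by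
    intro i i'
    refine eq_of_locally M _ _ fun a ha => ?_
    obtain ⟨B, hB, haB, hBle⟩ := exists_isAffineOpen_mem_and_subset (U := i.1.1 ⊓ i'.1.1) (x := a) ha
    refine ⟨B, hBle, haB, ?_⟩
    show res M hBle (res M inf_le_left (σ i)) = res M hBle (res M inf_le_right (σ i'))
    rw [res_res, res_res]
    have hBi : B ≤ i.1.1 := hBle.trans inf_le_left
    have hBi' : B ≤ i'.1.1 := hBle.trans inf_le_right
    have hf := i.2.2.1.res hBi
    obtain ⟨v, hv⟩ := exists_coord_of_frame hf (res L hBi' i'.2.1)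
    have hleB := LineSeries.top_le_preimage hLq hA B hB _ hf haug hj0 (Ω := Ω)
      fun a ha => hΩ a (i.2.2.2 (hBi ha))
    have e1 := LineSeries.coeff_series_res hLq hA i.1.1 i.1.2 i.2.1 i.2.2.1 h (hlei i) B hB _ hf hBi hleB 1
      (one_smul _ _).symm (n + 1)
    have e2 := LineSeries.coeff_series_res hLq hA i'.1.1 i'.1.2 i'.2.1 i'.2.2.1 h (hlei i') B hB _ hf hBi' hleB v
      hv.symm (n + 1)
    rw [one_pow, one_mul] at e1
    simp only [σ, M, res_smul, res_epow, ← hv, epow_smul, smul_smul]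
    rw [show X.presheaf.map (homOfLE hBi).op (c i) = _ from e1.symm, e2, mul_comm]
  obtain ⟨s, hs, -⟩ := TopCat.Sheaf.existsUnique_gluing' (⟨M.presheaf, M.isSheaf⟩ : TopCat.Sheaf AddCommGrpCat.{u} X)
    (fun i : I => i.1.1) X1 (fun i => homOfLE i.2.2.2) (fun a ha => by
      obtain ⟨⟨B, hB⟩, haB, hB1, d, hd⟩ := Mero90.exists_affine_frame hL a X1 ha
      exact Opens.mem_iSup.2 ⟨⟨⟨B, hB⟩, d, hd, hB1⟩, haB⟩) σ hcompat
  have hloc : ∀ i : I, flocus s ⊓ i.1.1 = X.basicOpen (c i) := fun i =>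
    flocus_inf_eq_basicOpen s i.2.2.2 (isFrame_epow i.2.2.1 (n + 1)) (hs i).symm
  have hxs : x ∈ flocus s := by
    refine ((hloc ⟨⟨U, hU⟩, e, he, hU1⟩).ge ?_).1
    rw [X.mem_basicOpen _ x hxU]
    letI := X.presheaf.algebra_section_stalk ⟨x, hxU⟩
    haveI := hU.isLocalization_stalk ⟨x, hxU⟩
    exact (IsLocalization.AtPrime.isUnit_to_map_iff (X.presheaf.stalk x) (hU.primeIdealOf ⟨x, hxU⟩).asIdeal _).2 hn
  have hsU : flocus s ≤ U := by
    intro a ha
    obtain ⟨⟨B, hB⟩, haB, hB1, d, hd⟩ := Mero90.exists_affine_frame hL a X1 (flocus_le s ha)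
    let i : I := ⟨⟨B, hB⟩, d, hd, hB1⟩
    have h1 := (hloc i).le ⟨ha, haB⟩
    rw [X.mem_basicOpen _ a haB] at h1
    letI := X.presheaf.algebra_section_stalk ⟨a, haB⟩
    haveI := hB.isLocalization_stalk ⟨a, haB⟩
    have h2 : c i ∉ (hB.primeIdealOf ⟨a, haB⟩).asIdeal :=
      (IsLocalization.AtPrime.isUnit_to_map_iff (X.presheaf.stalk a) (hB.primeIdealOf ⟨a, haB⟩).asIdeal _).1 h1
    have h3 := (LineSeries.mem_basicOpen_iff hLq hA B hB d hd h (hlei i) (linePrime B hB a haB)).2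
      fun h4 => h2 ((mem_linePrime_iff B hB a haB _).1 h4 (n + 1))
    obtain ⟨w, hwU, hw⟩ := hfO (hbh.le h3)
    have hv' : LineSeries.nbhd hLq hA B hB d hd (linePrime B hB a haB) ∈ V0 :=
      hV0.ge (linePoint_notMem_range hLq hA haug hj0 B hB d hd a haB)
    have hwv : w = ⟨_, hv'⟩ := (V0.ι ≫ q).isOpenEmbedding.injective hw
    subst hwv
    have h5 : 𝒜.toQCAlg.π (LineSeries.nbhd hLq hA B hB d hd (linePrime B hB a haB)) ∈ U := hwU
    rwa [π_linePoint] at h5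
  obtain ⟨τ, hτ⟩ := exists_hom_restrict M s
  refine ⟨X1.ι ⁻¹ᵁ flocus s, ⟨n, τ ≫ (powRestrict X1.ι L (n + 1)).inv, (genLocus_comp_iso _ _).trans hτ⟩, hxs, ?_⟩
  exact (X1.ι.preimage_mono (hsU.trans hUle)).trans (X1.ι.preimage_image_eq U0).le

end Groth.Agent.EGAProj74.ContractionAmple
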