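import Groth.Agent.EGAProj74.AlgExtend
import Groth.Agent.EGA73.AffAlgMaps
import Mathlib.AlgebraicGeometry.Morphisms.QuasiSeparated
import Mathlib.AlgebraicGeometry.Morphisms.Proper

/-!
The contraction of a subscheme `X` of `V` onto the base `Y`:
the spectrum of the functions on `V` whose restriction to `X` comes from the base.
-/

set_option autoImplicit false
set_option backward.isDefEq.respectTransparency false

universe u

open CategoryTheory CategoryTheory.Limits AlgebraicGeometry TopologicalSpace Opposite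

noncomputable section

namespace Groth.Agent.EGAProj74.ContractionCone

variable {X Y V : Scheme.{u}} (p : X ⟶ Y) (q0 : V ⟶ Y) (j0 : X ⟶ V) (hj : j0 ≫ q0 = p)

include hj in
theorem preimage_le (U : Y.Opens) : p ⁻¹ᵁ U ≤ j0 ⁻¹ᵁ (q0 ⁻¹ᵁ U) := by subst hj; rfl

/-- Pairs of a function on the base and a function on `V` agreeing on `X`. -/
def fib (U : Y.Opens) : Subring (Γ(Y, U) × Γ(V, q0 ⁻¹ᵁ U)) :=
  RingHom.eqLocus ((p.app U).hom.comp (RingHom.fst _ _))
    ((j0.appLE (q0 ⁻¹ᵁ U) (p ⁻¹ᵁ U) (preimage_le p q0 j0 hj U)).hom.comp (RingHom.snd _ _))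

variable {p q0 j0}

theorem mem_fib {U : Y.Opens} {a : Γ(Y, U)} {h : Γ(V, q0 ⁻¹ᵁ U)} :
    (a, h) ∈ fib p q0 j0 hj U ↔
      p.app U a = j0.appLE (q0 ⁻¹ᵁ U) (p ⁻¹ᵁ U) (preimage_le p q0 j0 hj U) h := Iff.rfl

theorem zero_mem_fib {U : Y.Opens} {h : Γ(V, q0 ⁻¹ᵁ U)}
    (h0 : j0.appLE (q0 ⁻¹ᵁ U) (p ⁻¹ᵁ U) (preimage_le p q0 j0 hj U) h = 0) :
    ((0 : Γ(Y, U)), h) ∈ fib p q0 j0 hj U := by
  rw [mem_fib, h0, map_zero]

theorem res_j0 {U U' : Y.Opens} (i : U' ≤ U) (h : Γ(V, q0 ⁻¹ᵁ U)) :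
    j0.appLE (q0 ⁻¹ᵁ U') (p ⁻¹ᵁ U') (preimage_le p q0 j0 hj U')
        (V.presheaf.map (homOfLE (q0.preimage_mono i)).op h) =
      X.presheaf.map (homOfLE (p.preimage_mono i)).op
        (j0.appLE (q0 ⁻¹ᵁ U) (p ⁻¹ᵁ U) (preimage_le p q0 j0 hj U) h) := by
  rw [← CommRingCat.comp_apply, Scheme.Hom.map_appLE, ← CommRingCat.comp_apply, Scheme.Hom.appLE_map]

theorem res_p {U U' : Y.Opens} (i : U' ≤ U) (a : Γ(Y, U)) :
    p.app U' (Y.presheaf.map (homOfLE i).op a) =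
      X.presheaf.map (homOfLE (p.preimage_mono i)).op (p.app U a) :=
  congr(CommRingCat.Hom.hom $(p.naturality (homOfLE i).op) a)

/-- Restriction of pairs. -/
def fibRes {U U' : Y.Opens} (i : U' ≤ U) : fib p q0 j0 hj U →+* fib p q0 j0 hj U' :=
  RingHom.codRestrict
    ((RingHom.prodMap (Y.presheaf.map (homOfLE i).op).hom
      (V.presheaf.map (homOfLE (q0.preimage_mono i)).op).hom).comp (fib p q0 j0 hj U).subtype) _ fun z => by
    show (Y.presheaf.map (homOfLE i).op z.1.1, V.presheaf.map (homOfLE (q0.preimage_mono i)).op z.1.2) ∈ _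
    rw [mem_fib, res_p i, res_j0 hj i]
    exact congrArg _ z.2

/-- Constants. -/
def fibStr (U : Y.Opens) : Γ(Y, U) →+* fib p q0 j0 hj U :=
  RingHom.codRestrict (RingHom.prod (RingHom.id _) (q0.app U).hom) _ fun a => by
    show (a, q0.app U a) ∈ _
    rw [mem_fib, ← CommRingCat.comp_apply, Scheme.Hom.app_eq_appLE, Scheme.Hom.app_eq_appLE,
      Scheme.Hom.appLE_comp_appLE]
    simp only [hj]

variable [QuasiCompact p] [QuasiSeparated p] [QuasiCompact q0] [QuasiSeparated q0]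

/-- The values of the algebra of the contraction. -/
def data : AffAlgData Y where
  F :=
    { obj := fun U => CommRingCat.of (fib p q0 j0 hj U.unop.1)
      map := fun {U U'} i => CommRingCat.ofHom (fibRes hj (Scheme.AffineZariskiSite.toOpens_mono i.unop.le))
      map_id := fun U => CommRingCat.hom_ext (RingHom.ext fun z => Subtype.ext (Prod.ext
        (congr(CommRingCat.Hom.hom $(Y.presheaf.map_id (op U.unop.1)) z.1.1))
        (congr(CommRingCat.Hom.hom $(V.presheaf.map_id (op (q0 ⁻¹ᵁ U.unop.1))) z.1.2))))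
      map_comp := fun i k => CommRingCat.hom_ext (RingHom.ext fun z => Subtype.ext (Prod.ext
        (congr(CommRingCat.Hom.hom $(Y.presheaf.map_comp (homOfLE (Scheme.AffineZariskiSite.toOpens_mono i.unop.le)).op
          (homOfLE (Scheme.AffineZariskiSite.toOpens_mono k.unop.le)).op) z.1.1))
        (congr(CommRingCat.Hom.hom $(V.presheaf.map_comp
          (homOfLE (q0.preimage_mono (Scheme.AffineZariskiSite.toOpens_mono i.unop.le))).op
          (homOfLE (q0.preimage_mono (Scheme.AffineZariskiSite.toOpens_mono k.unop.le))).op) z.1.2)))) }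
  α :=
    { app := fun U => CommRingCat.ofHom (fibStr hj U.unop.1)
      naturality := fun U U' i => CommRingCat.hom_ext (RingHom.ext fun a => Subtype.ext (Prod.ext rfl
        (congr(CommRingCat.Hom.hom
          $(q0.naturality (homOfLE (Scheme.AffineZariskiSite.toOpens_mono i.unop.le)).op) a)))) }
  coeq := by
    refine Scheme.AffineZariskiSite.coequifibered_iff_forall_isLocalizationAway.2 fun U r => ?_
    have hle : Y.basicOpen r ≤ U.1 := Y.basicOpen_le r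
    letI : Algebra (fib p q0 j0 hj U.1) (fib p q0 j0 hj (Y.basicOpen r)) := (fibRes hj hle).toAlgebra
    show IsLocalization.Away (fibStr hj U.1 r) (fib p q0 j0 hj (Y.basicOpen r))
    letI : Algebra Γ(Y, U.1) Γ(Y, Y.basicOpen r) := (Y.presheaf.map (homOfLE hle).op).hom.toAlgebra
    haveI hY : IsLocalization.Away r Γ(Y, Y.basicOpen r) := U.2.isLocalization_basicOpen r
    letI : Algebra Γ(V, q0 ⁻¹ᵁ U.1) Γ(V, q0 ⁻¹ᵁ Y.basicOpen r) :=
      (V.presheaf.map (homOfLE (q0.preimage_mono hle)).op).hom.toAlgebra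
    haveI hV : IsLocalization.Away (q0.app U.1 r) Γ(V, q0 ⁻¹ᵁ Y.basicOpen r) :=
      RelSpec.QCAlg.isQC_pushforward q0 U.1 U.2 r
    letI : Algebra Γ(X, p ⁻¹ᵁ U.1) Γ(X, p ⁻¹ᵁ Y.basicOpen r) :=
      (X.presheaf.map (homOfLE (p.preimage_mono hle)).op).hom.toAlgebra
    haveI hX : IsLocalization.Away (p.app U.1 r) Γ(X, p ⁻¹ᵁ Y.basicOpen r) :=
      RelSpec.QCAlg.isQC_pushforward p U.1 U.2 r
    have hp : ∀ m, p.app U.1 (r ^ m) = (p.app U.1 r) ^ m := fun m => map_pow _ _ _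
    have hq : ∀ m, q0.app U.1 (r ^ m) = (q0.app U.1 r) ^ m := fun m => map_pow _ _ _
    have hjr : j0.appLE (q0 ⁻¹ᵁ U.1) (p ⁻¹ᵁ U.1) (preimage_le p q0 j0 hj U.1) (q0.app U.1 r) = p.app U.1 r :=
      ((mem_fib hj).1 (fibStr hj U.1 r).2).symm
    constructor; constructor
    · rintro ⟨_, m, rfl⟩
      rw [map_pow]
      refine IsUnit.pow m ?_
      obtain ⟨b, hb⟩ := (IsLocalization.Away.algebraMap_isUnit (S := Γ(Y, Y.basicOpen r)) r).exists_right_inv
      refine IsUnit.of_mul_eq_one (fibStr hj (Y.basicOpen r) b) ?_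
      have e : fibRes hj hle (fibStr hj U.1 r) =
          fibStr hj (Y.basicOpen r) (algebraMap Γ(Y, U.1) Γ(Y, Y.basicOpen r) r) :=
        Subtype.ext (Prod.ext rfl (congr(CommRingCat.Hom.hom $(q0.naturality (homOfLE hle).op) r)).symm)
      show fibRes hj hle (fibStr hj U.1 r) * _ = 1
      rw [e, ← map_mul, hb, map_one]
    · rintro ⟨⟨a', h'⟩, hz⟩
      obtain ⟨n, a, ha⟩ := IsLocalization.Away.surj r a'
      obtain ⟨m, h, hh⟩ := IsLocalization.Away.surj (q0.app U.1 r) h'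
      have e := (mem_fib hj).1 hz
      -- bring to a common exponent
      let a1 := a * r ^ m
      let h1 := h * (q0.app U.1 r) ^ n
      have hd : X.presheaf.map (homOfLE (p.preimage_mono hle)).op (p.app U.1 a1) =
          X.presheaf.map (homOfLE (p.preimage_mono hle)).op
            (j0.appLE (q0 ⁻¹ᵁ U.1) (p ⁻¹ᵁ U.1) (preimage_le p q0 j0 hj U.1) h1) := by
        have ha1 : Y.presheaf.map (homOfLE hle).op a1 = a' * (Y.presheaf.map (homOfLE hle).op r) ^ (n + m) := by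
          rw [pow_add, ← mul_assoc, map_mul, map_pow]
          exact congrArg (· * _) ha.symm
        have hh1 : V.presheaf.map (homOfLE (q0.preimage_mono hle)).op h1 =
            h' * (V.presheaf.map (homOfLE (q0.preimage_mono hle)).op (q0.app U.1 r)) ^ (n + m) := by
          rw [add_comm n m, pow_add, ← mul_assoc, map_mul, map_pow]
          exact congrArg (· * _) hh.symm
        rw [← res_p hle, ← res_j0 hj hle, ha1, hh1, map_mul, map_mul, e, map_pow, map_pow, res_p hle, res_j0 hj hle, hjr]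
      obtain ⟨⟨_, l, rfl⟩, hl⟩ := IsLocalization.exists_of_eq (M := Submonoid.powers (p.app U.1 r))
        (S := Γ(X, p ⁻¹ᵁ Y.basicOpen r)) hd
      have hmem : (r ^ l * a1, (q0.app U.1 r) ^ l * h1) ∈ fib p q0 j0 hj U.1 := by
        rw [mem_fib]
        simp only [a1, h1, map_mul, map_pow, hjr] at hl ⊢
        exact hl
      refine ⟨⟨⟨_, hmem⟩, ⟨(fibStr hj U.1 r) ^ (n + m + l), _, rfl⟩⟩, Subtype.ext (Prod.ext ?_ ?_)⟩
      · show a' * Y.presheaf.map (homOfLE hle).op (r ^ (n + m + l)) = Y.presheaf.map (homOfLE hle).op (r ^ l * a1)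
        simp only [a1, map_mul, map_pow]
        rw [pow_add, pow_add,
          show Y.presheaf.map (homOfLE hle).op a = a' * (Y.presheaf.map (homOfLE hle).op r) ^ n from ha.symm]
        ring
      · show h' * V.presheaf.map (homOfLE (q0.preimage_mono hle)).op ((q0.app U.1 r) ^ (n + m + l)) =
          V.presheaf.map (homOfLE (q0.preimage_mono hle)).op ((q0.app U.1 r) ^ l * h1)
        simp only [h1, map_mul, map_pow]
        rw [pow_add, pow_add, show V.presheaf.map (homOfLE (q0.preimage_mono hle)).op h =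
          h' * (V.presheaf.map (homOfLE (q0.preimage_mono hle)).op (q0.app U.1 r)) ^ m from hh.symm]
        ring
    · rintro ⟨⟨a, h⟩, hx⟩ ⟨⟨a', h'⟩, hy⟩ hxy
      obtain ⟨⟨_, n, rfl⟩, hn⟩ := IsLocalization.exists_of_eq (M := Submonoid.powers r)
        (S := Γ(Y, Y.basicOpen r)) (congrArg (fun z : fib p q0 j0 hj (Y.basicOpen r) => z.1.1) hxy)
      obtain ⟨⟨_, m, rfl⟩, hm⟩ := IsLocalization.exists_of_eq (M := Submonoid.powers (q0.app U.1 r))
        (S := Γ(V, q0 ⁻¹ᵁ Y.basicOpen r)) (congrArg (fun z : fib p q0 j0 hj (Y.basicOpen r) => z.1.2) hxy)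
      refine ⟨⟨(fibStr hj U.1 r) ^ (n + m), _, rfl⟩, Subtype.ext (Prod.ext ?_ ?_)⟩
      · show r ^ (n + m) * a = r ^ (n + m) * a'
        rw [add_comm, pow_add, mul_assoc, mul_assoc]
        exact congrArg _ hn
      · show (q0.app U.1 r) ^ (n + m) * h = (q0.app U.1 r) ^ (n + m) * h'
        rw [pow_add, mul_assoc, mul_assoc]
        exact congrArg _ hm

/-- The contraction. -/
abbrev C : Scheme.{u} := (data hj).spec

/-- Its projection. -/
abbrev g : C hj ⟶ Y := (data hj).π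

/-- The functions on the contraction over an affine open. -/
def fn (U : Y.Opens) (hU : IsAffineOpen U) : Γ(C hj, g hj ⁻¹ᵁ U) ≃+* fib p q0 j0 hj U :=
  (asIso ((data hj).gamma ⟨U, hU⟩)).commRingCatIsoToRingEquiv

theorem fn_res {U U' : Y.AffineZariskiSite} (k : U' ⟶ U) (z : Γ(C hj, g hj ⁻¹ᵁ U.1)) :
    fn hj U'.1 U'.2 ((C hj).presheaf.map (homOfLE ((g hj).preimage_mono (Scheme.AffineZariskiSite.toOpens_mono k.le))).op z) =
      fibRes hj (Scheme.AffineZariskiSite.toOpens_mono k.le) (fn hj U.1 U.2 z) :=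
  congr(CommRingCat.Hom.hom $((data hj).gamma_res k) z)

theorem fn_app (U : Y.Opens) (hU : IsAffineOpen U) (a : Γ(Y, U)) :
    fn hj U hU ((g hj).app U a) = fibStr hj U a :=
  congr(CommRingCat.Hom.hom $((data hj).str_gamma ⟨U, hU⟩) a)

theorem exists_maps :
    ∃ (ε : Y ⟶ C hj) (q : V ⟶ C hj) (_ : ε ≫ g hj = 𝟙 Y) (_ : q ≫ g hj = q0),
      j0 ≫ q = p ≫ ε ∧
      (∀ (U : Y.Opens) (hU : IsAffineOpen U) (h : q0 ⁻¹ᵁ U ≤ q ⁻¹ᵁ (g hj ⁻¹ᵁ U)) (z : Γ(C hj, g hj ⁻¹ᵁ U)),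
        q.appLE (g hj ⁻¹ᵁ U) (q0 ⁻¹ᵁ U) h z = (fn hj U hU z).1.2) ∧
      (∀ (U : Y.Opens) (hU : IsAffineOpen U) (h : U ≤ ε ⁻¹ᵁ (g hj ⁻¹ᵁ U)) (z : Γ(C hj, g hj ⁻¹ᵁ U)),
        ε.appLE (g hj ⁻¹ᵁ U) U h z = (fn hj U hU z).1.1) := by
  let B := RelSpec.QCAlg.directImage (g hj)
  obtain ⟨ψ, hψ, -⟩ := existsUnique_algHom (A := B) (B := RelSpec.QCAlg.directImage q0)
    (fun U => (data hj).gamma U ≫
      CommRingCat.ofHom ((RingHom.snd Γ(Y, U.1) Γ(V, q0 ⁻¹ᵁ U.1)).comp (fib p q0 j0 hj U.1).subtype))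
    (fun {U U'} i => CommRingCat.hom_ext (RingHom.ext fun z =>
      congrArg (fun w : fib p q0 j0 hj U'.1 => w.1.2) (fn_res hj i z)))
    (fun U => CommRingCat.hom_ext (RingHom.ext fun a =>
      congrArg (fun w : fib p q0 j0 hj U.1 => w.1.2) (fn_app hj U.1 U.2 a)))
  obtain ⟨φ, hφ, -⟩ := existsUnique_algHom (A := B) (B := RelSpec.QCAlg.directImage (𝟙 Y))
    (fun U => (data hj).gamma U ≫
      CommRingCat.ofHom ((RingHom.fst Γ(Y, U.1) Γ(V, q0 ⁻¹ᵁ U.1)).comp (fib p q0 j0 hj U.1).subtype))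
    (fun {U U'} i => CommRingCat.hom_ext (RingHom.ext fun z =>
      congrArg (fun w : fib p q0 j0 hj U'.1 => w.1.1) (fn_res hj i z)))
    (fun U => CommRingCat.hom_ext (RingHom.ext fun a =>
      congrArg (fun w : fib p q0 j0 hj U.1 => w.1.1) (fn_app hj U.1 U.2 a)))
  obtain ⟨q, hq, hqω⟩ := EGA73.exists_over (g hj) q0 ψ.hom ψ.comm
  obtain ⟨ε, hε, hεω⟩ := EGA73.exists_over (g hj) (𝟙 Y) φ.hom φ.comm
  have hq' : ∀ (U : Y.Opens) (hU : IsAffineOpen U) (h : q0 ⁻¹ᵁ U ≤ q ⁻¹ᵁ (g hj ⁻¹ᵁ U))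
      (z : Γ(C hj, g hj ⁻¹ᵁ U)), q.appLE (g hj ⁻¹ᵁ U) (q0 ⁻¹ᵁ U) h z = (fn hj U hU z).1.2 := fun U hU h z => by
    have e := (EGA73.algHom_app (g hj) q0 q hq U).symm.trans ((NatTrans.congr_app hqω (op U)).trans (hψ ⟨U, hU⟩))
    exact congr(CommRingCat.Hom.hom $e z)
  have hε' : ∀ (U : Y.Opens) (hU : IsAffineOpen U) (h : U ≤ ε ⁻¹ᵁ (g hj ⁻¹ᵁ U))
      (z : Γ(C hj, g hj ⁻¹ᵁ U)), ε.appLE (g hj ⁻¹ᵁ U) U h z = (fn hj U hU z).1.1 := fun U hU h z => by
    have e := (EGA73.algHom_app (g hj) (𝟙 Y) ε hε U).symm.trans ((NatTrans.congr_app hεω (op U)).trans (hφ ⟨U, hU⟩))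
    exact congr(CommRingCat.Hom.hom $e z)
  have w1 : (j0 ≫ q) ≫ g hj = p := by rw [Category.assoc, hq, hj]
  have w2 : (p ≫ ε) ≫ g hj = p := by rw [Category.assoc, hε, Category.comp_id]
  refine ⟨ε, q, hε, hq, EGA73.over_ext (g hj) p w1 w2 (EGA73.pushforward_hom_ext p fun U hU => ?_), hq', hε'⟩
  refine (EGA73.algHom_app (g hj) p _ w1 U).trans (Eq.trans ?_ (EGA73.algHom_app (g hj) p _ w2 U).symm)
  refine CommRingCat.hom_ext (RingHom.ext fun z => ?_)
  have h1 : q0 ⁻¹ᵁ U ≤ q ⁻¹ᵁ (g hj ⁻¹ᵁ U) := by rw [← Scheme.Hom.comp_preimage, hq]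
  have h2 : U ≤ ε ⁻¹ᵁ (g hj ⁻¹ᵁ U) := by rw [← Scheme.Hom.comp_preimage, hε]; rfl
  rw [← Scheme.Hom.appLE_comp_appLE j0 q (g hj ⁻¹ᵁ U) (q0 ⁻¹ᵁ U) (p ⁻¹ᵁ U) h1 (preimage_le p q0 j0 hj U),
    ← Scheme.Hom.appLE_comp_appLE p ε (g hj ⁻¹ᵁ U) U (p ⁻¹ᵁ U) h2 le_rfl]
  show j0.appLE _ _ _ (q.appLE _ _ h1 z) = p.appLE U _ _ (ε.appLE _ _ h2 z)
  rw [hq' U hU, hε' U hU, ← Scheme.Hom.app_eq_appLE]
  exact ((mem_fib hj).1 (fn hj U hU z).2).symm

end Groth.Agent.EGAProj74.ContractionCone
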