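import Groth.Agent.EGAProj74.ContractionCone
import Mathlib.AlgebraicGeometry.Morphisms.IsIso
import Mathlib.AlgebraicGeometry.Morphisms.Affine

/-!
Geometry of the contraction: it is an isomorphism away from the contracted subscheme.
-/

set_option autoImplicit false
set_option backward.isDefEq.respectTransparency false

universe u

open CategoryTheory CategoryTheory.Limits AlgebraicGeometry TopologicalSpace Opposite

noncomputable section

namespace Groth.Agent.EGAProj74.ContractionCone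

variable {X Y V : Scheme.{u}} {p : X ⟶ Y} {q0 : V ⟶ Y} {j0 : X ⟶ V} (hj : j0 ≫ q0 = p)
  [QuasiCompact p] [QuasiSeparated p] [QuasiCompact q0] [QuasiSeparated q0]

/-- The function on the contraction given by a function vanishing on `X`. -/
def bar (U : Y.Opens) (hU : IsAffineOpen U) (h : Γ(V, q0 ⁻¹ᵁ U))
    (h0 : j0.appLE (q0 ⁻¹ᵁ U) (p ⁻¹ᵁ U) (preimage_le p q0 j0 hj U) h = 0) : Γ(C hj, g hj ⁻¹ᵁ U) :=
  (fn hj U hU).symm ⟨(0, h), zero_mem_fib hj h0⟩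

theorem fn_bar (U : Y.Opens) (hU : IsAffineOpen U) (h : Γ(V, q0 ⁻¹ᵁ U))
    (h0 : j0.appLE (q0 ⁻¹ᵁ U) (p ⁻¹ᵁ U) (preimage_le p q0 j0 hj U) h = 0) :
    (fn hj U hU (bar hj U hU h h0)).1 = (0, h) := by
  rw [bar, RingEquiv.apply_symm_apply]

theorem eq_bar (U : Y.Opens) (hU : IsAffineOpen U) (k : Γ(C hj, g hj ⁻¹ᵁ U)) (hk : (fn hj U hU k).1.1 = 0) :
    ∃ h h0, bar hj U hU h h0 = k := by
  refine ⟨(fn hj U hU k).1.2, ?_, (fn hj U hU).injective (Subtype.ext ?_)⟩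
  · have := (mem_fib hj).1 (fn hj U hU k).2
    rw [hk, map_zero] at this
    exact this.symm
  · rw [fn_bar]
    exact Prod.ext hk.symm rfl

section maps

variable {ε : Y ⟶ C hj} {q : V ⟶ C hj} (hεg : ε ≫ g hj = 𝟙 Y) (hqg : q ≫ g hj = q0)
  (hq : ∀ (U : Y.Opens) (hU : IsAffineOpen U) (h : q0 ⁻¹ᵁ U ≤ q ⁻¹ᵁ (g hj ⁻¹ᵁ U)) (z : Γ(C hj, g hj ⁻¹ᵁ U)),
    q.appLE (g hj ⁻¹ᵁ U) (q0 ⁻¹ᵁ U) h z = (fn hj U hU z).1.2)
  (hε : ∀ (U : Y.Opens) (hU : IsAffineOpen U) (h : U ≤ ε ⁻¹ᵁ (g hj ⁻¹ᵁ U)) (z : Γ(C hj, g hj ⁻¹ᵁ U)),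
    ε.appLE (g hj ⁻¹ᵁ U) U h z = (fn hj U hU z).1.1)

include hqg in
theorem preimage_q (U : Y.Opens) : q ⁻¹ᵁ (g hj ⁻¹ᵁ U) = q0 ⁻¹ᵁ U := by rw [← Scheme.Hom.comp_preimage, hqg]

include hqg hq in
theorem preimage_basicOpen_bar (U : Y.Opens) (hU : IsAffineOpen U) (h : Γ(V, q0 ⁻¹ᵁ U))
    (h0 : j0.appLE (q0 ⁻¹ᵁ U) (p ⁻¹ᵁ U) (preimage_le p q0 j0 hj U) h = 0) :
    q ⁻¹ᵁ (C hj).basicOpen (bar hj U hU h h0) = V.basicOpen h := by
  have e := hq U hU (preimage_q hj hqg U).ge (bar hj U hU h h0)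
  rw [fn_bar] at e
  have e2 := congrArg (fun s => V.basicOpen s) e
  rw [Scheme.basicOpen_appLE] at e2
  refine Eq.trans ?_ e2
  rw [eq_comm, inf_eq_right, ← preimage_q hj hqg U]
  exact q.preimage_mono ((C hj).basicOpen_le _)

include hεg hε in
theorem notMem_basicOpen_bar (U : Y.Opens) (hU : IsAffineOpen U) (h : Γ(V, q0 ⁻¹ᵁ U))
    (h0 : j0.appLE (q0 ⁻¹ᵁ U) (p ⁻¹ᵁ U) (preimage_le p q0 j0 hj U) h = 0) (y : Y) :
    ε y ∉ (C hj).basicOpen (bar hj U hU h h0) := by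
  intro hy
  have hyU : y ∈ U := by
    have h1 : ε y ∈ g hj ⁻¹ᵁ U := (C hj).basicOpen_le _ hy
    have h2 : (ε ≫ g hj) y ∈ U := h1
    rwa [hεg] at h2
  have hle : U ≤ ε ⁻¹ᵁ (g hj ⁻¹ᵁ U) := by rw [← Scheme.Hom.comp_preimage, hεg]; rfl
  have e := hε U hU hle (bar hj U hU h h0)
  rw [fn_bar] at e
  have h3 : y ∈ Y.basicOpen (ε.appLE _ U hle (bar hj U hU h h0)) := by
    rw [Scheme.basicOpen_appLE]; exact ⟨hyU, hy⟩
  rw [e, Scheme.basicOpen_zero] at h3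
  exact h3.elim

include hqg hq in
theorem bijective_appLE_bar (U : Y.Opens) (hU : IsAffineOpen U) (h : Γ(V, q0 ⁻¹ᵁ U))
    (h0 : j0.appLE (q0 ⁻¹ᵁ U) (p ⁻¹ᵁ U) (preimage_le p q0 j0 hj U) h = 0) :
    Function.Bijective (q.appLE ((C hj).basicOpen (bar hj U hU h h0)) (V.basicOpen h)
      (preimage_basicOpen_bar hj hqg hq U hU h h0).ge) := by
  set k := bar hj U hU h h0 with hkdef
  let θ := q.appLE ((C hj).basicOpen k) (V.basicOpen h) (preimage_basicOpen_bar hj hqg hq U hU h h0).ge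
  letI : Algebra Γ(C hj, g hj ⁻¹ᵁ U) Γ(C hj, (C hj).basicOpen k) :=
    ((C hj).presheaf.map (homOfLE ((C hj).basicOpen_le k)).op).hom.toAlgebra
  haveI hC : IsLocalization.Away k Γ(C hj, (C hj).basicOpen k) := (hU.preimage (g hj)).isLocalization_basicOpen k
  letI : Algebra Γ(V, q0 ⁻¹ᵁ U) Γ(V, V.basicOpen h) :=
    (V.presheaf.map (homOfLE (V.basicOpen_le h)).op).hom.toAlgebra
  haveI hV : IsLocalization.Away h Γ(V, V.basicOpen h) :=
    isLocalization_basicOpen_of_qcqs (q0.isCompact_preimage hU.isCompact)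
      (q0.isQuasiSeparated_preimage hU.isQuasiSeparated) h
  have hres : ∀ w, θ (algebraMap Γ(C hj, g hj ⁻¹ᵁ U) Γ(C hj, (C hj).basicOpen k) w) =
      algebraMap Γ(V, q0 ⁻¹ᵁ U) Γ(V, V.basicOpen h) (fn hj U hU w).1.2 := fun w => by
    rw [← hq U hU (preimage_q hj hqg U).ge w]
    show θ ((C hj).presheaf.map _ w) = V.presheaf.map _ (q.appLE _ _ _ w)
    simp only [θ, ← CommRingCat.comp_apply, Scheme.Hom.map_appLE, Scheme.Hom.appLE_map]
  have hk : (fn hj U hU k).1 = (0, h) := fn_bar hj U hU h h0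
  have hku : IsUnit (algebraMap Γ(C hj, g hj ⁻¹ᵁ U) Γ(C hj, (C hj).basicOpen k) k) :=
    IsLocalization.Away.algebraMap_isUnit k
  have hθk : θ (algebraMap Γ(C hj, g hj ⁻¹ᵁ U) Γ(C hj, (C hj).basicOpen k) k) =
      algebraMap Γ(V, q0 ⁻¹ᵁ U) Γ(V, V.basicOpen h) h := by rw [hres, hk]
  constructor
  · refine (injective_iff_map_eq_zero θ.hom).2 fun z hz => ?_
    obtain ⟨n, w, hw⟩ := IsLocalization.Away.surj k z
    have h1 : algebraMap Γ(V, q0 ⁻¹ᵁ U) Γ(V, V.basicOpen h) (fn hj U hU w).1.2 = 0 := by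
      rw [← hres, ← hw, map_mul, show θ z = 0 from hz, zero_mul]
    obtain ⟨⟨_, m, rfl⟩, hm⟩ := (IsLocalization.map_eq_zero_iff (Submonoid.powers h) _ _).1 h1
    have h2 : k ^ (m + 1) * w = 0 := by
      refine (fn hj U hU).injective (Subtype.ext ?_)
      rw [map_mul, map_pow, map_zero]
      show (fn hj U hU k).1 ^ (m + 1) * (fn hj U hU w).1 = 0
      rw [hk, Prod.pow_mk]
      refine Prod.ext ?_ ?_
      · simp
      · show h ^ (m + 1) * (fn hj U hU w).1.2 = 0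
        rw [pow_succ', mul_assoc]
        rw [show h ^ m * (fn hj U hU w).1.2 = 0 from hm, mul_zero]
    have h3 := congrArg (algebraMap Γ(C hj, g hj ⁻¹ᵁ U) Γ(C hj, (C hj).basicOpen k)) h2
    rw [map_mul, map_pow, map_zero, ← hw, ← mul_assoc, mul_comm _ z, mul_assoc, ← pow_add] at h3
    exact (hku.pow (m + 1 + n)).mul_left_eq_zero.1 h3
  · intro y
    obtain ⟨n, x, hx⟩ := IsLocalization.Away.surj h y
    have hx0 : j0.appLE (q0 ⁻¹ᵁ U) (p ⁻¹ᵁ U) (preimage_le p q0 j0 hj U) (h * x) = 0 := by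
      rw [map_mul, h0, zero_mul]
    obtain ⟨b, hb⟩ := (hku.pow (n + 1)).exists_right_inv
    refine ⟨algebraMap Γ(C hj, g hj ⁻¹ᵁ U) Γ(C hj, (C hj).basicOpen k) (bar hj U hU (h * x) hx0) * b, ?_⟩
    have hb' := congrArg θ hb
    rw [map_mul, map_pow, map_one, hθk] at hb'
    show θ _ = y
    rw [map_mul, hres, fn_bar, map_mul, ← hx]
    linear_combination y * hb'

include hqg hq in
theorem isIso_restrict_bar (U : Y.Opens) (hU : IsAffineOpen U) (h : Γ(V, q0 ⁻¹ᵁ U))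
    (h0 : j0.appLE (q0 ⁻¹ᵁ U) (p ⁻¹ᵁ U) (preimage_le p q0 j0 hj U) h = 0) (ha : IsAffineOpen (V.basicOpen h)) :
    IsIso (q ∣_ (C hj).basicOpen (bar hj U hU h h0)) := by
  set D := (C hj).basicOpen (bar hj U hU h h0)
  have hD : IsAffineOpen D := (hU.preimage (g hj)).basicOpen _
  have hpre : q ⁻¹ᵁ D = V.basicOpen h := preimage_basicOpen_bar hj hqg hq U hU h h0
  haveI : IsAffine (D : Scheme.{u}) := hD
  refine (HasAffineProperty.iff_of_isAffine (P := MorphismProperty.isomorphisms Scheme.{u})).2 ⟨hpre ▸ ha, ?_⟩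
  have key : ∀ (O : V.Opens) (_ : O = V.basicOpen h) (hO : O ≤ q ⁻¹ᵁ D), Function.Bijective (q.appLE D O hO) := by
    rintro O rfl hO
    exact bijective_appLE_bar hj hqg hq U hU h h0
  rw [Scheme.Hom.appTop, morphismRestrict_app', ConcreteCategory.isIso_iff_bijective]
  have key2 : ∀ (D' : (C hj).Opens) (_ : D' = D) (O : V.Opens) (_ : O = V.basicOpen h) (hO : O ≤ q ⁻¹ᵁ D'),
      Function.Bijective (q.appLE D' O hO) := by
    rintro D' rfl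
    exact key
  exact key2 _ D.ι_image_top _ ((Scheme.Opens.ι_image_top _).trans hpre) _

variable (V0 : V.Opens)
  (hV0 : ∀ (U : Y.Opens) (_ : IsAffineOpen U) (h : Γ(V, q0 ⁻¹ᵁ U)),
    j0.appLE (q0 ⁻¹ᵁ U) (p ⁻¹ᵁ U) (preimage_le p q0 j0 hj U) h = 0 → V.basicOpen h ≤ V0)
  (hgood : ∀ v ∈ V0, ∃ (U : Y.Opens) (_ : IsAffineOpen U) (h : Γ(V, q0 ⁻¹ᵁ U)),
    j0.appLE (q0 ⁻¹ᵁ U) (p ⁻¹ᵁ U) (preimage_le p q0 j0 hj U) h = 0 ∧ v ∈ V.basicOpen h ∧
      IsAffineOpen (V.basicOpen h))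

include hεg hqg hq hε hV0 hgood in
theorem isOpenImmersion_and_disjoint :
    IsOpenImmersion (V0.ι ≫ q) ∧ Set.range (V0.ι ≫ q).base ∩ Set.range ε.base = ∅ := by
  let I := {D : (C hj).Opens // ∃ (U : Y.Opens) (hU : IsAffineOpen U) (h : Γ(V, q0 ⁻¹ᵁ U))
    (h0 : j0.appLE (q0 ⁻¹ᵁ U) (p ⁻¹ᵁ U) (preimage_le p q0 j0 hj U) h = 0),
      IsAffineOpen (V.basicOpen h) ∧ (C hj).basicOpen (bar hj U hU h h0) = D}
  let O : (C hj).Opens := ⨆ i : I, i.1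
  have hO : q ⁻¹ᵁ O = V0 := by
    refine le_antisymm ?_ fun v hv => ?_
    · rw [Scheme.Hom.preimage_iSup]
      refine iSup_le ?_
      rintro ⟨_, U, hU, h, h0, -, rfl⟩
      rw [preimage_basicOpen_bar hj hqg hq U hU h h0]
      exact hV0 U hU h h0
    · obtain ⟨U, hU, h, h0, hvh, ha⟩ := hgood v hv
      refine q.preimage_mono (le_iSup (fun i : I => i.1) ⟨_, U, hU, h, h0, ha, rfl⟩) ?_
      rwa [preimage_basicOpen_bar hj hqg hq U hU h h0]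
  haveI : IsIso (q ∣_ O) := by
    refine (IsZariskiLocalAtTarget.iff_of_iSup_eq_top (P := MorphismProperty.isomorphisms Scheme.{u})
      (fun i : I => O.ι ⁻¹ᵁ i.1) ?_).2 fun i => ?_
    · rw [← Scheme.Hom.preimage_iSup]; exact O.ι_preimage_self
    obtain ⟨_, U, hU, h, h0, ha, rfl⟩ := i
    set D := (C hj).basicOpen (bar hj U hU h h0)
    have hDO : D ≤ O := le_iSup (fun i : I => i.1) ⟨_, U, hU, h, h0, ha, rfl⟩
    refine ((MorphismProperty.isomorphisms Scheme.{u}).arrow_mk_iso_iff (morphismRestrictRestrict q O _)).2 ?_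
    have e : O.ι ''ᵁ (O.ι ⁻¹ᵁ D) = D := by
      rw [Scheme.Hom.image_preimage_eq_opensRange_inf, Scheme.Opens.opensRange_ι, inf_eq_right.2 hDO]
    rw [e]
    exact isIso_restrict_bar hj hqg hq U hU h h0 ha
  have e : V0.ι ≫ q = (V.isoOfEq hO).inv ≫ (q ∣_ O) ≫ O.ι := by
    rw [morphismRestrict_ι, Scheme.isoOfEq_inv_ι_assoc]
  refine ⟨e ▸ inferInstance, Set.eq_empty_iff_forall_notMem.2 ?_⟩
  rintro c ⟨⟨v, rfl⟩, ⟨y, hy⟩⟩
  have h1 : (V0.ι ≫ q) v ∈ O := hO.ge v.2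
  rw [← hy] at h1
  obtain ⟨⟨D', U, hU, h, h0, ha', hD'⟩, hmem⟩ := Opens.mem_iSup.1 h1
  exact notMem_basicOpen_bar hj hεg hε U hU h h0 y (hD'.ge hmem)

include hεg hqg hq hε hV0 in
theorem compl_range_subset [UniversallyClosed q] :
    (Set.range ε.base)ᶜ ⊆ Set.range (V0.ι ≫ q).base := by
  intro z hz
  haveI : IsClosedImmersion ε := by
    haveI : IsClosedImmersion (ε ≫ g hj) := by rw [hεg]; infer_instance
    exact IsClosedImmersion.of_comp ε (g hj)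
  obtain ⟨U, hU, hzU, -⟩ := exists_isAffineOpen_mem_and_subset (U := (⊤ : Y.Opens)) (x := g hj z) trivial
  let Ω : (C hj).Opens := ⟨(Set.range ε.base)ᶜ, ε.isClosedEmbedding.isClosed_range.isOpen_compl⟩
  obtain ⟨k, hkΩ, hzk⟩ := (hU.preimage (g hj)).exists_basicOpen_le (V := Ω) ⟨z, hz⟩ hzU
  -- a power of `k` vanishes on the section
  have hle : U ≤ ε ⁻¹ᵁ (g hj ⁻¹ᵁ U) := by rw [← Scheme.Hom.comp_preimage, hεg]; rfl
  obtain ⟨N, hN⟩ : IsNilpotent (ε.appLE _ U hle k) := by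
    refine (Scheme.isNilpotent_iff_basicOpen_eq_bot_of_isCompact hU.isCompact _).2 ?_
    rw [Scheme.basicOpen_appLE, eq_bot_iff]
    exact fun y hy => hkΩ hy.2 ⟨y, rfl⟩
  obtain ⟨h, h0, hh⟩ := eq_bar hj U hU (k ^ (N + 1)) (by
    rw [← hε U hU hle, map_pow, pow_succ, hN, zero_mul])
  have hzh : z ∈ (C hj).basicOpen (bar hj U hU h h0) := by
    rw [hh, (C hj).basicOpen_pow k N.succ_pos]; exact hzk
  suffices hzr : z ∈ Set.range q.base by
    obtain ⟨v, rfl⟩ := hzr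
    exact ⟨⟨v, hV0 U hU h h0 ((preimage_basicOpen_bar hj hqg hq U hU h h0).le hzh)⟩, rfl⟩
  by_contra hzr
  let Ω' : (C hj).Opens := ⟨(Set.range q.base)ᶜ, q.isClosedMap.isClosed_range.isOpen_compl⟩
  obtain ⟨k', hkΩ', hzk'⟩ := (hU.preimage (g hj)).exists_basicOpen_le (V := Ω' ⊓ (C hj).basicOpen (bar hj U hU h h0))
    ⟨z, hzr, hzh⟩ hzU
  let k3 := k' * bar hj U hU h h0
  obtain ⟨h3, h30, hh3⟩ := eq_bar hj U hU k3 (by
    simp only [k3, map_mul]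
    show (fn hj U hU k').1.1 * (fn hj U hU (bar hj U hU h h0)).1.1 = 0
    rw [fn_bar, mul_zero])
  have hb : V.basicOpen h3 = ⊥ := by
    rw [← preimage_basicOpen_bar hj hqg hq U hU h3 h30, hh3, eq_bot_iff]
    intro v hv
    have hv' : q v ∈ (C hj).basicOpen k3 := hv
    rw [Scheme.basicOpen_mul] at hv'
    exact (hkΩ' hv'.1).1 ⟨v, rfl⟩
  obtain ⟨M, hM⟩ := (Scheme.isNilpotent_iff_basicOpen_eq_bot_of_isCompact (q0.isCompact_preimage hU.isCompact) h3).2 hb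
  have hk3 : k3 ^ (M + 1) = 0 := by
    rw [← hh3]
    refine (fn hj U hU).injective (Subtype.ext ?_)
    rw [map_pow, map_zero]
    show (fn hj U hU (bar hj U hU h3 h30)).1 ^ (M + 1) = 0
    rw [fn_bar, Prod.pow_mk]
    refine Prod.ext ?_ ?_
    · simp
    · show h3 ^ (M + 1) = 0
      rw [pow_succ, hM, zero_mul]
  have hz3 : z ∈ (C hj).basicOpen (k3 ^ (M + 1)) := by
    rw [(C hj).basicOpen_pow k3 M.succ_pos, Scheme.basicOpen_mul]
    exact ⟨hzk', hzh⟩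
  rw [hk3, Scheme.basicOpen_zero] at hz3
  exact hz3.elim

end maps

end Groth.Agent.EGAProj74.ContractionCone
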