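import Groth.Agent.EGAProj74.ContractionCone
import Groth.Agent.EGAProj74.RelSpecGamma
import Mathlib.AlgebraicGeometry.Morphisms.IsIso

/-!
The spectrum of the direct image algebra, and its comparison with the contraction when `p_* O_X = O_Y`.
-/

set_option autoImplicit false
set_option backward.isDefEq.respectTransparency false

universe u

open CategoryTheory CategoryTheory.Limits AlgebraicGeometry TopologicalSpace Opposite

noncomputable section

namespace Groth.Agent.EGAProj74.ContractionStein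

variable {X Y V : Scheme.{u}} (q0 : V ⟶ Y) [QuasiCompact q0] [QuasiSeparated q0]
  (q' : V ⟶ (RelSpec.QCAlg.directImage q0).spec)
  (hq'π : q' ≫ (RelSpec.QCAlg.directImage q0).π = q0)
  (hq' : AffAlg.algHom (RelSpec.QCAlg.directImage q0).π q0 q' hq'π = (RelSpec.QCAlg.directImage q0).gammaMap)

include hq' in
theorem bijective_appLE (U : Y.Opens) (e) :
    Function.Bijective (q'.appLE ((RelSpec.QCAlg.directImage q0).π ⁻¹ᵁ U) (q0 ⁻¹ᵁ U) e) := by
  have h := (NatTrans.congr_app hq' (op U))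
  rw [EGA73.algHom_app _ _ q' hq'π U] at h
  rw [h]
  haveI := isIso_gammaMap (RelSpec.QCAlg.directImage q0)
  exact ConcreteCategory.bijective_of_isIso _

include hq' in
theorem isIso_app (O : (RelSpec.QCAlg.directImage q0).spec.Opens) : IsIso (q'.app O) := by
  let A := RelSpec.QCAlg.directImage q0
  haveI : QuasiCompact q' := by
    haveI : QuasiCompact (q' ≫ A.π) := by rw [hq'π]; infer_instance
    exact QuasiCompact.of_comp q' A.π
  haveI : QuasiSeparated q' := by
    haveI : QuasiSeparated (q' ≫ A.π) := by rw [hq'π]; infer_instance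
    exact QuasiSeparated.of_comp q' A.π
  let B := RelSpec.QCAlg.directImage q'
  haveI : IsIso B.π := by
    refine IsZariskiLocalAtTarget.of_iSup_eq_top (P := MorphismProperty.isomorphisms Scheme.{u})
      (fun U : Y.affineOpens => A.π ⁻¹ᵁ U.1)
      (by rw [← Scheme.Hom.preimage_iSup, iSup_affineOpens_eq_top, Scheme.Hom.preimage_top]) fun U => ?_
    have hW : IsAffineOpen (A.π ⁻¹ᵁ U.1) := U.2.preimage _
    haveI : IsAffine (A.π ⁻¹ᵁ U.1 : Scheme.{u}) := hW
    haveI : IsIso (B.π.app (A.π ⁻¹ᵁ U.1)) := by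
      haveI := isIso_gammaAff B (A.π ⁻¹ᵁ U.1) hW
      haveI : IsIso (B.str.app (op (A.π ⁻¹ᵁ U.1))) := by
        rw [ConcreteCategory.isIso_iff_bijective]
        have key : ∀ (O : V.Opens) (_ : O = q0 ⁻¹ᵁ U.1) (e), Function.Bijective (q'.appLE (A.π ⁻¹ᵁ U.1) O e) := by
          rintro O rfl e
          exact bijective_appLE q0 q' hq'π hq' U.1 e
        show Function.Bijective (q'.app (A.π ⁻¹ᵁ U.1))
        rw [Scheme.Hom.app_eq_appLE]
        exact key _ (by rw [← Scheme.Hom.comp_preimage, hq'π]) _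
      haveI : IsIso (B.π.app (A.π ⁻¹ᵁ U.1) ≫ B.gammaAff _ hW) := by rw [B.π_app_gammaAff]; infer_instance
      exact IsIso.of_isIso_comp_right _ (B.gammaAff _ hW)
    refine (HasAffineProperty.iff_of_isAffine (P := MorphismProperty.isomorphisms Scheme.{u})).2
      ⟨hW.preimage B.π, ?_⟩
    rw [Scheme.Hom.appTop, morphismRestrict_app', ConcreteCategory.isIso_iff_bijective]
    have key : ∀ (O : A.spec.Opens) (_ : O = A.π ⁻¹ᵁ U.1) (O' : B.spec.Opens) (_ : O' = B.π ⁻¹ᵁ O) (e),
        Function.Bijective (B.π.appLE O O' e) := by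
      rintro O rfl O' rfl e
      rw [← Scheme.Hom.app_eq_appLE]
      exact ConcreteCategory.bijective_of_isIso _
    exact key _ (Scheme.Opens.ι_image_top _) _
      ((Scheme.Opens.ι_image_top _).trans (congrArg (B.π ⁻¹ᵁ ·) (Scheme.Opens.ι_image_top _)).symm) _
  haveI := isIso_gammaMap B
  have h : B.π.app O ≫ B.gammaMap.app (op O) = q'.app O := NatTrans.congr_app B.π_c_gammaMap (op O)
  rw [← h]
  infer_instance

theorem denseRange_of_injective_app {S T : Scheme.{u}} (f : S ⟶ T)
    (h : ∀ O : T.Opens, Function.Injective (f.app O)) : DenseRange f.base := by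
  rw [DenseRange, dense_iff_inter_open]
  intro O hO hne
  by_contra hemp
  obtain ⟨z, hz⟩ := hne
  have hbot : f ⁻¹ᵁ (⟨O, hO⟩ : TopologicalSpace.Opens _) = ⊥ := by
    rw [eq_bot_iff]
    intro v hv
    exact (hemp ⟨f v, hv, v, rfl⟩).elim
  have h2 : (1 : Γ(T, ⟨O, hO⟩)) = 0 := by
    refine h ⟨O, hO⟩ ?_
    have : Subsingleton Γ(S, f ⁻¹ᵁ (⟨O, hO⟩ : TopologicalSpace.Opens _)) := by
      rw [hbot]; exact CommRingCat.subsingleton_of_isTerminal S.sheaf.isTerminalOfEmpty
    exact Subsingleton.elim _ _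
  have h3 : z ∈ T.basicOpen (1 : Γ(T, ⟨O, hO⟩)) := by
    rw [Scheme.basicOpen_of_isUnit _ isUnit_one]; exact hz
  rw [h2, Scheme.basicOpen_zero] at h3
  exact h3.elim

theorem surjective_of_injective_app {S T : Scheme.{u}} (f : S ⟶ T) (hf : IsClosedMap f.base)
    (h : ∀ O : T.Opens, Function.Injective (f.app O)) : Function.Surjective f.base := by
  rw [← Set.range_eq_univ, ← hf.isClosed_range.closure_eq]
  exact (denseRange_of_injective_app f h).closure_range

variable {p : X ⟶ Y} [QuasiCompact p] [QuasiSeparated p] {j0 : X ⟶ V} (hj : j0 ≫ q0 = p)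

include hq' in
theorem exists_iso (hθ : IsIso p.c) :
    ∃ (ε : Y ⟶ ContractionCone.C hj) (q : V ⟶ ContractionCone.C hj)
      (w : (RelSpec.QCAlg.directImage q0).spec ≅ ContractionCone.C hj)
      (_ : ε ≫ ContractionCone.g hj = 𝟙 Y) (_ : q ≫ ContractionCone.g hj = q0),
      q' ≫ w.hom = q ∧ w.hom ≫ ContractionCone.g hj = (RelSpec.QCAlg.directImage q0).π ∧ j0 ≫ q = p ≫ ε ∧
      (∀ (U : Y.Opens) (hU : IsAffineOpen U) (h : q0 ⁻¹ᵁ U ≤ q ⁻¹ᵁ (ContractionCone.g hj ⁻¹ᵁ U))
        (z : Γ(ContractionCone.C hj, ContractionCone.g hj ⁻¹ᵁ U)),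
        q.appLE (ContractionCone.g hj ⁻¹ᵁ U) (q0 ⁻¹ᵁ U) h z = (ContractionCone.fn hj U hU z).1.2) ∧
      (∀ (U : Y.Opens) (hU : IsAffineOpen U) (h : U ≤ ε ⁻¹ᵁ (ContractionCone.g hj ⁻¹ᵁ U))
        (z : Γ(ContractionCone.C hj, ContractionCone.g hj ⁻¹ᵁ U)),
        ε.appLE (ContractionCone.g hj ⁻¹ᵁ U) U h z = (ContractionCone.fn hj U hU z).1.1) := by
  obtain ⟨ε, q, hεg, hqg, hjq, hq, hε⟩ := ContractionCone.exists_maps hj
  let A := RelSpec.QCAlg.directImage q0
  haveI := isIso_gammaMap A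
  let ω : AffAlg.alg (ContractionCone.g hj) ⟶ AffAlg.alg A.π := AffAlg.algHom (ContractionCone.g hj) q0 q hqg ≫ inv A.gammaMap
  have hω : (ContractionCone.g hj).c ≫ ω = A.π.c := by
    rw [← Category.assoc, AffAlg.algHom_comm, IsIso.comp_inv_eq]
    exact A.π_c_gammaMap.symm
  obtain ⟨w, hw, hwω⟩ := EGA73.exists_over (ContractionCone.g hj) A.π ω hω
  have hq'w : q' ≫ w = q := by
    refine EGA73.over_ext (ContractionCone.g hj) q0 (by rw [Category.assoc, hw, hq'π]) hqg ?_
    rw [EGA73.algHom_comp (ContractionCone.g hj) A.π q0 w q' hw hq'π, hwω, hq', Category.assoc, IsIso.inv_hom_id, Category.comp_id]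
  have hbij : ∀ U : Y.Opens, IsAffineOpen U →
      Function.Bijective ((AffAlg.algHom (ContractionCone.g hj) q0 q hqg).app (op U)) := by
    intro U hU
    have hv : ∀ z, (AffAlg.algHom (ContractionCone.g hj) q0 q hqg).app (op U) z =
        (ContractionCone.fn hj U hU z).1.2 := fun z => by
      rw [EGA73.algHom_app (ContractionCone.g hj) q0 q hqg U]
      exact hq U hU _ z
    haveI := hθ
    have hpb : Function.Bijective (p.app U) :=
      ConcreteCategory.bijective_of_isIso (p.c.app (op U))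
    constructor
    · intro a b hab
      rw [hv, hv] at hab
      refine (ContractionCone.fn hj U hU).injective (Subtype.ext (Prod.ext (hpb.1 ?_) hab))
      rw [(ContractionCone.mem_fib hj).1 (ContractionCone.fn hj U hU a).2,
        (ContractionCone.mem_fib hj).1 (ContractionCone.fn hj U hU b).2]
      exact congrArg _ hab
    · intro h
      obtain ⟨a, ha⟩ := hpb.2 (j0.appLE _ _ (ContractionCone.preimage_le p q0 j0 hj U) h)
      refine ⟨(ContractionCone.fn hj U hU).symm ⟨(a, h), ha⟩, ?_⟩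
      refine (hv _).trans ?_
      rw [RingEquiv.apply_symm_apply]
  haveI : IsIso (AffAlg.algHom (ContractionCone.g hj) q0 q hqg) := by
    let ℱ : Sheaf (Opens.grothendieckTopology (Y.carrier : Type u)) CommRingCat.{u} :=
      ⟨AffAlg.alg (ContractionCone.g hj), TopCat.Sheaf.pushforward_sheaf_of_sheaf _ (ContractionCone.C hj).sheaf.property⟩
    let 𝒢 : Sheaf (Opens.grothendieckTopology (Y.carrier : Type u)) CommRingCat.{u} :=
      ⟨AffAlg.alg q0, TopCat.Sheaf.pushforward_sheaf_of_sheaf _ V.sheaf.property⟩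
    let α : ℱ ⟶ 𝒢 := ⟨AffAlg.algHom (ContractionCone.g hj) q0 q hqg⟩
    have h : IsIso (Functor.whiskerLeft (Scheme.AffineZariskiSite.toOpensFunctor Y).op (AffAlg.algHom (ContractionCone.g hj) q0 q hqg)) := by
      have : ∀ U, IsIso ((Functor.whiskerLeft (Scheme.AffineZariskiSite.toOpensFunctor Y).op
          (AffAlg.algHom (ContractionCone.g hj) q0 q hqg)).app U) := fun U => by
        rw [ConcreteCategory.isIso_iff_bijective]; exact hbij _ U.unop.2
      exact NatIso.isIso_of_isIso_app _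
    have : IsIso α := Functor.IsCoverDense.iso_of_restrict_iso (G := Scheme.AffineZariskiSite.toOpensFunctor Y)
      (K := Opens.grothendieckTopology Y) α h
    exact inferInstanceAs (IsIso ((sheafToPresheaf _ _).map α))
  haveI : IsIso w := by
    rw [EGA73.isIso_iff_isIso_algHom (ContractionCone.g hj) A.π w hw, hwω]
    infer_instance
  exact ⟨ε, q, asIso w, hεg, hqg, hq'w, hw, hjq, hq, hε⟩

end Groth.Agent.EGAProj74.ContractionStein
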