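import Groth.Agent.EGAProj74.BasisIso
import Groth.Agent.QC70.ExtCoh
import Groth.Agent.EGA73.CoprodModule

/-!
Modules on a disjoint union are determined by their restrictions to the summands.
-/

set_option autoImplicit false
set_option backward.isDefEq.respectTransparency.types false

universe u

open CategoryTheory CategoryTheory.Limits AlgebraicGeometry TopologicalSpace Opposite

noncomputable section

namespace Groth.Agent.EGAProj74

variable {Z : Scheme.{u}} {M N : Z.Modules}

theorem exists_restrict_iso {A : Scheme.{u}} (i : A ⟶ Z) [IsOpenImmersion i]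
    (e : (Scheme.Modules.pullback i).obj M ≅ (Scheme.Modules.pullback i).obj N) :
    Nonempty (M.restrict i.opensRange.ι ≅ N.restrict i.opensRange.ι) := by
  have h : i.opensRange.ι = i.isoOpensRange.inv ≫ i := by
    rw [Iso.eq_inv_comp, Scheme.Hom.isoOpensRange_hom_ι]
  let c := fun (K : Z.Modules) =>
    (Scheme.Modules.restrictFunctorIsoPullback i.opensRange.ι).app K ≪≫ (Scheme.Modules.pullbackCongr h).app K ≪≫
      ((Scheme.Modules.pullbackComp i.isoOpensRange.inv i).app K).symm
  exact ⟨c M ≪≫ (Scheme.Modules.pullback i.isoOpensRange.inv).mapIso e ≪≫ (c N).symm⟩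

theorem nonempty_iso_of_disjoint (W₁ W₂ : Z.Opens) (hcov : ⊤ ≤ W₁ ⊔ W₂) (hdis : W₁ ⊓ W₂ = ⊥)
    (ψ₁ : M.restrict W₁.ι ≅ N.restrict W₁.ι) (ψ₂ : M.restrict W₂.ι ≅ N.restrict W₂.ι) : Nonempty (M ≅ N) := by
  let W : ULift.{u} Bool → Z.Opens := fun b => match b with
    | ⟨true⟩ => W₁
    | ⟨false⟩ => W₂
  let ψ : ∀ b, M.restrict (W b).ι ≅ N.restrict (W b).ι := fun b => match b with
    | ⟨true⟩ => ψ₁
    | ⟨false⟩ => ψ₂
  let φ : ∀ b, QC70.HomOn M N (W b) := fun b => QC70.HomOn.ofRestrictHom (ψ b).hom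
  have hU : ⊤ ≤ ⨆ b, W b := hcov.trans (sup_le (le_iSup W ⟨true⟩) (le_iSup W ⟨false⟩))
  have hc : QC70.HomOn.Compatible φ := by
    intro b b' V hb hb' s
    rcases b with ⟨b⟩; rcases b' with ⟨b'⟩
    by_cases hbb : b = b'
    · subst hbb; rfl
    · have hV : V ≤ ⊥ := by
        cases b <;> cases b'
        · exact absurd rfl hbb
        · exact (le_inf hb' hb).trans hdis.le
        · exact (le_inf hb hb').trans hdis.le
        · exact absurd rfl hbb
      obtain rfl : V = ⊥ := le_bot_iff.mp hV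
      exact @Subsingleton.elim _ (EGA73.subsingleton_sections_bot N) _ _
  let g := (QC70.HomOn.glue hc hU).toHom
  have hbij : ∀ b (V : Z.Opens), V ≤ W b → Function.Bijective (g.app V) := by
    intro b V hV
    have hg : ∀ s, g.app V s = (φ b).app V hV s := fun s => by
      rw [QC70.HomOn.toHom_app]; exact QC70.HomOn.glue_app hc hU le_top b hV s
    have hb : Function.Bijective ((φ b).app V hV) := by
      have h0 := QC70.HomOn.image_preimage hV
      have h1 : Function.Bijective (QC70.res M h0.le) :=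
        Function.bijective_iff_has_inverse.2 ⟨QC70.res M h0.ge, fun y => (QC70.res_res _ _ y).trans (QC70.res_self y),
          fun y => (QC70.res_res _ _ y).trans (QC70.res_self y)⟩
      have h2 : Function.Bijective (QC70.res N h0.ge) :=
        Function.bijective_iff_has_inverse.2 ⟨QC70.res N h0.le, fun y => (QC70.res_res _ _ y).trans (QC70.res_self y),
          fun y => (QC70.res_res _ _ y).trans (QC70.res_self y)⟩
      exact h2.comp (((ConcreteCategory.bijective_of_isIso (N.restrictAppIso (W b).ι _).hom).comp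
        ((ConcreteCategory.bijective_of_isIso ((ψ b).hom.app _)).comp
          (ConcreteCategory.bijective_of_isIso (M.restrictAppIso (W b).ι _).inv))).comp h1)
    rwa [show (g.app V : Γ(M, V) → Γ(N, V)) = (φ b).app V hV from funext hg]
  have : IsIso g := isIso_of_basis g {V | ∃ b, V ≤ W b} (fun V z hz => by
    obtain ⟨b, hb⟩ := Opens.mem_iSup.1 (hU (trivial : z ∈ (⊤ : Z.Opens)))
    exact ⟨V ⊓ W b, ⟨b, inf_le_right⟩, ⟨hz, hb⟩, inf_le_left⟩) fun V ⟨b, hb⟩ => hbij b V hb
  exact ⟨asIso g⟩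

theorem nonempty_iso_coprod {A B : Scheme.{u}} {M N : (A ⨿ B).Modules}
    (e₁ : (Scheme.Modules.pullback (coprod.inl : A ⟶ A ⨿ B)).obj M ≅
      (Scheme.Modules.pullback (coprod.inl : A ⟶ A ⨿ B)).obj N)
    (e₂ : (Scheme.Modules.pullback (coprod.inr : B ⟶ A ⨿ B)).obj M ≅
      (Scheme.Modules.pullback (coprod.inr : B ⟶ A ⨿ B)).obj N) : Nonempty (M ≅ N) := by
  obtain ⟨ψ₁⟩ := exists_restrict_iso coprod.inl e₁
  obtain ⟨ψ₂⟩ := exists_restrict_iso coprod.inr e₂
  refine nonempty_iso_of_disjoint _ _ (fun z _ => (isCompl_range_inl_inr A B).codisjoint.top_le (Set.mem_univ z))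
    (eq_bot_iff.2 fun z hz => ((isCompl_range_inl_inr A B).disjoint.le_bot hz).elim) ψ₁ ψ₂

end Groth.Agent.EGAProj74
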