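import Groth.Agent.EGAProj74.TildeBaseChange

/-!
Base change of `M(n)~` along `Proj` of a homomorphism, degree one generation.
-/

set_option autoImplicit false
set_option backward.isDefEq.respectTransparency.types false

universe u

open CategoryTheory CategoryTheory.Limits AlgebraicGeometry TopologicalSpace Opposite TensorProduct
open scoped HomogeneousIdeal

noncomputable section

namespace Groth.Agent.EGAProj74.DegOneBaseChange

open GrT FracSections

section dehom

variable {B σ' : Type u} [CommRing B] [SetLike σ' B] [AddSubgroupClass σ' B] {ℬ : ℕ → σ'} [GradedRing ℬ]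
  {f : B} (hf : f ∈ ℬ 1)

theorem mem_mul_one {i : ℕ} {b : B} (hb : b ∈ ℬ i) : b ∈ ℬ (i * 1) := by rwa [mul_one]

/-- `b ↦ b / f ^ i` in degree `i`. -/
def dehomAt (i : ℕ) : ℬ i →+ Γ(Proj ℬ, Proj.basicOpen ℬ f) :=
  AddMonoidHom.mk' (fun b => scal hf Nat.one_pos i (mem_mul_one b.2))
    fun b b' => scal_add hf Nat.one_pos (mem_mul_one b.2) (mem_mul_one b'.2)

/-- Setting `f = 1`. -/
def dehom : B →+* Γ(Proj ℬ, Proj.basicOpen ℬ f) :=
  (DirectSum.toSemiring (dehomAt hf)
    (ext_val fun x => by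
      refine Eq.trans (scal_val hf Nat.one_pos 0 (mem_mul_one (SetLike.one_mem_graded ℬ)) x) ?_
      refine Eq.trans ?_ (HomogeneousLocalization.val_one (𝒜 := ℬ)).symm
      rw [← Localization.mk_one]
      congr 1
      exact Subtype.ext (pow_zero f))
    fun {i j} a b => (scal_mul hf Nat.one_pos (mem_mul_one a.2) (mem_mul_one b.2)).symm).comp
    (DirectSum.decomposeRingEquiv ℬ).toRingHom

theorem dehom_of_mem {i : ℕ} {b : B} (hb : b ∈ ℬ i) : dehom hf b = scal hf Nat.one_pos i (mem_mul_one hb) := by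
  simp only [dehom, RingHom.comp_apply, RingEquiv.toRingHom_eq_coe, RingHom.coe_coe]
  rw [show DirectSum.decomposeRingEquiv ℬ b = DirectSum.of (fun i => ℬ i) i ⟨b, hb⟩ from
    DirectSum.decompose_of_mem ℬ hb, DirectSum.toSemiring_of]
  rfl

theorem dehom_self : dehom hf f = 1 := by
  rw [dehom_of_mem hf hf, ← scal_self hf Nat.one_pos 1]
  exact scal_eq_of_mul hf Nat.one_pos _ _ (by rw [pow_one])

end dehom

variable {A σ : Type u} [CommRing A] [SetLike σ A] [AddSubgroupClass σ A] {𝒜 : ℕ → σ}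
  [GradedRing 𝒜] {B σ' : Type u} [CommRing B] [SetLike σ' B] [AddSubgroupClass σ' B] {ℬ : ℕ → σ'} [GradedRing ℬ]
  (ψ : 𝒜 →+*ᵍ ℬ) (hψ : ℬ₊ ≤ (𝒜₊).map ψ)
  {M τ : Type u} [AddCommGroup M] [Module A M] [SetLike τ M] [AddSubgroupClass τ M] {ℳ : ℕ → τ}
  [SetLike.GradedSMul 𝒜 ℳ] [DirectSum.Decomposition ℳ]
  {N τ' : Type u} [AddCommGroup N] [Module B N] [SetLike τ' N] [AddSubgroupClass τ' N] {𝒩 : ℕ → τ'}
  [SetLike.GradedSMul ℬ 𝒩] [DirectSum.Decomposition 𝒩]
  (v : M →ₛₗ[ψ.toRingHom] N) (hv : ∀ (i : ℕ) (m : M), m ∈ ℳ i → v m ∈ 𝒩 i)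
  {f : A} (hf : f ∈ 𝒜 1) (n : ℤ)

omit [SetLike.GradedSMul 𝒜 ℳ] [DirectSum.Decomposition ℳ] [SetLike.GradedSMul ℬ 𝒩]
  [DirectSum.Decomposition 𝒩] [AddSubgroupClass τ M] [AddSubgroupClass τ' N] in
theorem span_range_eq_top (hbc : ∀ (Q : Type u) [AddCommGroup Q] [Module B Q] (w : M →ₛₗ[ψ.toRingHom] Q),
    ∃! g : N →ₗ[B] Q, ∀ m : M, g (v m) = w m) : Submodule.span B (Set.range v) = ⊤ := by
  obtain ⟨g, -, hg⟩ := hbc (N ⧸ Submodule.span B (Set.range v)) 0
  have h1 := hg (Submodule.mkQ _) fun m =>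
    (Submodule.Quotient.mk_eq_zero _).2 (Submodule.subset_span ⟨m, rfl⟩)
  have h2 := hg 0 fun _ => rfl
  rw [← Submodule.ker_mkQ (Submodule.span B (Set.range v)), h1, ← h2, LinearMap.ker_zero]

/-- The sections `f ^ a m / f ^ k`, semilinear in `m`. -/
def compFrac (q : ℕ) : ℳ q →+ Γ(GrMod.tilde 𝒜 ℳ n, Proj.basicOpen 𝒜 f) :=
  AddMonoidHom.mk' (fun m => fracF hf (gsmul_mem 𝒜 ℳ (pow_mem hf n.natAbs) m.2)
      ((q : ℤ) + n.natAbs - n).toNat (by rw [Int.toNat_of_nonneg (by omega)]; push_cast; ring))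
    fun m m' => by
      have e : f ^ n.natAbs • ((m + m' : ℳ q) : M) = f ^ n.natAbs • (m : M) + f ^ n.natAbs • (m' : M) := smul_add _ _ _
      rw [← fracF_add hf]
      exact fracF_eq_of_smul _ _ _ _ _ (by rw [e])

theorem compFrac_apply (q : ℕ) (m : ℳ q) :
    compFrac hf n q m = fracF hf (gsmul_mem 𝒜 ℳ (pow_mem hf n.natAbs) m.2)
      ((q : ℤ) + n.natAbs - n).toNat (by rw [Int.toNat_of_nonneg (by omega)]; push_cast; ring) := rfl

theorem compFrac_eq {q k : ℕ} (m : ℳ q) (hq : (q : ℤ) = k * ((1 : ℕ) : ℤ) + n) :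
    compFrac hf n q m = fracF hf m.2 k hq := by
  rw [compFrac_apply]
  refine fracF_eq_of_smul hf _ _ _ _ ?_
  rw [smul_smul, ← pow_add]
  congr 2
  omega

include hf in
theorem bijective_lift (hbc : ∀ (Q : Type u) [AddCommGroup Q] [Module B Q] (w : M →ₛₗ[ψ.toRingHom] Q),
    ∃! g : N →ₗ[B] Q, ∀ m : M, g (v m) = w m)
    {E : letI := TildeBaseChange.algebraSections ψ hψ (f := f)
      (Γ(Proj ℬ, Proj.basicOpen ℬ (ψ f)) ⊗[Γ(Proj 𝒜, Proj.basicOpen 𝒜 f)]
        Γ(GrMod.tilde 𝒜 ℳ n, Proj.basicOpen 𝒜 f)) →ₗ[Γ(Proj ℬ, Proj.basicOpen ℬ (ψ f))]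
        Γ(GrMod.tilde ℬ 𝒩 n, Proj.basicOpen ℬ (ψ f))}
    (hE : ∀ s, E (letI := TildeBaseChange.algebraSections ψ hψ (f := f); 1 ⊗ₜ s) =
      TildeBaseChange.push ψ hψ v hv n s) :
    Function.Bijective E := by
  classical
  letI alg := TildeBaseChange.algebraSections ψ hψ (f := f)
  let T := Γ(Proj ℬ, Proj.basicOpen ℬ (ψ f)) ⊗[Γ(Proj 𝒜, Proj.basicOpen 𝒜 f)]
        Γ(GrMod.tilde 𝒜 ℳ n, Proj.basicOpen 𝒜 f)
  letI : Module B T := Module.compHom T (dehom (ψ.map_mem hf))
  let w0 : M →+ T := (DirectSum.toAddMonoid fun q =>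
      (TensorProduct.mk Γ(Proj 𝒜, Proj.basicOpen 𝒜 f) _ _ 1).toAddMonoidHom.comp (compFrac hf n q)).comp
    (DirectSum.decomposeAddEquiv ℳ).toAddMonoidHom
  have hw0 : ∀ (q : ℕ) (m : ℳ q), w0 m = 1 ⊗ₜ compFrac hf n q m := fun q m => by
    show DirectSum.toAddMonoid _ (DirectSum.decompose ℳ (m : M)) = _
    rw [DirectSum.decompose_coe, DirectSum.toAddMonoid_of]
    rfl
  have hlin : ∀ (a : A) (m : M), w0 (a • m) = ψ.toRingHom a • w0 m := by
    intro a
    induction a using DirectSum.Decomposition.inductionOn 𝒜 with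
    | zero => intro m; rw [zero_smul, map_zero, map_zero, zero_smul]
    | add a b ha hb => intro m; rw [add_smul, map_add, ha, hb, map_add, add_smul]
    | @homogeneous e a =>
      intro m
      induction m using DirectSum.Decomposition.inductionOn ℳ with
      | zero => rw [smul_zero, map_zero, smul_zero]
      | add m m' hm hm' => rw [smul_add, map_add, hm, hm', map_add, smul_add]
      | @homogeneous q m =>
        show w0 (⟨(a : A) • (m : M), gsmul_mem 𝒜 ℳ a.2 m.2⟩ : ℳ (e + q)) = dehom (ψ.map_mem hf) (ψ a) • w0 m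
        rw [hw0, hw0, dehom_of_mem (ψ.map_mem hf) (show ψ (a : A) ∈ ℬ e from ψ.map_mem a.2), TensorProduct.smul_tmul', smul_eq_mul, mul_one]
        rw [← TildeBaseChange.appLE_scal ψ hψ hf Nat.one_pos (mem_mul_one a.2)]
        refine Eq.trans ?_ (congrArg (· ⊗ₜ compFrac hf n q m) (mul_one _))
        refine Eq.trans ?_ (TensorProduct.smul_tmul (scal hf Nat.one_pos e (mem_mul_one a.2)) (1 : Γ(Proj ℬ, Proj.basicOpen ℬ (ψ f))) (compFrac hf n q m)).symm
        refine congrArg _ ?_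
        rw [compFrac_apply, compFrac_apply, scal_smul_fracF]
        refine fracF_eq_of_smul hf _ _ _ _ ?_
        rw [smul_smul, smul_smul, smul_smul, smul_smul]
        congr 1
        rw [show ((((e + q : ℕ) : ℤ)) + n.natAbs - n).toNat = e + ((q : ℤ) + n.natAbs - n).toNat by omega]
        ring
  let w : M →ₛₗ[ψ.toRingHom] T := { w0 with map_smul' := hlin }
  obtain ⟨g, hg, -⟩ := hbc T w
  refine TildeBaseChange.bijective_lift ψ hψ v hv hf n (hd := Nat.one_pos) hE g.toAddMonoidHom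
    (fun k q x _ _ => ?_) (fun e b hb k q m hm hq => ?_) fun k q x hx hq => ?_
  · show g (ψ f • x) = g x
    rw [g.map_smul]
    show dehom (ψ.map_mem hf) (ψ f) • g x = g x
    rw [show dehom (ψ.map_mem hf) (ψ f) = 1 from dehom_self (ψ.map_mem hf), one_smul]
  · show g (b • v m) = _
    rw [g.map_smul, hg]
    show dehom (ψ.map_mem hf) b • w0 ((⟨m, hm⟩ : ℳ q) : M) = _
    rw [hw0, compFrac_eq hf n ⟨m, hm⟩ hq, TensorProduct.smul_tmul', smul_eq_mul, mul_one,
      dehom_of_mem (ψ.map_mem hf) (show b ∈ ℬ e by simpa using hb)]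
  · have key : ∀ y : N, ∃ z, E z = fracF (ψ.map_mem hf) (DirectSum.decompose 𝒩 y q).2 k hq := by
      have hz0 : ∀ y : N, (DirectSum.decompose 𝒩 y q : N) = 0 →
          ∃ z, E z = fracF (ψ.map_mem hf) (DirectSum.decompose 𝒩 y q).2 k hq := fun y hy =>
        ⟨0, by rw [map_zero, ← fracF_zero (ψ.map_mem hf) k hq]; exact fracF_eq_of_smul _ _ _ _ _ (by rw [hy])⟩
      have hadd : ∀ y y' : N, (∃ z, E z = fracF (ψ.map_mem hf) (DirectSum.decompose 𝒩 y q).2 k hq) →
          (∃ z, E z = fracF (ψ.map_mem hf) (DirectSum.decompose 𝒩 y' q).2 k hq) →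
          ∃ z, E z = fracF (ψ.map_mem hf) (DirectSum.decompose 𝒩 (y + y') q).2 k hq := by
        rintro y y' ⟨z, hz⟩ ⟨z', hz'⟩
        refine ⟨z + z', ?_⟩
        rw [map_add, hz, hz', ← fracF_add]
        exact fracF_eq_of_smul _ _ _ _ _ (by rw [DirectSum.decompose_add, DirectSum.add_apply, AddMemClass.coe_add])
      have hgen : ∀ (b : B) (m : M), ∃ z, E z = fracF (ψ.map_mem hf) (DirectSum.decompose 𝒩 (b • v m) q).2 k hq := by
        intro b
        induction b using DirectSum.Decomposition.inductionOn ℬ with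
        | zero => intro m; exact hz0 _ (by simp)
        | add b b' hb hb' => intro m; simp only [add_smul]; exact hadd _ _ (hb m) (hb' m)
        | @homogeneous e b =>
          intro m
          induction m using DirectSum.Decomposition.inductionOn ℳ with
          | zero => exact hz0 _ (by simp)
          | add m m' hm hm' => simp only [map_add, smul_add]; exact hadd _ _ hm hm'
          | @homogeneous q' m =>
            have hmem : (b : B) • v m ∈ 𝒩 (e + q') := gsmul_mem ℬ 𝒩 b.2 (hv q' m m.2)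
            by_cases he : e + q' = q
            · have hm' : f ^ e • (m : M) ∈ ℳ q := he ▸ (by
                simpa using gsmul_mem 𝒜 ℳ (pow_mem hf e) m.2)
              refine ⟨scal (ψ.map_mem hf) Nat.one_pos e (mem_mul_one b.2) ⊗ₜ fracF hf hm' k hq, ?_⟩
              rw [TildeBaseChange.lift_tmul_fracF ψ hψ v hv hf n hE (mem_mul_one b.2) hm' hq]
              refine fracF_eq_of_smul _ _ _ _ _ ?_
              subst he
              rw [DirectSum.decompose_of_mem_same 𝒩 hmem, LinearMap.map_smulₛₗ, map_pow]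
              simp only [smul_smul]
              congr 1
              rw [pow_add]
              ring_nf
            · exact hz0 _ (DirectSum.decompose_of_mem_ne 𝒩 hmem he)
      intro y
      have hy : y ∈ Submodule.span B (Set.range v) := span_range_eq_top ψ v hbc ▸ Submodule.mem_top
      induction hy using Submodule.closure_induction with
      | zero => exact hz0 _ (by simp)
      | add y y' _ _ hy hy' => exact hadd _ _ hy hy'
      | smul_mem b y hy =>
        obtain ⟨m, rfl⟩ := hy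
        exact hgen b m
    obtain ⟨z, hz⟩ := key x
    exact ⟨z, hz.trans (fracF_eq_of_smul _ _ _ _ _ (by rw [DirectSum.decompose_of_mem_same 𝒩 hx]))⟩

include hψ hv in
/-- The adjunct of the comparison map of a base change of graded modules is an isomorphism. -/
theorem isIso_adjunct (hgen : (𝒜₊).toIdeal = Ideal.span (𝒜 1 : Set A))
    (hbc : ∀ (Q : Type u) [AddCommGroup Q] [Module B Q] (w : M →ₛₗ[ψ.toRingHom] Q),
      ∃! g : N →ₗ[B] Q, ∀ m : M, g (v m) = w m) :
    IsIso (((Scheme.Modules.pullbackPushforwardAdjunction (Proj.map ψ hψ)).homEquiv _ _).symm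
      (GrMod.comap ψ hψ v hv n)) := by
  have h1 := GrT.isQCoh_tilde 𝒜 ℳ n
  have h2 := GrT.isQCoh_tilde ℬ 𝒩 n
  have : (GrMod.tilde 𝒜 ℳ n).IsQuasicoherent := h1
  have : (GrMod.tilde ℬ 𝒩 n).IsQuasicoherent := h2
  refine isIso_adjunct_of_baseChange (Proj.map ψ hψ) _ fun y => ?_
  obtain ⟨f, hf, hfy⟩ : ∃ f ∈ 𝒜 1, f ∉ (ProjectiveSpectrum.comap ψ hψ y).asHomogeneousIdeal := by
    by_contra! h
    exact (ProjectiveSpectrum.comap ψ hψ y).not_irrelevant_le (show (𝒜₊).toIdeal ≤ _ by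
      rw [hgen]; exact Ideal.span_le.2 h)
  obtain ⟨E, hE⟩ := TildeBaseChange.exists_lift ψ hψ v hv (f := f) n
  exact ⟨Proj.basicOpen 𝒜 f, Proj.isAffineOpen_basicOpen 𝒜 f hf Nat.one_pos, Proj.basicOpen ℬ (ψ f),
    Proj.isAffineOpen_basicOpen ℬ (ψ f) (ψ.map_mem hf) Nat.one_pos, TildeBaseChange.preimage_le ψ hψ, hfy, E,
    bijective_lift ψ hψ v hv hf n hbc hE, hE⟩

end Groth.Agent.EGAProj74.DegOneBaseChange
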