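import Mathlib.RingTheory.GradedAlgebra.FiniteType
import Mathlib.RingTheory.GradedAlgebra.Noetherian
import Mathlib.RingTheory.GradedAlgebra.Homogeneous.Ideal
import Mathlib.RingTheory.FiniteType
import Mathlib.Algebra.Algebra.Operations
import Mathlib.Algebra.Polynomial.Basic
import Mathlib.RingTheory.Polynomial.Basic

/-!
The graded ring `S♮` with `S♮_n = S_{≥ n}`, presented inside `S[X]`.
-/

set_option autoImplicit false

universe u

open Polynomial

namespace Groth.Agent.EGAProj74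

variable {R A : Type u} [CommRing R] [CommRing A] [Algebra R A]
  (𝒜 : ℕ → Submodule R A) [GradedAlgebra 𝒜]

/-- `S_{≥ n}`. -/
def geq (n : ℕ) : Submodule R A := ⨆ (m : ℕ) (_ : n ≤ m), 𝒜 m

theorem mem_geq {m n : ℕ} {a : A} (h : n ≤ m) (ha : a ∈ 𝒜 m) : a ∈ geq 𝒜 n :=
  Submodule.mem_iSup_of_mem m (Submodule.mem_iSup_of_mem h ha)

theorem geq_anti {n n' : ℕ} (h : n ≤ n') : geq 𝒜 n' ≤ geq 𝒜 n :=
  iSup₂_le fun _ hm _ ha => mem_geq 𝒜 (h.trans hm) ha

theorem geq_zero : geq 𝒜 0 = ⊤ := by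
  classical
  refine top_le_iff.mp fun a _ => ?_
  rw [← DirectSum.sum_support_decompose 𝒜 a]
  exact Submodule.sum_mem _ fun i _ => mem_geq 𝒜 (Nat.zero_le i) (SetLike.coe_mem _)

theorem geq_induction {n : ℕ} {p : A → Prop} {a : A} (ha : a ∈ geq 𝒜 n)
    (hom : ∀ m, n ≤ m → ∀ x ∈ 𝒜 m, p x) (zero : p 0) (add : ∀ x y, p x → p y → p (x + y)) : p a := by
  induction ha using Submodule.iSup_induction' with
  | mem m x hx =>
    by_cases h : n ≤ m
    · exact hom m h x (by simpa [h] using hx)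
    · simp [h] at hx
      rwa [hx]
  | zero => exact zero
  | add x y _ _ hx hy => exact add x y hx hy

theorem proj_geq {n k : ℕ} (hk : k < n) {a : A} (ha : a ∈ geq 𝒜 n) : GradedRing.proj 𝒜 k a = 0 :=
  geq_induction 𝒜 (p := fun a => GradedRing.proj 𝒜 k a = 0) ha
    (fun m hm x hx => by rw [GradedRing.proj_apply, DirectSum.decompose_of_mem_ne 𝒜 hx (by omega)])
    (map_zero _) (fun x y hx hy => by rw [map_add, hx, hy, add_zero])

theorem geq_mul (n m : ℕ) : geq 𝒜 n * geq 𝒜 m ≤ geq 𝒜 (n + m) := by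
  refine Submodule.mul_le.mpr fun a ha b hb => ?_
  refine geq_induction 𝒜 (p := fun a => a * b ∈ geq 𝒜 (n + m)) ha (fun i hi x hx => ?_) (by simp) (fun x y hx hy => by
    rw [add_mul]; exact add_mem hx hy)
  exact geq_induction 𝒜 (p := fun b => x * b ∈ geq 𝒜 (n + m)) hb (fun j hj y hy => mem_geq 𝒜 (by omega) (SetLike.mul_mem_graded hx hy))
    (by simp) (fun u v hu hv => by rw [mul_add]; exact add_mem hu hv)

theorem geq_eq_sup (n : ℕ) : geq 𝒜 n = 𝒜 n ⊔ geq 𝒜 (n + 1) := by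
  refine le_antisymm (iSup₂_le fun m hm => ?_) (sup_le (fun a ha => mem_geq 𝒜 le_rfl ha) (geq_anti 𝒜 (by omega)))
  rcases hm.eq_or_lt with rfl | h
  · exact le_sup_left
  · exact le_sup_of_le_right fun a ha => mem_geq 𝒜 h ha

theorem mem_of_mem_sup {n : ℕ} {N : Submodule R A} (hN : N ≤ 𝒜 n) {a : A} (ha : a ∈ 𝒜 n)
    (h : a ∈ N ⊔ geq 𝒜 (n + 1)) : a ∈ N := by
  obtain ⟨x, hx, y, hy, rfl⟩ := Submodule.mem_sup.mp h
  have e : GradedRing.proj 𝒜 n (x + y) = x + y := by
    rw [GradedRing.proj_apply, DirectSum.decompose_of_mem_same 𝒜 ha]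
  have ex : GradedRing.proj 𝒜 n x = x := by
    rw [GradedRing.proj_apply, DirectSum.decompose_of_mem_same 𝒜 (hN hx)]
  rw [map_add, proj_geq 𝒜 (Nat.lt_succ_self n) hy, add_zero, ex] at e
  rwa [← e]

theorem geq_mul_le_sup (n m : ℕ) :
    geq 𝒜 n * geq 𝒜 m ≤ 𝒜 n * 𝒜 m ⊔ geq 𝒜 (n + m + 1) := by
  rw [geq_eq_sup 𝒜 n, geq_eq_sup 𝒜 m, Submodule.sup_mul, Submodule.mul_sup, Submodule.mul_sup]
  refine sup_le (sup_le le_sup_left (le_sup_of_le_right ?_)) (le_sup_of_le_right (sup_le ?_ ?_))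
  · exact (mul_le_mul' (fun a ha => mem_geq 𝒜 le_rfl ha) le_rfl).trans ((geq_mul 𝒜 _ _).trans (geq_anti 𝒜 (by omega)))
  · exact (mul_le_mul' le_rfl (fun a ha => mem_geq 𝒜 le_rfl ha)).trans ((geq_mul 𝒜 _ _).trans (geq_anti 𝒜 (by omega)))
  · exact (geq_mul 𝒜 _ _).trans (geq_anti 𝒜 (by omega))

theorem mul_le_graded (n m : ℕ) : 𝒜 n * 𝒜 m ≤ 𝒜 (n + m) :=
  Submodule.mul_le.mpr fun _ ha _ hb => SetLike.mul_mem_graded ha hb

theorem pow_le_graded (n : ℕ) : 𝒜 1 ^ (n + 1) ≤ 𝒜 (n + 1) := by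
  induction n with
  | zero => simp
  | succ n ih =>
    rw [pow_succ]
    exact (mul_le_mul' ih le_rfl).trans (mul_le_graded 𝒜 _ _)

theorem geq_succ_iff (n₀ : ℕ) :
    (∀ n, n₀ ≤ n → geq 𝒜 (n + 1) = geq 𝒜 1 * geq 𝒜 n) ↔
      ∀ n, n₀ ≤ n → 𝒜 (n + 1) = 𝒜 1 * 𝒜 n := by
  constructor
  · intro h n hn
    refine le_antisymm (fun a ha => ?_) ((mul_le_graded 𝒜 1 n).trans (by rw [add_comm]))
    have h' := geq_mul_le_sup 𝒜 1 n ((h n hn).le (mem_geq 𝒜 le_rfl ha))
    rw [show 1 + n + 1 = n + 1 + 1 by omega] at h'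
    exact mem_of_mem_sup 𝒜 ((mul_le_graded 𝒜 1 n).trans (by rw [add_comm])) ha h'
  · intro h n hn
    refine le_antisymm (iSup₂_le fun m hm => ?_) ((geq_mul 𝒜 1 n).trans (by rw [add_comm]))
    obtain ⟨j, rfl⟩ : ∃ j, m = (n + j) + 1 := ⟨m - (n + 1), by omega⟩
    rw [h (n + j) (by omega)]
    exact mul_le_mul' (fun a ha => mem_geq 𝒜 le_rfl ha) (fun a ha => mem_geq 𝒜 (by omega) ha)

theorem geq_one_pow_le (n : ℕ) : geq 𝒜 1 ^ (n + 1) ≤ 𝒜 1 ^ (n + 1) ⊔ geq 𝒜 (n + 2) := by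
  induction n with
  | zero => simpa using (geq_eq_sup 𝒜 1).le
  | succ n ih =>
    rw [pow_succ (geq 𝒜 1)]
    refine (mul_le_mul' ih le_rfl).trans ?_
    rw [Submodule.sup_mul]
    refine sup_le ?_ (le_sup_of_le_right ((geq_mul 𝒜 _ _).trans (geq_anti 𝒜 (by omega))))
    rw [geq_eq_sup 𝒜 1, Submodule.mul_sup, ← pow_succ]
    refine sup_le_sup_left ?_ _
    exact (mul_le_mul' ((pow_le_graded 𝒜 n).trans fun a ha => mem_geq 𝒜 le_rfl ha) le_rfl).trans
      ((geq_mul 𝒜 _ _).trans (geq_anti 𝒜 (by omega)))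

theorem geq_one_pow_le_geq (n : ℕ) : geq 𝒜 1 ^ (n + 1) ≤ geq 𝒜 (n + 1) :=
  (geq_one_pow_le 𝒜 n).trans
    (sup_le ((pow_le_graded 𝒜 n).trans fun _ ha => mem_geq 𝒜 le_rfl ha) (geq_anti 𝒜 (by omega)))

theorem geq_pow_iff (n₀ : ℕ) (hn₀ : 1 ≤ n₀) :
    (∀ n, n₀ ≤ n → geq 𝒜 n = geq 𝒜 1 ^ n) ↔ ∀ n, n₀ ≤ n → 𝒜 n = 𝒜 1 ^ n := by
  constructor
  · intro h n hn
    obtain ⟨k, rfl⟩ : ∃ k, n = k + 1 := ⟨n - 1, by omega⟩
    exact le_antisymm (fun a ha => mem_of_mem_sup 𝒜 (pow_le_graded 𝒜 k) ha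
      (geq_one_pow_le 𝒜 k ((h _ hn).le (mem_geq 𝒜 le_rfl ha)))) (pow_le_graded 𝒜 k)
  · intro h n hn
    obtain ⟨k, rfl⟩ : ∃ k, n = k + 1 := ⟨n - 1, by omega⟩
    refine le_antisymm (iSup₂_le fun m hm => ?_) (geq_one_pow_le_geq 𝒜 k)
    obtain ⟨j, rfl⟩ : ∃ j, m = k + (j + 1) := ⟨m - k - 1, by omega⟩
    rw [h _ (by omega), pow_add, pow_succ (geq 𝒜 1) k]
    refine mul_le_mul' ?_ ((pow_le_graded 𝒜 j).trans fun a ha => mem_geq 𝒜 (by omega) ha)
    exact pow_le_pow_left' (fun a ha => mem_geq 𝒜 le_rfl ha) k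

/-- A graded ring is of finite type over its degree zero part if its positive part is generated
by finitely many elements. -/
theorem finiteType_of_le_span (T : Finset A) (hT : ∀ t ∈ T, ∃ d, 0 < d ∧ t ∈ 𝒜 d)
    (h : ∀ m, 0 < m → ∀ a ∈ 𝒜 m, a ∈ Ideal.span (T : Set A)) : Algebra.FiniteType (𝒜 0) A := by
  classical
  choose! d hd hmem using hT
  have key : ∀ m, ∀ a ∈ 𝒜 m, a ∈ Algebra.adjoin (𝒜 0) (T : Set A) := by
    intro m
    induction m using Nat.strong_induction_on with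
    | _ m ih =>
      intro a ha
      rcases Nat.eq_zero_or_pos m with rfl | hm
      · exact Subalgebra.algebraMap_mem _ (⟨a, ha⟩ : 𝒜 0)
      obtain ⟨c, hc⟩ := Submodule.mem_span_finset'.mp (h m hm a ha)
      have e : a = ∑ t : T, GradedRing.proj 𝒜 m (c t * t.1) := by
        rw [← map_sum]
        simp only [smul_eq_mul] at hc
        rw [hc, GradedRing.proj_apply, DirectSum.decompose_of_mem_same 𝒜 ha]
      rw [e]
      refine Subalgebra.sum_mem _ fun t _ => ?_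
      rw [GradedRing.proj_apply, DirectSum.coe_decompose_mul_of_right_mem 𝒜 m (hmem t.1 t.2)]
      split_ifs with hle
      · exact Subalgebra.mul_mem _ (ih _ (by have := hd t.1 t.2; omega) _ (SetLike.coe_mem _))
          (Algebra.subset_adjoin t.2)
      · exact zero_mem _
  refine ⟨⟨T, top_le_iff.mp fun a _ => ?_⟩⟩
  rw [← DirectSum.sum_support_decompose 𝒜 a]
  exact Subalgebra.sum_mem _ fun i _ => key i _ (SetLike.coe_mem _)

theorem finiteType_of_fg_of_le (I : Ideal A) (hI : I.FG) (hIge : (I : Set A) ⊆ geq 𝒜 1)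
    (h : ∀ m, 0 < m → ∀ a ∈ 𝒜 m, a ∈ I) : Algebra.FiniteType (𝒜 0) A := by
  classical
  obtain ⟨G, rfl⟩ := hI
  let T := (G.biUnion fun g => (DirectSum.decompose 𝒜 g).support.image
    fun i => (DirectSum.decompose 𝒜 g i : A))
  refine finiteType_of_le_span 𝒜 T (fun t ht => ?_) fun m hm a ha => ?_
  · simp only [T, Finset.mem_biUnion, Finset.mem_image] at ht
    obtain ⟨g, hg, i, hi, rfl⟩ := ht
    refine ⟨i, Nat.pos_of_ne_zero ?_, SetLike.coe_mem _⟩
    rintro rfl
    rw [DFinsupp.mem_support_iff] at hi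
    exact hi (Subtype.ext (proj_geq 𝒜 zero_lt_one (hIge (Ideal.subset_span hg))))
  · refine Ideal.span_le.mpr (fun g hg => ?_) (h m hm a ha)
    rw [SetLike.mem_coe, ← DirectSum.sum_support_decompose 𝒜 g]
    exact Submodule.sum_mem _ fun i hi => Ideal.subset_span
      (Finset.mem_coe.mpr (Finset.mem_biUnion.mpr ⟨g, hg, Finset.mem_image_of_mem _ hi⟩))

section Pres

variable {B : Type u} [CommRing B] [Algebra R B] (ℬ : ℕ → Submodule R B) [GradedAlgebra ℬ]
  (φ : B →ₐ[R] Polynomial A) (hφ : Function.Injective φ)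
  (hdeg : ∀ n : ℕ, Submodule.map φ.toLinearMap (ℬ n) =
    Submodule.map ((Polynomial.monomial n : A →ₗ[A] Polynomial A).restrictScalars R)
      (⨆ (m : ℕ) (_ : n ≤ m), 𝒜 m))

include hdeg in
theorem exists_natural_eq {n : ℕ} {b : B} (hb : b ∈ ℬ n) :
    ∃ a ∈ geq 𝒜 n, φ b = monomial n a := by
  have := (hdeg n).le (Submodule.mem_map_of_mem hb)
  obtain ⟨a, ha, e⟩ := this
  exact ⟨a, ha, e.symm⟩

include hdeg in
theorem exists_natural_lift {n : ℕ} {a : A} (ha : a ∈ geq 𝒜 n) :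
    ∃ b ∈ ℬ n, φ b = monomial n a := by
  have := (hdeg n).ge (Submodule.mem_map_of_mem ha)
  obtain ⟨b, hb, e⟩ := this
  exact ⟨b, hb, e⟩

include hφ hdeg in
theorem natural_eq_iff {n : ℕ} {N : Submodule R B} {M : Submodule R A}
    (hNM : Submodule.map φ.toLinearMap N =
      Submodule.map ((Polynomial.monomial n : A →ₗ[A] Polynomial A).restrictScalars R) M) :
    ℬ n = N ↔ geq 𝒜 n = M := by
  rw [← (Submodule.map_injective_of_injective (f := φ.toLinearMap) hφ).eq_iff, hdeg, hNM]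
  exact (Submodule.map_injective_of_injective
    (f := (Polynomial.monomial n : A →ₗ[A] Polynomial A).restrictScalars R)
    (Polynomial.monomial_injective n)).eq_iff

include hdeg in
theorem natural_map_mul (n m : ℕ) :
    Submodule.map φ.toLinearMap (ℬ n * ℬ m) =
      Submodule.map ((Polynomial.monomial (n + m) : A →ₗ[A] Polynomial A).restrictScalars R)
        (geq 𝒜 n * geq 𝒜 m) := by
  rw [Submodule.map_mul, hdeg, hdeg]
  refine le_antisymm (Submodule.mul_le.mpr ?_) (Submodule.map_le_iff_le_comap.mpr (Submodule.mul_le.mpr ?_))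
  · rintro _ ⟨a, ha, rfl⟩ _ ⟨b, hb, rfl⟩
    exact ⟨a * b, Submodule.mul_mem_mul ha hb, (Polynomial.monomial_mul_monomial n m a b).symm⟩
  · intro a ha b hb
    rw [Submodule.mem_comap, LinearMap.restrictScalars_apply, ← Polynomial.monomial_mul_monomial]
    exact Submodule.mul_mem_mul ⟨a, ha, rfl⟩ ⟨b, hb, rfl⟩

include hdeg in
theorem natural_map_pow (k : ℕ) :
    Submodule.map φ.toLinearMap (ℬ 1 ^ (k + 1)) =
      Submodule.map ((Polynomial.monomial (k + 1) : A →ₗ[A] Polynomial A).restrictScalars R)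
        (geq 𝒜 1 ^ (k + 1)) := by
  induction k with
  | zero => simp only [zero_add, pow_one]; exact hdeg 1
  | succ k ih =>
    rw [pow_succ, Submodule.map_mul, ih, hdeg, pow_succ (geq 𝒜 1) (k + 1)]
    refine le_antisymm (Submodule.mul_le.mpr ?_) (Submodule.map_le_iff_le_comap.mpr (Submodule.mul_le.mpr ?_))
    · rintro _ ⟨a, ha, rfl⟩ _ ⟨b, hb, rfl⟩
      exact ⟨a * b, Submodule.mul_mem_mul ha hb, (Polynomial.monomial_mul_monomial _ _ a b).symm⟩
    · intro a ha b hb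
      rw [Submodule.mem_comap, LinearMap.restrictScalars_apply, ← Polynomial.monomial_mul_monomial]
      exact Submodule.mul_mem_mul ⟨a, ha, rfl⟩ ⟨b, hb, rfl⟩

/-- `b ↦` the constant coefficient of `φ b`, an isomorphism `ℬ 0 ≅ A`. -/
noncomputable def naturalZero : ℬ 0 →+* A :=
  (Polynomial.constantCoeff.comp φ.toRingHom).comp
    (algebraMap (ℬ 0) B)

theorem naturalZero_apply (x : ℬ 0) : naturalZero ℬ φ x = (φ x.1).coeff 0 := rfl

include hφ hdeg in
theorem naturalZero_bijective : Function.Bijective (naturalZero ℬ φ) := by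
  constructor
  · rw [injective_iff_map_eq_zero]
    intro x hx
    obtain ⟨a, -, e⟩ := exists_natural_eq 𝒜 ℬ φ hdeg x.2
    rw [naturalZero_apply, e, coeff_monomial_same] at hx
    exact Subtype.ext (hφ (by rw [e, hx, map_zero, ZeroMemClass.coe_zero, map_zero]))
  · intro a
    obtain ⟨b, hb, e⟩ := exists_natural_lift 𝒜 ℬ φ hdeg (n := 0) (a := a) (by rw [geq_zero]; trivial)
    exact ⟨⟨b, hb⟩, by rw [naturalZero_apply, e, coeff_monomial_same]⟩

include hdeg in
theorem coeff_mem_geq (b : B) (n : ℕ) : (φ b).coeff n ∈ geq 𝒜 n := by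
  classical
  rw [← DirectSum.sum_support_decompose ℬ b, map_sum, finsetSum_coeff]
  refine Submodule.sum_mem _ fun i _ => ?_
  obtain ⟨a, ha, e⟩ := exists_natural_eq 𝒜 ℬ φ hdeg (SetLike.coe_mem (DirectSum.decompose ℬ b i))
  rw [e, coeff_monomial]
  split_ifs with h
  · exact h ▸ ha
  · exact zero_mem _

include hφ hdeg in
theorem finiteType_of_natural [Algebra.FiniteType (ℬ 0) B] : Algebra.FiniteType (𝒜 0) A := by
  classical
  obtain ⟨s, hs, hhom⟩ := GradedAlgebra.exists_finset_adjoin_eq_top_and_homogeneous ℬ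
  let I : Ideal A := Ideal.span ((s.image fun b => (φ b).coeff 1) : Set A)
  refine finiteType_of_fg_of_le 𝒜 I ⟨_, rfl⟩ ?_ fun m hm a ha => ?_
  · intro x hx
    refine Submodule.span_induction (fun y hy => ?_) (zero_mem _) (fun _ _ _ _ h h' => add_mem h h')
      (fun r y _ hy => ?_) hx
    · obtain ⟨b, -, rfl⟩ := Finset.mem_image.mp hy
      exact coeff_mem_geq 𝒜 ℬ φ hdeg b 1
    · simpa using geq_mul 𝒜 0 1 (Submodule.mul_mem_mul (show r ∈ geq 𝒜 0 by rw [geq_zero]; trivial) hy)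
  · obtain ⟨b, -, hb⟩ := exists_natural_lift 𝒜 ℬ φ hdeg (mem_geq 𝒜 (show 1 ≤ m by omega) ha)
    have key : ∀ z ∈ Algebra.adjoin (ℬ 0) (s : Set B), (φ z).coeff 1 ∈ I := by
      intro z hz
      induction hz using Algebra.adjoin_induction with
      | mem x hx => exact Ideal.subset_span (Finset.mem_image_of_mem _ hx)
      | algebraMap r =>
        obtain ⟨a, -, e⟩ := exists_natural_eq 𝒜 ℬ φ hdeg r.2
        rw [show algebraMap (ℬ 0) B r = r.1 from rfl, e, coeff_monomial, if_neg zero_ne_one]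
        exact zero_mem _
      | add x y _ _ hx hy => rw [map_add, coeff_add]; exact add_mem hx hy
      | mul x y _ _ hx hy =>
        rw [map_mul, coeff_mul, Finset.Nat.antidiagonal_eq_map, Finset.sum_map]
        simp [Finset.sum_range_succ, Ideal.mul_mem_left, Ideal.mul_mem_right, hx, hy, add_mem]
    have := key b (by rw [hs]; trivial)
    rwa [hb, coeff_monomial_same] at this

include hφ hdeg in
theorem finiteType_natural [Algebra.FiniteType (𝒜 0) A] : Algebra.FiniteType (ℬ 0) B := by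
  classical
  obtain ⟨s, hs, hd⟩ := GradedAlgebra.exists_finset_adjoin_eq_top_and_homogeneous_ne_zero 𝒜
  choose! d hd0 hmem using hd
  have hl : ∀ (t : A) (j : ℕ), ∃ b : B, (t ∈ s ∧ j ≤ d t → φ b = monomial j t) := by
    intro t j
    by_cases h : t ∈ s ∧ j ≤ d t
    · obtain ⟨b, -, hb⟩ := exists_natural_lift 𝒜 ℬ φ hdeg (mem_geq 𝒜 h.2 (hmem t h.1))
      exact ⟨b, fun _ => hb⟩
    · exact ⟨0, fun h' => absurd h' h⟩
  choose L hL using hl
  let T : Finset B := s.biUnion fun t => (Finset.range (d t + 1)).image (L t)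
  let S := Algebra.adjoin (ℬ 0) (T : Set B)
  have h0 : ∀ a : A, ∃ z ∈ S, φ z = monomial 0 a := fun a => by
    obtain ⟨b, hb, e⟩ := exists_natural_lift 𝒜 ℬ φ hdeg (n := 0) (a := a) (by rw [geq_zero]; trivial)
    exact ⟨b, S.algebraMap_mem (⟨b, hb⟩ : ℬ 0), e⟩
  have hspan : ∀ m, 0 < m → ∀ a ∈ 𝒜 m, a ∈ Ideal.span (s : Set A) := by
    intro m hm a ha
    have key : ∀ z ∈ Algebra.adjoin (𝒜 0) (s : Set A),
        z - GradedRing.projZeroRingHom 𝒜 z ∈ Ideal.span (s : Set A) := by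
      intro z hz
      induction hz using Algebra.adjoin_induction with
      | mem x hx =>
        rw [GradedRing.projZeroRingHom_apply, DirectSum.decompose_of_mem_ne 𝒜 (hmem x hx) (hd0 x hx),
          sub_zero]
        exact Ideal.subset_span hx
      | algebraMap r =>
        rw [show algebraMap (𝒜 0) A r = r.1 from rfl, GradedRing.projZeroRingHom_apply,
          DirectSum.decompose_of_mem_same 𝒜 r.2, sub_self]
        exact zero_mem _
      | add x y _ _ hx hy => rw [map_add, add_sub_add_comm]; exact add_mem hx hy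
      | mul x y _ _ hx hy =>
        rw [map_mul, show x * y - GradedRing.projZeroRingHom 𝒜 x * GradedRing.projZeroRingHom 𝒜 y =
          x * (y - GradedRing.projZeroRingHom 𝒜 y) +
            (x - GradedRing.projZeroRingHom 𝒜 x) * GradedRing.projZeroRingHom 𝒜 y by ring]
        exact add_mem (Ideal.mul_mem_left _ _ hy) (Ideal.mul_mem_right _ _ hx)
    have := key a (by rw [hs]; trivial)
    rwa [GradedRing.projZeroRingHom_apply, DirectSum.decompose_of_mem_ne 𝒜 ha (by omega), sub_zero] at this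
  have key : ∀ (m : ℕ) (a : A), a ∈ 𝒜 m → ∀ n, n ≤ m → ∃ z ∈ S, φ z = monomial n a := by
    intro m
    induction m using Nat.strong_induction_on with
    | _ m ih =>
      intro a ha n hn
      rcases Nat.eq_zero_or_pos m with rfl | hm
      · obtain rfl : n = 0 := by omega
        exact h0 a
      obtain ⟨c, hc⟩ := Submodule.mem_span_finset'.mp (hspan m hm a ha)
      have e : a = ∑ t : s, GradedRing.proj 𝒜 m (c t * t.1) := by
        rw [← map_sum]
        simp only [smul_eq_mul] at hc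
        rw [hc, GradedRing.proj_apply, DirectSum.decompose_of_mem_same 𝒜 ha]
      have : monomial n a ∈ (Subalgebra.toSubmodule S).toAddSubmonoid.map φ.toRingHom.toAddMonoidHom := by
        rw [e, map_sum]
        refine sum_mem fun t _ => ?_
        rw [GradedRing.proj_apply, DirectSum.coe_decompose_mul_of_right_mem 𝒜 m (hmem t.1 t.2)]
        split_ifs with hle
        · obtain ⟨z, hz, ez⟩ := ih (m - d t) (by have := hd0 t.1 t.2; omega) _
            (SetLike.coe_mem (DirectSum.decompose 𝒜 (c t) (m - d t))) (n - min n (d t)) (by omega)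
          refine ⟨z * L t (min n (d t)), S.mul_mem hz (Algebra.subset_adjoin ?_), ?_⟩
          · exact Finset.mem_biUnion.mpr ⟨t.1, t.2, Finset.mem_image_of_mem _
              (Finset.mem_range.mpr (by omega))⟩
          · change φ (z * _) = _
            rw [map_mul, ez, hL t _ ⟨t.2, min_le_right _ _⟩, monomial_mul_monomial,
              Nat.sub_add_cancel (min_le_left _ _)]
        · exact ⟨0, zero_mem _, by simp⟩
      obtain ⟨z, hz, ez⟩ := this
      exact ⟨z, hz, ez⟩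
  refine ⟨⟨T, top_le_iff.mp fun b _ => ?_⟩⟩
  rw [← DirectSum.sum_support_decompose ℬ b]
  refine Subalgebra.sum_mem _ fun i _ => ?_
  obtain ⟨a, ha, e⟩ := exists_natural_eq 𝒜 ℬ φ hdeg (SetLike.coe_mem (DirectSum.decompose ℬ b i))
  have : ∃ z ∈ S, φ z = monomial i a := geq_induction 𝒜 ha (fun m hm x hx => key m x hx i hm)
    ⟨0, zero_mem _, by simp⟩ (fun x y ⟨z, hz, ez⟩ ⟨w, hw, ew⟩ =>
      ⟨z + w, add_mem hz hw, by rw [map_add, map_add, ez, ew]⟩)
  obtain ⟨z, hz, ez⟩ := this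
  rwa [show ((DirectSum.decompose ℬ b i : ℬ i) : B) = z from hφ (by rw [e, ez])]

include hφ hdeg in
theorem isNoetherianRing_natural_iff : IsNoetherianRing B ↔ IsNoetherianRing A := by
  let e := RingEquiv.ofBijective _ (naturalZero_bijective 𝒜 ℬ φ hφ hdeg)
  constructor
  · intro h
    exact isNoetherianRing_of_ringEquiv _ e
  · intro h
    have : IsNoetherianRing (ℬ 0) := isNoetherianRing_of_ringEquiv _ e.symm
    have : Algebra.FiniteType (𝒜 0) A := by
      refine finiteType_of_fg_of_le 𝒜 (HomogeneousIdeal.irrelevant 𝒜).toIdeal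
        (IsNoetherian.noetherian _) (fun x hx => ?_) fun m hm a ha =>
          HomogeneousIdeal.mem_irrelevant_of_mem 𝒜 hm ha
      classical
      rw [SetLike.mem_coe, ← DirectSum.sum_support_decompose 𝒜 x]
      refine Submodule.sum_mem _ fun i hi => mem_geq 𝒜 (Nat.pos_of_ne_zero ?_) (SetLike.coe_mem _)
      rintro rfl
      rw [DFinsupp.mem_support_iff] at hi
      exact hi (Subtype.ext ((HomogeneousIdeal.mem_irrelevant_iff 𝒜 x).mp hx))
    have := finiteType_natural 𝒜 ℬ φ hφ hdeg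
    exact Algebra.FiniteType.isNoetherianRing (ℬ 0) B

include hφ hdeg in
theorem radical_natural {ι : Type u} (d : ι → ℕ) (f : ι → A) (hf : ∀ a, f a ∈ 𝒜 (d a))
    (hrad : ∀ g ∈ (HomogeneousIdeal.irrelevant 𝒜).toIdeal, ∃ n : ℕ, 0 < n ∧ g ^ n ∈ Ideal.span (Set.range f))
    (fn : ι → B) (hfn : ∀ a, φ (fn a) = monomial (d a) (f a)) :
    ∀ g ∈ (HomogeneousIdeal.irrelevant ℬ).toIdeal, ∃ n : ℕ, 0 < n ∧ g ^ n ∈ Ideal.span (Set.range fn) := by
  classical
  suffices h : (HomogeneousIdeal.irrelevant ℬ).toIdeal ≤ (Ideal.span (Set.range fn)).radical by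
    intro g hg
    obtain ⟨n, hn⟩ := h hg
    exact ⟨n + 1, n.succ_pos, by rw [pow_succ]; exact Ideal.mul_mem_right _ _ hn⟩
  refine (HomogeneousIdeal.toIdeal_irrelevant_le _).mpr fun n hn b hb => ?_
  obtain ⟨a, ha, e⟩ := exists_natural_eq 𝒜 ℬ φ hdeg hb
  suffices h : ∀ x, x ∈ geq 𝒜 n → ∃ z ∈ (Ideal.span (Set.range fn)).radical, φ z = monomial n x by
    obtain ⟨z, hz, ez⟩ := h a ha
    rwa [hφ (e.trans ez.symm)]
  intro x hx
  refine geq_induction 𝒜 (p := fun x => ∃ z ∈ (Ideal.span (Set.range fn)).radical, φ z = monomial n x) hx (fun m hm y hy => ?_) ⟨0, zero_mem _, by simp⟩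
    (fun x y ⟨z, hz, ez⟩ ⟨w, hw, ew⟩ => ⟨z + w, add_mem hz hw, by rw [map_add, map_add, ez, ew]⟩)
  obtain ⟨z, -, ez⟩ := exists_natural_lift 𝒜 ℬ φ hdeg (mem_geq 𝒜 hm hy)
  refine ⟨z, ?_, ez⟩
  obtain ⟨N, -, hN⟩ := hrad y (HomogeneousIdeal.mem_irrelevant_of_mem 𝒜 (by omega) hy)
  obtain ⟨c, hc⟩ := Finsupp.mem_span_range_iff_exists_finsupp.mp hN
  let M := N + ∑ i ∈ c.support, d i
  refine ⟨M, ?_⟩
  have e : y ^ M = ∑ i ∈ c.support, GradedRing.proj 𝒜 (M * m) (c i * y ^ (M - N) * f i) := by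
    have e0 : y ^ M = ∑ i ∈ c.support, c i * y ^ (M - N) * f i := by
      rw [show y ^ M = y ^ N * y ^ (M - N) by rw [← pow_add]; congr 1; omega, ← hc, Finsupp.sum,
        Finset.sum_mul]
      exact Finset.sum_congr rfl fun i _ => by simp [smul_eq_mul]; ring
    rw [← map_sum, ← e0, GradedRing.proj_apply,
      DirectSum.decompose_of_mem_same 𝒜 (by simpa using SetLike.pow_mem_graded M hy)]
  have hmem : monomial (M * n) (y ^ M) ∈
      (Ideal.span (Set.range fn)).toAddSubmonoid.map φ.toRingHom.toAddMonoidHom := by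
    rw [e, map_sum]
    refine sum_mem fun i hi => ?_
    rw [GradedRing.proj_apply, DirectSum.coe_decompose_mul_of_right_mem 𝒜 (M * m) (hf i)]
    split_ifs with hle
    · have hdi : d i ≤ M * n := ((Finset.single_le_sum (fun j _ => Nat.zero_le (d j)) hi).trans
        (Nat.le_add_left _ N)).trans (Nat.le_mul_of_pos_right M hn)
      have : M * n ≤ M * m := Nat.mul_le_mul_left M hm
      obtain ⟨w, -, ew⟩ := exists_natural_lift 𝒜 ℬ φ hdeg (n := M * n - d i)
        (mem_geq 𝒜 (show M * n - d i ≤ M * m - d i by omega)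
          (SetLike.coe_mem (DirectSum.decompose 𝒜 (c i * y ^ (M - N)) (M * m - d i))))
      refine ⟨w * fn i, Ideal.mul_mem_left _ _ (Ideal.subset_span ⟨i, rfl⟩), ?_⟩
      change φ (w * _) = _
      rw [map_mul, ew, hfn, monomial_mul_monomial, Nat.sub_add_cancel hdi]
    · exact ⟨0, zero_mem _, by simp⟩
  obtain ⟨w, hw, ew⟩ := hmem
  have : w = z ^ M := hφ (by
    change φ w = φ (z ^ M)
    rw [map_pow, ez, monomial_pow, mul_comm n M]
    exact ew)
  exact this ▸ hw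

end Pres

end Groth.Agent.EGAProj74
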