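import Groth.Agent.EGAProj74.PConeDom
import Groth.Agent.EGAProj74.Natural
import Mathlib.RingTheory.GradedAlgebra.Radical

/-!
Consequences of `Proj T → Proj T'` being an isomorphism, `T'` generated by `T_1`.
-/

set_option autoImplicit false

universe u

open CategoryTheory CategoryTheory.Limits AlgebraicGeometry TopologicalSpace Opposite
open HomogeneousLocalization
open scoped HomogeneousIdeal

noncomputable section

namespace Groth.Agent.EGAProj74

variable {R A B : Type u} [CommRing R] [CommRing A] [Algebra R A] {𝒜 : ℕ → Submodule R A} [GradedAlgebra 𝒜]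
  [CommRing B] [Algebra R B] {ℬ : ℕ → Submodule R B} [GradedAlgebra ℬ] (φ : 𝒜 →+*ᵍ ℬ)

theorem bijective_away_map_of_isIso [IsIso (domMap φ)] {d : ℕ} (hd : 0 < d) (f : A) (hf : f ∈ 𝒜 d) :
    Function.Bijective (Away.map φ f) := by
  let c := CommRingCat.ofHom (Away.map φ f)
  have : IsIso (Scheme.Spec.map c.op) :=
    (isPullback_domChart φ hd f hf).isIso_fst_of_isIso
  have : IsIso c.op := isIso_of_reflects_iso _ Scheme.Spec
  have : IsIso c := (isIso_op_iff c).mp this
  exact ConcreteCategory.bijective_of_isIso c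

theorem exists_fg_piece [Algebra.FiniteType (ℬ 0) B] (n : ℕ) :
    ∃ G : Finset B, (↑G : Set B) ⊆ ℬ n ∧
      ∀ b ∈ ℬ n, ∃ c : B → ℬ 0, b = ∑ g ∈ G, (c g : B) * g := by
  classical
  obtain ⟨T, hT, hd⟩ := GradedAlgebra.exists_finset_adjoin_eq_top_and_homogeneous_ne_zero ℬ
  choose! d hd0 hmem using hd
  suffices h : ∃ G : Finset B, (↑G : Set B) ⊆ ℬ n ∧ ∀ b ∈ ℬ n, b ∈ Submodule.span (ℬ 0) (G : Set B) by
    obtain ⟨G, hG, hb⟩ := h
    refine ⟨G, hG, fun b hb' => ?_⟩
    obtain ⟨c, -, hc⟩ := Submodule.mem_span_finset.mp (hb b hb')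
    exact ⟨c, hc.symm⟩
  have key : ∀ z ∈ Algebra.adjoin (ℬ 0) (T : Set B),
      z - GradedRing.projZeroRingHom ℬ z ∈ Ideal.span (T : Set B) := by
    intro z hz
    induction hz using Algebra.adjoin_induction with
    | mem x hx =>
      rw [GradedRing.projZeroRingHom_apply, DirectSum.decompose_of_mem_ne ℬ (hmem x hx) (hd0 x hx),
        sub_zero]
      exact Ideal.subset_span hx
    | algebraMap r =>
      rw [show algebraMap (ℬ 0) B r = r.1 from rfl, GradedRing.projZeroRingHom_apply,
        DirectSum.decompose_of_mem_same ℬ r.2, sub_self]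
      exact zero_mem _
    | add x y _ _ hx hy => rw [map_add, add_sub_add_comm]; exact add_mem hx hy
    | mul x y _ _ hx hy =>
      rw [map_mul, show x * y - GradedRing.projZeroRingHom ℬ x * GradedRing.projZeroRingHom ℬ y =
        x * (y - GradedRing.projZeroRingHom ℬ y) +
          (x - GradedRing.projZeroRingHom ℬ x) * GradedRing.projZeroRingHom ℬ y by ring]
      exact add_mem (Ideal.mul_mem_left _ _ hy) (Ideal.mul_mem_right _ _ hx)
  induction n using Nat.strong_induction_on with
  | _ n ih =>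
    rcases Nat.eq_zero_or_pos n with rfl | hn
    · refine ⟨{1}, by simpa using SetLike.one_mem_graded ℬ, fun b hb => ?_⟩
      have : b = (⟨b, hb⟩ : ℬ 0) • (1 : B) := by simp [Algebra.smul_def]
      rw [this]
      exact Submodule.smul_mem _ _ (Submodule.subset_span (by simp))
    have ih' : ∀ t : T, ∃ G : Finset B, (↑G : Set B) ⊆ ℬ (n - d t) ∧
        ∀ b ∈ ℬ (n - d t), b ∈ Submodule.span (ℬ 0) (G : Set B) :=
      fun t => ih _ (by have := hd0 t.1 t.2; omega)
    choose G hG hspan using ih'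
    refine ⟨(Finset.univ.filter fun t : T => d t ≤ n).biUnion fun t => (G t).image (· * t.1), ?_, ?_⟩
    · intro z hz
      obtain ⟨t, ht, hz⟩ := Finset.mem_biUnion.mp hz
      obtain ⟨g, hg, rfl⟩ := Finset.mem_image.mp hz
      have := SetLike.mul_mem_graded (hG t hg) (hmem t.1 t.2)
      rwa [Nat.sub_add_cancel (Finset.mem_filter.mp ht).2] at this
    intro b hb
    have hb' : b ∈ Ideal.span (T : Set B) := by
      have := key b (by rw [hT]; trivial)
      rwa [GradedRing.projZeroRingHom_apply, DirectSum.decompose_of_mem_ne ℬ hb (by omega),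
        sub_zero] at this
    obtain ⟨c, hc⟩ := Submodule.mem_span_finset'.mp hb'
    have e : b = ∑ t : T, GradedRing.proj ℬ n (c t * t.1) := by
      rw [← map_sum]
      simp only [smul_eq_mul] at hc
      rw [hc, GradedRing.proj_apply, DirectSum.decompose_of_mem_same ℬ hb]
    rw [e]
    refine Submodule.sum_mem _ fun t _ => ?_
    rw [GradedRing.proj_apply, DirectSum.coe_decompose_mul_of_right_mem ℬ n (hmem t.1 t.2)]
    split_ifs with hle
    · refine Submodule.span_mono (s := ((G t).image (· * t.1) : Finset B)) ?_ ?_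
      · exact Finset.coe_subset.mpr fun z hz => Finset.mem_biUnion.mpr ⟨t, by simpa using hle, hz⟩
      · have := Submodule.apply_mem_span_image_of_mem_span (LinearMap.mulRight (ℬ 0) t.1)
          (hspan t _ (SetLike.coe_mem (DirectSum.decompose ℬ (c t) (n - d t))))
        simpa [Finset.coe_image] using this
    · exact zero_mem _

/-- The image of `φ`. -/
def imRange : Subring B := (φ : 𝒜 →+*ᵍ ℬ).toRingHom.range

theorem mem_imRange {b : B} : b ∈ imRange φ ↔ ∃ a, φ a = b := Iff.rfl

theorem exists_pow_mul_mem_range [IsIso (domMap φ)] {f : A} (hf : f ∈ 𝒜 1) {e : ℕ} {b : B}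
    (hb : b ∈ ℬ e) : ∃ N, φ f ^ N * b ∈ imRange φ := by
  obtain ⟨x, hx⟩ := (bijective_away_map_of_isIso φ zero_lt_one f hf).2
    (Away.mk ℬ (φ.map_mem hf) e b (by simpa using hb))
  obtain ⟨k, a, ha, rfl⟩ := Away.mk_surjective 𝒜 hf x
  have h := congr(HomogeneousLocalization.val $hx)
  rw [Away.map_mk, Away.val_mk, Away.val_mk, Localization.mk_eq_mk_iff, Localization.r_iff_exists] at h
  obtain ⟨⟨_, j, rfl⟩, hj⟩ := h
  refine ⟨j + k, f ^ (j + e) * a, ?_⟩
  change φ (f ^ (j + e) * a) = _
  simp only at hj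
  rw [map_mul, map_pow, pow_add, pow_add]
  linear_combination hj

theorem eventually_eq_pow [IsIso (domMap φ)] [Algebra.FiniteType (ℬ 0) B] (hinj : Function.Injective φ)
    (h0 : Set.BijOn φ (𝒜 0) (ℬ 0)) (h1 : Set.BijOn φ (𝒜 1) (ℬ 1))
    (hgen : ∀ n : ℕ, 1 ≤ n → 𝒜 n = 𝒜 1 ^ n) (hdom : RelCone.domOpen φ = ⊤) :
    ∃ n₀ : ℕ, ∀ n : ℕ, n₀ ≤ n → ℬ n = ℬ 1 ^ n := by
  classical
  obtain ⟨G₁, hG₁, hspan₁⟩ := exists_fg_piece (ℬ := ℬ) 1
  have hF : ∀ g ∈ G₁, ∃ a ∈ 𝒜 1, φ a = g := fun g hg => h1.surjOn (hG₁ hg)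
  choose! F hFm hFg using hF
  have hA1 : (𝒜 1 : Set A) ⊆ (Ideal.span (G₁.image F : Set A) : Set A) := by
    intro a ha
    obtain ⟨c, hc⟩ := hspan₁ (φ a) (φ.map_mem ha)
    have hc' : ∀ g, ∃ x ∈ 𝒜 0, φ x = c g := fun g => h0.surjOn (c g).2
    choose x _ hx using hc'
    have : a = ∑ g ∈ G₁, x g * F g := hinj (by
      rw [map_sum, hc]
      exact Finset.sum_congr rfl fun g hg => by rw [map_mul, hx, hFg g hg])
    rw [this]
    exact Submodule.sum_mem _ fun g hg => Ideal.mul_mem_left _ _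
      (Ideal.subset_span (Finset.mem_coe.mpr (Finset.mem_image_of_mem _ hg)))
  -- the irrelevant ideal is in the radical of the image of `A_1`
  let I : Ideal B := Ideal.span (G₁ : Set B)
  have hI : I.IsHomogeneous ℬ := Ideal.homogeneous_span ℬ _ fun g hg => ⟨1, hG₁ hg⟩
  have hrad : (HomogeneousIdeal.irrelevant ℬ).toIdeal ≤ I.radical := by
    rw [hI.radical_eq]
    refine le_sInf fun J hJ => ?_
    by_contra hirr
    obtain ⟨hJh, hJI, hJp⟩ := hJ
    let x : Proj ℬ := (⟨⟨J, hJh⟩, hJp, hirr⟩ : ProjectiveSpectrum ℬ)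
    obtain ⟨d, f, hd, hf, hfx⟩ := exists_of_mem_domOpen φ (show x ∈ RelCone.domOpen φ by rw [hdom]; trivial)
    refine (Proj.mem_basicOpen ℬ _ x).mp hfx (?_ : φ f ∈ J)
    refine hJI ?_
    have hfspan : f ∈ Ideal.span (G₁.image F : Set A) := by
      obtain ⟨k, rfl⟩ : ∃ k, d = k + 1 := ⟨d - 1, by omega⟩
      rw [hgen _ (by omega), pow_succ] at hf
      refine Submodule.mul_induction_on hf (fun u _ v hv => Ideal.mul_mem_left _ u (hA1 hv))
        (fun _ _ => add_mem)
    have := Ideal.mem_map_of_mem φ.toRingHom hfspan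
    rw [Ideal.map_span] at this
    refine Ideal.span_le.mpr ?_ this
    rintro _ ⟨a, ha, rfl⟩
    obtain ⟨g, hg, rfl⟩ := Finset.mem_image.mp (Finset.mem_coe.mp ha)
    exact Ideal.subset_span (show φ (F g) ∈ (G₁ : Set B) by rw [hFg g hg]; exact hg)
  -- degrees from `D` on are generated by `B_1`
  obtain ⟨T, hT, hTd⟩ := GradedAlgebra.exists_finset_adjoin_eq_top_and_homogeneous_ne_zero ℬ
  choose! dT hdT hmemT using hTd
  have hTfg : (Ideal.span (T : Set B)).FG := ⟨T, rfl⟩
  obtain ⟨k, hk⟩ := Ideal.exists_pow_le_of_le_radical_of_fg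
    ((Ideal.span_le.mpr fun t ht =>
      HomogeneousIdeal.mem_irrelevant_of_mem ℬ (Nat.pos_of_ne_zero (hdT t ht)) (hmemT t ht)).trans hrad) hTfg
  let E := T.sup dT
  have key : ∀ j n, j * E < n → ∀ b ∈ ℬ n, b ∈ Ideal.span (T : Set B) ^ (j + 1) := by
    have base : ∀ n, 0 < n → ∀ b ∈ ℬ n, b ∈ Ideal.span (T : Set B) := by
      intro n hn b hb
      have key : ∀ z ∈ Algebra.adjoin (ℬ 0) (T : Set B),
          z - GradedRing.projZeroRingHom ℬ z ∈ Ideal.span (T : Set B) := by
        intro z hz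
        induction hz using Algebra.adjoin_induction with
        | mem x hx =>
          rw [GradedRing.projZeroRingHom_apply, DirectSum.decompose_of_mem_ne ℬ (hmemT x hx) (hdT x hx),
            sub_zero]
          exact Ideal.subset_span hx
        | algebraMap r =>
          rw [show algebraMap (ℬ 0) B r = r.1 from rfl, GradedRing.projZeroRingHom_apply,
            DirectSum.decompose_of_mem_same ℬ r.2, sub_self]
          exact zero_mem _
        | add x y _ _ hx hy => rw [map_add, add_sub_add_comm]; exact add_mem hx hy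
        | mul x y _ _ hx hy =>
          rw [map_mul, show x * y - GradedRing.projZeroRingHom ℬ x * GradedRing.projZeroRingHom ℬ y =
            x * (y - GradedRing.projZeroRingHom ℬ y) +
              (x - GradedRing.projZeroRingHom ℬ x) * GradedRing.projZeroRingHom ℬ y by ring]
          exact add_mem (Ideal.mul_mem_left _ _ hy) (Ideal.mul_mem_right _ _ hx)
      have := key b (by rw [hT]; trivial)
      rwa [GradedRing.projZeroRingHom_apply, DirectSum.decompose_of_mem_ne ℬ hb (by omega), sub_zero] at this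
    intro j
    induction j with
    | zero => intro n hn b hb; simpa using base n (by omega) b hb
    | succ j ih =>
      intro n hn b hb
      obtain ⟨c, hc⟩ := Submodule.mem_span_finset'.mp (base n (by omega) b hb)
      have e : b = ∑ t : T, GradedRing.proj ℬ n (c t * t.1) := by
        rw [← map_sum]
        simp only [smul_eq_mul] at hc
        rw [hc, GradedRing.proj_apply, DirectSum.decompose_of_mem_same ℬ hb]
      rw [e]
      refine Submodule.sum_mem _ fun t _ => ?_
      rw [GradedRing.proj_apply, DirectSum.coe_decompose_mul_of_right_mem ℬ n (hmemT t.1 t.2)]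
      split_ifs with hle
      · rw [pow_succ]
        refine Ideal.mul_mem_mul (ih _ ?_ _ (SetLike.coe_mem _)) (Ideal.subset_span t.2)
        have : dT t.1 ≤ E := Finset.le_sup t.2
        rw [Nat.succ_mul] at hn
        omega
      · exact zero_mem _
  let D := k * E + 1
  have step : ∀ n, D ≤ n → ∀ b ∈ ℬ (n + 1), b ∈ ℬ n * ℬ 1 := by
    intro n hn b hb
    obtain ⟨c, hc⟩ := Submodule.mem_span_finset'.mp
      (hk (Ideal.pow_le_pow_right (Nat.le_succ k) (key k (n + 1) (by omega) b hb)))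
    have e : b = ∑ g : G₁, GradedRing.proj ℬ (n + 1) (c g * g.1) := by
      rw [← map_sum]
      simp only [smul_eq_mul] at hc
      rw [hc, GradedRing.proj_apply, DirectSum.decompose_of_mem_same ℬ hb]
    rw [e]
    refine Submodule.sum_mem _ fun g _ => ?_
    rw [GradedRing.proj_apply, DirectSum.coe_decompose_mul_of_right_mem ℬ (n + 1) (hG₁ g.2),
      if_pos (by omega : 1 ≤ n + 1)]
    exact Submodule.mul_mem_mul (SetLike.coe_mem _) (hG₁ g.2)
  -- conductor
  obtain ⟨G, hG, hspanG⟩ := exists_fg_piece (ℬ := ℬ) D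
  let C : Ideal A :=
    { carrier := {a | ∀ g ∈ ℬ D, φ a * g ∈ imRange φ}
      zero_mem' := fun g _ => by simp
      add_mem' := fun ha hb g hg => by rw [map_add, add_mul]; exact add_mem (ha g hg) (hb g hg)
      smul_mem' := fun r a ha g hg => by
        rw [smul_eq_mul, map_mul, mul_assoc]
        exact mul_mem ⟨r, rfl⟩ (ha g hg) }
  have hC : Ideal.span (G₁.image F : Set A) ≤ C.radical := by
    refine Ideal.span_le.mpr fun f hf => ?_
    obtain ⟨g₁, hg₁, rfl⟩ := Finset.mem_image.mp (Finset.mem_coe.mp hf)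
    have := fun g : G => exists_pow_mul_mem_range φ (hFm g₁ hg₁) (hG g.2)
    choose N hN using this
    refine ⟨∑ g, N g, fun b hb => ?_⟩
    obtain ⟨c, rfl⟩ := hspanG b hb
    rw [Finset.mul_sum]
    refine sum_mem fun g hg => ?_
    obtain ⟨x, -, hx⟩ := h0.surjOn (c g).2
    rw [show φ (F g₁ ^ ∑ g, N g) * ((c g : B) * g) =
      (φ x * φ (F g₁) ^ ((∑ g, N g) - N ⟨g, hg⟩)) * (φ (F g₁) ^ N ⟨g, hg⟩ * g) by
        rw [map_pow, hx]
        conv_lhs => rw [← Nat.sub_add_cancel (Finset.single_le_sum (fun i _ => Nat.zero_le (N i))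
          (Finset.mem_univ (⟨g, hg⟩ : G))), pow_add]
        ring]
    exact mul_mem (mul_mem ⟨x, rfl⟩ (pow_mem (show φ (F g₁) ∈ imRange φ from ⟨_, rfl⟩) _)) (hN _)
  obtain ⟨J, hJ⟩ := Ideal.exists_pow_le_of_le_radical_of_fg hC ⟨_, rfl⟩
  have hpow : ∀ j, ∀ b ∈ ℬ 1 ^ (j + 1), ∃ a ∈ Ideal.span (G₁.image F : Set A) ^ (j + 1), φ a = b := by
    intro j
    induction j with
    | zero =>
      intro b hb
      rw [zero_add, pow_one] at hb
      obtain ⟨a, ha, rfl⟩ := h1.surjOn hb
      exact ⟨a, by simpa using hA1 ha, rfl⟩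
    | succ j ih =>
      intro b hb
      rw [pow_succ] at hb
      refine Submodule.mul_induction_on hb (fun u hu v hv => ?_) fun u v hu hv => ?_
      · obtain ⟨a, ha, rfl⟩ := ih u hu
        obtain ⟨a', ha', rfl⟩ := h1.surjOn hv
        exact ⟨a * a', by rw [pow_succ]; exact Ideal.mul_mem_mul ha (hA1 ha'), map_mul φ a a'⟩
      · obtain ⟨a, ha, rfl⟩ := hu
        obtain ⟨a', ha', rfl⟩ := hv
        exact ⟨a + a', add_mem ha ha', map_add φ a a'⟩
  have hDj : ∀ j, ∀ b ∈ ℬ (D + j + 1), b ∈ ℬ D * ℬ 1 ^ (j + 1) := by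
    intro j
    induction j with
    | zero => intro b hb; simpa using step D le_rfl b hb
    | succ j ih =>
      intro b hb
      have := step (D + j + 1) (by omega) b hb
      rw [pow_succ, ← mul_assoc]
      exact Submodule.mul_le.mpr (fun u hu v hv => Submodule.mul_mem_mul (ih u hu) hv) this
  refine ⟨D + J + 1, fun n hn => ?_⟩
  obtain ⟨j, rfl⟩ : ∃ j, n = D + j + 1 := ⟨n - D - 1, by omega⟩
  refine le_antisymm (fun b hb => ?_) ?_
  · have hrange : b ∈ imRange φ := by
      refine Submodule.mul_induction_on (hDj j b hb) (fun g hg v hv => ?_) fun _ _ => add_mem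
      obtain ⟨a, ha, rfl⟩ := hpow j v hv
      rw [mul_comm]
      exact hJ (Ideal.pow_le_pow_right (by omega) ha) g hg
    obtain ⟨a, rfl⟩ := hrange
    have ha : a ∈ 𝒜 (D + j + 1) := by
      have e : φ (DirectSum.decompose 𝒜 a (D + j + 1) : A) = φ a := by
        rw [GradedRingHom.map_directSumDecompose]
        exact DirectSum.decompose_of_mem_same ℬ hb
      rw [← hinj e]
      exact SetLike.coe_mem _
    rw [hgen _ (by omega)] at ha
    have hmap : ∀ m, ∀ a ∈ 𝒜 1 ^ (m + 1), φ a ∈ ℬ 1 ^ (m + 1) := by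
      intro m
      induction m with
      | zero => intro a ha; simp only [zero_add, pow_one] at ha ⊢; exact φ.map_mem ha
      | succ m ih =>
        intro a ha
        rw [pow_succ] at ha ⊢
        refine Submodule.mul_induction_on ha (fun u hu v hv => ?_) fun u v hu hv => ?_
        · rw [map_mul]; exact Submodule.mul_mem_mul (ih u hu) (φ.map_mem hv)
        · rw [map_add]; exact add_mem hu hv
    exact hmap _ a ha
  · exact pow_le_graded ℬ _

end Groth.Agent.EGAProj74
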