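import Groth.Agent.EGAProj74.RLPsiCrit

/-!
`r_{L,ψ}` over an affine open of the base.
-/

set_option autoImplicit false

universe u

open CategoryTheory CategoryTheory.Limits AlgebraicGeometry TopologicalSpace Opposite
open HomogeneousLocalization
open scoped HomogeneousIdeal

noncomputable section

namespace Groth.Agent.EGAProj74.RLRel

open Groth.Agent.EGAProj74

section base

variable {X PL : Scheme.{u}} {L : X.Modules} (hL : PicF.IsInvertible L) (hLq : L.IsQuasicoherent)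
  {𝒮L : RelProj.QCGrAlg X} {j : L ⟶ 𝒮L.toModule} (hj : RelProj.IsGrSymAlg L 𝒮L j)
  {pL : PL ⟶ X}
  {chartL : ∀ (U : X.Opens) (hU : IsAffineOpen U), (((pL ⁻¹ᵁ U : PL.Opens) : Scheme.{u}) ≅ Proj (𝒮L.deg U hU))}
  (hPL : RelProj.IsRelProj 𝒮L pL chartL)

include hL hLq hj hPL

variable {Y : Scheme.{u}} {U : Y.Opens} {q : X ⟶ Y} {𝒮 : RelProj.QCGrAlg Y} (u : RelProj.QGrHom q 𝒮 𝒮L)
  {hY : IsAffineOpen U} {d : ℕ} (hd : 0 < d) {f : 𝒮.presheaf.obj (op U)} (hf : f ∈ 𝒮.deg U hY d)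

omit hL hLq hj hPL in
theorem appLE_res (V W : X.Opens) (i : W ≤ V) (hV : V ≤ q ⁻¹ᵁ U) :
    (𝒮L.presheaf.map (homOfLE i).op).hom ((u.appLE U V hV).hom f) =
      (u.appLE U W (i.trans hV)).hom f :=
  congr($(u.toQHom.appLE_map hV i).hom f)

omit hL hLq hj in
include hPL in
theorem mem_basicOpen_iff_of_emb_eq {V V' : X.Opens} (hV : IsAffineOpen V) (hV' : IsAffineOpen V')
    (hVU : V ≤ q ⁻¹ᵁ U) (hVU' : V' ≤ q ⁻¹ᵁ U)
    {y : Proj (𝒮L.deg V hV)} {y' : Proj (𝒮L.deg V' hV')}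
    (e : (RelProj.emb pL chartL V hV).base y = (RelProj.emb pL chartL V' hV').base y') :
    y ∈ Proj.basicOpen (𝒮L.deg V hV) ((u.appLE U V hVU).hom f) ↔
      y' ∈ Proj.basicOpen (𝒮L.deg V' hV') ((u.appLE U V' hVU').hom f) := by
  obtain ⟨_, ⟨W, hW, rfl⟩, hxW, hWle⟩ := (Scheme.isBasis_affineOpens X).exists_subset_of_mem_open
    (show pL.base ((RelProj.emb pL chartL V hV).base y) ∈ ((V ⊓ V' : X.Opens) : Set X) from
      ⟨emb_mem V hV y, e ▸ emb_mem V' hV' y'⟩) (V ⊓ V').2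
  obtain ⟨w, hw⟩ := exists_lift_res (chart := chartL) hV hW (y := y) hxW
  have iV : W ≤ V := fun x hx => (hWle hx).1
  have iV' : W ≤ V' := fun x hx => (hWle hx).2
  rw [mem_basicOpen_res_iff hPL hV hW iV hw, mem_basicOpen_res_iff hPL hV' hW iV' (e.symm.trans hw),
    appLE_res u V W iV hVU, appLE_res u V' W iV' hVU']

/-- The open where the section does not vanish. -/
abbrev nonVanish (d : ℕ) (f : 𝒮.presheaf.obj (op U)) : X.Opens :=
  ⨆ V : {V : X.affineOpens // ∃ h : (V : X.Opens) ≤ q ⁻¹ᵁ U,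
    ((𝒮L.deg V.1 V.2 d : AddSubgroup (𝒮L.presheaf.obj (op (V.1 : X.Opens)))) : Set (𝒮L.presheaf.obj (op (V.1 : X.Opens)))) ⊆
      (Ideal.span {(u.appLE U (V.1 : X.Opens) h).hom f} : Set (𝒮L.presheaf.obj (op (V.1 : X.Opens))))},
    (V.1.1 : X.Opens)

include hd hf in
theorem mem_nonVanish_iff {V : X.Opens} (hV : IsAffineOpen V) (hVU : V ≤ q ⁻¹ᵁ U) (y : Proj (𝒮L.deg V hV)) :
    pL.base ((RelProj.emb pL chartL V hV).base y) ∈ nonVanish u d f ↔
      y ∈ Proj.basicOpen (𝒮L.deg V hV) ((u.appLE U V hVU).hom f) := by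
  have := isIso_pL hL hLq hj hPL
  constructor
  · intro h
    obtain ⟨⟨⟨V', hV'⟩, hVU', hspan⟩, hx⟩ := Opens.mem_iSup.mp h
    obtain ⟨y', hy'⟩ := exists_lift_res (chart := chartL) hV hV' (y := y) hx
    rw [mem_basicOpen_iff_of_emb_eq hPL u hV hV' hVU hVU' hy']
    exact mem_basicOpen_of_subset_span hPL (isGenDegOne_grSym hLq hj) hV' hd hspan y'
  · intro h
    obtain ⟨W, hW, i, hxW, hspan⟩ := exists_subset_span_of_mem_basicOpen hPL
      (fun x V hx => exists_isLineGen hL hLq hj x V hx) (t := (u.appLE U V hVU).hom f) hV hd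
      ((u.gradedAt U hY V hV hVU).map_mem hf) y h
    rw [appLE_res u V W i hVU] at hspan
    exact Opens.mem_iSup.mpr ⟨⟨⟨W, hW⟩, i.trans hVU, hspan⟩, hxW⟩

variable {P : Scheme.{u}} {p : P ⟶ Y}
  {chart : ∀ (U : Y.Opens) (hU : IsAffineOpen U), (((p ⁻¹ᵁ U : P.Opens) : Scheme.{u}) ≅ Proj (𝒮.deg U hU))}
  {u}
  {r : (RelProj.domQ u pL chartL : Scheme.{u}) ⟶ P}
  (hr : RelProj.IsProjQMapOn u p chart pL chartL (RelProj.domQ u pL chartL) r)

variable (hP : RelProj.IsRelProj 𝒮 p chart)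

omit hL hLq hj hPL in
/-- The locus lies over `U`. -/
theorem nonVanish_le (u : RelProj.QGrHom q 𝒮 𝒮L) (d : ℕ) (f : 𝒮.presheaf.obj (op U)) : nonVanish u d f ≤ q ⁻¹ᵁ U :=
  iSup_le fun V => V.2.1

include hd hf hr hP in
theorem image_preimage_basicOpen_eq :
    (RelProj.domQ u pL chartL).ι ''ᵁ (r ⁻¹ᵁ (RelProj.emb p chart U hY ''ᵁ Proj.basicOpen (𝒮.deg U hY) f)) =
      pL ⁻¹ᵁ nonVanish u d f := by
  have := isIso_pL hL hLq hj hPL
  refine Opens.ext (Set.ext fun w => ?_)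
  by_cases hwU : pL.base w ∈ q ⁻¹ᵁ U
  swap
  · refine iff_of_false ?_ fun h => hwU (nonVanish_le u d f h)
    rintro ⟨z, hz, rfl⟩
    refine hwU ?_
    obtain ⟨v, -, hv⟩ := hz
    show (pL ≫ q).base ((RelProj.domQ u pL chartL).ι.base z) ∈ U
    rw [← TopCat.comp_app, ← Scheme.Hom.comp_base, ← projQMapOn_over u hPL hP hr, Scheme.Hom.comp_base, TopCat.comp_app, ← hv]
    exact emb_mem U hY v
  obtain ⟨_, ⟨V, hV, rfl⟩, hxV, hVle⟩ := (Scheme.isBasis_affineOpens X).exists_subset_of_mem_open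
    (show pL.base w ∈ ((q ⁻¹ᵁ U : X.Opens) : Set X) from hwU) (q ⁻¹ᵁ U).isOpen
  have hVU : V ≤ q ⁻¹ᵁ U := hVle
  obtain ⟨y, rfl⟩ := exists_lift (chart := chartL) w hV hxV
  refine Iff.trans ⟨?_, ?_⟩ (mem_nonVanish_iff hL hLq hj hPL u hd hf hV hVU y).symm
  · rintro ⟨z, hz, hze⟩
    exact (qmap_mem_basicOpen_iff hr hPL hY hV hVU hd hf z y hze.symm).mp hz
  · intro hy
    refine ⟨⟨_, emb_mem_domQ_of_mem_basicOpen u hY hV hVU hd hf hy⟩, ?_, rfl⟩
    exact (qmap_mem_basicOpen_iff hr hPL hY hV hVU hd hf _ y rfl).mpr hy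

end base

section imm
variable {X PL : Scheme.{u}} {L : X.Modules} (hL : PicF.IsInvertible L) (hLq : L.IsQuasicoherent)
  {𝒮L : RelProj.QCGrAlg X} {j : L ⟶ 𝒮L.toModule} (hj : RelProj.IsGrSymAlg L 𝒮L j)
  {pL : PL ⟶ X}
  {chartL : ∀ (U : X.Opens) (hU : IsAffineOpen U), (((pL ⁻¹ᵁ U : PL.Opens) : Scheme.{u}) ≅ Proj (𝒮L.deg U hU))}
  (hPL : RelProj.IsRelProj 𝒮L pL chartL)
  {Y : Scheme.{u}} {U : Y.Opens} {q : X ⟶ Y} {𝒮 : RelProj.QCGrAlg Y} {u : RelProj.QGrHom q 𝒮 𝒮L}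
  {P : Scheme.{u}} {p : P ⟶ Y}
  {chart : ∀ (U : Y.Opens) (hU : IsAffineOpen U), (((p ⁻¹ᵁ U : P.Opens) : Scheme.{u}) ≅ Proj (𝒮.deg U hU))}
  {r : (RelProj.domQ u pL chartL : Scheme.{u}) ⟶ P}
  (hr : RelProj.IsProjQMapOn u p chart pL chartL (RelProj.domQ u pL chartL) r) (hP : RelProj.IsRelProj 𝒮 p chart)
  {hY : IsAffineOpen U} {d : ℕ} (hd : 0 < d) {f : 𝒮.presheaf.obj (op U)} (hf : f ∈ 𝒮.deg U hY d)
  {W : X.Opens} (hW : IsAffineOpen W) (hWU : W ≤ q ⁻¹ᵁ U) (heq : nonVanish u d f = W)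

/-- The ring map of the piece. -/
abbrev pieceMap (u : RelProj.QGrHom q 𝒮 𝒮L) (hY : IsAffineOpen U) (f : 𝒮.presheaf.obj (op U))
    {W : X.Opens} (hW : IsAffineOpen W) (hWU : W ≤ q ⁻¹ᵁ U) :
    Away (𝒮.deg U hY) f →+* Away (𝒮L.deg W hW) (u.gradedAt U hY W hW hWU f) :=
  Away.map (u.gradedAt U hY W hW hWU) f

include hL hLq hj hPL hd hf heq

theorem mem_basicOpen_piece (y : Proj (𝒮L.deg W hW)) :
    y ∈ Proj.basicOpen (𝒮L.deg W hW) ((u.appLE U W hWU).hom f) :=
  (mem_nonVanish_iff hL hLq hj hPL u hd hf hW hWU y).mp (heq ▸ emb_mem W hW y)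

include hr hP in
theorem nonempty_restrict_iso :
    Nonempty (Arrow.mk (r ∣_ (RelProj.emb p chart U hY ''ᵁ Proj.basicOpen (𝒮.deg U hY) f)) ≅
      Arrow.mk (Spec.map (CommRingCat.ofHom (pieceMap u hY f hW hWU)))) := by
  let g := Proj.awayι (𝒮.deg U hY) f hf hd ≫ RelProj.emb p chart U hY
  let φ := u.gradedAt U hY W hW hWU
  let jj := domChart φ hd f hf ≫ qι u (p' := pL) (chart' := chartL) U hY W hW hWU
  have hgD : g.opensRange = RelProj.emb p chart U hY ''ᵁ Proj.basicOpen (𝒮.deg U hY) f := by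
    rw [Scheme.Hom.opensRange_comp, Proj.opensRange_awayι]
  have hw : Spec.map (CommRingCat.ofHom (pieceMap u hY f hW hWU)) ≫ g = jj ≫ r := by
    simp only [jj, g, Category.assoc]
    rw [(isProjQMapOn_iff u).mp hr U hY W hW hWU, domChart_domMap_assoc]
  have hpb : IsPullback (Spec.map (CommRingCat.ofHom (pieceMap u hY f hW hWU))) jj g r := by
    refine IsOpenImmersion.isPullback _ _ _ _ hw.symm ?_
    rw [hgD]
    refine (RelProj.domQ u pL chartL).ι.image_injective ?_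
    dsimp only
    rw [image_preimage_basicOpen_eq hL hLq hj hPL hd hf hr hP, heq, ← Scheme.Hom.opensRange_comp]
    have hj' : jj ≫ (RelProj.domQ u pL chartL).ι =
        Proj.awayι (𝒮L.deg W hW) (φ f) (φ.map_mem hf) hd ≫ RelProj.emb pL chartL W hW := by
      simp only [jj, Category.assoc, qι_ι]
      exact (Category.assoc _ _ _).symm.trans (domChart_ι φ hd f hf =≫ _)
    refine Opens.ext (Set.ext fun z => ⟨fun hz => ?_, ?_⟩)
    · obtain ⟨y, rfl⟩ := exists_lift (chart := chartL) z hW hz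
      obtain ⟨c, hc⟩ : y ∈ (Proj.awayι (𝒮L.deg W hW) (φ f) (φ.map_mem hf) hd).opensRange := by
        rw [Proj.opensRange_awayι]; exact mem_basicOpen_piece hL hLq hj hPL hd hf hW hWU heq y
      refine ⟨c, ?_⟩
      rw [hj', Scheme.Hom.comp_base, TopCat.comp_app, hc]
    · rintro ⟨c, rfl⟩
      rw [hj', Scheme.Hom.comp_base, TopCat.comp_app]
      exact emb_mem W hW _
  exact ⟨(morphismRestrictEq r hgD.symm ≪≫ morphismRestrictOpensRange r g) ≪≫
    (Arrow.isoMk (f := Arrow.mk (Spec.map (CommRingCat.ofHom (pieceMap u hY f hW hWU)))) (g := Arrow.mk (pullback.snd r g)) hpb.flip.isoPullback (Iso.refl _) (by simp)).symm⟩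

theorem bijective_toAway_piece :
    Function.Bijective ((HomogeneousLocalization.fromZeroRingHom (𝒮L.deg W hW)
      (Submonoid.powers (u.gradedAt U hY W hW hWU f))).comp (𝒮L.strZero W hW).hom) := by
  have := isIso_pL hL hLq hj hPL
  have := isIso_toBase hPL W hW
  let t := u.gradedAt U hY W hW hWU f
  have htm : t ∈ 𝒮L.deg W hW d := (u.gradedAt U hY W hW hWU).map_mem hf
  have : IsIso (Proj.awayι (𝒮L.deg W hW) t htm hd) := by
    refine (isIso_iff_isOpenImmersion_and_epi_base _).mpr ⟨inferInstance, ?_⟩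
    rw [TopCat.epi_iff_surjective]
    intro y
    have : y ∈ (Proj.awayι (𝒮L.deg W hW) t htm hd).opensRange := by
      rw [Proj.opensRange_awayι]; exact mem_basicOpen_piece hL hLq hj hPL hd hf hW hWU heq y
    exact this
  have hh : Proj.awayι (𝒮L.deg W hW) t htm hd ≫ Proj.toSpecZero (𝒮L.deg W hW) ≫
      Spec.map (𝒮L.strZero W hW) = Spec.map (𝒮L.strZero W hW ≫
        CommRingCat.ofHom (HomogeneousLocalization.fromZeroRingHom (𝒮L.deg W hW) (Submonoid.powers t))) := by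
    rw [Proj.awayι_toSpecZero_assoc, Spec.map_comp]
  have : IsIso (Spec.map (𝒮L.strZero W hW ≫
      CommRingCat.ofHom (HomogeneousLocalization.fromZeroRingHom (𝒮L.deg W hW) (Submonoid.powers t)))) := by
    rw [← hh]; infer_instance
  exact @bijective_of_isIso_specMap _ _ (𝒮L.strZero W hW ≫
      CommRingCat.ofHom (HomogeneousLocalization.fromZeroRingHom (𝒮L.deg W hW) (Submonoid.powers t))) this

omit hL hLq hj hPL hd hf heq in
theorem val_toAway (t : X.presheaf.obj (op W)) :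
    ((HomogeneousLocalization.fromZeroRingHom (𝒮L.deg W hW)
      (Submonoid.powers (u.gradedAt U hY W hW hWU f))).comp (𝒮L.strZero W hW).hom t).val =
      Localization.mk ((𝒮L.str.app (op W)).hom t) 1 :=
  val_mk _

theorem surjective_pieceMap_iff :
    Function.Surjective (pieceMap u hY f hW hWU) ↔
      ∀ t : X.presheaf.obj (op W), ∃ (m : ℕ) (_ : 0 < m) (s' : 𝒮.presheaf.obj (op U)) (_ : s' ∈ 𝒮.deg U hY (m * d)),
        (𝒮L.str.app (op W)).hom t * ((u.appLE U W hWU).hom f) ^ m =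
          (u.appLE U W hWU).hom s' := by
  constructor
  · intro h t
    obtain ⟨x, hx⟩ := h ((HomogeneousLocalization.fromZeroRingHom (𝒮L.deg W hW)
      (Submonoid.powers (u.gradedAt U hY W hW hWU f))).comp (𝒮L.strZero W hW).hom t)
    obtain ⟨m, s, hs, rfl⟩ := Away.mk_surjective (𝒮.deg U hY) hf x
    have h1 := congrArg HomogeneousLocalization.val hx
    rw [val_toAway, pieceMap, Away.map_mk, Away.val_mk, Localization.mk_eq_mk_iff, Localization.r_iff_exists] at h1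
    obtain ⟨⟨_, c, rfl⟩, hc⟩ := h1
    simp only [OneMemClass.coe_one, one_mul, RelProj.QGrHom.gradedAt_apply] at hc
    refine ⟨m + c + 1, by omega, s * f ^ (c + 1), ?_, ?_⟩
    · have := SetLike.mul_mem_graded (A := 𝒮.deg U hY) hs (SetLike.pow_mem_graded (c + 1) hf)
      rw [smul_eq_mul, smul_eq_mul] at this
      convert this using 2
      ring
    · rw [map_mul, map_pow]
      linear_combination (exp := 1) (-((u.appLE U W hWU).hom f)) * hc
  · intro h x
    obtain ⟨t, rfl⟩ := (bijective_toAway_piece hL hLq hj hPL hd hf hW hWU heq).2 x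
    obtain ⟨m, -, s, hs, he⟩ := h t
    refine ⟨Away.mk (𝒮.deg U hY) hf m s (by rwa [smul_eq_mul]), val_injective _ ?_⟩
    rw [val_toAway, pieceMap, Away.map_mk, Away.val_mk, Localization.mk_eq_mk_iff, Localization.r_iff_exists]
    refine ⟨1, ?_⟩
    simp only [OneMemClass.coe_one, one_mul, RelProj.QGrHom.gradedAt_apply]
    linear_combination (exp := 1) -he

theorem injective_pieceMap_iff :
    Function.Injective (pieceMap u hY f hW hWU) ↔
      ∀ (m : ℕ), 0 < m → ∀ s' ∈ 𝒮.deg U hY (m * d),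
        (u.appLE U W hWU).hom s' = 0 → ∃ (k : ℕ), 0 < k ∧ f ^ k * s' = 0 := by
  rw [injective_iff_map_eq_zero]
  constructor
  · intro h m _ s hs hs0
    have h0 := h (Away.mk (𝒮.deg U hY) hf m s (by rwa [smul_eq_mul])) (val_injective _ (by
      rw [pieceMap, Away.map_mk, Away.val_mk, val_zero]
      simp only [RelProj.QGrHom.gradedAt_apply, hs0, Localization.mk_zero]
      rfl))
    have h1 := congrArg HomogeneousLocalization.val h0
    rw [Away.val_mk, val_zero, ← Localization.mk_zero 1, Localization.mk_eq_mk_iff, Localization.r_iff_exists] at h1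
    obtain ⟨⟨_, c, rfl⟩, hc⟩ := h1
    simp only [OneMemClass.coe_one, one_mul, mul_zero] at hc
    exact ⟨c + 1, c.succ_pos, by rw [pow_succ, mul_assoc, mul_left_comm, hc, mul_zero]⟩
  · intro h x hx
    obtain ⟨m, s, hs, rfl⟩ := Away.mk_surjective (𝒮.deg U hY) hf x
    have h1 := congrArg HomogeneousLocalization.val hx
    rw [pieceMap, Away.map_mk, Away.val_mk, val_zero, ← Localization.mk_zero 1, Localization.mk_eq_mk_iff,
      Localization.r_iff_exists] at h1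
    obtain ⟨⟨_, c, rfl⟩, hc⟩ := h1
    simp only [OneMemClass.coe_one, one_mul, mul_zero, RelProj.QGrHom.gradedAt_apply] at hc
    obtain ⟨k, -, hk⟩ := h (m + c + 1) (by omega) (s * f ^ (c + 1)) (by
      have := SetLike.mul_mem_graded (A := 𝒮.deg U hY) hs (SetLike.pow_mem_graded (c + 1) hf)
      rw [smul_eq_mul, smul_eq_mul] at this
      convert this using 2
      ring) (by rw [map_mul, map_pow, pow_succ, ← mul_assoc, mul_comm ((u.appLE U W _).hom s), hc, zero_mul])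
    refine val_injective _ ?_
    rw [Away.val_mk, val_zero, ← Localization.mk_zero 1, Localization.mk_eq_mk_iff, Localization.r_iff_exists]
    refine ⟨⟨f ^ (k + c + 1), _, rfl⟩, ?_⟩
    simp only [OneMemClass.coe_one, one_mul, mul_zero]
    linear_combination (exp := 1) hk

end imm

section crit

variable {X PL : Scheme.{u}} {L : X.Modules} (hL : PicF.IsInvertible L) (hLq : L.IsQuasicoherent)
  {𝒮L : RelProj.QCGrAlg X} {j : L ⟶ 𝒮L.toModule} (hj : RelProj.IsGrSymAlg L 𝒮L j)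
  {pL : PL ⟶ X}
  {chartL : ∀ (U : X.Opens) (hU : IsAffineOpen U), (((pL ⁻¹ᵁ U : PL.Opens) : Scheme.{u}) ≅ Proj (𝒮L.deg U hU))}
  (hPL : RelProj.IsRelProj 𝒮L pL chartL)
  {Y : Scheme.{u}} {U : Y.Opens} {q : X ⟶ Y} {𝒮 : RelProj.QCGrAlg Y} {u : RelProj.QGrHom q 𝒮 𝒮L}
  {P : Scheme.{u}} {p : P ⟶ Y}
  {chart : ∀ (U : Y.Opens) (hU : IsAffineOpen U), (((p ⁻¹ᵁ U : P.Opens) : Scheme.{u}) ≅ Proj (𝒮.deg U hU))}
  {r : (RelProj.domQ u pL chartL : Scheme.{u}) ⟶ P}
  (hr : RelProj.IsProjQMapOn u p chart pL chartL (RelProj.domQ u pL chartL) r)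
  (hP : RelProj.IsRelProj 𝒮 p chart)
  {hY : IsAffineOpen U}

/-- The piece `D₊(s)` of `P`. -/
abbrev piece (p : P ⟶ Y)
    (chart : ∀ (U : Y.Opens) (hU : IsAffineOpen U), (((p ⁻¹ᵁ U : P.Opens) : Scheme.{u}) ≅ Proj (𝒮.deg U hU)))
    (hY : IsAffineOpen U) (s : 𝒮.presheaf.obj (op U)) : P.Opens :=
  RelProj.emb p chart U hY ''ᵁ Proj.basicOpen (𝒮.deg U hY) s

/-- Every function on the locus of `s` is a fraction `s' / s^m`. -/
def CondGen (u : RelProj.QGrHom q 𝒮 𝒮L) (hY : IsAffineOpen U) (n : ℕ) (s : 𝒮.presheaf.obj (op U))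
    (W : X.Opens) (hWU : W ≤ q ⁻¹ᵁ U) : Prop :=
  ∀ t : X.presheaf.obj (op W), ∃ (m : ℕ) (_ : 0 < m) (s' : 𝒮.presheaf.obj (op U)) (_ : s' ∈ 𝒮.deg U hY (m * n)),
    (𝒮L.str.app (op W)).hom t * ((u.appLE U W hWU).hom s) ^ m = (u.appLE U W hWU).hom s'

/-- A fraction vanishing on the locus of `s` vanishes. -/
def CondKer (u : RelProj.QGrHom q 𝒮 𝒮L) (hY : IsAffineOpen U) (n : ℕ) (s : 𝒮.presheaf.obj (op U))
    (W : X.Opens) (hWU : W ≤ q ⁻¹ᵁ U) : Prop :=
  ∀ (m : ℕ), 0 < m → ∀ s' ∈ 𝒮.deg U hY (m * n),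
    (u.appLE U W hWU).hom s' = 0 → ∃ (k : ℕ), 0 < k ∧ s ^ k * s' = 0

include hL hLq hj hPL hr hP

theorem isClosedImmersion_piece_iff {n : ℕ} (hn : 0 < n) {s : 𝒮.presheaf.obj (op U)} (hs : s ∈ 𝒮.deg U hY n) :
    IsClosedImmersion (r ∣_ piece p chart hY s) ↔
      IsAffineOpen (nonVanish u n s) ∧ CondGen u hY n s (nonVanish u n s) (nonVanish_le u n s) := by
  have := isIso_pL hL hLq hj hPL
  constructor
  · intro h
    have hD : IsAffineOpen (piece p chart hY s) := by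
      refine IsAffineOpen.image_of_isOpenImmersion ?_ _
      rw [← Proj.opensRange_awayι (𝒮.deg U hY) s hs hn]
      exact isAffineOpen_opensRange _
    have : IsAffine ↑(piece p chart hY s) := hD
    have h1 : IsAffineOpen (r ⁻¹ᵁ piece p chart hY s) := isAffine_of_isAffineHom (r ∣_ piece p chart hY s)
    have h2 : IsAffineOpen ((RelProj.domQ u pL chartL).ι ''ᵁ (r ⁻¹ᵁ piece p chart hY s)) :=
      h1.image_of_isOpenImmersion _
    rw [image_preimage_basicOpen_eq hL hLq hj hPL hn hs hr hP] at h2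
    have hW : IsAffineOpen (nonVanish u n s) := by
      have h3 := h2.image_of_isOpenImmersion pL
      rwa [Scheme.Hom.image_preimage_eq_opensRange_inf, Scheme.Hom.opensRange_of_isIso, top_inf_eq] at h3
    obtain ⟨e⟩ := nonempty_restrict_iso hL hLq hj hPL hr hP hn hs hW (nonVanish_le u n s) rfl
    refine ⟨hW, (surjective_pieceMap_iff hL hLq hj hPL hn hs hW (nonVanish_le u n s) rfl).mp ?_⟩
    exact (isClosedImmersion_specMap_iff _).mp ((MorphismProperty.arrow_mk_iso_iff @IsClosedImmersion e).mp h)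
  · rintro ⟨hW, hgen⟩
    obtain ⟨e⟩ := nonempty_restrict_iso hL hLq hj hPL hr hP hn hs hW (nonVanish_le u n s) rfl
    refine (MorphismProperty.arrow_mk_iso_iff @IsClosedImmersion e).mpr ((isClosedImmersion_specMap_iff _).mpr ?_)
    exact (surjective_pieceMap_iff hL hLq hj hPL hn hs hW (nonVanish_le u n s) rfl).mpr hgen

theorem isIso_piece_iff {n : ℕ} (hn : 0 < n) {s : 𝒮.presheaf.obj (op U)} (hs : s ∈ 𝒮.deg U hY n) :
    IsIso (r ∣_ piece p chart hY s) ↔
      (IsAffineOpen (nonVanish u n s) ∧ CondGen u hY n s (nonVanish u n s) (nonVanish_le u n s)) ∧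
        CondKer u hY n s (nonVanish u n s) (nonVanish_le u n s) := by
  constructor
  · intro h
    obtain ⟨hW, hgen⟩ := (isClosedImmersion_piece_iff hL hLq hj hPL hr hP hn hs).mp inferInstance
    obtain ⟨e⟩ := nonempty_restrict_iso hL hLq hj hPL hr hP hn hs hW (nonVanish_le u n s) rfl
    refine ⟨⟨hW, hgen⟩, (injective_pieceMap_iff hL hLq hj hPL hn hs hW (nonVanish_le u n s) rfl).mp ?_⟩
    have := (MorphismProperty.arrow_mk_iso_iff (MorphismProperty.isomorphisms Scheme) e).mp h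
    exact (@bijective_of_isIso_specMap _ _ _ this).1
  · rintro ⟨⟨hW, hgen⟩, hker⟩
    obtain ⟨e⟩ := nonempty_restrict_iso hL hLq hj hPL hr hP hn hs hW (nonVanish_le u n s) rfl
    refine (MorphismProperty.arrow_mk_iso_iff (MorphismProperty.isomorphisms Scheme) e).mpr
      (isIso_specMap_of_bijective _ ⟨?_, ?_⟩)
    · exact (injective_pieceMap_iff hL hLq hj hPL hn hs hW (nonVanish_le u n s) rfl).mpr hker
    · exact (surjective_pieceMap_iff hL hLq hj hPL hn hs hW (nonVanish_le u n s) rfl).mpr hgen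

omit hL hLq hj hPL hr hP in
theorem exists_piece_le {O : P.Opens} {x : P} (hx : x ∈ O) :
    ∃ (U : Y.affineOpens) (n : ℕ) (s : 𝒮.presheaf.obj (op U.1)), 0 < n ∧ s ∈ 𝒮.deg U.1 U.2 n ∧
      x ∈ piece p chart U.2 s ∧ piece p chart U.2 s ≤ O := by
  obtain ⟨U, hU, y, rfl⟩ := exists_emb_apply (chart := chart) x
  obtain ⟨n, s, hn, hs, hys, hle⟩ := exists_basicOpen_le (O := RelProj.emb p chart U hU ⁻¹ᵁ O) hx
  refine ⟨⟨U, hU⟩, n, s, hn, hs, ⟨y, hys, rfl⟩, ?_⟩
  rintro _ ⟨v, hv, rfl⟩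
  exact hle hv

theorem domQ_eq_top_of_cover {ι : Type*} {V : ι → Y.affineOpens} {n : ι → ℕ}
    {s : ∀ a, 𝒮.presheaf.obj (op (V a).1)} (hns : ∀ a, 0 < n a ∧ s a ∈ 𝒮.deg (V a).1 (V a).2 (n a))
    (hcov : ∀ x : X, ∃ a, x ∈ nonVanish u (n a) (s a)) :
    RelProj.domQ u pL chartL = ⊤ ∧ r ⁻¹ᵁ (⨆ a, piece p chart (V a).2 (s a)) = ⊤ := by
  have key : ∀ w : PL, ∃ a, w ∈ (RelProj.domQ u pL chartL).ι ''ᵁ (r ⁻¹ᵁ piece p chart (V a).2 (s a)) := fun w => by
    obtain ⟨a, ha⟩ := hcov (pL.base w)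
    refine ⟨a, ?_⟩
    rw [image_preimage_basicOpen_eq hL hLq hj hPL (hns a).1 (hns a).2 hr hP]
    exact ha
  refine ⟨top_le_iff.mp fun w _ => ?_, top_le_iff.mp fun z _ => ?_⟩
  · obtain ⟨a, z, -, hze⟩ := key w
    exact hze ▸ z.2
  · obtain ⟨a, z', hz', he⟩ := key ((RelProj.domQ u pL chartL).ι.base z)
    obtain rfl := (RelProj.domQ u pL chartL).ι.isOpenEmbedding.injective he
    exact Opens.mem_iSup.mpr ⟨a, hz'⟩

theorem mem_nonVanish_of_piece (htop : RelProj.domQ u pL chartL = ⊤) (x : X) {n : ℕ} (hn : 0 < n)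
    {s : 𝒮.presheaf.obj (op U)} (hs : s ∈ 𝒮.deg U hY n)
    (hx : ∀ z, pL.base ((RelProj.domQ u pL chartL).ι.base z) = x → r.base z ∈ piece p chart hY s) :
    x ∈ nonVanish u n s := by
  have := isIso_pL hL hLq hj hPL
  obtain ⟨w, rfl⟩ := pL.surjective x
  let z : (RelProj.domQ u pL chartL : Scheme.{u}) := ⟨w, htop ▸ Opens.mem_top w⟩
  have hw : w ∈ (RelProj.domQ u pL chartL).ι ''ᵁ (r ⁻¹ᵁ piece p chart hY s) := ⟨z, hx z rfl, rfl⟩
  rw [image_preimage_basicOpen_eq hL hLq hj hPL hn hs hr hP] at hw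
  exact hw

/-- `r` is everywhere defined and an immersion iff it is so near every point, on an affine piece. -/
theorem isImmersion_iff :
    (RelProj.domQ u pL chartL = ⊤ ∧ IsImmersion r) ↔
      ∀ x : X, ∃ (V : Y.affineOpens) (n : ℕ) (s : 𝒮.presheaf.obj (op V.1)), 0 < n ∧ s ∈ 𝒮.deg V.1 V.2 n ∧
        x ∈ nonVanish u n s ∧ IsAffineOpen (nonVanish u n s) ∧
          CondGen u V.2 n s (nonVanish u n s) (nonVanish_le u n s) := by
  have := isIso_pL hL hLq hj hPL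
  constructor
  · rintro ⟨htop, himm⟩ x
    let O := r.coborderRange
    have hO : IsClosedImmersion (r ∣_ O) := by
      refine (MorphismProperty.arrow_mk_iso_iff @IsClosedImmersion ?_).mp (inferInstance : IsClosedImmersion r.liftCoborder)
      have hpre : r ⁻¹ᵁ O = ⊤ := top_le_iff.mp fun z _ => by
        change r.base z ∈ O
        rw [← congr($(r.liftCoborder_ι).base z)]
        exact (r.liftCoborder.base z).2
      refine Arrow.isoMk ((Scheme.topIso _).symm ≪≫ Scheme.isoOfEq _ hpre.symm) (Iso.refl _) ?_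
      rw [← cancel_mono O.ι]
      simp [O]
    obtain ⟨w, rfl⟩ := pL.surjective x
    let z : (RelProj.domQ u pL chartL : Scheme.{u}) := ⟨w, htop ▸ Opens.mem_top w⟩
    obtain ⟨V, n, s, hn, hs, hzs, hle⟩ := exists_piece_le (chart := chart) (O := O) (x := r.base z) (by
      rw [← congr($(r.liftCoborder_ι).base z)]
      exact (r.liftCoborder.base z).2)
    have hc : IsClosedImmersion (r ∣_ piece p chart V.2 s) := by
      refine (MorphismProperty.arrow_mk_iso_iff @IsClosedImmersion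
        (morphismRestrictRestrict r O (O.ι ⁻¹ᵁ piece p chart V.2 s) ≪≫ morphismRestrictEq r ?_)).mp
        (IsZariskiLocalAtTarget.restrict hO _)
      rw [Scheme.Hom.image_preimage_eq_opensRange_inf, Scheme.Opens.opensRange_ι]
      exact inf_eq_right.mpr hle
    refine ⟨V, n, s, hn, hs, mem_nonVanish_of_piece hL hLq hj hPL hr hP htop _ hn hs fun z' hz' => ?_,
      (isClosedImmersion_piece_iff hL hLq hj hPL hr hP hn hs).mp hc⟩
    obtain rfl : z' = z := (RelProj.domQ u pL chartL).ι.isOpenEmbedding.injective (pL.isOpenEmbedding.injective hz')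
    exact hzs
  · intro h
    choose V n s hn hs hx haff hgen using h
    obtain ⟨htop, hpre⟩ := domQ_eq_top_of_cover hL hLq hj hPL hr hP (fun a => ⟨hn a, hs a⟩) fun x => ⟨x, hx x⟩
    have := restrict_iSup_of_forall (Q := @IsClosedImmersion) r (fun a => piece p chart (V a).2 (s a)) fun a =>
      (isClosedImmersion_piece_iff hL hLq hj hPL hr hP (hn a) (hs a)).mpr ⟨haff a, hgen a⟩
    obtain ⟨c, hc, hfac⟩ := restrict_factor (r := r) hpre
    exact ⟨htop, by rw [hfac]; infer_instance⟩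

/-- `r` is everywhere defined and an open immersion when it is an isomorphism on pieces near every point. -/
theorem isOpenImmersion_of_forall
    (h : ∀ x : X, ∃ (V : Y.affineOpens) (n : ℕ) (s : 𝒮.presheaf.obj (op V.1)), 0 < n ∧ s ∈ 𝒮.deg V.1 V.2 n ∧
        x ∈ nonVanish u n s ∧ IsAffineOpen (nonVanish u n s) ∧
          CondGen u V.2 n s (nonVanish u n s) (nonVanish_le u n s) ∧
          CondKer u V.2 n s (nonVanish u n s) (nonVanish_le u n s)) :
    RelProj.domQ u pL chartL = ⊤ ∧ IsOpenImmersion r := by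
  choose V n s hn hs hx haff hgen hker using h
  obtain ⟨htop, hpre⟩ := domQ_eq_top_of_cover hL hLq hj hPL hr hP (fun a => ⟨hn a, hs a⟩) fun x => ⟨x, hx x⟩
  have : IsIso (r ∣_ (⨆ a, piece p chart (V a).2 (s a))) :=
    restrict_iSup_of_forall (Q := MorphismProperty.isomorphisms Scheme) r (fun a => piece p chart (V a).2 (s a)) fun a =>
      (isIso_piece_iff hL hLq hj hPL hr hP (hn a) (hs a)).mpr ⟨⟨haff a, hgen a⟩, hker a⟩
  obtain ⟨c, hc, hfac⟩ := restrict_factor (r := r) hpre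
  exact ⟨htop, by rw [hfac]; infer_instance⟩

end crit

end Groth.Agent.EGAProj74.RLRel
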