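import Groth.Agent.AlgSub72.Gen
import Groth.Agent.SubMod72.Extend
import Groth.Agent.SubMod72.Main
import Groth.Agent.EGAProj74.RLRel
import Groth.Prelude.Def_RelProj

/-! The degree `N` part of a graded algebra as a subsheaf, and finite type subsheaves inside it. -/

set_option autoImplicit false
set_option backward.isDefEq.respectTransparency.types false

universe u

open CategoryTheory CategoryTheory.Limits AlgebraicGeometry TopologicalSpace Opposite DirectSum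

noncomputable section

namespace Groth.Agent.EGAProj74.DegSub

open Groth.Agent.QC70 Groth.Agent.SubMod72 Groth.Agent.AlgSub72

variable {Y : Scheme.{u}} (𝒮 : RelProj.QCGrAlg Y) (N : ℕ)

attribute [local instance] RelProj.QCGrAlg.graded

/-- Components commute with restriction. -/
theorem res_decompose {U V : Y.Opens} (hU : IsAffineOpen U) (hV : IsAffineOpen V) (i : V ≤ U)
    (x : bSec 𝒮.toQCAlg U) (d : ℕ) :
    bRes 𝒮.toQCAlg i (decompose (𝒮.deg U hU) x d : bSec 𝒮.toQCAlg U) =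
      (decompose (𝒮.deg V hV) (bRes 𝒮.toQCAlg i x) d : bSec 𝒮.toQCAlg V) :=
  GradedRingHom.map_directSumDecompose (𝒮.deg U hU) (𝒮.deg V hV)
    { (bRes 𝒮.toQCAlg i).hom with map_mem := fun hx => 𝒮.map_mem hU hV i hx }

/-- Being of degree `N` is local. -/
theorem mem_deg_of_cover {U : Y.Opens} (hU : IsAffineOpen U) {x : bSec 𝒮.toQCAlg U}
    (h : ∀ p ∈ U, ∃ (V : Y.Opens) (hV : IsAffineOpen V) (i : V ≤ U), p ∈ V ∧ bRes 𝒮.toQCAlg i x ∈ 𝒮.deg V hV N) :
    x ∈ 𝒮.deg U hU N := by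
  choose V hV i hpV hmem using fun p : U => h p.1 p.2
  have e : x = (decompose (𝒮.deg U hU) x N : bSec 𝒮.toQCAlg U) :=
    TopCat.Sheaf.eq_of_locally_eq' ⟨𝒮.presheaf, 𝒮.isSheaf⟩ V U (fun p => homOfLE (i p))
      (fun q hq => Opens.mem_iSup.mpr ⟨⟨q, hq⟩, hpV ⟨q, hq⟩⟩) _ _ fun p => by
        show bRes 𝒮.toQCAlg (i p) x = bRes 𝒮.toQCAlg (i p) _
        rw [res_decompose 𝒮 hU (hV p), decompose_of_mem_same _ (hmem p)]
  rw [e]
  exact SetLike.coe_mem _

theorem str_mul_mem {U : Y.Opens} (hU : IsAffineOpen U) (a : Γ(Y, U)) {x : bSec 𝒮.toQCAlg U}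
    (hx : x ∈ 𝒮.deg U hU N) : bStr 𝒮.toQCAlg U a * x ∈ 𝒮.deg U hU N := by
  have h := SetLike.mul_mem_graded (A := 𝒮.deg U hU) (𝒮.str_mem U hU a) hx
  rwa [zero_add] at h

/-- The degree `N` subsheaf. -/
def degSub : Sub 𝒮.toQCAlg.toModule where
  carrier W :=
    { carrier := {x | ∀ (V : Y.Opens) (hV : IsAffineOpen V) (h : V ≤ W),
        bRes 𝒮.toQCAlg h (toB 𝒮.toQCAlg x) ∈ 𝒮.deg V hV N}
      add_mem' := fun {a b} ha hb V hV h => by
        show bRes 𝒮.toQCAlg h (toB 𝒮.toQCAlg a + toB 𝒮.toQCAlg b) ∈ _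
        rw [map_add]; exact add_mem (ha V hV h) (hb V hV h)
      zero_mem' := fun V hV h => by
        show bRes 𝒮.toQCAlg h (0 : bSec 𝒮.toQCAlg W) ∈ _
        rw [map_zero]; exact zero_mem _
      smul_mem' := fun a x hx V hV h => by
        rw [toB_smul, map_mul, bRes_str]
        exact str_mul_mem 𝒮 N hV _ (hx V hV h) }
  res_mem {V' W} h' x hx V hV h := by
    rw [toB_res, bRes_bRes]
    exact hx V hV _
  local_mem {W} x hx V hV h := by
    refine mem_deg_of_cover 𝒮 N hV fun p hp => ?_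
    obtain ⟨V', h', hpV', e⟩ := hx p (h hp)
    obtain ⟨_, ⟨D, hD, rfl⟩, hpD, hDle⟩ :=
      Y.isBasis_affineOpens.exists_subset_of_mem_open (show p ∈ V ⊓ V' from ⟨hp, hpV'⟩) (V ⊓ V').2
    have hDle' : D ≤ V ⊓ V' := hDle
    refine ⟨D, hD, hDle'.trans inf_le_left, hpD, ?_⟩
    have e' := e D hD (hDle'.trans inf_le_right)
    rw [toB_res, bRes_bRes] at e'
    rw [bRes_bRes]
    exact e'

theorem mem_degSub_iff {U : Y.Opens} (hU : IsAffineOpen U) (x : Γ(𝒮.toQCAlg.toModule, U)) :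
    x ∈ (degSub 𝒮 N).carrier U ↔ toB 𝒮.toQCAlg x ∈ 𝒮.deg U hU N := by
  refine ⟨fun h => ?_, fun h V hV i => 𝒮.map_mem hU hV i h⟩
  have h1 := h U hU le_rfl
  rwa [bRes_self] at h1

instance isQuasicoherent_degSub : (toMod (degSub 𝒮 N)).IsQuasicoherent := by
  refine isQuasicoherent_of_forall_isLocAt _ fun U hU => ⟨fun g s => ?_, fun g t ht => ?_⟩
  · obtain ⟨k, c, hc⟩ := (isLocAt_of_isQuasicoherent 𝒮.toQCAlg.toModule hU).exists_of g
      ((toModι (degSub 𝒮 N)).app _ s)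
    have hD := hU.basicOpen g
    let cN : Γ(𝒮.toQCAlg.toModule, U) :=
      ofB 𝒮.toQCAlg (decompose (𝒮.deg U hU) (toB 𝒮.toQCAlg c) N : bSec 𝒮.toQCAlg U)
    obtain ⟨c', hc'⟩ := (mem_iff_exists (degSub 𝒮 N) cN).1 ((mem_degSub_iff 𝒮 N hU cN).2 (SetLike.coe_mem _))
    refine ⟨k, c', app_injective_of_mono (toModι (degSub 𝒮 N)) _ ?_⟩
    rw [coe_res, hc', Scheme.Modules.Hom.app_smul, ← hc]
    show bRes 𝒮.toQCAlg (Y.basicOpen_le g) _ = toB 𝒮.toQCAlg _
    rw [res_decompose 𝒮 hU hD]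
    refine decompose_of_mem_same _ ?_
    rw [← toB_res, hc, toB_smul]
    exact str_mul_mem 𝒮 N hD _ ((mem_degSub_iff 𝒮 N hD _).1 ((mem_iff_exists _ _).2 ⟨s, rfl⟩))
  · obtain ⟨k, hk⟩ := (isLocAt_of_isQuasicoherent 𝒮.toQCAlg.toModule hU).eq_zero_of g
      ((toModι (degSub 𝒮 N)).app U t) (by rw [← coe_res, ht, map_zero])
    exact ⟨k, app_injective_of_mono (toModι (degSub 𝒮 N)) _ (by rw [Scheme.Modules.Hom.app_smul, hk, map_zero])⟩

section push

variable {F : Y.Modules} (D : Sub F) (P : Sub (toMod D))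

/-- A subsheaf of a subsheaf. -/
def pushSub : Sub F where
  carrier W := (P.carrier W).map (appLinear (toModι D) W)
  res_mem {V W} h x hx := by
    obtain ⟨y, hy, rfl⟩ := hx
    exact ⟨res (toMod D) h y, P.res_mem h hy, coe_res D h y⟩
  local_mem {W} x hx := by
    have hxD : x ∈ D.carrier W := D.local_mem x fun p hp => by
      obtain ⟨V, h, hpV, y, hy, e⟩ := hx p hp
      exact ⟨V, h, hpV, (mem_iff_exists D _).2 ⟨y, e⟩⟩
    obtain ⟨y, rfl⟩ := (mem_iff_exists D x).1 hxD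
    refine ⟨y, P.local_mem y fun p hp => ?_, rfl⟩
    obtain ⟨V, h, hpV, y', hy', e⟩ := hx p hp
    refine ⟨V, h, hpV, ?_⟩
    have e' : (toModι D).app V y' = (toModι D).app V (res (toMod D) h y) := e.trans (coe_res D h y).symm
    rwa [← app_injective_of_mono (toModι D) V e']

theorem pushSub_le (W : Y.Opens) : (pushSub D P).carrier W ≤ D.carrier W := by
  rintro _ ⟨y, -, rfl⟩
  exact (mem_iff_exists D _).2 ⟨y, rfl⟩

theorem fg_pushSub {U : Y.Opens} (hP : FG U P) : FG U (pushSub D P) := by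
  intro p hp
  obtain ⟨V, S, hV, hpV, hS, e⟩ := hP p hp
  refine ⟨V, appLinear (toModι D) V '' S, hV, hpV, hS.image _, fun W hW => le_antisymm ?_ ?_⟩
  · rintro _ ⟨y, hy, rfl⟩
    rw [e W hW] at hy
    intro q hq hqV
    obtain ⟨W', h, hV', hq', hy'⟩ := hy q hq hqV
    refine ⟨W', h, hV', hq', ?_⟩
    have h1 := Submodule.mem_map_of_mem (f := appLinear (toModι D) W') hy'
    rw [Submodule.map_span, Set.image_image] at h1
    show res F h ((toModι D).app W y) ∈ _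
    rw [← coe_res D h y, Set.image_image]
    rw [show (fun x => res F hV' (appLinear (toModι D) V x)) = fun x => appLinear (toModι D) W' (res (toMod D) hV' x)
      from funext fun z => (coe_res D hV' z).symm]
    exact h1
  · refine span_le_of_forall_mem hW ?_
    rintro _ ⟨s, hs, rfl⟩
    exact ⟨res (toMod D) hW s, e W hW ▸ self_mem_locSpan hW hs, coe_res D hW s⟩

end push

/-- Finitely many sections of degree `N` lie in a subsheaf of finite type inside the degree `N` part. -/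
theorem exists_fg_through [CompactSpace Y] (hY : QuasiSeparatedSpace Y ∨ NoetherianSpace Y)
    {ι : Type*} (t : Finset ι) (U : ι → Y.affineOpens) (T : ∀ i, Set (bSec 𝒮.toQCAlg (U i).1))
    (hT : ∀ i, (T i).Finite) (hdeg : ∀ i, T i ⊆ (𝒮.deg (U i).1 (U i).2 N : Set _)) :
    ∃ P : Sub 𝒮.toQCAlg.toModule, FG ⊤ P ∧
      (∀ (V : Y.Opens) (hV : IsAffineOpen V), ∀ x ∈ P.carrier V, toB 𝒮.toQCAlg x ∈ 𝒮.deg V hV N) ∧
      ∀ i ∈ t, ∀ x ∈ T i, ofB 𝒮.toQCAlg x ∈ P.carrier (U i).1 := by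
  let D := degSub 𝒮 N
  let T' : ∀ i, Set Γ(toMod D, (U i).1) := fun i => appLinear (toModι D) (U i).1 ⁻¹' (ofB 𝒮.toQCAlg '' T i)
  have hT' : ∀ i, (T' i).Finite := fun i => ((hT i).image _).preimage (app_injective_of_mono (toModι D) _).injOn
  have hext : ∀ i, ∃ P : Sub (toMod D), FG ⊤ P ∧ ∀ s ∈ T' i, s ∈ P.carrier (U i).1 := by
    intro i
    obtain ⟨Q, hQ, hQe⟩ : ∃ Q : Sub (toMod D), FG ⊤ Q ∧ AgreeOn (U i).1 Q (locSpan (T' i)) := by
      rcases hY with h | h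
      · exact exists_extension_qcqs (U i).2.isCompact (fg_locSpan (hT' i))
      · exact exists_extension_noetherian (fun x => ⟨⊤, trivial, inferInstance⟩) (fg_locSpan (hT' i))
    refine ⟨Q, hQ, fun s hs => ?_⟩
    rw [hQe (U i).1 le_rfl]
    exact mem_locSpan le_rfl (Submodule.subset_span ⟨s, hs, res_self s⟩)
  obtain ⟨P, hP, hP'⟩ := exists_fg_mem_all t (fun i => (U i).1) T' fun i _ => hext i
  refine ⟨pushSub D P, fg_pushSub D P hP, fun V hV x hx => (mem_degSub_iff 𝒮 N hV x).1 (pushSub_le D P V hx),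
    fun i hi x hx => ?_⟩
  obtain ⟨y, hy⟩ := (mem_iff_exists D (ofB 𝒮.toQCAlg x)).1 ((mem_degSub_iff 𝒮 N (U i).2 _).2 (hdeg i hx))
  exact ⟨y, hP' i hi y ⟨x, hx, hy.symm⟩, hy⟩

end Groth.Agent.EGAProj74.DegSub
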