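import Mathlib.AlgebraicGeometry.Morphisms.UniversallyClosed
import Mathlib.AlgebraicGeometry.OpenImmersion

/-!
Descent of morphisms along a surjective closed morphism with trivial direct image of the structure sheaf.
-/

set_option autoImplicit false
set_option backward.isDefEq.respectTransparency false

universe u

open CategoryTheory CategoryTheory.Limits AlgebraicGeometry TopologicalSpace Opposite

noncomputable section

namespace Groth.Agent.EGAProj74.Descend

variable {V C' C : Scheme.{u}} (q' : V ⟶ C')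

theorem hom_ext (hs : Function.Surjective q'.base) (hinj : ∀ U : C'.Opens, Function.Injective (q'.app U))
    {u₁ u₂ : C' ⟶ C} (h : q' ≫ u₁ = q' ≫ u₂) : u₁ = u₂ := by
  have hb : ∀ z, u₁ z = u₂ z := fun z => by
    obtain ⟨v, rfl⟩ := hs z
    rw [← Scheme.Hom.comp_apply, ← Scheme.Hom.comp_apply, h]
  refine Scheme.Hom.ext (TopCat.hom_ext (ContinuousMap.ext hb)) fun W => CommRingCat.hom_ext (RingHom.ext fun s => ?_)
  refine hinj _ ?_
  have heq : u₂ ⁻¹ᵁ W ≤ u₁ ⁻¹ᵁ W := fun z hz => by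
    show u₁ z ∈ W
    rw [hb z]; exact hz
  have key : u₁.appLE W (u₂ ⁻¹ᵁ W) heq ≫ q'.app (u₂ ⁻¹ᵁ W) = u₂.app W ≫ q'.app (u₂ ⁻¹ᵁ W) := by
    rw [Scheme.Hom.app_eq_appLE, Scheme.Hom.app_eq_appLE, Scheme.Hom.appLE_comp_appLE,
      Scheme.Hom.appLE_comp_appLE]
    simp only [h]
  exact congr(CommRingCat.Hom.hom $key s)

theorem existsUnique (hc : ∀ U : C'.Opens, IsIso (q'.app U)) (hs : Function.Surjective q'.base)
    (hcl : IsClosedMap q'.base) (q : V ⟶ C) (hfib : ∀ a b, q' a = q' b → q a = q b) :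
    ∃! u : C' ⟶ C, q' ≫ u = q := by
  have hu0 : ∀ v, q (Function.surjInv hs (q' v)) = q v := fun v => hfib _ _ (Function.surjInv_eq hs _)
  have hcont : Continuous fun z => q (Function.surjInv hs z) := by
    refine (hcl.isQuotientMap q'.continuous hs).continuous_iff.2 ?_
    convert q.continuous using 1
    exact funext hu0
  let u0 : C'.toTopCat ⟶ C.toTopCat := TopCat.ofHom ⟨_, hcont⟩
  have hpre : ∀ W : C.Opens, q' ⁻¹ᵁ ((Opens.map u0).obj W) = q ⁻¹ᵁ W := fun W => Opens.ext (Set.ext fun v => by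
    show q (Function.surjInv hs (q' v)) ∈ W ↔ q v ∈ W
    rw [hu0])
  let φ : ∀ W : C.Opens, Γ(C, W) ⟶ Γ(C', (Opens.map u0).obj W) := fun W =>
    haveI := hc ((Opens.map u0).obj W)
    q.appLE W (q' ⁻¹ᵁ ((Opens.map u0).obj W)) (hpre W).le ≫ inv (q'.app ((Opens.map u0).obj W))
  have hφ : ∀ W, φ W ≫ q'.app ((Opens.map u0).obj W) = q.appLE W _ (hpre W).le := fun W => by simp [φ]
  let c : C.presheaf ⟶ u0 _* C'.presheaf :=
    { app := fun W => φ W.unop
      naturality := fun W W' i => by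
        haveI := hc ((Opens.map u0).obj W'.unop)
        rw [← cancel_mono (q'.app ((Opens.map u0).obj W'.unop)), Category.assoc, hφ, Scheme.Hom.map_appLE]
        show _ = (φ W.unop ≫ C'.presheaf.map ((Opens.map u0).op.map i)) ≫ _
        rw [Category.assoc, Scheme.Hom.naturality, ← Category.assoc, hφ, Scheme.Hom.appLE_map] }
  let u : C' ⟶ C := ⟨⟨⟨u0, c⟩, fun z => ⟨fun t ht => by
    obtain ⟨W, hzW, s, rfl⟩ := TopCat.Presheaf.exists_germ_eq C.presheaf t
    obtain ⟨v, rfl⟩ := hs z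
    rw [PresheafedSpace.stalkMap_germ_apply] at ht
    have hv : q' v ∈ C'.basicOpen (φ W s) := (C'.mem_basicOpen (φ W s) (q' v) hzW).2 ht
    have h1 : v ∈ V.basicOpen (q'.app ((Opens.map u0).obj W) (φ W s)) := by
      rw [← Scheme.preimage_basicOpen]; exact hv
    rw [← CommRingCat.comp_apply, hφ, Scheme.basicOpen_appLE] at h1
    refine (C.mem_basicOpen s _ hzW).1 ?_
    show q (Function.surjInv hs (q' v)) ∈ C.basicOpen s
    rw [hu0]
    exact h1.2⟩⟩⟩
  have hu : q' ≫ u = q := by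
    refine Scheme.Hom.ext (TopCat.hom_ext (ContinuousMap.ext hu0)) fun W => ?_
    show (φ W ≫ q'.app ((Opens.map u0).obj W)) ≫ _ = _
    rw [hφ, Scheme.Hom.appLE_map, ← Scheme.Hom.app_eq_appLE]
  refine ⟨u, hu, fun u' hu' => hom_ext q' hs (fun U => ?_) (hu'.trans hu.symm)⟩
  haveI := hc U
  exact (ConcreteCategory.bijective_of_isIso (q'.app U)).1

end Groth.Agent.EGAProj74.Descend
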