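import Mathlib.RingTheory.GradedAlgebra.Homogeneous.Ideal
import Mathlib.RingTheory.GradedAlgebra.RingHom

/-! Subrings generated by one graded piece over degree zero. -/

set_option autoImplicit false

universe u

open DirectSum

noncomputable section

namespace Groth.Agent.EGAProj74.GradedGen

variable {A : Type u} [CommRing A] (𝒜 : ℕ → AddSubgroup A) [GradedRing 𝒜]

/-- The components of an element of the subring generated by `φ(R)` and a module `P` in degree `N`. -/
theorem decompose_mem {N : ℕ} (hN : 0 < N) {R : Type u} [CommRing R] (φ : R →+* A) (hφ : ∀ r, φ r ∈ 𝒜 0)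
    (P : AddSubgroup A) (hP : ∀ x ∈ P, x ∈ 𝒜 N) (hsmul : ∀ r, ∀ x ∈ P, φ r * x ∈ P)
    {x : A} (hx : x ∈ Subring.closure (Set.range φ ∪ (P : Set A))) (d : ℕ) :
    (decompose 𝒜 x d : A) ∈ Subring.closure (Set.range φ ∪ (P : Set A)) ∧
      (d = 0 → (decompose 𝒜 x d : A) ∈ φ.range) ∧ (d = N → (decompose 𝒜 x d : A) ∈ P) := by
  classical
  let C := Subring.closure (Set.range φ ∪ (P : Set A))
  let H : Submonoid A :=
    { carrier := {a | a ∈ C ∧ ∃ k, a ∈ 𝒜 (k * N) ∧ (k = 0 → a ∈ φ.range) ∧ (k = 1 → a ∈ P)}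
      one_mem' := ⟨one_mem C, 0, by simpa using SetLike.one_mem_graded 𝒜, fun _ => one_mem _, by simp⟩
      mul_mem' := by
        rintro a b ⟨haC, k, ha, ha0, ha1⟩ ⟨hbC, l, hb, hb0, hb1⟩
        refine ⟨mul_mem haC hbC, k + l, by rw [add_mul]; exact SetLike.mul_mem_graded ha hb,
          fun h => mul_mem (ha0 (by omega)) (hb0 (by omega)), fun h => ?_⟩
        rcases Nat.eq_zero_or_pos k with hk | hk
        · obtain ⟨r, hr⟩ := ha0 hk
          exact hr ▸ hsmul r b (hb1 (by omega))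
        · obtain ⟨r, hr⟩ := hb0 (by omega)
          exact hr ▸ mul_comm a (φ r) ▸ hsmul r a (ha1 (by omega)) }
  have hle : Submonoid.closure (Set.range φ ∪ (P : Set A)) ≤ H := by
    refine Submonoid.closure_le.2 ?_
    rintro a (⟨r, rfl⟩ | ha)
    · exact ⟨Subring.subset_closure (Or.inl ⟨r, rfl⟩), 0, by simpa using hφ r, fun _ => ⟨r, rfl⟩, by simp⟩
    · exact ⟨Subring.subset_closure (Or.inr ha), 1, by simpa using hP a ha, by simp, fun _ => ha⟩
  rw [Subring.mem_closure_iff] at hx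
  induction hx using AddSubgroup.closure_induction with
  | mem a ha =>
    obtain ⟨haC, k, hak, ha0, ha1⟩ := hle ha
    by_cases hd : k * N = d
    · subst hd
      rw [decompose_of_mem_same 𝒜 hak]
      exact ⟨haC, fun h => ha0 (by simpa [hN.ne'] using h), fun h => ha1 (Nat.eq_of_mul_eq_mul_right hN (by omega))⟩
    · rw [decompose_of_mem_ne 𝒜 hak hd]
      exact ⟨zero_mem _, fun _ => zero_mem _, fun _ => zero_mem _⟩
  | zero => simp [decompose_zero]
  | add a b _ _ iha ihb =>
    rw [decompose_add, DirectSum.add_apply, AddSubgroup.coe_add]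
    exact ⟨add_mem iha.1 ihb.1, fun h => add_mem (iha.2.1 h) (ihb.2.1 h), fun h => add_mem (iha.2.2 h) (ihb.2.2 h)⟩
  | neg a _ iha =>
    have e : (decompose 𝒜 (-a) d : A) = -(decompose 𝒜 a d : A) := by rw [decompose_neg]; rfl
    rw [e]
    exact ⟨neg_mem iha.1, fun h => neg_mem (iha.2.1 h), fun h => neg_mem (iha.2.2 h)⟩

/-- The grading of a homogeneous subring. -/
def subDeg (C : Subring A) (d : ℕ) : AddSubgroup C := (𝒜 d).comap C.subtype.toAddMonoidHom

omit [GradedRing 𝒜] in
theorem mem_subDeg {C : Subring A} {d : ℕ} {x : C} : x ∈ subDeg 𝒜 C d ↔ (x : A) ∈ 𝒜 d := Iff.rfl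

theorem isInternal_subDeg (C : Subring A) (hC : ∀ x ∈ C, ∀ d, (decompose 𝒜 x d : A) ∈ C) :
    DirectSum.IsInternal (subDeg 𝒜 C) := by
  classical
  constructor
  · have key : ∀ (z : ⨁ d, subDeg 𝒜 C d) (d : ℕ),
        (decompose 𝒜 ((DirectSum.coeAddMonoidHom (subDeg 𝒜 C) z : C) : A) d : A) = ((z d : C) : A) := by
      intro z d
      induction z using DirectSum.induction_on with
      | zero => simp
      | of e y =>
        rw [DirectSum.coeAddMonoidHom_of]
        by_cases hed : e = d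
        · subst hed
          rw [decompose_of_mem_same 𝒜 (show ((y : C) : A) ∈ 𝒜 e from y.2), DirectSum.of_eq_same]
        · rw [decompose_of_mem_ne 𝒜 (show ((y : C) : A) ∈ 𝒜 e from y.2) hed, DirectSum.of_eq_of_ne _ _ _ (Ne.symm hed)]
          simp
      | add a b ha hb => simp [map_add, decompose_add, ha, hb]
    exact fun z z' hz => DFinsupp.ext fun d => Subtype.ext (Subtype.ext (by rw [← key, hz, key]))
  · intro x
    refine ⟨∑ d ∈ (decompose 𝒜 (x : A)).support, DirectSum.of (fun d => subDeg 𝒜 C d) d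
      ⟨⟨(decompose 𝒜 (x : A) d : A), hC x x.2 d⟩, mem_subDeg 𝒜 |>.2 (SetLike.coe_mem _)⟩, Subtype.ext ?_⟩
    simp only [map_sum, DirectSum.coeAddMonoidHom_of, AddSubmonoidClass.coe_finsetSum]
    exact DirectSum.sum_support_decompose 𝒜 (x : A)

/-- A homogeneous subring is graded. -/
@[instance_reducible]
def gradedRing (C : Subring A) (hC : ∀ x ∈ C, ∀ d, (decompose 𝒜 x d : A) ∈ C) : GradedRing (subDeg 𝒜 C) where
  toGradedMonoid :=
    { one_mem := (mem_subDeg 𝒜).2 (SetLike.one_mem_graded 𝒜)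
      mul_mem := fun {_ _ _ _} hx hy => (mem_subDeg 𝒜).2 (SetLike.mul_mem_graded hx hy) }
  toDecomposition := (isInternal_subDeg 𝒜 C hC).chooseDecomposition

end Groth.Agent.EGAProj74.GradedGen
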