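import Groth.Prelude.Def_Curv2
import Groth.Agent.Amp73.GlobGen
import Groth.Agent.QC70.ExtCoh
import Groth.Agent.QC70.Sections
import Groth.Agent.Mero90.Frames

set_option autoImplicit false
universe u
open CategoryTheory CategoryTheory.Limits AlgebraicGeometry TopologicalSpace Opposite

noncomputable section

namespace Groth.Agent.EGAProj74.KoszulGen

open Var76.LineBundle Var76.ZeroScheme

variable {X : Scheme.{u}} {L : X.Modules} {n : ℕ} (s : Fin (n + 1) → (Coh.structureModule X ⟶ L))

abbrev dsc : FlatMod.freeMod X (n + 1) ⟶ L := Sigma.desc s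

abbrev Ker : X.Modules := kernel (Sigma.desc s : FlatMod.freeMod X (n + 1) ⟶ L)

/-- The basis of the free module. -/
def E (U : X.Opens) (i : Fin (n + 1)) : Γ(FlatMod.freeMod X (n + 1), U) :=
  (Sigma.ι (fun _ : Fin (n + 1) => Coh.structureModule X) i).app U (1 : Γ(X, U))

theorem dsc_E (U : X.Opens) (i : Fin (n + 1)) : (dsc s).app U (E U i) = val L (s i) U :=
  ConcreteCategory.congr_hom (congrArg (fun φ => Scheme.Modules.Hom.app φ U) (Sigma.ι_desc s i)) _

theorem res_E {U V : X.Opens} (h : V ≤ U) (i : Fin (n + 1)) :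
    res (FlatMod.freeMod X (n + 1)) h (E U i) = E V i := by
  exact (Mero90.app_res (Sigma.ι (fun _ : Fin (n + 1) => Coh.structureModule X) i) h
    ((1 : Γ(X, U)) : Γ(Coh.structureModule X, U))).symm.trans
      (congrArg ((Sigma.ι (fun _ : Fin (n + 1) => Coh.structureModule X) i).app V) (map_one (X.presheaf.map (homOfLE h).op).hom))

/-- The projections of the free module. -/
def proj (i : Fin (n + 1)) : FlatMod.freeMod X (n + 1) ⟶ Coh.structureModule X :=
  Sigma.desc fun l => if l = i then 𝟙 _ else 0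

theorem exists_expand (U : X.Opens) (x : Γ(FlatMod.freeMod X (n + 1), U)) :
    ∃ c : Fin (n + 1) → Γ(X, U), x = ∑ i, c i • E U i := by
  classical
  refine ⟨fun i => (proj i).app U x, ?_⟩
  have h1 : ∑ i, proj (X := X) (n := n) i ≫ Sigma.ι (fun _ : Fin (n + 1) => Coh.structureModule X) i = 𝟙 _ := by
    refine Sigma.hom_ext _ _ fun l => ?_
    rw [Preadditive.comp_sum]
    simp only [proj, Sigma.ι_desc_assoc]
    rw [Finset.sum_eq_single l (fun b _ hb => by rw [if_neg (Ne.symm hb), zero_comp])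
      (fun h => absurd (Finset.mem_univ _) h), if_pos rfl, Category.id_comp]
    exact (Category.comp_id _).symm
  let A : (FlatMod.freeMod X (n + 1) ⟶ FlatMod.freeMod X (n + 1)) →+ Γ(FlatMod.freeMod X (n + 1), U) :=
    AddMonoidHom.mk' (fun φ => φ.app U x) fun φ ψ => rfl
  have h2 := congrArg A h1
  rw [map_sum] at h2
  refine (show x = A (𝟙 _) from rfl).trans (h2.symm.trans (Finset.sum_congr rfl fun i _ => ?_))
  change (Sigma.ι (fun _ : Fin (n + 1) => Coh.structureModule X) i).app U ((proj i).app U x) = _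
  rw [E, ← Scheme.Modules.Hom.app_smul]
  exact congrArg _ (mul_one (show Γ(X, U) from (proj i).app U x)).symm

theorem ker_inj (U : X.Opens) : Function.Injective ((kernel.ι (dsc s)).app U) := by
  have : Mono ((Scheme.Modules.toPresheaf X).map (kernel.ι (dsc s))) := inferInstance
  have : Mono (((Scheme.Modules.toPresheaf X).map (kernel.ι (dsc s))).app (op U)) := inferInstance
  exact (AddCommGrpCat.mono_iff_injective _).mp this

theorem exists_kos {U : X.Opens} {e : Γ(L, U)} {a : Fin (n + 1) → Γ(X, U)}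
    (ha : ∀ i, val L (s i) U = a i • e) (i l : Fin (n + 1)) :
    ∃ y : Γ(Ker s, U), (kernel.ι (dsc s)).app U y = a l • E U i - a i • E U l := by
  refine QC70.exists_kernel_app_eq (dsc s) U _ ?_
  refine (map_sub ((dsc s).app U).hom _ _).trans ?_
  rw [show ((dsc s).app U).hom (a l • E U i) = a l • val L (s i) U from
      (Scheme.Modules.Hom.app_smul (dsc s) _ _).trans (congrArg (a l • ·) (dsc_E s U i)),
    show ((dsc s).app U).hom (a i • E U l) = a i • val L (s l) U from
      (Scheme.Modules.Hom.app_smul (dsc s) _ _).trans (congrArg (a i • ·) (dsc_E s U l)),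
    ha, ha, smul_smul, smul_smul, mul_comm, sub_self]

/-- The local Koszul section attached to a frame. -/
def IsKos (i l : Fin (n + 1)) (U : X.Opens) (m : Γ(CohB1.tensorMod (Ker s) L, U)) : Prop :=
  ∃ (e : Γ(L, U)) (a : Fin (n + 1) → Γ(X, U)) (y : Γ(Ker s, U)), IsFrame L U e ∧
    (∀ j, val L (s j) U = a j • e) ∧
      (kernel.ι (dsc s)).app U y = a l • E U i - a i • E U l ∧ m = Amp73.tm (Ker s) L y e

theorem isKos_res {i l : Fin (n + 1)} {U V : X.Opens} (h : V ≤ U) {m : Γ(CohB1.tensorMod (Ker s) L, U)}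
    (hm : IsKos s i l U m) : IsKos s i l V (res _ h m) := by
  obtain ⟨e, a, y, he, ha, hy, rfl⟩ := hm
  refine ⟨res L h e, fun j => fres h (a j), res (Ker s) h y, he.res h, fun j => ?_, ?_, Amp73.res_tm h y e⟩
  · rw [← res_val L (s j) h, ha, res_smul]
  · refine (Mero90.app_res (kernel.ι (dsc s)) h y).trans ?_
    rw [hy]
    refine (map_sub ((FlatMod.freeMod X (n + 1)).presheaf.map (homOfLE h).op).hom _ _).trans ?_
    show res _ h (a l • E U i) - res _ h (a i • E U l) = _
    rw [res_smul, res_smul, res_E, res_E]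

theorem isKos_unique {i l : Fin (n + 1)} {U : X.Opens} {m m' : Γ(CohB1.tensorMod (Ker s) L, U)}
    (hm : IsKos s i l U m) (hm' : IsKos s i l U m') : m = m' := by
  obtain ⟨e, a, y, he, ha, hy, rfl⟩ := hm
  obtain ⟨e', a', y', he', ha', hy', rfl⟩ := hm'
  obtain ⟨c, hc⟩ := (he U le_rfl).2 e'
  dsimp only at hc
  rw [Amp73.res_self] at hc
  have hac : ∀ j, a j = a' j * c := fun j => (he U le_rfl).1 (by
    dsimp only
    rw [Amp73.res_self, ← ha, ha', ← hc, smul_smul])
  have hyy : y = c • y' := ker_inj s U (by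
    rw [hy, Scheme.Modules.Hom.app_smul, hy', smul_sub, smul_smul, smul_smul, hac, hac, mul_comm c, mul_comm c])
  rw [hyy, ← hc, Amp73.tm_smul_left, Amp73.tm_smul_right]

theorem exists_global (hL : PicF.IsInvertible L) (i l : Fin (n + 1)) :
    ∃ t : Γ(CohB1.tensorMod (Ker s) L, ⊤), ∀ (U : X.Opens) (m : Γ(CohB1.tensorMod (Ker s) L, U)),
      IsKos s i l U m → res _ le_top t = m := by
  have hex : ∀ (U : X.Opens) (e : Γ(L, U)), IsFrame L U e → ∃ m, IsKos s i l U m := by
    intro U e he
    choose a ha using fun j => (he U le_rfl).2 (val L (s j) U)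
    have ha' : ∀ j, val L (s j) U = a j • e := fun j => by
      have := ha j
      dsimp only at this
      rwa [Amp73.res_self, eq_comm] at this
    obtain ⟨y, hy⟩ := exists_kos s ha' i l
    exact ⟨_, e, a, y, he, ha', hy, rfl⟩
  choose W hxW _ e he using fun x => Mero90.exists_affine_frame hL x ⊤ trivial
  choose m hm using fun x => hex _ (e x) (he x)
  obtain ⟨t, ht, -⟩ := TopCat.Sheaf.existsUnique_gluing'
    (⟨(CohB1.tensorMod (Ker s) L).presheaf, (CohB1.tensorMod (Ker s) L).isSheaf⟩ : TopCat.Sheaf Ab X)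
    (fun x => (W x).1) ⊤ (fun x => homOfLE le_top) (fun x _ => Opens.mem_iSup.2 ⟨x, hxW x⟩) m (fun x y =>
      isKos_unique s (isKos_res s inf_le_left (hm x)) (isKos_res s inf_le_right (hm y)))
  refine ⟨t, fun U m' hm' => eq_of_locally _ _ _ fun x hx => ⟨U ⊓ (W x).1, inf_le_left, ⟨hx, hxW x⟩, ?_⟩⟩
  rw [res_res, ← isKos_unique s (isKos_res s inf_le_right (hm x)) (isKos_res s inf_le_left hm'),
    ← res_res (CohB1.tensorMod (Ker s) L) (le_top : (W x).1 ≤ ⊤) inf_le_right t]
  exact congrArg (res _ inf_le_right) (ht x)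

theorem isGloballyGenerated (hL : PicF.IsInvertible L) (hs : Epi (dsc s)) :
    Curv2.IsGloballyGenerated (CohB1.tensorMod (Ker s) L) := by
  classical
  have := Props58.LocFree.isQuasicoherent_of_isFinLocFree (QC70.isFinLocFree_freeMod X (n + 1))
  have hLq : L.IsQuasicoherent := Mero90.isQCoh_of_isInvertible hL
  have hK : (Ker s).IsQuasicoherent := QC70.isQuasicoherent_kernel (dsc s)
  refine Amp73.isGloballyGenerated_of_spanAt (QCTens72.isQuasicoherent_tensorMod (Ker s) L) fun x => ?_
  choose t ht using fun i l => exists_global s hL i l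
  obtain ⟨W, hxW, -, e₀, he₀⟩ := Mero90.exists_affine_frame hL x ⊤ trivial
  obtain ⟨V, hV, v, hxV, hv⟩ := QC70.exists_local_lift (dsc s) e₀ hxW
  obtain ⟨U, hU, hxU, hUV⟩ := exists_isAffineOpen_mem_and_subset hxV
  replace hUV : U ≤ V := hUV
  let e := res L (hUV.trans hV) e₀
  have he : IsFrame L U e := he₀.res _
  have hlift : (dsc s).app U (res _ hUV v) = e := by
    exact (Mero90.app_res (dsc s) hUV v).trans ((congrArg (res L hUV) hv).trans (res_res L hV hUV e₀))
  choose a ha using fun j => (he U le_rfl).2 (val L (s j) U)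
  have ha' : ∀ j, val L (s j) U = a j • e := fun j => by
    have := ha j
    dsimp only at this
    rwa [Amp73.res_self, eq_comm] at this
  choose k hk using fun i l => exists_kos s ha' i l
  have happ : ∀ c : Fin (n + 1) → Γ(X, U), (dsc s).app U (∑ i, c i • E U i) = (∑ i, c i * a i) • e := by
    intro c
    rw [Finset.sum_smul]
    refine (map_sum ((dsc s).app U).hom _ _).trans (Finset.sum_congr rfl fun i _ => ?_)
    rw [mul_smul, ← ha', ← dsc_E s U i]
    exact Scheme.Modules.Hom.app_smul (dsc s) _ _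
  obtain ⟨b, hb⟩ := exists_expand U (res _ hUV v)
  have hb1 : ∑ l, b l * a l = 1 := (he U le_rfl).1 (by
    dsimp only
    rw [Amp73.res_self, one_smul, ← happ, ← hb, hlift])
  have hspan : Submodule.span Γ(X, U) (Set.range fun p : Fin (n + 1) × Fin (n + 1) => k p.1 p.2) = ⊤ := by
    refine top_le_iff.mp fun y _ => ?_
    obtain ⟨c, hc⟩ := exists_expand U ((kernel.ι (dsc s)).app U y)
    have hc0 : ∑ i, c i * a i = 0 := (he U le_rfl).1 (by
      dsimp only
      rw [Amp73.res_self, zero_smul, ← happ, ← hc]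
      exact ConcreteCategory.congr_hom (congrArg (fun φ => Scheme.Modules.Hom.app φ U) (kernel.condition (dsc s))) y)
    have e1 : y = ∑ p : Fin (n + 1) × Fin (n + 1), (b p.2 * c p.1) • k p.1 p.2 := by
      refine ker_inj s U ?_
      refine Eq.trans ?_ (map_sum ((kernel.ι (dsc s)).app U).hom _ _).symm
      rw [hc, Fintype.sum_prod_type]
      have h3 : ∀ i l, ((kernel.ι (dsc s)).app U).hom ((b l * c i) • k i l) =
          (c i * (b l * a l)) • E U i - (b l * (c i * a i)) • E U l := fun i l => by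
        refine (Scheme.Modules.Hom.app_smul (kernel.ι (dsc s)) _ _).trans ?_
        rw [hk, smul_sub, smul_smul, smul_smul]
        congr 2 <;> ring
      simp only [h3, Finset.sum_sub_distrib]
      have h4 : ∀ i, ∑ l, (c i * (b l * a l)) • E U i = c i • E U i := fun i => by
        rw [← Finset.sum_smul, ← Finset.mul_sum, hb1, mul_one]
      rw [Finset.sum_comm (f := fun i l => (b l * (c i * a i)) • E U l)]
      have h5 : ∀ l, ∑ i, (b l * (c i * a i)) • E U l = 0 := fun l => by
        rw [← Finset.sum_smul, ← Finset.mul_sum, hc0, mul_zero, zero_smul]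
      simp only [h4, h5, Finset.sum_const_zero, sub_zero]
    rw [e1]
    exact Submodule.sum_mem _ fun p _ => Submodule.smul_mem _ _ (Submodule.subset_span ⟨p, rfl⟩)
  refine ⟨U, hxU, hU, top_le_iff.mp ((Amp73.span_image_tm he hspan).ge.trans (Submodule.span_mono ?_))⟩
  rintro _ ⟨_, ⟨p, rfl⟩, rfl⟩
  exact ⟨t p.1 p.2, ht p.1 p.2 U _ ⟨e, a, k p.1 p.2, he, ha', hk _ _, rfl⟩⟩

end Groth.Agent.EGAProj74.KoszulGen
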