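import Groth.Agent.EGAProj74.RLRel
import Groth.Agent.EGAProj74.CompChart

/-!
Charts give pieces of `r_{L,ψ}`.
-/

set_option autoImplicit false
set_option backward.isDefEq.respectTransparency.types false

universe u

open CategoryTheory CategoryTheory.Limits AlgebraicGeometry TopologicalSpace Opposite
open scoped HomogeneousIdeal Polynomial

noncomputable section

namespace Groth.Agent.EGAProj74.RLRel

open Groth.Agent.EGAProj74 Groth.Agent.Var76.LineBundle Groth.Agent.Var76.ZeroScheme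
open Groth.Agent.EGA73.BundleImmersion

variable {X : Scheme.{u}} {L : X.Modules} (hL : PicF.IsInvertible L) (hLq : L.IsQuasicoherent)
  {𝒮L : RelProj.QCGrAlg X} {j : L ⟶ 𝒮L.toModule} (hj : RelProj.IsGrSymAlg L 𝒮L j)

omit hL hLq hj in
/-- `j` is linear over the functions. -/
theorem jR_smul (j : L ⟶ 𝒮L.toModule) {W : X.Opens} (a : Γ(X, W)) (s : Γ(L, W)) :
    jR j W (a • s) = (𝒮L.str.app (op W)).hom a * jR j W s :=
  Scheme.Modules.Hom.app_smul j a s

omit hL hLq hj in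
/-- `j` commutes with restriction. -/
theorem jR_res (j : L ⟶ 𝒮L.toModule) {V W : X.Opens} (i : V ≤ W) (s : Γ(L, W)) :
    (𝒮L.presheaf.map (homOfLE i).op).hom (jR j W s) = jR j V (res L i s) :=
  (Mero90.app_res j i s).symm

omit hL in
include hLq hj in
/-- A frame of `L` on an affine open generates `𝒮L` there. -/
theorem isLineGen_of_frame {W : X.Opens} (hW : IsAffineOpen W) {e₀ : Γ(L, W)} (he₀ : IsFrame L W e₀) :
    IsLineGen 𝒮L W hW (jR j W e₀) := by
  obtain ⟨g, hg, hgj⟩ := exists_symAlg_equiv hLq hj.1 W hW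
  have hb : Function.Bijective (LinearMap.toSpanSingleton Γ(X, W) Γ(L, W) e₀) := by
    have hres : res L (le_refl W) e₀ = e₀ := Groth.Agent.QC70.res_self e₀
    have := he₀ W le_rfl
    rw [hres] at this
    exact this
  let b : Module.Basis (Fin 1) Γ(X, W) Γ(L, W) :=
    (Module.Basis.singleton (Fin 1) Γ(X, W)).map (LinearEquiv.ofBijective _ hb)
  have hb0 : b 0 = e₀ := by simp [b]
  refine isLineGen_of_equiv (hj.2 W hW e₀) ((g.trans (SymmetricAlgebra.equivMvPolynomial b).toRingEquiv).trans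
    (MvPolynomial.uniqueAlgEquiv Γ(X, W) (Fin 1)).toRingEquiv) (fun r => ?_) ?_
  · change MvPolynomial.uniqueAlgEquiv Γ(X, W) (Fin 1) (SymmetricAlgebra.equivMvPolynomial b (g _)) = _
    rw [hg, AlgEquiv.commutes, AlgEquiv.commutes]
    rfl
  · change MvPolynomial.uniqueAlgEquiv Γ(X, W) (Fin 1) (SymmetricAlgebra.equivMvPolynomial b (g _)) = _
    rw [show g (jR j W e₀) = _ from hgj e₀, ← hb0, SymmetricAlgebra.equivMvPolynomial_ι_apply]
    simp

/-- `str a * e ^ d` generates the degree `d` part exactly when `a` is a unit. -/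
theorem span_iff_isUnit {W : X.Opens} {hW : IsAffineOpen W} {e : 𝒮L.presheaf.obj (op W)}
    (he : IsLineGen 𝒮L W hW e) (a : Γ(X, W)) (d : ℕ) :
    ((𝒮L.deg W hW d : AddSubgroup _) : Set (𝒮L.presheaf.obj (op W))) ⊆
        (Ideal.span {(𝒮L.str.app (op W)).hom a * e ^ d} : Set (𝒮L.presheaf.obj (op W))) ↔ IsUnit a := by
  classical
  have hd : e ^ d ∈ 𝒮L.deg W hW d := by simpa using SetLike.pow_mem_graded d he.mem
  constructor
  · intro h
    obtain ⟨x, hx⟩ := Ideal.mem_span_singleton'.mp (h hd)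
    have hm : (𝒮L.str.app (op W)).hom a * e ^ d ∈ 𝒮L.deg W hW d := by
      have := SetLike.mul_mem_graded (A := 𝒮L.deg W hW) (𝒮L.str_mem W hW a) hd
      rwa [zero_add] at this
    have h1 := congrArg (fun z => (DirectSum.decompose (𝒮L.deg W hW) z d : 𝒮L.presheaf.obj (op W))) hx
    dsimp only at h1
    rw [DirectSum.coe_decompose_mul_of_right_mem_of_le (𝒜 := 𝒮L.deg W hW) hm le_rfl, Nat.sub_self,
      DirectSum.decompose_of_mem_same _ hd] at h1
    obtain ⟨b, hb⟩ := he.exists_eq 0 _ (DirectSum.decompose (𝒮L.deg W hW) x 0).2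
    rw [hb, pow_zero, mul_one, ← mul_assoc, ← map_mul] at h1
    refine IsUnit.of_mul_eq_one b ?_
    have h2 : (𝒮L.str.app (op W)).hom (b * a - 1) * e ^ d = 0 := by rw [map_sub, map_one, sub_mul, h1, one_mul, sub_self]
    rw [mul_comm]
    exact sub_eq_zero.mp (he.inj d _ h2)
  · intro ha g hg
    obtain ⟨r, rfl⟩ := he.exists_eq d g hg
    refine Ideal.mem_span_singleton'.mpr ⟨(𝒮L.str.app (op W)).hom (r * ha.unit⁻¹.1), ?_⟩
    rw [← mul_assoc, ← map_mul, mul_assoc, ha.val_inv_mul, mul_one]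

variable {Y : Scheme.{u}} {q : X ⟶ Y} {𝒮 : RelProj.QCGrAlg Y} {U : Y.Opens}

omit hL hLq hj in
theorem appLE_restrict (u : RelProj.QGrHom q 𝒮 𝒮L) {G V : X.Opens} (i : V ≤ G) (hG : G ≤ q ⁻¹ᵁ U)
    (f : 𝒮.presheaf.obj (op U)) :
    (𝒮L.presheaf.map (homOfLE i).op).hom ((u.appLE U G hG).hom f) = (u.appLE U V (i.trans hG)).hom f :=
  congr($(u.toQHom.appLE_map hG i).hom f)

omit hL hLq hj in
theorem res_str {G V : X.Opens} (i : V ≤ G) (a : Γ(X, G)) :
    (𝒮L.presheaf.map (homOfLE i).op).hom ((𝒮L.str.app (op G)).hom a) = (𝒮L.str.app (op V)).hom (fres i a) :=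
  (congr($(𝒮L.str.naturality (homOfLE i).op).hom a)).symm

omit hL hLq hj in
theorem appLE_of_app (u : RelProj.QGrHom q 𝒮 𝒮L) {E : 𝒮.presheaf.obj (op U)} {s : Γ(L, q ⁻¹ᵁ U)}
    (hE : (u.app U).hom E = jR j (q ⁻¹ᵁ U) s) {G : X.Opens} (hG : G ≤ q ⁻¹ᵁ U) :
    (u.appLE U G hG).hom E = jR j G (res L hG s) := by
  show (𝒮L.presheaf.map (homOfLE hG).op).hom ((u.app U).hom E) = _
  rw [hE, jR_res]

include hL hLq hj in
/-- The locus of `s' * E` inside the locus of `E`. -/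
theorem nonVanish_mul (u : RelProj.QGrHom q 𝒮 𝒮L) (hU : IsAffineOpen U) {E : 𝒮.presheaf.obj (op U)}
    {s : Γ(L, q ⁻¹ᵁ U)} (hE : (u.app U).hom E = jR j (q ⁻¹ᵁ U) s) {m : ℕ} {s' : 𝒮.presheaf.obj (op U)}
    (hs' : s' ∈ 𝒮.deg U hU m) {G : X.Opens} (hG : G ≤ q ⁻¹ᵁ U) (hGe : flocus s = G) {c : Γ(X, G)}
    (hc : (𝒮L.str.app (op G)).hom c * ((u.appLE U G hG).hom E) ^ m = (u.appLE U G hG).hom s') :
    nonVanish u (m + 1) (s' * E) = X.basicOpen c := by
  refine le_antisymm (iSup_le fun V x hx => ?_) fun x hx => ?_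
  · obtain ⟨⟨V, hV⟩, hVU, hspan⟩ := V
    obtain ⟨W₀, hxW₀, hW₀V, ε₀, hε₀⟩ := Mero90.exists_affine_frame hL x V hx
    obtain ⟨r, hrle, hxr⟩ := hV.exists_basicOpen_le (V := W₀.1) ⟨x, hxW₀⟩ hx
    obtain ⟨W', hW'⟩ : ∃ W' : X.affineOpens, W'.1 = X.basicOpen r := ⟨⟨_, hV.basicOpen r⟩, rfl⟩
    have hxW' : x ∈ (W' : X.Opens) := hW'.ge hxr
    have i : (W' : X.Opens) ≤ V := hW'.le.trans (X.basicOpen_le r)
    obtain ⟨ε, hε⟩ : ∃ ε : Γ(L, W'.1), IsFrame L W'.1 ε := ⟨_, hε₀.res (hW'.le.trans hrle)⟩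
    have hW'U : (W' : X.Opens) ≤ q ⁻¹ᵁ U := i.trans hVU
    have hgenV := isLineGen_of_frame hLq hj W'.2 hε
    obtain ⟨a, ha⟩ := exists_coord_of_frame hε (res L hW'U s)
    have hEa : (u.appLE U W'.1 hW'U).hom E = (𝒮L.str.app (op W'.1)).hom a * jR j W'.1 ε := by
      rw [appLE_of_app u hE hW'U, ← ha, jR_smul]
    obtain ⟨b, hb⟩ := hgenV.exists_eq m _ ((u.gradedAt U hU W'.1 W'.2 hW'U).map_mem hs')
    have hS : (u.appLE U W'.1 hW'U).hom (s' * E) = (𝒮L.str.app (op W'.1)).hom (b * a) * jR j W'.1 ε ^ (m + 1) := by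
      rw [map_mul, show (u.appLE U W'.1 hW'U).hom s' = _ from hb, hEa, map_mul, pow_succ]; ring
    have hsp : ((𝒮L.deg W'.1 W'.2 (m + 1) : AddSubgroup _) : Set (𝒮L.presheaf.obj (op W'.1))) ⊆
        (Ideal.span {(u.appLE U W'.1 hW'U).hom (s' * E)} : Set (𝒮L.presheaf.obj (op W'.1))) := by
      intro g hg
      obtain ⟨k, g', hg', hres⟩ := exists_deg_res 𝒮L hV W'.2 i hW' hg
      obtain ⟨y, hy⟩ := Ideal.mem_span_singleton'.mp (hspan hg')
      obtain ⟨w, hw⟩ := ((isUnit_res_str 𝒮L hV i hW').pow k).exists_left_inv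
      refine Ideal.mem_span_singleton'.mpr ⟨w * (𝒮L.presheaf.map (homOfLE i).op).hom y, ?_⟩
      rw [← appLE_restrict u i hVU, mul_assoc, ← map_mul, hy, hres, ← mul_assoc, hw, one_mul]
    rw [hS, span_iff_isUnit hgenV, IsUnit.mul_iff] at hsp
    have hW'G : (W' : X.Opens) ≤ G := by
      rw [← hGe]
      refine le_flocus s hW'U ?_
      rw [← ha, Amp73.isFrame_smul_iff hε]
      exact hsp.2
    have hcb : fres hW'G c * a ^ m = b := by
      have h1 := congrArg (𝒮L.presheaf.map (homOfLE hW'G).op).hom hc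
      rw [map_mul, map_pow, appLE_restrict, appLE_restrict, res_str, show (u.appLE U W'.1 _).hom s' = _ from hb, hEa,
        mul_pow, ← map_pow, ← mul_assoc, ← map_mul] at h1
      have h2 : (𝒮L.str.app (op W'.1)).hom (fres hW'G c * a ^ m - b) * jR j W'.1 ε ^ m = 0 := by
        rw [map_sub, sub_mul, h1, sub_self]
      exact sub_eq_zero.mp (hgenV.inj m _ h2)
    refine (X.mem_basicOpen c x (hW'G hxW')).mpr ?_
    have h3 : IsUnit (fres hW'G c) := isUnit_of_mul_isUnit_left (hcb ▸ hsp.1)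
    have h4 := h3.map (X.presheaf.germ _ x hxW').hom
    exact (X.presheaf.germ_res_apply (homOfLE hW'G) x hxW' c) ▸ h4
  · obtain ⟨W, hxW, hWc, ε, hε⟩ := Mero90.exists_affine_frame hL x (X.basicOpen c) hx
    have i : (W : X.Opens) ≤ G := hWc.trans (X.basicOpen_le c)
    have hWU : (W : X.Opens) ≤ q ⁻¹ᵁ U := i.trans hG
    refine Opens.mem_iSup.mpr ⟨⟨W, hWU, ?_⟩, hxW⟩
    have hsW : IsFrame L W.1 (res L hWU s) := by
      subst hGe
      have := (isFrame_flocus s).res i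
      rwa [res_res] at this
    have hgenV := isLineGen_of_frame hLq hj W.2 hsW
    have hEa : (u.appLE U W.1 hWU).hom E = jR j W.1 (res L hWU s) := appLE_of_app u hE hWU
    have h1 := congrArg (𝒮L.presheaf.map (homOfLE i).op).hom hc
    rw [map_mul, map_pow, appLE_restrict, appLE_restrict, res_str, hEa] at h1
    rw [map_mul, ← h1, hEa, mul_assoc, ← pow_succ, span_iff_isUnit hgenV]
    have h2 := (RingedSpace.isUnit_res_basicOpen X.toRingedSpace c).map (X.presheaf.map (homOfLE hWc).op).hom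
    exact (Eq.subst (motive := IsUnit) (fres_fres _ _ c) h2 :)

include hL hLq hj in
/-- A chart lifting to `𝒮` in degree one gives a piece. -/
theorem exists_piece_of_hasChart (u : RelProj.QGrHom q 𝒮 𝒮L) {U : Y.affineOpens} {T : Set Γ(L, q ⁻¹ᵁ U.1)}
    (hT : ∀ s ∈ T, ∃ σ ∈ 𝒮.deg U.1 U.2 1, (u.app U.1).hom σ = jR j (q ⁻¹ᵁ U.1) s) {x : X} (h : HasChart q U T x) :
    ∃ (n : ℕ) (S : 𝒮.presheaf.obj (op U.1)), 0 < n ∧ S ∈ 𝒮.deg U.1 U.2 n ∧
      x ∈ nonVanish u n S ∧ IsAffineOpen (nonVanish u n S) ∧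
        CondGen u U.2 n S (nonVanish u n S) (nonVanish_le u n S) := by
  obtain ⟨s, hs, c, hc, hx, haff, hcl⟩ := h
  obtain ⟨E, hEd, hE⟩ := hT s hs
  let G := flocus s
  have hG : G ≤ q ⁻¹ᵁ U.1 := flocus_le s
  let φ := (u.appLE U.1 G hG).hom
  let ψ := (𝒮L.str.app (op G)).hom
  let e := φ E
  have hadd : ∀ {k : ℕ} {f : 𝒮.presheaf.obj (op U.1)}, f ∈ 𝒮.deg U.1 U.2 k → ∀ l,
      f * E ^ l ∈ 𝒮.deg U.1 U.2 (k + l) := fun hf l => by
    simpa using SetLike.mul_mem_graded (A := 𝒮.deg U.1 U.2) hf (SetLike.pow_mem_graded l hEd)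
  let R : Subring Γ(X, G) :=
    { carrier := {a | ∃ (m : ℕ) (f : 𝒮.presheaf.obj (op U.1)), f ∈ 𝒮.deg U.1 U.2 m ∧ ψ a * e ^ m = φ f}
      one_mem' := ⟨0, 1, SetLike.one_mem_graded _, by simp⟩
      zero_mem' := ⟨0, 0, zero_mem _, by simp⟩
      mul_mem' := by
        rintro a b ⟨m, f, hf, ha⟩ ⟨k, g, hg, hb⟩
        refine ⟨m + k, f * g, SetLike.mul_mem_graded hf hg, ?_⟩
        rw [map_mul, map_mul, ← ha, ← hb, pow_add]; ring
      add_mem' := by
        rintro a b ⟨m, f, hf, ha⟩ ⟨k, g, hg, hb⟩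
        refine ⟨m + k, f * E ^ k + g * E ^ m, add_mem (hadd hf k) (by rw [add_comm]; exact hadd hg m), ?_⟩
        simp only [map_add, map_mul, map_pow]
        rw [← ha, ← hb, pow_add]; ring
      neg_mem' := by
        rintro a ⟨m, f, hf, ha⟩
        exact ⟨m, -f, neg_mem hf, by rw [map_neg, map_neg, neg_mul, ha]⟩ }
  have hgens : chartGens q U T s hG ⊆ R := by
    rintro a (⟨t, rfl⟩ | ⟨s'', hs'', ha⟩)
    · refine ⟨0, (𝒮.str.app (op U.1)).hom t, 𝒮.str_mem U.1 U.2 t, ?_⟩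
      rw [pow_zero, mul_one]
      exact (congr($(u.toQHom.str_appLE U.1 G hG).hom t)).symm
    · obtain ⟨σ, hσd, hσ⟩ := hT s'' hs''
      refine ⟨1, σ, hσd, ?_⟩
      show ψ a * φ E ^ 1 = φ σ
      rw [pow_one, show φ E = _ from appLE_of_app u hE hG, show φ σ = _ from appLE_of_app u hσ hG, ← ha, jR_smul]
  obtain ⟨m, s', hs', hcm⟩ := (Subring.closure_le.2 hgens) hc
  have hnv : nonVanish u (m + 1) (s' * E) = X.basicOpen c := nonVanish_mul hL hLq hj u U.2 hE hs' hG rfl hcm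
  have hS : s' * E ∈ 𝒮.deg U.1 U.2 (m + 1) := SetLike.mul_mem_graded hs' hEd
  refine ⟨m + 1, s' * E, Nat.succ_pos m, hS, hnv.ge hx, hnv.symm ▸ haff, ?_⟩
  have key : ∀ (W : X.Opens) (hWU : W ≤ q ⁻¹ᵁ U.1), X.basicOpen c = W → CondGen u U.2 (m + 1) (s' * E) W hWU := by
    rintro W hWU rfl
    let Φ := (u.appLE U.1 (X.basicOpen c) hWU).hom
    let Ψ := (𝒮L.str.app (op (X.basicOpen c))).hom
    have hφΦ : ∀ f, (𝒮L.presheaf.map (homOfLE (X.basicOpen_le c)).op).hom (φ f) = Φ f := fun f =>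
      appLE_restrict u (X.basicOpen_le c) hG f
    have hc' : Ψ (fres (X.basicOpen_le c) c) * Φ E ^ m = Φ s' := by
      have h1 := congrArg (𝒮L.presheaf.map (homOfLE (X.basicOpen_le c)).op).hom hcm
      rw [map_mul, map_pow, appLE_restrict, appLE_restrict, res_str] at h1
      exact h1
    have hSΦ : Φ (s' * E) = Ψ (fres (X.basicOpen_le c) c) * Φ E ^ (m + 1) := by
      rw [map_mul, ← hc', pow_succ]; ring
    have hpad : ∀ {k : ℕ} {f : 𝒮.presheaf.obj (op U.1)}, f ∈ 𝒮.deg U.1 U.2 (k * (m + 1)) → ∀ l,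
        f * (s' * E) ^ l ∈ 𝒮.deg U.1 U.2 ((k + l) * (m + 1)) := fun hf l => by
      have h1 := SetLike.mul_mem_graded (A := 𝒮.deg U.1 U.2) hf (SetLike.pow_mem_graded l hS)
      rwa [smul_eq_mul, ← add_mul] at h1
    let R' : Subring Γ(X, X.basicOpen c) :=
      { carrier := {a | ∃ (k : ℕ) (f : 𝒮.presheaf.obj (op U.1)),
          f ∈ 𝒮.deg U.1 U.2 (k * (m + 1)) ∧ Ψ a * Φ (s' * E) ^ k = Φ f}
        one_mem' := ⟨0, 1, by rw [zero_mul]; exact SetLike.one_mem_graded _, by simp⟩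
        zero_mem' := ⟨0, 0, zero_mem _, by simp⟩
        mul_mem' := by
          rintro a b ⟨k₁, f, hf, ha⟩ ⟨k₂, g, hg, hb⟩
          refine ⟨k₁ + k₂, f * g, by rw [add_mul]; exact SetLike.mul_mem_graded hf hg, ?_⟩
          rw [map_mul Φ f g, map_mul Ψ, ← ha, ← hb, pow_add]; ring
        add_mem' := by
          rintro a b ⟨k₁, f, hf, ha⟩ ⟨k₂, g, hg, hb⟩
          refine ⟨k₁ + k₂, f * (s' * E) ^ k₂ + g * (s' * E) ^ k₁,
            add_mem (hpad hf k₂) (by rw [Nat.add_comm k₁ k₂]; exact hpad hg k₁), ?_⟩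
          rw [map_add Φ, map_mul Φ f, map_mul Φ g, map_pow, map_pow, ← ha, ← hb, map_add Ψ, pow_add]; ring
        neg_mem' := by
          rintro a ⟨k, f, hf, ha⟩
          exact ⟨k, -f, neg_mem hf, by rw [map_neg, map_neg, neg_mul, ha]⟩ }
    have hR' : ⊤ ≤ R' := by
      rw [← hcl]
      refine Subring.closure_le.2 ?_
      rintro z (⟨a, ha, rfl⟩ | hz)
      · obtain ⟨k, f, hf, hak⟩ := hgens ha
        refine ⟨k, f * s' ^ k, ?_, ?_⟩
        · have h1 := SetLike.mul_mem_graded (A := 𝒮.deg U.1 U.2) hf (SetLike.pow_mem_graded k hs')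
          rw [smul_eq_mul] at h1
          rwa [mul_add, mul_one, add_comm]
        · have h1 := congrArg (𝒮L.presheaf.map (homOfLE (X.basicOpen_le c)).op).hom hak
          dsimp only [φ, ψ, e] at h1
          rw [map_mul, map_pow, appLE_restrict, appLE_restrict, res_str] at h1
          show Ψ (fres (X.basicOpen_le c) a) * Φ (s' * E) ^ k = Φ (f * s' ^ k)
          rw [map_mul Φ f, map_pow Φ s', ← h1, ← hc', hSΦ, mul_pow, mul_pow, ← pow_mul, ← pow_mul, add_mul, one_mul,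
            pow_add]
          ring
      · refine ⟨1, E ^ (m + 1), by simpa using SetLike.pow_mem_graded (m + 1) hEd, ?_⟩
        rw [pow_one, hSΦ, ← mul_assoc, ← map_mul, hz, map_one, one_mul, map_pow]
    intro t
    obtain ⟨k, f, hf, ht⟩ := hR' (Subring.mem_top t)
    exact ⟨k + 1, Nat.succ_pos k, f * (s' * E) ^ 1, hpad hf 1, by
      show Ψ t * Φ (s' * E) ^ (k + 1) = Φ (f * (s' * E) ^ 1)
      rw [map_mul Φ f, pow_one, ← ht, pow_succ]; ring⟩
  exact key _ _ hnv.symm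

end Groth.Agent.EGAProj74.RLRel
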