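import Groth.Agent.EGAProj74.LineSym
import Groth.Agent.EGAProj74.RLChart
import Groth.Agent.EGAProj74.RelSpecBasic
import Groth.Agent.EGAProj74.ConeBasic
import Groth.Prelude.Def_RelSpec2

/-! Charts of the line bundle of an invertible module attached to frames. -/

set_option autoImplicit false
set_option backward.isDefEq.respectTransparency.types false

universe u

open CategoryTheory CategoryTheory.Limits AlgebraicGeometry TopologicalSpace Opposite
open scoped Polynomial HomogeneousIdeal

noncomputable section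

namespace Groth.Agent.EGAProj74.LineChart

open Groth.Agent.EGAProj74 Var76.LineBundle

variable {X : Scheme.{u}} {L : X.Modules} (hLq : Coh.IsQCoh L) {𝒜 : RelProj.QCGrAlg X} {j : L ⟶ 𝒜.toModule}
  (hA : RelProj.IsGrSymAlg L 𝒜 j)

include hLq hA

theorem exists_lineEquiv (U : X.Opens) (hU : IsAffineOpen U) (e : Γ(L, U)) (he : IsFrame L U e) :
    ∃ Φ : 𝒜.presheaf.obj (op U) ≃+* Γ(X, U)[X],
      (∀ r, Φ ((𝒜.str.app (op U)).hom r) = Polynomial.C r) ∧ Φ (jR j U e) = Polynomial.X := by
  obtain ⟨g, hg, hgj⟩ := exists_symAlg_equiv hLq hA.1 U hU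
  have hb : Function.Bijective (LinearMap.toSpanSingleton Γ(X, U) Γ(L, U) e) := by
    have hres : res L (le_refl U) e = e := Groth.Agent.QC70.res_self e
    have := he U le_rfl
    rw [hres] at this
    exact this
  let b : Module.Basis (Fin 1) Γ(X, U) Γ(L, U) :=
    (Module.Basis.singleton (Fin 1) Γ(X, U)).map (LinearEquiv.ofBijective _ hb)
  have hb0 : b 0 = e := by simp [b]
  refine ⟨(g.trans (SymmetricAlgebra.equivMvPolynomial b).toRingEquiv).trans
    (MvPolynomial.uniqueAlgEquiv Γ(X, U) (Fin 1)).toRingEquiv, fun r => ?_, ?_⟩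
  · change MvPolynomial.uniqueAlgEquiv Γ(X, U) (Fin 1) (SymmetricAlgebra.equivMvPolynomial b (g _)) = _
    rw [hg, AlgEquiv.commutes, AlgEquiv.commutes]
    rfl
  · change MvPolynomial.uniqueAlgEquiv Γ(X, U) (Fin 1) (SymmetricAlgebra.equivMvPolynomial b (g (j.app U e))) = _
    rw [hgj, ← hb0, SymmetricAlgebra.equivMvPolynomial_ι_apply]
    simp

variable (U : X.Opens) (hU : IsAffineOpen U) (e : Γ(L, U)) (he : IsFrame L U e)

/-- `𝒜(U) = O(U)[e]`. -/
def equiv : 𝒜.presheaf.obj (op U) ≃+* Γ(X, U)[X] := (exists_lineEquiv hLq hA U hU e he).choose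

theorem equiv_str (r : Γ(X, U)) : equiv hLq hA U hU e he ((𝒜.str.app (op U)).hom r) = Polynomial.C r :=
  (exists_lineEquiv hLq hA U hU e he).choose_spec.1 r

theorem equiv_gen : equiv hLq hA U hU e he (jR j U e) = Polynomial.X :=
  (exists_lineEquiv hLq hA U hU e he).choose_spec.2

include hU he in
theorem isLineGen : IsLineGen 𝒜 U hU (jR j U e) :=
  isLineGen_of_equiv (hA.2 U hU e) (equiv hLq hA U hU e he) (equiv_str hLq hA U hU e he) (equiv_gen hLq hA U hU e he)

include hU he in
theorem ringHom_ext {T : Type*} [CommRing T] {φ ψ : 𝒜.presheaf.obj (op U) →+* T}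
    (h : ∀ r, φ ((𝒜.str.app (op U)).hom r) = ψ ((𝒜.str.app (op U)).hom r)) (hg : φ (jR j U e) = ψ (jR j U e)) :
    φ = ψ := by
  refine RingHom.ext fun x => ?_
  have hx : x ∈ Subring.closure (Set.range (𝒜.str.app (op U)).hom ∪ {jR j U e}) := by
    rw [(isLineGen hLq hA U hU e he).gen]; trivial
  exact RingHom.eqOn_set_closure (f := φ) (g := ψ) (by
    rintro y (⟨r, rfl⟩ | hy)
    · exact h r
    · rw [Set.mem_singleton_iff.1 hy]; exact hg) hx

variable {aug : 𝒜.toQCAlg ⟶ RelSpec.QCAlg.unit X} (haug : RelCone.IsAugmentation 𝒜 aug)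

include hU he haug in
theorem aug_eq_coeff (b : 𝒜.presheaf.obj (op U)) :
    (aug.hom.app (op U)).hom b = (equiv hLq hA U hU e he b).coeff 0 := by
  have key : ((aug.hom.app (op U)).hom : 𝒜.presheaf.obj (op U) →+* Γ(X, U)) =
      Polynomial.constantCoeff.comp (equiv hLq hA U hU e he).toRingHom := by
    refine ringHom_ext hLq hA U hU e he (fun r => ?_) ?_
    · refine (aug_str U r).trans ?_
      show r = (equiv hLq hA U hU e he ((𝒜.str.app (op U)).hom r)).coeff 0
      rw [equiv_str, Polynomial.coeff_C_zero]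
    · refine (haug U hU 0 (jR j U e) (hA.2 U hU e)).trans ?_
      show 0 = (equiv hLq hA U hU e he (jR j U e)).coeff 0
      rw [equiv_gen, Polynomial.coeff_X_zero]
  exact congr($key b)

end Groth.Agent.EGAProj74.LineChart
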