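import Groth.Agent.EGAProj74.LineFlip
import Groth.Agent.EGAProj74.GrSymExists

/-!
The pointed projective cone of a line bundle is the line bundle of the inverse.
-/

set_option autoImplicit false
set_option backward.isDefEq.respectTransparency.types false

universe u

open CategoryTheory CategoryTheory.Limits AlgebraicGeometry TopologicalSpace Opposite
open scoped HomogeneousIdeal Polynomial

noncomputable section

namespace Groth.Agent.EGAProj74

open Var76.LineBundle

theorem TwoGen.awayLift_mk {R B T : Type u} [CommRing R] [CommRing B] [CommRing T] {ℬ : ℕ → AddSubgroup B}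
    [GradedRing ℬ] (D : TwoGen R ℬ) (g : R →+* T) (t : T) {d : ℕ} (hd : D.a ∈ ℬ d) (n : ℕ) (x : B) (hx : x ∈ ℬ (n • d)) :
    D.awayLift g t (HomogeneousLocalization.Away.mk ℬ hd n x hx) = D.lift g 1 t x := by
  have hl : ∀ y, IsLocalization.Away.lift (S := Localization.Away D.a) D.a (g := D.lift g 1 t) (by simp)
      (algebraMap B (Localization.Away D.a) y) = D.lift g 1 t y := fun y => IsLocalization.Away.lift_eq _ _ y
  have := congrArg (IsLocalization.Away.lift (S := Localization.Away D.a) D.a (g := D.lift g 1 t) (by simp))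
    (val_mk_mul_pow hd n x hx)
  rw [map_mul, map_pow, hl, hl] at this
  simp only [TwoGen.lift_a, one_pow, mul_one] at this
  exact this

variable {Y : Scheme.{u}} {L L' : Y.Modules} (C : LCone Y L) (hL'q : Coh.IsQCoh L') {A : RelSpec.QCAlg Y}
  {j' : L' ⟶ A.toModule} (hA : RelSpec.IsSymAlg L' A j') {D : DualPair L L'}

namespace FPair

/-- `S[z]_(e) = O(U)[e']`. -/
def toInv (k : FPair D) :
    HomogeneousLocalization.Away (C.𝒮h.deg k.U k.hU) (C.gen k.U k.hU k.e) →+* A.presheaf.obj (op k.U) :=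
  (C.twoGen k.U k.hU (D.frame_left k.hR)).awayLift (A.str.app (op k.U)).hom (j'.app k.U k.e')

include hL'q hA in
theorem toInv_bijective (k : FPair D) : Function.Bijective (k.toInv C (j' := j')) := by
  have hA' : RelProj.IsGrSymAlg L' (grSym hL'q hA) j' := ⟨hA, fun U _ m =>
    letI := secAlgebra A U
    ι_mem_symPart (symGen j' U) m⟩
  exact (C.twoGen k.U k.hU (D.frame_left k.hR)).awayLift_bijective (T := A.presheaf.obj (op k.U))
    (A.str.app (op k.U)).hom (j'.app k.U k.e')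
    (LineChart.equiv hL'q hA' k.U k.hU k.e' (D.frame_right k.hR))
    (LineChart.equiv_str hL'q hA' k.U k.hU k.e' (D.frame_right k.hR))
    (LineChart.equiv_gen hL'q hA' k.U k.hU k.e' (D.frame_right k.hR))

variable {PC : Scheme.{u}} {pC : PC ⟶ Y}
  {chartC : ∀ (U : Y.Opens) (hU : IsAffineOpen U),
    (((pC ⁻¹ᵁ U : PC.Opens) : Scheme.{u}) ≅ Proj (C.𝒮h.deg U hU))}

variable (chartC) in
/-- The piece of the pointed projective cone over a pair of frames. -/
def pcPiece (k : FPair D) : Spec (CommRingCat.of (HomogeneousLocalization.Away (C.𝒮h.deg k.U k.hU)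
      (C.gen k.U k.hU k.e))) ⟶
    ((RelCone.pointedProjCone C.𝒮 C.poly pC chartC : PC.Opens) : Scheme.{u}) :=
  domChart (RelProj.gradedHomAt C.ι C.poly.graded k.U k.hU) one_pos (jR C.j k.U k.e) (C.sym.2 k.U k.hU k.e) ≫
    pcι C.poly k.U k.hU

theorem pcPiece_ι (k : FPair D) :
    k.pcPiece C chartC ≫ (RelCone.pointedProjCone C.𝒮 C.poly pC chartC).ι =
      Proj.awayι (C.𝒮h.deg k.U k.hU) (C.gen k.U k.hU k.e) (C.gen_mem k.U k.hU k.e) one_pos ≫
        RelProj.emb pC chartC k.U k.hU := by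
  exact (Category.assoc _ _ _).trans ((congrArg (_ ≫ ·) (pcι_ι C.poly k.U k.hU)).trans
    (domChart_ι_assoc (RelProj.gradedHomAt C.ι C.poly.graded k.U k.hU) one_pos (jR C.j k.U k.e)
      (C.sym.2 k.U k.hU k.e) _))

instance (k : FPair D) : IsOpenImmersion (k.pcPiece C chartC) :=
  inferInstanceAs (IsOpenImmersion
    (domChart (RelProj.gradedHomAt C.ι C.poly.graded k.U k.hU) one_pos (jR C.j k.U k.e) (C.sym.2 k.U k.hU k.e) ≫
      pcι C.poly (pC := pC) (chartC := chartC) k.U k.hU))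

theorem opensRange_pcPiece (hC : RelProj.IsRelProj C.𝒮h pC chartC) (k : FPair D) :
    (k.pcPiece C chartC).opensRange =
      ((RelCone.pointedProjCone C.𝒮 C.poly pC chartC).ι ≫ pC) ⁻¹ᵁ k.U := by
  refine TopologicalSpace.Opens.ext (Set.ext fun x => ⟨?_, fun hx => ?_⟩)
  · rintro ⟨w, rfl⟩
    change pC.base ((RelCone.pointedProjCone C.𝒮 C.poly pC chartC).ι.base ((k.pcPiece C chartC).base w)) ∈ k.U
    rw [show (RelCone.pointedProjCone C.𝒮 C.poly pC chartC).ι.base ((k.pcPiece C chartC).base w) =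
      (RelProj.emb pC chartC k.U k.hU).base _ from congr(($(k.pcPiece_ι C (chartC := chartC))).base w)]
    exact emb_mem k.U k.hU _
  · obtain ⟨y, hy⟩ : x.1 ∈ (RelProj.emb pC chartC k.U k.hU).opensRange := by rw [opensRange_emb]; exact hx
    have hyd := (emb_mem_pointedProjCone_iff C.poly hC k.U k.hU y).mp (hy.symm ▸ x.2)
    obtain ⟨d, f, hd, hf, hfy⟩ := exists_of_mem_domOpen _ hyd
    obtain ⟨r, rfl⟩ := (LineChart.isLineGen C.qc C.sym k.U k.hU k.e (D.frame_left k.hR)).exists_eq d f hf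
    rw [map_mul, map_pow] at hfy
    have hay : C.gen k.U k.hU k.e ∉ y.asHomogeneousIdeal := fun h =>
      hfy (Ideal.mul_mem_left _ _ (Ideal.pow_mem_of_mem _ h d hd))
    obtain ⟨w, hw⟩ : y ∈ (Proj.awayι (C.𝒮h.deg k.U k.hU) (C.gen k.U k.hU k.e) (C.gen_mem k.U k.hU k.e)
        one_pos).opensRange := by
      rw [Proj.opensRange_awayι]; exact (Proj.mem_basicOpen _ _ y).mpr hay
    refine ⟨w, (RelCone.pointedProjCone C.𝒮 C.poly pC chartC).ι.isOpenEmbedding.injective ?_⟩
    refine (congr(($(k.pcPiece_ι C (chartC := chartC))).base w)).trans ?_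
    exact (congrArg (RelProj.emb pC chartC k.U k.hU).base hw).trans hy

theorem toInv_res {k l : FPair D} (i : l.U ≤ k.U) (v : Γ(Y, l.U)ˣ)
    (hv : res L i k.e = v.1 • l.e) (hv' : res L' i k.e' = (v⁻¹).1 • l.e')
    (hx : C.gen l.U l.hU l.e =
      C.𝒮h.res k.hU l.hU i (C.gen k.U k.hU k.e) * (C.𝒮h.str.app (op l.U)).hom (v⁻¹).1) :
    (A.presheaf.map (homOfLE i).op).hom.comp (k.toInv C (j' := j')) =
      ((l.toInv C (j' := j')).comp (HomogeneousLocalization.awayMap (C.𝒮h.deg l.U l.hU)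
        (C.𝒮h.str_mem l.U l.hU (v⁻¹).1) hx)).comp
        (HomogeneousLocalization.Away.map (C.𝒮h.res k.hU l.hU i) (C.gen k.U k.hU k.e)) := by
  ext q
  obtain ⟨n, x, hxn, rfl⟩ := HomogeneousLocalization.Away.mk_surjective (C.𝒮h.deg k.U k.hU)
    (C.gen_mem k.U k.hU k.e) q
  simp only [RingHom.comp_apply]
  rw [HomogeneousLocalization.Away.map_mk _ _ _ _ _ hxn, HomogeneousLocalization.awayMap_mk, toInv, toInv]
  erw [TwoGen.awayLift_mk, TwoGen.awayLift_mk]
  let Dl := C.twoGen l.U l.hU (D.frame_left l.hR)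
  let tl : A.presheaf.obj (op l.U) := j'.app l.U l.e'
  let χ := (A.presheaf.map (homOfLE i).op).hom.comp
    ((C.twoGen k.U k.hU (D.frame_left k.hR)).lift (A.str.app (op k.U)).hom 1 (j'.app k.U k.e' : A.presheaf.obj (op k.U)))
  let χ' := (Dl.lift (A.str.app (op l.U)).hom 1 tl).comp (C.𝒮h.res k.hU l.hU i).toRingHom
  have hstr : ∀ r, Dl.lift (A.str.app (op l.U)).hom 1 tl ((C.𝒮h.str.app (op l.U)).hom r) =
      (A.str.app (op l.U)).hom r := fun r => Dl.lift_ρ _ _ _ r
  have key : χ' x = (A.str.app (op l.U)).hom v.1 ^ n * χ x := by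
    refine (C.twoGen k.U k.hU (D.frame_left k.hR)).scale (fun r => ?_) ?_ ?_ (by simpa using hxn)
    · simp only [χ, χ', RingHom.comp_apply, TwoGen.lift_ρ]
      refine (congrArg (Dl.lift _ 1 tl) (C.res_str k.hU l.hU i r)).trans ((hstr _).trans ?_)
      exact congr(CommRingCat.Hom.hom $(A.str.naturality (homOfLE i).op) r)
    · simp only [χ, χ', RingHom.comp_apply, TwoGen.lift_a, map_one, mul_one]
      refine (congrArg (Dl.lift _ 1 tl) ((C.res_gen k.hU l.hU i k.e).trans
        ((congrArg (C.gen l.U l.hU) hv).trans (C.gen_smul l.U l.hU v.1 l.e)))).trans ?_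
      rw [map_mul, hstr]
      exact (congrArg (_ * ·) (Dl.lift_a _ _ _)).trans (mul_one _)
    · simp only [χ, χ', RingHom.comp_apply, TwoGen.lift_b]
      refine (congrArg (Dl.lift _ 1 tl) (C.res_z k.hU l.hU i)).trans ((Dl.lift_b _ _ _).trans ?_)
      have hj : (A.presheaf.map (homOfLE i).op).hom (j'.app k.U k.e') =
          (A.str.app (op l.U)).hom (v⁻¹).1 * tl := by
        refine (Mero90.app_res j' i k.e').symm.trans ?_
        rw [show res L' i k.e' = (v⁻¹).1 • l.e' from hv']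
        exact Scheme.Modules.Hom.app_smul j' _ _
      rw [hj, ← mul_assoc, ← map_mul, Units.mul_inv, map_one, one_mul]
  change χ x = Dl.lift (A.str.app (op l.U)).hom 1 tl
    (C.𝒮h.res k.hU l.hU i x * (C.𝒮h.str.app (op l.U)).hom (v⁻¹).1 ^ n)
  rw [map_mul, map_pow, hstr]
  refine Eq.trans ?_ (congrArg (· * _) key.symm)
  rw [mul_comm ((A.str.app (op l.U)).hom v.1 ^ n), mul_assoc, ← mul_pow, ← map_mul, Units.mul_inv, map_one,
    one_pow, mul_one]

end FPair

variable {PC : Scheme.{u}} {pC : PC ⟶ Y}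
  {chartC : ∀ (U : Y.Opens) (hU : IsAffineOpen U),
    (((pC ⁻¹ᵁ U : PC.Opens) : Scheme.{u}) ≅ Proj (C.𝒮h.deg U hU))}
  (hC : RelProj.IsRelProj C.𝒮h pC chartC)

theorem piece_res {k l : FPair D} (hC : RelProj.IsRelProj C.𝒮h pC chartC) (i : l.U ≤ k.U) :
    Spec.map (A.presheaf.map (homOfLE i).op) ≫ Spec.map (CommRingCat.ofHom (k.toInv C (j' := j'))) ≫
        k.pcPiece C chartC =
      Spec.map (CommRingCat.ofHom (l.toInv C (j' := j'))) ≫ l.pcPiece C chartC := by
  obtain ⟨v, hv, hv'⟩ := D.rel l.hR (D.res i k.hR)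
  have hx : C.gen l.U l.hU l.e =
      C.𝒮h.res k.hU l.hU i (C.gen k.U k.hU k.e) * (C.𝒮h.str.app (op l.U)).hom (v⁻¹).1 := by
    rw [C.res_gen, hv, C.gen_smul, mul_right_comm, ← map_mul, Units.mul_inv, map_one, one_mul]
  rw [← cancel_mono (RelCone.pointedProjCone C.𝒮 C.poly pC chartC).ι]
  simp only [Category.assoc]
  rw [FPair.pcPiece_ι, FPair.pcPiece_ι, ← map_res_emb' hC k.hU l.hU i]
  have hg := C.gen_mem k.U k.hU k.e
  have e1 := Proj.awayι_comp_map (C.𝒮h.res k.hU l.hU i) (irrelevant_le_map_res C.𝒮h k.hU l.hU i) one_pos _ hg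
  have e2 := Proj.SpecMap_awayMap_awayι (C.𝒮h.deg l.U l.hU) ((C.𝒮h.res k.hU l.hU i).2 hg) one_pos
    (C.𝒮h.str_mem l.U l.hU (v⁻¹).1) hx
  have e3 : A.presheaf.map (homOfLE i).op = CommRingCat.ofHom (A.presheaf.map (homOfLE i).op).hom := rfl
  rw [← Spec.map_comp_assoc, e3, ← CommRingCat.ofHom_comp, FPair.toInv_res C i v hv hv' hx, CommRingCat.ofHom_comp,
    CommRingCat.ofHom_comp, Spec.map_comp_assoc, Spec.map_comp_assoc]
  refine congrArg (Spec.map (CommRingCat.ofHom (l.toInv C (j' := j'))) ≫ ·) ?_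
  refine Eq.trans ?_ (Category.assoc _ _ _)
  refine Eq.trans ?_ (congrArg (fun m => (m ≫ _) ≫ _) e2)
  simp only [Category.assoc]
  refine congrArg (Spec.map (CommRingCat.ofHom (HomogeneousLocalization.awayMap (C.𝒮h.deg l.U l.hU)
    (C.𝒮h.str_mem l.U l.hU (v⁻¹).1) hx)) ≫ ·) ?_
  exact ((Category.assoc _ _ _).symm.trans ((congrArg (· ≫ RelProj.emb pC chartC k.U k.hU) e1.symm).trans
    (Category.assoc _ _ _)))

include hL'q hA hC in
theorem exists_iso_spec_pointedProjCone (D : DualPair L L') :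
    ∃ e : A.spec ≅ ((RelCone.pointedProjCone C.𝒮 C.poly pC chartC : PC.Opens) : Scheme.{u}),
      e.hom ≫ (RelCone.pointedProjCone C.𝒮 C.poly pC chartC).ι ≫ pC = A.π := by
  obtain ⟨φ, hφ, -⟩ := existsUnique_glue_family A.π (κ := FPair D) (fun k => k.U) (FPair.exists_le D)
    (fun k => (specChart A k.U k.hU).hom ≫ Spec.map (CommRingCat.ofHom (k.toInv C (j' := j'))) ≫
      k.pcPiece C chartC) (fun k l i => by
      have e : A.spec.homOfLE (A.π.preimage_mono i) ≫ (specChart A k.U k.hU).hom =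
          (specChart A l.U l.hU).hom ≫ Spec.map (A.presheaf.map (homOfLE i).op) := by
        rw [← cancel_mono (A.ι k.U k.hU), Category.assoc, Category.assoc, specChart_hom_ι,
          Scheme.homOfLE_ι, map_res_specι A k.hU l.hU i, specChart_hom_ι]
      rw [reassoc_of% e, piece_res C hC i])
  have hι : ∀ k : FPair D, A.ι k.U k.hU ≫ φ =
      Spec.map (CommRingCat.ofHom (k.toInv C (j' := j'))) ≫ k.pcPiece C chartC := fun k => by
    rw [← cancel_epi (specChart A k.U k.hU).hom, specChart_hom_ι_assoc, hφ k]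
  have hcov : ∀ c : A.spec, ∃ k : FPair D, c ∈ (A.ι k.U k.hU).opensRange := fun c => by
    obtain ⟨k, hk, -⟩ := FPair.exists_le D (A.π.base c) ⊤ trivial
    exact ⟨k, by rw [opensRange_specι]; exact hk⟩
  have hover : φ ≫ (RelCone.pointedProjCone C.𝒮 C.poly pC chartC).ι ≫ pC = A.π := by
    refine Scheme.hom_ext_of_forall _ _ fun c => ?_
    obtain ⟨k, hk⟩ := hcov c
    refine ⟨(A.ι k.U k.hU).opensRange, hk, ?_⟩
    rw [← cancel_epi (A.ι k.U k.hU).isoOpensRange.hom]
    simp only [← Category.assoc, Scheme.Hom.isoOpensRange_hom_ι]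
    simp only [Category.assoc]
    rw [reassoc_of% (hι k), A.ι_π, reassoc_of% (k.pcPiece_ι C (chartC := chartC)), emb_p hC,
      Proj.awayι_toSpecZero_assoc, ← Spec.map_comp_assoc, ← Spec.map_comp_assoc]
    congr 2
    ext r
    let Dk := C.twoGen k.U k.hU (D.frame_left k.hR)
    let w := HomogeneousLocalization.fromZeroRingHom (C.𝒮h.deg k.U k.hU) (Submonoid.powers Dk.a)
      ((C.𝒮h.strZero k.U k.hU).hom r)
    have hw : w.val = algebraMap _ (Localization.Away Dk.a) ((C.𝒮h.str.app (op k.U)).hom r) :=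
      (HomogeneousLocalization.val_mk _).trans (Localization.mk_one_eq_algebraMap _)
    change IsLocalization.Away.lift (S := Localization.Away Dk.a) Dk.a
      (g := Dk.lift (A.str.app (op k.U)).hom 1 (j'.app k.U k.e' : A.presheaf.obj (op k.U))) (by simp) w.val = _
    rw [hw, IsLocalization.Away.lift_eq]
    exact Dk.lift_ρ _ _ _ r
  have hiso : IsIso φ := by
    let W : FPair D → ((RelCone.pointedProjCone C.𝒮 C.poly pC chartC : PC.Opens) : Scheme.{u}).Opens :=
      fun k => ((RelCone.pointedProjCone C.𝒮 C.poly pC chartC).ι ≫ pC) ⁻¹ᵁ k.U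
    have hW : (⨆ k, W k) = ⊤ := top_le_iff.mp fun x _ => by
      obtain ⟨k, hk, -⟩ := FPair.exists_le D (((RelCone.pointedProjCone C.𝒮 C.poly pC chartC).ι ≫ pC).base x) ⊤ trivial
      exact Opens.mem_iSup.mpr ⟨k, hk⟩
    refine (IsZariskiLocalAtTarget.iff_of_iSup_eq_top (P := MorphismProperty.isomorphisms Scheme) W hW).mpr fun k => ?_
    refine ((MorphismProperty.isomorphisms Scheme).arrow_mk_iso_iff
      (morphismRestrictEq φ (k.opensRange_pcPiece C hC)).symm).mpr ?_
    refine ((MorphismProperty.isomorphisms Scheme).arrow_mk_iso_iff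
      (morphismRestrictOpensRange φ (k.pcPiece C chartC))).mpr ?_
    have hpb : IsPullback (Spec.map (CommRingCat.ofHom (k.toInv C (j' := j')))) (A.ι k.U k.hU)
        (k.pcPiece C chartC) φ := by
      refine IsOpenImmersion.isPullback _ _ _ _ (hι k) ?_
      rw [k.opensRange_pcPiece C hC, opensRange_specι, ← Scheme.Hom.comp_preimage, hover]
    rw [← hpb.flip.isoPullback_inv_snd]
    have : IsIso (CommRingCat.ofHom (k.toInv C (j' := j'))) :=
      (ConcreteCategory.isIso_iff_bijective _).mpr (k.toInv_bijective C hL'q hA)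
    exact (MorphismProperty.cancel_left_of_respectsIso (MorphismProperty.isomorphisms Scheme) _ _).mpr
      (inferInstanceAs (IsIso _))
  exact ⟨asIso φ, hover⟩

end Groth.Agent.EGAProj74
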