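import Groth.Agent.EGAProj74.RLChart
import Groth.Agent.EGAProj74.ExtSection
import Groth.Agent.Amp73.FrameGlue
import Groth.Agent.EGA73.ChartSources

/-!
Tensor powers of `L` map into the symmetric algebra of `L`.
-/

set_option autoImplicit false
set_option backward.isDefEq.respectTransparency.types false

universe u

open CategoryTheory CategoryTheory.Limits AlgebraicGeometry TopologicalSpace Opposite
open scoped HomogeneousIdeal

noncomputable section

namespace Groth.Agent.EGAProj74.SymPow

open Groth.Agent.EGAProj74 Groth.Agent.Var76.LineBundle Groth.Agent.Var76.ZeroScheme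
open Groth.Agent.Amp73 Groth.Agent.EGA73.BundleImmersion

variable {X : Scheme.{u}} {L : X.Modules} (hL : PicF.IsInvertible L) {𝒮L : RelProj.QCGrAlg X} (j : L ⟶ 𝒮L.toModule)

include hL

/-- A morphism into the symmetric algebra sending the frames of a power to the powers of the frames. -/
theorem exists_symHom {M : X.Modules} (k : ℕ) (η : ∀ V : X.Opens, Γ(L, V) → Γ(M, V))
    (hres : ∀ (U V : X.Opens) (h : V ≤ U) (e : Γ(L, U)), res M h (η U e) = η V (res L h e))
    (hsmul : ∀ (V : X.Opens) (c : Γ(X, V)) (e : Γ(L, V)), η V (c • e) = c ^ k • η V e)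
    (hfr : ∀ (V : X.Opens) (e : Γ(L, V)), IsFrame L V e → IsFrame M V (η V e)) :
    ∃ φ : M ⟶ 𝒮L.toModule, ∀ (V : X.Opens), IsAffineOpen V → ∀ e : Γ(L, V), IsFrame L V e →
      φ.app V (η V e) = jR j V e ^ k := by
  let I := Σ V : X.affineOpens, {e : Γ(L, V.1) // IsFrame L V.1 e}
  have hU : ⨆ i : I, (i.1.1 : X.Opens) = ⊤ := top_le_iff.1 fun x _ => by
    obtain ⟨W, hxW, -, e, he⟩ := Mero90.exists_affine_frame hL x ⊤ trivial
    exact Opens.mem_iSup.2 ⟨⟨W, e, he⟩, hxW⟩
  obtain ⟨φ, hφ⟩ := exists_hom_of_frames (L := M) (M := 𝒮L.toModule) (fun i : I => i.1.1) hU (fun i => η _ i.2.1)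
    (fun i => hfr _ _ i.2.2)
    (fun i => (jR j i.1.1 i.2.1 ^ k : 𝒮L.presheaf.obj (op i.1.1))) fun i i' V hi hi' c h => by
      have h' := i.2.2.res hi
      obtain ⟨c', hc'⟩ := exists_coord_of_frame h' (res L hi' i'.2.1)
      rw [hres, hres, ← hc', hsmul] at h
      obtain rfl : c' ^ k = c := by
        have h1 := hfr V _ h' V le_rfl
        refine h1.1 ?_
        dsimp only
        rw [Amp73.res_self]
        exact h
      show (𝒮L.presheaf.map (homOfLE hi').op).hom (jR j i'.1.1 i'.2.1 ^ k) =
        (𝒮L.str.app (op V)).hom (c' ^ k) * (𝒮L.presheaf.map (homOfLE hi).op).hom (jR j i.1.1 i.2.1 ^ k)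
      rw [map_pow, map_pow, map_pow, RLRel.jR_res, RLRel.jR_res, ← hc', RLRel.jR_smul, mul_pow]
  exact ⟨φ, fun V hV e he => hφ ⟨⟨V, hV⟩, e, he⟩⟩

/-- The `n`-th power of `L` in the symmetric algebra. -/
theorem exists_powToSym (n : ℕ) :
    ∃ φ : CohB1.tensorPow L n ⟶ 𝒮L.toModule, ∀ (V : X.Opens), IsAffineOpen V → ∀ e : Γ(L, V), IsFrame L V e →
      φ.app V (epow e n) = jR j V e ^ n :=
  exists_symHom hL j n (fun _ e => epow e n) (fun _ _ h e => res_epow h e n)
    (fun _ c e => epow_smul c e n) fun _ _ he => isFrame_epow he n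

/-- The powers of the powers of `L`, as they arise in extending functions. -/
theorem exists_twistToSym (n m : ℕ) :
    ∃ φ : CohB1.tensorMod (Coh.structureModule X) (CohB1.tensorPow (CohB1.tensorPow L n) m) ⟶ 𝒮L.toModule,
      ∀ (V : X.Opens), IsAffineOpen V → ∀ e : Γ(L, V), IsFrame L V e → ∀ a : Γ(X, V),
        φ.app V (tm (Coh.structureModule X) _ a (epow (epow e n) m)) =
          (𝒮L.str.app (op V)).hom a * jR j V e ^ (n * m) := by
  obtain ⟨φ, hφ⟩ := exists_symHom hL j (n * m)
    (M := CohB1.tensorMod (Coh.structureModule X) (CohB1.tensorPow (CohB1.tensorPow L n) m))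
    (fun V e => tm (Coh.structureModule X) _ (1 : Γ(X, V)) (epow (epow e n) m))
    (fun U V h e => by
      rw [res_tm, res_epow, res_epow]
      exact congrArg (fun a => tm (Coh.structureModule X) _ a _) (map_one (X.presheaf.map (homOfLE h).op).hom))
    (fun V c e => by rw [epow_smul, epow_smul, ← pow_mul, tm_smul_right])
    fun V e he => isFrame_tm (by
      intro W hW
      show Function.Bijective fun a : Γ(X, W) => a * (X.presheaf.map (homOfLE hW).op).hom 1
      simp only [map_one, mul_one]
      exact Function.bijective_id) (isFrame_epow (isFrame_epow he n) m)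
  refine ⟨φ, fun V hV e he a => ?_⟩
  rw [show tm (Coh.structureModule X) (CohB1.tensorPow (CohB1.tensorPow L n) m) a (epow (epow e n) m) =
    a • tm (Coh.structureModule X) _ (1 : Γ(X, V)) (epow (epow e n) m) from by
      rw [← tm_smul_left]
      exact congrArg (fun b => tm (Coh.structureModule X) _ b _) (mul_one a).symm,
    Scheme.Modules.Hom.app_smul, hφ V hV e he]
  rfl

end Groth.Agent.EGAProj74.SymPow
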