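import Groth.Agent.EGAProj74.LineChart
import Groth.Agent.EGAProj74.RelSpecGamma
import Groth.Agent.EGAProj74.SymPowHom
import Groth.Agent.EGAProj74.ContractionGeom
import Groth.Agent.EGAProj74.ExtSection
import Groth.Agent.Amp73.Local
import Mathlib.AlgebraicGeometry.Morphisms.Finite

/-! Contraction of the zero section of a relatively ample line bundle. -/

set_option autoImplicit false
set_option backward.isDefEq.respectTransparency false

universe u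

open CategoryTheory CategoryTheory.Limits AlgebraicGeometry TopologicalSpace Opposite

noncomputable section

namespace Groth.Agent.EGAProj74.LineContraction

open Groth.Agent.EGAProj74 Var76.LineBundle Var76.ZeroScheme Amp73 EGA73.BundleImmersion

variable {X Y : Scheme.{u}} {L : X.Modules} (hLq : Coh.IsQCoh L)
  {𝒜 : RelProj.QCGrAlg X} {j : L ⟶ 𝒜.toModule} (hA : RelProj.IsGrSymAlg L 𝒜 j)
  {aug : 𝒜.toQCAlg ⟶ RelSpec.QCAlg.unit X} (haug : RelCone.IsAugmentation 𝒜 aug)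
  {j0 : X ⟶ 𝒜.toQCAlg.spec} (hj0 : RelCone.IsVertex 𝒜 aug j0)

section chart

variable (A : RelSpec.QCAlg X) (W : X.Opens) (hW : IsAffineOpen W)

theorem specMap_gammaAff_fromSpec :
    Spec.map (A.gammaAff W hW) ≫ (hW.preimage A.π).fromSpec = A.ι W hW := by
  rw [RelSpec.QCAlg.gammaAff, Spec.map_comp, Category.assoc,
    IsAffineOpen.SpecMap_appLE_fromSpec _ _ (isAffineOpen_top _), IsAffineOpen.fromSpec_top,
    Scheme.isoSpec_Spec_inv, ← Category.assoc, ← Spec.map_comp, Iso.inv_hom_id, Spec.map_id, Category.id_comp]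

theorem mem_basicOpen_iff (z : Γ(A.spec, A.π ⁻¹ᵁ W)) (P : PrimeSpectrum (A.presheaf.obj (op W))) :
    A.ι W hW P ∈ A.spec.basicOpen z ↔ (A.gammaAff W hW).hom z ∉ P.asIdeal := by
  rw [← specMap_gammaAff_fromSpec A W hW, Scheme.Hom.comp_apply]
  show Spec.map (A.gammaAff W hW) P ∈ (hW.preimage A.π).fromSpec ⁻¹ᵁ A.spec.basicOpen z ↔ _
  rw [(hW.preimage A.π).fromSpec_preimage_basicOpen]
  rfl

theorem mem_preimage_basicOpen_iff (c : Γ(X, W)) (P : PrimeSpectrum (A.presheaf.obj (op W))) :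
    A.π (A.ι W hW P) ∈ X.basicOpen c ↔ (A.str.app (op W)).hom c ∉ P.asIdeal := by
  rw [← Scheme.Hom.comp_apply, A.ι_π, Scheme.Hom.comp_apply]
  show Spec.map (A.str.app (op W)) P ∈ hW.fromSpec ⁻¹ᵁ X.basicOpen c ↔ _
  rw [hW.fromSpec_preimage_basicOpen]
  rfl

theorem exists_eq_ι (v : A.spec) (hv : A.π v ∈ W) : ∃ P, A.ι W hW P = v :=
  (opensRange_specι A W hW).ge hv

theorem π_ι_mem (P : PrimeSpectrum (A.presheaf.obj (op W))) : A.π (A.ι W hW P) ∈ W :=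
  (opensRange_specι A W hW).le ⟨P, rfl⟩

end chart

include hj0 in
theorem appLE_j0 (W : X.Opens) (hW : IsAffineOpen W) (h : W ≤ j0 ⁻¹ᵁ (𝒜.toQCAlg.π ⁻¹ᵁ W))
    (z : Γ(𝒜.toQCAlg.spec, 𝒜.toQCAlg.π ⁻¹ᵁ W)) :
    j0.appLE (𝒜.toQCAlg.π ⁻¹ᵁ W) W h z = (aug.hom.app (op W)).hom ((𝒜.toQCAlg.gammaAff W hW).hom z) := by
  have e : j0.appLE (𝒜.toQCAlg.π ⁻¹ᵁ W) W h = 𝒜.toQCAlg.gammaAff W hW ≫ aug.hom.app (op W) := by
    refine Spec.map_injective ?_
    rw [← cancel_mono (hW.preimage 𝒜.toQCAlg.π).fromSpec, IsAffineOpen.SpecMap_appLE_fromSpec _ _ hW h,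
      Spec.map_comp, Category.assoc, specMap_gammaAff_fromSpec]
    exact hj0.chart W hW
  rw [e]
  rfl

include hj0 in
theorem le_preimage_j0 (W : X.Opens) : W ≤ j0 ⁻¹ᵁ (𝒜.toQCAlg.π ⁻¹ᵁ W) := by
  rw [← Scheme.Hom.comp_preimage, hj0.comp_π]
  rfl

variable (V0 : 𝒜.toQCAlg.spec.Opens) (hV0 : (V0 : Set 𝒜.toQCAlg.spec) = (Set.range j0.base)ᶜ)

include hLq hA haug hj0 hV0 in
theorem ι_mem_V0_iff (W : X.Opens) (hW : IsAffineOpen W) (e : Γ(L, W)) (he : IsFrame L W e)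
    (P : PrimeSpectrum (𝒜.presheaf.obj (op W))) :
    𝒜.toQCAlg.ι W hW P ∈ V0 ↔ jR j W e ∉ P.asIdeal := by
  have hiff : 𝒜.toQCAlg.ι W hW P ∈ Set.range j0.base ↔ jR j W e ∈ P.asIdeal := by
    constructor
    · rintro ⟨x, hx⟩
      have hxW : x ∈ W := by
        have h1 := congrArg 𝒜.toQCAlg.π hx
        rw [← Scheme.Hom.comp_apply, hj0.comp_π] at h1
        have h2 := π_ι_mem 𝒜.toQCAlg W hW P
        rwa [← h1] at h2
      have h3 : j0 (hW.fromSpec (hW.primeIdealOf ⟨x, hxW⟩)) =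
          𝒜.toQCAlg.ι W hW (Spec.map (aug.hom.app (op W)) (hW.primeIdealOf ⟨x, hxW⟩)) := by
        rw [← Scheme.Hom.comp_apply, ← Scheme.Hom.comp_apply, hj0.chart W hW]
        rfl
      rw [hW.fromSpec_primeIdealOf] at h3
      have hP := (𝒜.toQCAlg.ι W hW).isOpenEmbedding.injective (hx.symm.trans h3)
      rw [hP]
      show (aug.hom.app (op W)).hom (jR j W e) ∈ (hW.primeIdealOf ⟨x, hxW⟩).asIdeal
      rw [haug W hW 0 (jR j W e) (hA.2 W hW e)]
      exact zero_mem _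
    · intro hP
      refine ⟨hW.fromSpec (Spec.map (𝒜.str.app (op W)) P), ?_⟩
      rw [← Scheme.Hom.comp_apply hW.fromSpec, hj0.chart W hW, Scheme.Hom.comp_apply]
      refine congrArg (𝒜.toQCAlg.ι W hW) (PrimeSpectrum.ext (Ideal.ext fun b => ?_))
      show (𝒜.str.app (op W)).hom ((aug.hom.app (op W)).hom b) ∈ P.asIdeal ↔ b ∈ P.asIdeal
      have hd : b - (𝒜.str.app (op W)).hom ((aug.hom.app (op W)).hom b) ∈ P.asIdeal := by
        let Φ := LineChart.equiv hLq hA W hW e he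
        obtain ⟨r, hr⟩ := Polynomial.X_dvd_iff.2
          (show (Φ (b - (𝒜.str.app (op W)).hom ((aug.hom.app (op W)).hom b))).coeff 0 = 0 by
            rw [← LineChart.aug_eq_coeff hLq hA W hW e he haug, map_sub, aug_str, sub_self])
        rw [← LineChart.equiv_gen hLq hA W hW e he, ← Φ.apply_symm_apply r, ← map_mul] at hr
        rw [Φ.injective hr]
        exact Ideal.mul_mem_right _ _ hP
      refine ⟨fun h => ?_, fun h => ?_⟩
      · have := add_mem hd h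
        rwa [sub_add_cancel] at this
      · have := sub_mem h hd
        rwa [sub_sub_cancel] at this
  rw [← SetLike.mem_coe, hV0, Set.mem_compl_iff, hiff]

variable (hL : PicF.IsInvertible L)

include hL in
/-- The function on the bundle of a section of a power of `L`. -/
theorem exists_function (G : X.Opens) (n : ℕ) (s : Γ(CohB1.tensorPow L n, G)) :
    ∃ h : Γ(𝒜.toQCAlg.spec, 𝒜.toQCAlg.π ⁻¹ᵁ G), ∀ (W : X.Opens) (hW : IsAffineOpen W) (hWG : W ≤ G)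
      (e : Γ(L, W)) (_ : IsFrame L W e) (c : Γ(X, W)) (_ : c • epow e n = res _ hWG s),
        (𝒜.toQCAlg.gammaAff W hW).hom
            (𝒜.toQCAlg.spec.presheaf.map (homOfLE (𝒜.toQCAlg.π.preimage_mono hWG)).op h) =
          (𝒜.str.app (op W)).hom c * jR j W e ^ n := by
  obtain ⟨φ, hφ⟩ := SymPow.exists_powToSym hL j n
  haveI := isIso_gammaMap 𝒜.toQCAlg
  refine ⟨(inv (𝒜.toQCAlg.gammaMap.app (op G))).hom (φ.app G s), fun W hW hWG e he c hc => ?_⟩
  rw [← 𝒜.toQCAlg.gammaMap_app W hW]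
  refine Eq.trans (congr(CommRingCat.Hom.hom $(𝒜.toQCAlg.gammaMap.naturality (homOfLE hWG).op)
    ((inv (𝒜.toQCAlg.gammaMap.app (op G))).hom (φ.app G s)))) ?_
  have hinv : ∀ z : 𝒜.presheaf.obj (op G),
      (𝒜.toQCAlg.gammaMap.app (op G)).hom ((inv (𝒜.toQCAlg.gammaMap.app (op G))).hom z) = z := fun z =>
    congr(CommRingCat.Hom.hom $(IsIso.inv_hom_id (𝒜.toQCAlg.gammaMap.app (op G))) z)
  refine Eq.trans (congrArg (𝒜.presheaf.map (homOfLE hWG).op).hom (hinv (φ.app G s))) ?_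
  show res 𝒜.toModule hWG (φ.app G s) = _
  rw [← Mero90.app_res, ← hc, Scheme.Modules.Hom.app_smul, hφ W hW e he]
  rfl

include hL in
/-- A section of a power of `L` over the preimage of an affine open, affine locus around a point. -/
theorem exists_affine_flocus {p : X ⟶ Y} (hamp : RelAmple.IsRelAmple p L) (U : Y.Opens) (hU : IsAffineOpen U)
    (x : X) (hx : x ∈ p ⁻¹ᵁ U) :
    ∃ (n : ℕ) (s : Γ(CohB1.tensorPow L (n + 1), p ⁻¹ᵁ U)), x ∈ flocus s ∧ IsAffineOpen (flocus s) := by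
  set X1 := p ⁻¹ᵁ U
  obtain ⟨_, ⟨n, σ, rfl⟩, hxG, ha⟩ := (isAmple_iff.1 (hamp.2 ⟨U, hU⟩)).2.2 ⟨x, hx⟩
  let M := CohB1.tensorPow L (n + 1)
  let σ' : Coh.structureModule (X1 : Scheme.{u}) ⟶ M.restrict X1.ι := σ ≫ (powRestrict X1.ι L (n + 1)).hom
  have hle : X1 ≤ X1.ι ''ᵁ ⊤ := X1.ι_image_top.ge
  let t : Γ(M, X1.ι ''ᵁ ⊤) := val (M.restrict X1.ι) σ' ⊤
  let s : Γ(M, X1) := res M hle t
  have hval : ∀ V, val _ σ' V =
      (res M (X1.ι.image_mono (le_top : V ≤ ⊤) |>.trans X1.ι_image_top.le) s : Γ(M, X1.ι ''ᵁ V)) := fun V => by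
    show _ = res M _ (res M hle t)
    rw [res_res]
    exact (res_val (M.restrict X1.ι) σ' (le_top : V ≤ ⊤)).symm
  have hloc : X1.ι ''ᵁ CohB1.genLocus _ σ' = flocus s := by
    refine le_antisymm ?_ ?_
    · have h1 := isFrame_genLocus σ'
      rw [isFrame_restrict_iff, hval] at h1
      exact le_flocus s _ h1
    · have h2 : X1.ι ⁻¹ᵁ flocus s ≤ CohB1.genLocus _ σ' := by
        rw [← isFrame_iff_le_genLocus, isFrame_restrict_iff, hval]
        have h3 := (isFrame_flocus s).res (X1.ι.image_preimage_le (flocus s))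
        rwa [res_res] at h3
      refine le_trans ?_ (X1.ι.image_mono h2)
      rw [Scheme.Hom.image_preimage_eq_opensRange_inf, Scheme.Opens.opensRange_ι]
      exact le_inf (flocus_le s) le_rfl
  have hG : CohB1.genLocus _ σ' = CohB1.genLocus _ σ := genLocus_comp_iso _ _
  refine ⟨n, s, ?_, ?_⟩
  · rw [← hloc, hG]; exact ⟨⟨x, hx⟩, hxG, rfl⟩
  · rw [← hloc, hG]; exact ha.image_of_isOpenImmersion _

variable (p : X ⟶ Y) [QuasiCompact p] [QuasiSeparated p]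

include hLq hA haug hj0 hV0 hL in
theorem exists_good (hamp : RelAmple.IsRelAmple p L) (U : Y.Opens) (hU : IsAffineOpen U)
    (x : X) (hx : x ∈ p ⁻¹ᵁ U) :
    ∃ (h : Γ(𝒜.toQCAlg.spec, (𝒜.toQCAlg.π ≫ p) ⁻¹ᵁ U)) (n : ℕ) (G : X.Opens) (_ : G ≤ p ⁻¹ᵁ U),
      IsAffineOpen G ∧ x ∈ G ∧
      (∀ hle, j0.appLE ((𝒜.toQCAlg.π ≫ p) ⁻¹ᵁ U) (p ⁻¹ᵁ U) hle h = 0) ∧
      IsAffineOpen (𝒜.toQCAlg.spec.basicOpen h) ∧
      𝒜.toQCAlg.spec.basicOpen h = 𝒜.toQCAlg.π ⁻¹ᵁ G ⊓ V0 ∧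
      ∀ (W : X.Opens) (hW : IsAffineOpen W) (hWG : W ≤ G) (hWU : W ≤ p ⁻¹ᵁ U) (e : Γ(L, W)),
        IsFrame L W e → ∃ u : Γ(X, W), IsUnit u ∧
          (𝒜.toQCAlg.gammaAff W hW).hom
              (𝒜.toQCAlg.spec.presheaf.map (homOfLE (𝒜.toQCAlg.π.preimage_mono hWU)).op h) =
            (𝒜.str.app (op W)).hom u * jR j W e ^ (n + 1) := by
  obtain ⟨n, s, hxs, hs⟩ := exists_affine_flocus hL hamp U hU x hx
  obtain ⟨h, hh⟩ := exists_function (𝒜 := 𝒜) (j := j) hL (p ⁻¹ᵁ U) (n + 1) s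
  let G := flocus s
  have hG : G ≤ p ⁻¹ᵁ U := flocus_le s
  have hbo : 𝒜.toQCAlg.spec.basicOpen h = 𝒜.toQCAlg.π ⁻¹ᵁ G ⊓ V0 := by
    refine Opens.ext (Set.ext fun v => ?_)
    by_cases hvU : 𝒜.toQCAlg.π v ∈ p ⁻¹ᵁ U
    swap
    · exact ⟨fun hv => absurd (𝒜.toQCAlg.spec.basicOpen_le h hv) hvU, fun hv => absurd (hG hv.1) hvU⟩
    obtain ⟨⟨W, hW⟩, hvW, hWU, e, he⟩ := Mero90.exists_affine_frame hL (𝒜.toQCAlg.π v) (p ⁻¹ᵁ U) hvU
    obtain ⟨c, hc⟩ := EGAProj74.exists_coord_of_frame (isFrame_epow he (n + 1)) (res _ hWU s)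
    obtain ⟨P, rfl⟩ := exists_eq_ι 𝒜.toQCAlg W hW v hvW
    have hfl : G ⊓ W = X.basicOpen c := flocus_inf_eq_basicOpen s hWU (isFrame_epow he (n + 1)) hc
    let h' := 𝒜.toQCAlg.spec.presheaf.map (homOfLE (𝒜.toQCAlg.π.preimage_mono hWU)).op h
    have h1 : 𝒜.toQCAlg.ι W hW P ∈ 𝒜.toQCAlg.spec.basicOpen h ↔
        𝒜.toQCAlg.ι W hW P ∈ 𝒜.toQCAlg.spec.basicOpen h' := by
      simp only [h']
      rw [Scheme.basicOpen_res]
      exact ⟨fun hv => ⟨hvW, hv⟩, fun hv => hv.2⟩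
    show 𝒜.toQCAlg.ι W hW P ∈ 𝒜.toQCAlg.spec.basicOpen h ↔
      𝒜.toQCAlg.ι W hW P ∈ 𝒜.toQCAlg.π ⁻¹ᵁ G ⊓ V0
    rw [h1, mem_basicOpen_iff (hW := hW), hh W hW hWU e he c hc, P.2.mul_mem_iff_mem_or_mem, not_or,
      P.2.pow_mem_iff_mem _ n.succ_pos, ← mem_preimage_basicOpen_iff (hW := hW),
      ← ι_mem_V0_iff hLq hA haug hj0 V0 hV0 W hW e he, ← hfl]
    exact ⟨fun hv => ⟨hv.1.1, hv.2⟩, fun hv => ⟨⟨hv.1, hvW⟩, hv.2⟩⟩
  refine ⟨h, n, G, hG, hs, hxs, fun hle => ?_, ?_, hbo, fun W hW hWG hWU e he => ?_⟩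
  · refine TopCat.Sheaf.eq_of_locally_eq' X.sheaf
      (fun i : {W : X.affineOpens // W.1 ≤ p ⁻¹ᵁ U ∧ ∃ e, IsFrame L W.1 e} => i.1.1) (p ⁻¹ᵁ U)
      (fun i => homOfLE i.2.1) (fun a ha => ?_) _ _ fun i => ?_
    · obtain ⟨W, haW, hWU, e, he⟩ := Mero90.exists_affine_frame hL a (p ⁻¹ᵁ U) ha
      exact Opens.mem_iSup.2 ⟨⟨W, hWU, e, he⟩, haW⟩
    obtain ⟨⟨W, hW⟩, hWU, e, he⟩ := i
    show X.presheaf.map _ (j0.appLE _ _ hle h) = X.presheaf.map _ 0
    rw [map_zero, ← CommRingCat.comp_apply, Scheme.Hom.appLE_map]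
    obtain ⟨c, hc⟩ := EGAProj74.exists_coord_of_frame (isFrame_epow he (n + 1)) (res _ hWU s)
    have h2 := appLE_j0 hj0 W hW (le_preimage_j0 hj0 W)
      (𝒜.toQCAlg.spec.presheaf.map (homOfLE (𝒜.toQCAlg.π.preimage_mono hWU)).op h)
    rw [hh W hW hWU e he c hc, ← CommRingCat.comp_apply, Scheme.Hom.map_appLE] at h2
    refine h2.trans ?_
    rw [map_mul, map_pow, haug W hW 0 (jR j W e) (hA.2 W hW e), zero_pow n.succ_ne_zero, mul_zero]
  · have ha : IsAffineOpen (𝒜.toQCAlg.π ⁻¹ᵁ G) := hs.preimage _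
    have hle : 𝒜.toQCAlg.π ⁻¹ᵁ G ≤ (𝒜.toQCAlg.π ≫ p) ⁻¹ᵁ U := 𝒜.toQCAlg.π.preimage_mono hG
    have hb := ha.basicOpen (𝒜.toQCAlg.spec.presheaf.map (homOfLE hle).op h)
    rwa [Scheme.basicOpen_res, inf_eq_right.2 (hbo.le.trans inf_le_left)] at hb
  · obtain ⟨c, hc⟩ := EGAProj74.exists_coord_of_frame (isFrame_epow he (n + 1)) (res _ hWU s)
    refine ⟨c, ?_, hh W hW hWU e he c hc⟩
    have hfl : G ⊓ W = X.basicOpen c := flocus_inf_eq_basicOpen s hWU (isFrame_epow he (n + 1)) hc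
    have hu := RingedSpace.isUnit_res_basicOpen X.toLocallyRingedSpace.toRingedSpace c
    have key : ∀ (O : X.Opens) (_ : O = W) (hO : O ≤ W), IsUnit (X.presheaf.map (homOfLE hO).op c) → IsUnit c := by
      rintro O rfl hO hu
      rwa [show homOfLE hO = 𝟙 O from Subsingleton.elim _ _, op_id, X.presheaf.map_id] at hu
    exact key _ (hfl.symm.trans (inf_eq_right.2 hWG)) _ hu

include hLq hA haug hj0 hV0 hL in
theorem isAffineHom_ι : IsAffineHom V0.ι := by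
  refine isAffineHom_of_forall_exists_isAffineOpen _ fun v => ?_
  obtain ⟨⟨W, hW⟩, hvW, -, e, he⟩ := Mero90.exists_affine_frame hL (𝒜.toQCAlg.π v) ⊤ trivial
  haveI := isIso_gammaAff 𝒜.toQCAlg W hW
  let z := (inv (𝒜.toQCAlg.gammaAff W hW)).hom (jR j W e)
  have hz : 𝒜.toQCAlg.spec.basicOpen z = 𝒜.toQCAlg.π ⁻¹ᵁ W ⊓ V0 := by
    refine Opens.ext (Set.ext fun v => ?_)
    by_cases hv : 𝒜.toQCAlg.π v ∈ W
    swap
    · exact ⟨fun h => absurd (𝒜.toQCAlg.spec.basicOpen_le z h) hv, fun h => absurd h.1 hv⟩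
    obtain ⟨P, rfl⟩ := exists_eq_ι 𝒜.toQCAlg W hW v hv
    show _ ∈ 𝒜.toQCAlg.spec.basicOpen z ↔ _ ∈ 𝒜.toQCAlg.π ⁻¹ᵁ W ⊓ V0
    rw [mem_basicOpen_iff]
    simp only [z, ← CommRingCat.comp_apply, IsIso.inv_hom_id]
    refine Iff.trans ?_ ((ι_mem_V0_iff hLq hA haug hj0 V0 hV0 W hW e he P).symm.trans
      ⟨fun h => ⟨hv, h⟩, fun h => h.2⟩)
    rfl
  refine ⟨𝒜.toQCAlg.π ⁻¹ᵁ W, hvW, hW.preimage _, ?_⟩
  rw [← V0.ι.preimage_image_eq (V0.ι ⁻¹ᵁ _), Scheme.Hom.image_preimage_eq_opensRange_inf,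
    Scheme.Opens.opensRange_ι, inf_comm, ← hz]
  exact ((hW.preimage _).basicOpen z).preimage_of_isOpenImmersion _
    (by rw [Scheme.Opens.opensRange_ι, hz]; exact inf_le_right)

set_option maxHeartbeats 1200000 in
include hLq hA haug hj0 hV0 hL in
/-- The properties of the contraction maps of a relatively ample line bundle. -/
theorem contraction_props (hamp : RelAmple.IsRelAmple p L) (hj : j0 ≫ (𝒜.toQCAlg.π ≫ p) = p)
    {ε : Y ⟶ ContractionCone.C hj} {q : 𝒜.toQCAlg.spec ⟶ ContractionCone.C hj}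
    (hεg : ε ≫ ContractionCone.g hj = 𝟙 Y) (hqg : q ≫ ContractionCone.g hj = 𝒜.toQCAlg.π ≫ p)
    (hq : ∀ (U : Y.Opens) (hU : IsAffineOpen U) (h : (𝒜.toQCAlg.π ≫ p) ⁻¹ᵁ U ≤ q ⁻¹ᵁ (ContractionCone.g hj ⁻¹ᵁ U))
      (z : Γ(ContractionCone.C hj, ContractionCone.g hj ⁻¹ᵁ U)),
      q.appLE (ContractionCone.g hj ⁻¹ᵁ U) ((𝒜.toQCAlg.π ≫ p) ⁻¹ᵁ U) h z = (ContractionCone.fn hj U hU z).1.2)
    (hε : ∀ (U : Y.Opens) (hU : IsAffineOpen U) (h : U ≤ ε ⁻¹ᵁ (ContractionCone.g hj ⁻¹ᵁ U))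
      (z : Γ(ContractionCone.C hj, ContractionCone.g hj ⁻¹ᵁ U)),
      ε.appLE (ContractionCone.g hj ⁻¹ᵁ U) U h z = (ContractionCone.fn hj U hU z).1.1) :
    IsOpenImmersion (V0.ι ≫ q) ∧ QuasiCompact (V0.ι ≫ q) ∧
      Set.range (V0.ι ≫ q).base ∩ Set.range ε.base = ∅ ∧
      (IsProper p → IsProper q ∧ Set.range (V0.ι ≫ q).base = (Set.range ε.base)ᶜ) := by
  have hVle : ∀ (U : Y.Opens) (_ : IsAffineOpen U) (h : Γ(𝒜.toQCAlg.spec, (𝒜.toQCAlg.π ≫ p) ⁻¹ᵁ U)),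
      j0.appLE _ (p ⁻¹ᵁ U) (ContractionCone.preimage_le p _ j0 hj U) h = 0 →
        𝒜.toQCAlg.spec.basicOpen h ≤ V0 := by
    intro U hU h h0 v hv
    rw [← SetLike.mem_coe, hV0]
    rintro ⟨x, rfl⟩
    have hxU : x ∈ p ⁻¹ᵁ U := by
      have := 𝒜.toQCAlg.spec.basicOpen_le h hv
      change (j0 ≫ 𝒜.toQCAlg.π ≫ p) x ∈ U at this
      rwa [hj] at this
    have h1 : x ∈ X.basicOpen (j0.appLE _ (p ⁻¹ᵁ U) (ContractionCone.preimage_le p _ j0 hj U) h) := by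
      rw [Scheme.basicOpen_appLE]; exact ⟨hxU, hv⟩
    rw [h0, Scheme.basicOpen_zero] at h1
    exact h1.elim
  have hgood : ∀ v ∈ V0, ∃ (U : Y.Opens) (_ : IsAffineOpen U) (h : Γ(𝒜.toQCAlg.spec, (𝒜.toQCAlg.π ≫ p) ⁻¹ᵁ U)),
      j0.appLE _ (p ⁻¹ᵁ U) (ContractionCone.preimage_le p _ j0 hj U) h = 0 ∧
        v ∈ 𝒜.toQCAlg.spec.basicOpen h ∧ IsAffineOpen (𝒜.toQCAlg.spec.basicOpen h) := by
    intro v hv
    obtain ⟨U, hU, hxU, -⟩ :=
      exists_isAffineOpen_mem_and_subset (U := (⊤ : Y.Opens)) (x := p (𝒜.toQCAlg.π v)) trivial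
    obtain ⟨h, n, G, hG, -, hxG, h0, ha, hbo, -⟩ := exists_good hLq hA haug hj0 V0 hV0 hL p hamp U hU _ hxU
    exact ⟨U, hU, h, h0 _, hbo.ge ⟨hxG, hv⟩, ha⟩
  obtain ⟨hoi, hdisj⟩ :=
    ContractionCone.isOpenImmersion_and_disjoint hj hεg hqg hq hε V0 hVle hgood
  haveI : QuasiCompact q := by
    haveI : QuasiCompact (q ≫ ContractionCone.g hj) := by rw [hqg]; infer_instance
    exact QuasiCompact.of_comp q (ContractionCone.g hj)
  haveI := isAffineHom_ι hLq hA haug hj0 V0 hV0 hL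
  refine ⟨hoi, inferInstance, hdisj, fun hp => ?_⟩
  haveI : IsProper q := by
    let g := ContractionCone.g hj
    haveI : IsAffineHom (pullback.fst p g) := MorphismProperty.pullback_fst (P := @IsAffineHom) p g inferInstance
    let m : 𝒜.toQCAlg.spec ⟶ pullback p g := pullback.lift 𝒜.toQCAlg.π q hqg.symm
    haveI : IsAffineHom g := inferInstanceAs (IsAffineHom (ContractionCone.g hj))
    have hm1 : m ≫ pullback.fst p g = 𝒜.toQCAlg.π := pullback.lift_fst _ _ _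
    have hm2 : m ≫ pullback.snd p g = q := pullback.lift_snd _ _ _
    haveI : LocallyOfFiniteType 𝒜.toQCAlg.π := by
      refine IsZariskiLocalAtTarget.of_iSup_eq_top (P := @LocallyOfFiniteType)
        (fun i : {W : X.affineOpens // ∃ e, IsFrame L W.1 e} => i.1.1)
        (top_le_iff.1 fun x _ => by
          obtain ⟨W, hxW, -, e, he⟩ := Mero90.exists_affine_frame hL x ⊤ trivial
          exact Opens.mem_iSup.2 ⟨⟨W, e, he⟩, hxW⟩) fun i => ?_
      obtain ⟨⟨W, hW⟩, e, he⟩ := i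
      haveI : IsAffine (W : Scheme.{u}) := hW
      haveI : IsAffine (𝒜.toQCAlg.π ⁻¹ᵁ W : Scheme.{u}) := hW.preimage _
      refine (HasRingHomProperty.iff_of_isAffine (P := @LocallyOfFiniteType)).2 ?_
      rw [Scheme.Hom.appTop, morphismRestrict_app']
      haveI := isIso_gammaAff 𝒜.toQCAlg W hW
      have hft : (𝒜.toQCAlg.π.app W).hom.FiniteType := by
        have e1 : 𝒜.toQCAlg.π.app W = 𝒜.str.app (op W) ≫ inv (𝒜.toQCAlg.gammaAff W hW) := by
          rw [IsIso.eq_comp_inv]; exact 𝒜.toQCAlg.π_app_gammaAff W hW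
        rw [e1]
        refine RingHom.FiniteType.comp (RingHom.FiniteType.of_surjective _
          (ConcreteCategory.bijective_of_isIso (inv (𝒜.toQCAlg.gammaAff W hW))).2) ?_
        letI := ((𝒜.str.app (op W)).hom).toAlgebra
        have hCmap : ∀ r : Γ(X, W), algebraMap Γ(X, W) (𝒜.presheaf.obj (op W)) r = (𝒜.str.app (op W)).hom r :=
          fun _ => rfl
        refine ⟨⟨{jR j W e}, top_le_iff.1 fun z _ => ?_⟩⟩
        have hz : z ∈ Subring.closure (Set.range (𝒜.str.app (op W)).hom ∪ {jR j W e}) := by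
          rw [(LineChart.isLineGen hLq hA W hW e he).gen]; trivial
        refine (Subring.closure_le (t := (Algebra.adjoin Γ(X, W) _).toSubring)).2 ?_ hz
        rintro y (⟨r, rfl⟩ | hy)
        · exact Subalgebra.algebraMap_mem _ r
        · exact Algebra.subset_adjoin (by simpa using hy)
      have key : ∀ (O : X.Opens) (_ : O = W) (O' : 𝒜.toQCAlg.spec.Opens) (_ : O' = 𝒜.toQCAlg.π ⁻¹ᵁ W) (hO),
          (𝒜.toQCAlg.π.appLE O O' hO).hom.FiniteType := by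
        rintro O rfl O' rfl hO
        rwa [← Scheme.Hom.app_eq_appLE]
      exact key _ W.ι_image_top _ (Scheme.Opens.ι_image_top _) _
    haveI : LocallyOfFiniteType m := by
      haveI : LocallyOfFiniteType (m ≫ pullback.fst p g) := by rw [hm1]; infer_instance
      exact locallyOfFiniteType_of_comp m (pullback.fst p g)
    haveI : IsAffineHom m := by
      haveI : IsAffineHom (m ≫ pullback.fst p g) := by rw [hm1]; infer_instance
      exact IsAffineHom.of_comp m (pullback.fst p g)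
    let I := {W : X.affineOpens // ∃ (e : Γ(L, W.1)) (U : Y.Opens) (_ : IsAffineOpen U) (hWU : W.1 ≤ p ⁻¹ᵁ U)
      (n : ℕ) (h : Γ(𝒜.toQCAlg.spec, (𝒜.toQCAlg.π ≫ p) ⁻¹ᵁ U)) (u : Γ(X, W.1)),
      IsFrame L W.1 e ∧ IsUnit u ∧
      j0.appLE _ (p ⁻¹ᵁ U) (ContractionCone.preimage_le p _ j0 hj U) h = 0 ∧
      (𝒜.toQCAlg.gammaAff W.1 W.2).hom
          (𝒜.toQCAlg.spec.presheaf.map (homOfLE (𝒜.toQCAlg.π.preimage_mono hWU)).op h) =
        (𝒜.str.app (op W.1)).hom u * jR j W.1 e ^ (n + 1)}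
    haveI : IsIntegralHom m := by
      refine IsZariskiLocalAtTarget.of_iSup_eq_top (P := @IsIntegralHom)
        (fun i : I => pullback.fst p g ⁻¹ᵁ i.1.1) ?_ fun i => ?_
      · rw [← Scheme.Hom.preimage_iSup]
        refine (congrArg _ (top_le_iff.1 fun x _ => ?_)).trans rfl
        obtain ⟨U, hU, hxU, -⟩ := exists_isAffineOpen_mem_and_subset (U := (⊤ : Y.Opens)) (x := p x) trivial
        obtain ⟨h, n, G, hG, -, hxG, h0, -, -, hu⟩ := exists_good hLq hA haug hj0 V0 hV0 hL p hamp U hU x hxU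
        obtain ⟨⟨W, hW⟩, hxW, hWG, e, he⟩ := Mero90.exists_affine_frame hL x G hxG
        obtain ⟨u, huu, hue⟩ := hu W hW hWG (hWG.trans hG) e he
        exact Opens.mem_iSup.2 ⟨⟨⟨W, hW⟩, e, U, hU, hWG.trans hG, n, h, u, he, huu, h0 _, hue⟩, hxW⟩
      obtain ⟨⟨W, hW⟩, e, U, hU, hWU, n, h, u, he, huu, h0, hue⟩ := i
      have hZ : IsAffineOpen (pullback.fst p g ⁻¹ᵁ W) := hW.preimage _
      haveI : IsAffine (pullback.fst p g ⁻¹ᵁ W : Scheme.{u}) := hZ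
      have hm : m ⁻¹ᵁ (pullback.fst p g ⁻¹ᵁ W) = 𝒜.toQCAlg.π ⁻¹ᵁ W := by
        rw [← Scheme.Hom.comp_preimage, hm1]
      refine (HasAffineProperty.iff_of_isAffine (P := @IsIntegralHom)).2 ⟨hZ.preimage m, ?_⟩
      rw [morphismRestrict_app']
      let θ := m.appLE (pullback.fst p g ⁻¹ᵁ W) (𝒜.toQCAlg.π ⁻¹ᵁ W) hm.ge ≫ 𝒜.toQCAlg.gammaAff W hW
      have hθ : θ.hom.IsIntegral := by
        have hstr : ∀ r : Γ(X, W), θ.hom.IsIntegralElem ((𝒜.str.app (op W)).hom r) := fun r => by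
          have e1 : θ.hom ((pullback.fst p g).app W r) = (𝒜.str.app (op W)).hom r := by
            rw [← 𝒜.toQCAlg.π_app_gammaAff W hW]
            show 𝒜.toQCAlg.gammaAff W hW (m.appLE _ _ _ ((pullback.fst p g).app W r)) =
              𝒜.toQCAlg.gammaAff W hW (𝒜.toQCAlg.π.app W r)
            rw [← CommRingCat.comp_apply ((pullback.fst p g).app W), Scheme.Hom.app_eq_appLE,
              Scheme.Hom.appLE_comp_appLE]
            simp only [hm1]
            rw [← Scheme.Hom.app_eq_appLE]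
          rw [← e1]
          exact θ.hom.isIntegralElem_map
        have hgen : θ.hom.IsIntegralElem (jR j W e) := by
          obtain ⟨b, hb⟩ := huu.exists_right_inv
          let k := ContractionCone.bar hj U hU h h0
          have hle : pullback.fst p g ⁻¹ᵁ W ≤ pullback.snd p g ⁻¹ᵁ (g ⁻¹ᵁ U) := by
            rw [← Scheme.Hom.comp_preimage, ← pullback.condition, Scheme.Hom.comp_preimage]
            exact Scheme.Hom.preimage_mono _ hWU
          let a := (pullback.snd p g).appLE (g ⁻¹ᵁ U) (pullback.fst p g ⁻¹ᵁ W) hle k * (pullback.fst p g).app W b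
          have e2 : θ.hom ((pullback.snd p g).appLE (g ⁻¹ᵁ U) (pullback.fst p g ⁻¹ᵁ W) hle k) =
              (𝒜.str.app (op W)).hom u * jR j W e ^ (n + 1) := by
            show 𝒜.toQCAlg.gammaAff W hW (m.appLE _ _ _ ((pullback.snd p g).appLE _ _ hle k)) = _
            rw [← CommRingCat.comp_apply _ (m.appLE _ _ _), Scheme.Hom.appLE_comp_appLE]
            simp only [hm2]
            refine Eq.trans (congrArg _ ?_) hue
            have hle2 : (𝒜.toQCAlg.π ≫ p) ⁻¹ᵁ U ≤ q ⁻¹ᵁ (g ⁻¹ᵁ U) := by rw [← Scheme.Hom.comp_preimage, hqg]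
            have e3 := hq U hU hle2 k
            rw [ContractionCone.fn_bar] at e3
            dsimp only at e3
            rw [← e3]
            exact (congr(CommRingCat.Hom.hom $(Scheme.Hom.appLE_map q hle2
              (homOfLE (𝒜.toQCAlg.π.preimage_mono hWU)).op) k)).symm
          have e4 : θ.hom ((pullback.fst p g).app W b) = (𝒜.str.app (op W)).hom b := by
            rw [← 𝒜.toQCAlg.π_app_gammaAff W hW]
            show 𝒜.toQCAlg.gammaAff W hW (m.appLE _ _ _ ((pullback.fst p g).app W b)) =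
              𝒜.toQCAlg.gammaAff W hW (𝒜.toQCAlg.π.app W b)
            rw [← CommRingCat.comp_apply ((pullback.fst p g).app W), Scheme.Hom.app_eq_appLE,
              Scheme.Hom.appLE_comp_appLE]
            simp only [hm1]
            rw [← Scheme.Hom.app_eq_appLE]
          refine ⟨Polynomial.X ^ (n + 1) - Polynomial.C a, Polynomial.monic_X_pow_sub_C a n.succ_ne_zero, ?_⟩
          rw [Polynomial.eval₂_sub, Polynomial.eval₂_X_pow, Polynomial.eval₂_C, sub_eq_zero]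
          show jR j W e ^ (n + 1) = θ.hom (_ * _)
          rw [map_mul, e2, e4, mul_right_comm, ← map_mul, hb, map_one, one_mul]
        intro z
        letI := θ.hom.toAlgebra
        have hz : z ∈ Subring.closure (Set.range (𝒜.str.app (op W)).hom ∪ {jR j W e}) := by
          rw [(LineChart.isLineGen hLq hA W hW e he).gen]; trivial
        refine (Subring.closure_le (t := (integralClosure Γ(pullback p g, pullback.fst p g ⁻¹ᵁ W)
          (𝒜.presheaf.obj (op W))).toSubring)).2 ?_ hz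
        rintro y (⟨r, rfl⟩ | hy)
        · exact hstr r
        · rw [Set.mem_singleton_iff.1 hy]; exact hgen
      haveI := isIso_gammaAff 𝒜.toQCAlg W hW
      have hint : (m.appLE (pullback.fst p g ⁻¹ᵁ W) (𝒜.toQCAlg.π ⁻¹ᵁ W) hm.ge).hom.IsIntegral := by
        have e5 : m.appLE (pullback.fst p g ⁻¹ᵁ W) (𝒜.toQCAlg.π ⁻¹ᵁ W) hm.ge =
            θ ≫ inv (𝒜.toQCAlg.gammaAff W hW) := by simp [θ]
        rw [e5]
        exact RingHom.IsIntegral.trans _ _ hθ (RingHom.isIntegral_of_surjective _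
          (ConcreteCategory.bijective_of_isIso (inv (𝒜.toQCAlg.gammaAff W hW))).2)
      have key : ∀ (O : (pullback p g).Opens) (_ : O = pullback.fst p g ⁻¹ᵁ W) (O' : 𝒜.toQCAlg.spec.Opens)
          (_ : O' = 𝒜.toQCAlg.π ⁻¹ᵁ W) (hO), (m.appLE O O' hO).hom.IsIntegral := by
        rintro O rfl O' rfl hO
        exact hint
      exact key _ (Scheme.Opens.ι_image_top _) _ ((Scheme.Opens.ι_image_top _).trans hm) _
    haveI : IsFinite m := (IsFinite.iff_isIntegralHom_and_locallyOfFiniteType m).2 ⟨inferInstance, inferInstance⟩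
    haveI : IsProper (pullback.snd p g) := MorphismProperty.pullback_snd p g hp
    rw [← hm2]
    infer_instance
  refine ⟨this, Set.Subset.antisymm (fun c hc hc' => ?_)
    (ContractionCone.compl_range_subset hj hεg hqg hq hε V0 hVle)⟩
  exact (Set.eq_empty_iff_forall_notMem.1 hdisj) c ⟨hc, hc'⟩

include hLq hA haug hj0 hV0 hL in
/-- The necessity in Grauert's criterion. -/
theorem exists_contraction (hamp : RelAmple.IsRelAmple p L) :
    ∃ (C : Scheme.{u}) (g : C ⟶ Y) (ε : Y ⟶ C) (q : 𝒜.toQCAlg.spec ⟶ C),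
      ε ≫ g = 𝟙 Y ∧ q ≫ g = 𝒜.toQCAlg.π ≫ p ∧ j0 ≫ q = p ≫ ε ∧ IsSeparated g ∧
        IsOpenImmersion (V0.ι ≫ q) ∧ QuasiCompact (V0.ι ≫ q) ∧
        Set.range (V0.ι ≫ q).base ∩ Set.range ε.base = ∅ ∧
        (IsProper p → IsProper q ∧ Set.range (V0.ι ≫ q).base = (Set.range ε.base)ᶜ) := by
  have hj : j0 ≫ (𝒜.toQCAlg.π ≫ p) = p := by rw [← Category.assoc, hj0.comp_π, Category.id_comp]
  obtain ⟨ε, q, hεg, hqg, hjq, hq, hε⟩ := ContractionCone.exists_maps hj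
  exact ⟨_, ContractionCone.g hj, ε, q, hεg, hqg, hjq, inferInstance,
    contraction_props hLq hA haug hj0 V0 hV0 hL p hamp hj hεg hqg hq hε⟩

end Groth.Agent.EGAProj74.LineContraction
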