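import Groth.Agent.EGAProj74.Glue
import Groth.Agent.Amp73.Local
import Groth.Agent.Mero90.Frames

/-!
Dual pairs of frames of an invertible module and an inverse; gluing over small opens.
-/

set_option autoImplicit false

universe u

open CategoryTheory CategoryTheory.Limits AlgebraicGeometry TopologicalSpace Opposite

noncomputable section

namespace Groth.Agent.EGAProj74

open Var76.LineBundle

variable {Y : Scheme.{u}}

/-- A system of mutually dual frames of two modules, closed under restriction, unique up to units. -/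
structure DualPair (L L' : Y.Modules) where
  R : ∀ (U : Y.Opens), Γ(L, U) → Γ(L', U) → Prop
  frame_left : ∀ {U e e'}, R U e e' → IsFrame L U e
  frame_right : ∀ {U e e'}, R U e e' → IsFrame L' U e'
  res : ∀ {U V e e'} (h : V ≤ U), R U e e' → R V (Var76.LineBundle.res L h e) (Var76.LineBundle.res L' h e')
  exists_near : ∀ (x : Y) (V : Y.Opens), x ∈ V → ∃ U : Y.affineOpens, x ∈ U.1 ∧ U.1 ≤ V ∧ ∃ e e', R U.1 e e'
  rel : ∀ {U e e' f f'}, R U e e' → R U f f' → ∃ u : Γ(Y, U)ˣ, f = u.1 • e ∧ f' = (u⁻¹).1 • e'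

/-- The same system with the two modules exchanged. -/
def DualPair.swap {L L' : Y.Modules} (D : DualPair L L') : DualPair L' L where
  R U e' e := D.R U e e'
  frame_left h := D.frame_right h
  frame_right h := D.frame_left h
  res h hR := D.res h hR
  exists_near x V hx := by
    obtain ⟨U, h1, h2, e, e', h⟩ := D.exists_near x V hx
    exact ⟨U, h1, h2, e', e, h⟩
  rel h h' := by
    obtain ⟨u, h1, h2⟩ := D.rel h h'
    exact ⟨u⁻¹, h2, by simpa using h1⟩

theorem nonempty_dualPair {L L' : Y.Modules} (hL : PicF.IsInvertible L) (hL' : PicF.IsInvertible L')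
    (μ : CohB1.tensorMod L L' ≅ Coh.structureModule Y) : Nonempty (DualPair L L') := by
  let one : ∀ U : Y.Opens, Γ(Coh.structureModule Y, U) := fun U => (1 : Γ(Y, U))
  have hμ : ∀ (U V : Y.Opens) (h : V ≤ U) (m : Γ(CohB1.tensorMod L L', U)),
      μ.hom.app V (res _ h m) = res (Coh.structureModule Y) h (μ.hom.app U m) := fun U V h m =>
    ConcreteCategory.congr_hom (μ.hom.mapPresheaf.naturality (homOfLE h).op) m
  refine ⟨{ R := fun U e e' => IsFrame L U e ∧ IsFrame L' U e' ∧ μ.hom.app U (Amp73.tm L L' e e') = one U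
            frame_left := fun h => h.1
            frame_right := fun h => h.2.1
            res := fun {U V e e'} h hR => ⟨hR.1.res h, hR.2.1.res h, ?_⟩
            exists_near := fun x V hx => ?_
            rel := fun {U e e' f f'} h h' => ?_ }⟩
  · rw [← Amp73.res_tm, hμ, hR.2.2]
    exact map_one (Y.presheaf.map (homOfLE h).op).hom
  · obtain ⟨W₁, hx₁, hle₁, e₁, he₁⟩ := Mero90.exists_affine_frame hL x V hx
    obtain ⟨W, hxW, hle, e', he'⟩ := Mero90.exists_affine_frame hL' x W₁.1 hx₁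
    have he : IsFrame L W.1 (res L hle e₁) := he₁.res hle
    generalize res L hle e₁ = e at he
    let c : Γ(Y, W.1) := μ.hom.app W.1 (Amp73.tm L L' e e')
    obtain ⟨a, ha⟩ := ((Amp73.isFrame_tm he he') W.1 le_rfl).2 (μ.inv.app W.1 (one W.1))
    dsimp only at ha
    rw [Amp73.res_self] at ha
    have hc : a * c = 1 := by
      have := congrArg (fun m => μ.hom.app W.1 m) ha
      rw [Scheme.Modules.Hom.app_smul] at this
      refine this.trans ?_
      change (μ.inv ≫ μ.hom).app W.1 (one W.1) = _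
      rw [μ.inv_hom_id]
      rfl
    refine ⟨W, hxW, hle.trans hle₁, e, a • e', he,
      (Amp73.isFrame_smul_iff he' a).2 (IsUnit.of_mul_eq_one c hc), ?_⟩
    rw [Amp73.tm_smul_right, Scheme.Modules.Hom.app_smul]
    exact hc
  · obtain ⟨u, hu⟩ := (h.1 U le_rfl).2 f
    obtain ⟨v, hv⟩ := (h.2.1 U le_rfl).2 f'
    dsimp only at hu hv
    rw [Amp73.res_self] at hu hv
    have huv : u * v = 1 := by
      have := h'.2.2
      rw [← hu, ← hv, Amp73.tm_smul, Scheme.Modules.Hom.app_smul, h.2.2] at this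
      exact (mul_one (u * v)).symm.trans this
    exact ⟨⟨u, v, huv, (mul_comm v u).trans huv⟩, hu.symm, hv.symm⟩

variable {P T : Scheme.{u}} (p : P ⟶ Y)

/-- Gluing over a family of opens containing arbitrarily small neighbourhoods. -/
theorem existsUnique_glue_family {κ : Type u} (W : κ → Y.Opens)
    (hcov : ∀ (x : Y) (V : Y.Opens), x ∈ V → ∃ k, x ∈ W k ∧ W k ≤ V)
    (g : ∀ k, ((p ⁻¹ᵁ W k : P.Opens) : Scheme.{u}) ⟶ T)
    (hg : ∀ (k l : κ) (h : W l ≤ W k), P.homOfLE (p.preimage_mono h) ≫ g k = g l) :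
    ∃! e : P ⟶ T, ∀ k, (p ⁻¹ᵁ W k).ι ≫ e = g k := by
  let 𝒰 : P.OpenCover := P.openCoverOfIsOpenCover (fun k => p ⁻¹ᵁ W k) <| by
    refine top_le_iff.mp fun x _ => ?_
    obtain ⟨k, hk, -⟩ := hcov (p.base x) ⊤ trivial
    exact Opens.mem_iSup.mpr ⟨k, hk⟩
  have hcompat : ∀ k l, pullback.fst (p ⁻¹ᵁ W k).ι (p ⁻¹ᵁ W l).ι ≫ g k =
      pullback.snd (p ⁻¹ᵁ W k).ι (p ⁻¹ᵁ W l).ι ≫ g l := by
    intro k l
    let q : pullback (p ⁻¹ᵁ W k).ι (p ⁻¹ᵁ W l).ι ⟶ P := pullback.fst _ _ ≫ (p ⁻¹ᵁ W k).ι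
    refine Scheme.hom_ext_of_forall _ _ fun w => ?_
    have hw : p.base (q.base w) ∈ (W k : Y.Opens) ⊓ W l := by
      refine ⟨(pullback.fst (p ⁻¹ᵁ W k).ι (p ⁻¹ᵁ W l).ι w).2, ?_⟩
      rw [show q = pullback.snd _ _ ≫ (p ⁻¹ᵁ W l).ι from pullback.condition]
      exact (pullback.snd (p ⁻¹ᵁ W k).ι (p ⁻¹ᵁ W l).ι w).2
    obtain ⟨m, hm, hmle⟩ := hcov _ _ hw
    refine ⟨q ⁻¹ᵁ (p ⁻¹ᵁ W m), hm, ?_⟩
    let o := IsOpenImmersion.lift (p ⁻¹ᵁ W m).ι ((q ⁻¹ᵁ (p ⁻¹ᵁ W m)).ι ≫ q) (by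
      rw [Scheme.Opens.range_ι]
      rintro _ ⟨z, rfl⟩
      exact z.2)
    have ho : o ≫ (p ⁻¹ᵁ W m).ι = (q ⁻¹ᵁ (p ⁻¹ᵁ W m)).ι ≫ q := IsOpenImmersion.lift_fac ..
    have h1 : (q ⁻¹ᵁ (p ⁻¹ᵁ W m)).ι ≫ pullback.fst _ _ =
        o ≫ P.homOfLE (p.preimage_mono (hmle.trans inf_le_left)) := by
      rw [← cancel_mono (p ⁻¹ᵁ W k).ι]
      simp only [Category.assoc, Scheme.homOfLE_ι]
      exact ho.symm
    have h2 : (q ⁻¹ᵁ (p ⁻¹ᵁ W m)).ι ≫ pullback.snd _ _ =
        o ≫ P.homOfLE (p.preimage_mono (hmle.trans inf_le_right)) := by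
      rw [← cancel_mono (p ⁻¹ᵁ W l).ι]
      simp only [Category.assoc, Scheme.homOfLE_ι, ← pullback.condition]
      exact ho.symm
    rw [← Category.assoc, ← Category.assoc, h1, h2, Category.assoc, Category.assoc, hg k m (hmle.trans inf_le_left),
      hg l m (hmle.trans inf_le_right)]
  refine ⟨𝒰.glueMorphisms g hcompat, fun k => 𝒰.ι_glueMorphisms g hcompat k, fun e he => ?_⟩
  exact 𝒰.hom_ext _ _ fun k => (he k).trans (𝒰.ι_glueMorphisms g hcompat k).symm

end Groth.Agent.EGAProj74
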