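import Groth.Agent.EGAProj74.TwoGen
import Groth.Agent.EGAProj74.LineDual
import Groth.Agent.EGAProj74.LineChart
import Groth.Agent.EGAProj74.ConeInfinity
import Groth.Agent.EGAProj74.ConeImmersion
import Groth.Agent.EGAProj74.RLChart
import Groth.Agent.EGAProj74.LineContraction
import Groth.Agent.EGAProj74.PointedRetraction

/-!
The projective closures of a line bundle and of its inverse, with zero section and infinity exchanged.
-/

set_option autoImplicit false
set_option backward.isDefEq.respectTransparency.types false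

universe u

open CategoryTheory CategoryTheory.Limits AlgebraicGeometry TopologicalSpace Opposite
open scoped HomogeneousIdeal Polynomial

noncomputable section

namespace Groth.Agent.EGAProj74

open Var76.LineBundle

variable (Y : Scheme.{u})

/-- The data of the projective closure of the line bundle of `L`. -/
structure LCone (L : Y.Modules) where
  𝒮 : RelProj.QCGrAlg Y
  𝒮h : RelProj.QCGrAlg Y
  j : L ⟶ 𝒮.toModule
  ι : 𝒮.toQCAlg ⟶ 𝒮h.toQCAlg
  z : 𝒮h.presheaf.obj (op ⊤)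
  qc : Coh.IsQCoh L
  sym : RelProj.IsGrSymAlg L 𝒮 j
  poly : RelCone.IsPolyOver 𝒮 𝒮h ι z

namespace LCone

variable {Y} {L : Y.Modules} (C : LCone Y L)

/-- `ι(j(e))`. -/
def gen (U : Y.Opens) (hU : IsAffineOpen U) (e : Γ(L, U)) : C.𝒮h.presheaf.obj (op U) :=
  RelProj.gradedHomAt C.ι C.poly.graded U hU (jR C.j U e)

theorem ι_str (U : Y.Opens) (r : Γ(Y, U)) :
    (C.ι.hom.app (op U)).hom ((C.𝒮.str.app (op U)).hom r) = (C.𝒮h.str.app (op U)).hom r :=
  congr(CommRingCat.Hom.hom (($(C.ι.comm)).app (op U)) r)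

theorem gen_mem (U : Y.Opens) (hU : IsAffineOpen U) (e : Γ(L, U)) : C.gen U hU e ∈ C.𝒮h.deg U hU 1 :=
  (RelProj.gradedHomAt C.ι C.poly.graded U hU).map_mem (C.sym.2 U hU e)

theorem gen_smul (U : Y.Opens) (hU : IsAffineOpen U) (r : Γ(Y, U)) (e : Γ(L, U)) :
    C.gen U hU (r • e) = (C.𝒮h.str.app (op U)).hom r * C.gen U hU e := by
  rw [gen, show jR C.j U (r • e) = (C.𝒮.str.app (op U)).hom r * jR C.j U e from
    Scheme.Modules.Hom.app_smul C.j r e]
  refine (map_mul (C.ι.hom.app (op U)).hom _ _).trans ?_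
  rw [C.ι_str U r]
  rfl

theorem res_gen {U V : Y.Opens} (hU : IsAffineOpen U) (hV : IsAffineOpen V) (i : V ≤ U) (e : Γ(L, U)) :
    C.𝒮h.res hU hV i (C.gen U hU e) = C.gen V hV (res L i e) := by
  change (C.𝒮h.presheaf.map (homOfLE i).op).hom ((C.ι.hom.app (op U)).hom (jR C.j U e)) =
    (C.ι.hom.app (op V)).hom (jR C.j V (res L i e))
  rw [show jR C.j V (res L i e) = (C.𝒮.presheaf.map (homOfLE i).op).hom (jR C.j U e) from Mero90.app_res C.j i e]
  exact (congr(CommRingCat.Hom.hom $(C.ι.hom.naturality (homOfLE i).op) (jR C.j U e))).symm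

theorem res_str {U V : Y.Opens} (hU : IsAffineOpen U) (hV : IsAffineOpen V) (i : V ≤ U) (r : Γ(Y, U)) :
    C.𝒮h.res hU hV i ((C.𝒮h.str.app (op U)).hom r) =
      (C.𝒮h.str.app (op V)).hom ((Y.presheaf.map (homOfLE i).op).hom r) :=
  (congr(CommRingCat.Hom.hom $(C.𝒮h.str.naturality (homOfLE i).op) r)).symm

theorem res_z {U V : Y.Opens} (hU : IsAffineOpen U) (hV : IsAffineOpen V) (i : V ≤ U) :
    C.𝒮h.res hU hV i (RelCone.restrictTop C.𝒮h C.z U) = RelCone.restrictTop C.𝒮h C.z V :=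
  res_res_apply C.𝒮h le_top i C.z

/-- `𝒮h(U) = O(U)[e, z]`. -/
def twoGen (U : Y.Opens) (hU : IsAffineOpen U) {e : Γ(L, U)} (he : IsFrame L U e) :
    TwoGen Γ(Y, U) (C.𝒮h.deg U hU) where
  ρ := (C.𝒮h.str.app (op U)).hom
  a := C.gen U hU e
  b := RelCone.restrictTop C.𝒮h C.z U
  ρ_mem r := C.𝒮h.str_mem U hU r
  a_mem := C.gen_mem U hU e
  b_mem := C.poly.deg_z U hU
  Φ := (C.poly.polyEquiv U hU).symm.trans (Polynomial.mapEquiv (LineChart.equiv C.qc C.sym U hU e he))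
  Φ_ρ r := by
    have h : C.poly.polyEquiv U hU (Polynomial.C ((C.𝒮.str.app (op U)).hom r)) = (C.𝒮h.str.app (op U)).hom r := by
      rw [RelCone.IsPolyOver.polyEquiv_apply, Polynomial.eval₂_C, C.ι_str]
    rw [← h, RingEquiv.trans_apply, RingEquiv.symm_apply_apply, Polynomial.mapEquiv_apply, Polynomial.map_C]
    exact congrArg Polynomial.C (LineChart.equiv_str C.qc C.sym U hU e he r)
  Φ_a := by
    have h : C.poly.polyEquiv U hU (Polynomial.C (jR C.j U e)) = C.gen U hU e := by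
      rw [RelCone.IsPolyOver.polyEquiv_apply, Polynomial.eval₂_C]; rfl
    rw [← h, RingEquiv.trans_apply, RingEquiv.symm_apply_apply, Polynomial.mapEquiv_apply, Polynomial.map_C]
    exact congrArg Polynomial.C (LineChart.equiv_gen C.qc C.sym U hU e he)
  Φ_b := by
    have h : C.poly.polyEquiv U hU Polynomial.X = RelCone.restrictTop C.𝒮h C.z U := by
      rw [RelCone.IsPolyOver.polyEquiv_apply, Polynomial.eval₂_X]
    rw [← h, RingEquiv.trans_apply, RingEquiv.symm_apply_apply, Polynomial.mapEquiv_apply, Polynomial.map_X]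

end LCone

variable {Y} {L L' : Y.Modules} (C : LCone Y L) (C' : LCone Y L')

/-- An affine open with a dual pair of frames. -/
structure FPair (D : DualPair L L') where
  U : Y.Opens
  hU : IsAffineOpen U
  e : Γ(L, U)
  e' : Γ(L', U)
  hR : D.R U e e'

namespace FPair

variable {D : DualPair L L'} (k : FPair D)

/-- The same pair, read backwards. -/
@[reducible] def swap : FPair D.swap := ⟨k.U, k.hU, k.e', k.e, k.hR⟩

theorem exists_le (D : DualPair L L') (x : Y) (V : Y.Opens) (hx : x ∈ V) :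
    ∃ k : FPair D, x ∈ k.U ∧ k.U ≤ V := by
  obtain ⟨U, h1, h2, e, e', h⟩ := D.exists_near x V hx
  exact ⟨⟨U.1, U.2, e, e', h⟩, h1, h2⟩

/-- `e' ↦ z`, `z' ↦ e`. -/
def flip : C'.𝒮h.deg k.U k.hU →+*ᵍ C.𝒮h.deg k.U k.hU :=
  (C'.twoGen k.U k.hU (D.frame_right k.hR)).gradedLift (C.𝒮h.str.app (op k.U)).hom
    (RelCone.restrictTop C.𝒮h C.z k.U) (C.gen k.U k.hU k.e) (fun r => C.𝒮h.str_mem k.U k.hU r)
    (C.poly.deg_z k.U k.hU) (C.gen_mem k.U k.hU k.e)

@[simp] theorem flip_str (r : Γ(Y, k.U)) :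
    k.flip C C' ((C'.𝒮h.str.app (op k.U)).hom r) = (C.𝒮h.str.app (op k.U)).hom r :=
  (C'.twoGen k.U k.hU (D.frame_right k.hR)).lift_ρ _ _ _ r

@[simp] theorem flip_gen : k.flip C C' (C'.gen k.U k.hU k.e') = RelCone.restrictTop C.𝒮h C.z k.U :=
  (C'.twoGen k.U k.hU (D.frame_right k.hR)).lift_a _ _ _

@[simp] theorem flip_z : k.flip C C' (RelCone.restrictTop C'.𝒮h C'.z k.U) = C.gen k.U k.hU k.e :=
  (C'.twoGen k.U k.hU (D.frame_right k.hR)).lift_b _ _ _

theorem flip_flip (x : C.𝒮h.presheaf.obj (op k.U)) : k.flip C C' (k.swap.flip C' C x) = x := by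
  have h : (k.flip C C').toRingHom.comp (k.swap.flip C' C).toRingHom = RingHom.id _ := by
    refine (C.twoGen k.U k.hU (D.frame_left k.hR)).hom_ext (fun r => ?_) ?_ ?_
    · exact (congrArg (k.flip C C') (k.swap.flip_str C' C r)).trans (k.flip_str C C' r)
    · exact (congrArg (k.flip C C') (k.swap.flip_gen C' C)).trans (k.flip_z C C')
    · exact (congrArg (k.flip C C') (k.swap.flip_z C' C)).trans (k.flip_gen C C')
  exact RingHom.congr_fun h x

theorem flip_irrelevant : (C.𝒮h.deg k.U k.hU)₊ ≤ ((C'.𝒮h.deg k.U k.hU)₊).map (k.flip C C') := by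
  refine irrelevant_toIdeal_le_span.trans (Ideal.span_le.mpr ?_)
  rintro a ⟨d, hd, ha⟩
  rw [← k.flip_flip C C' a]
  exact Ideal.mem_map_of_mem _ (HomogeneousIdeal.mem_irrelevant_of_mem _ hd ((k.swap.flip C' C).map_mem ha))

theorem flip_comp_swap :
    (k.flip C C').comp (k.swap.flip C' C) = GradedRingHom.id (C.𝒮h.deg k.U k.hU) :=
  GradedRingHom.ext fun x => k.flip_flip C C' x

theorem map_flip_swap :
    Proj.map (k.flip C C') (k.flip_irrelevant C C') ≫ Proj.map (k.swap.flip C' C) (k.swap.flip_irrelevant C' C) =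
      𝟙 (Proj (C.𝒮h.deg k.U k.hU)) := by
  rw [← Proj.map_comp, map_congr (k.flip_comp_swap C C') _ (by simp), Proj.map_id]

theorem map_flip_res {l : FPair D} (i : l.U ≤ k.U) :
    Proj.map (C.𝒮h.res k.hU l.hU i) (irrelevant_le_map_res C.𝒮h k.hU l.hU i) ≫
        Proj.map (k.flip C C') (k.flip_irrelevant C C') =
      Proj.map (l.flip C C') (l.flip_irrelevant C C') ≫
        Proj.map (C'.𝒮h.res k.hU l.hU i) (irrelevant_le_map_res C'.𝒮h k.hU l.hU i) := by
  rw [← Proj.map_comp, ← Proj.map_comp]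
  obtain ⟨v, hv, hv'⟩ := D.rel l.hR (D.res i k.hR)
  let c : (C.𝒮h.presheaf.obj (op l.U))ˣ := Units.map (C.𝒮h.str.app (op l.U)).hom.toMonoidHom (v⁻¹)
  refine (proj_map_scaled _ _ _ _ c ?_ fun n a ha => ?_).symm
  · exact C.𝒮h.str_mem l.U l.hU _
  · refine (C'.twoGen k.U k.hU (D.frame_right k.hR)).scale
      (χ := ((C.𝒮h.res k.hU l.hU i).comp (k.flip C C')).toRingHom)
      (χ' := ((l.flip C C').comp (C'.𝒮h.res k.hU l.hU i)).toRingHom) (fun r => ?_) ?_ ?_ ha
    · change l.flip C C' (C'.𝒮h.res k.hU l.hU i ((C'.𝒮h.str.app (op k.U)).hom r)) =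
        C.𝒮h.res k.hU l.hU i (k.flip C C' ((C'.𝒮h.str.app (op k.U)).hom r))
      rw [C'.res_str, flip_str, flip_str, C.res_str]
    · change l.flip C C' (C'.𝒮h.res k.hU l.hU i (C'.gen k.U k.hU k.e')) =
        c.1 * C.𝒮h.res k.hU l.hU i (k.flip C C' (C'.gen k.U k.hU k.e'))
      rw [C'.res_gen, hv', C'.gen_smul, map_mul, flip_str, flip_gen, flip_gen, C.res_z]
      rfl
    · change l.flip C C' (C'.𝒮h.res k.hU l.hU i (RelCone.restrictTop C'.𝒮h C'.z k.U)) =
        c.1 * C.𝒮h.res k.hU l.hU i (k.flip C C' (RelCone.restrictTop C'.𝒮h C'.z k.U))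
      rw [C'.res_z, flip_z, flip_z, C.res_gen, hv, C.gen_smul, ← mul_assoc]
      change _ = (C.𝒮h.str.app (op l.U)).hom (v⁻¹).1 * (C.𝒮h.str.app (op l.U)).hom v.1 * _
      rw [← map_mul, Units.inv_mul, map_one, one_mul]

end FPair

variable {PC : Scheme.{u}} {pC : PC ⟶ Y}
  {chartC : ∀ (U : Y.Opens) (hU : IsAffineOpen U),
    (((pC ⁻¹ᵁ U : PC.Opens) : Scheme.{u}) ≅ Proj (C.𝒮h.deg U hU))}
  {PC' : Scheme.{u}} {pC' : PC' ⟶ Y}
  {chartC' : ∀ (U : Y.Opens) (hU : IsAffineOpen U),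
    (((pC' ⁻¹ᵁ U : PC'.Opens) : Scheme.{u}) ≅ Proj (C'.𝒮h.deg U hU))}
  (hC : RelProj.IsRelProj C.𝒮h pC chartC) (hC' : RelProj.IsRelProj C'.𝒮h pC' chartC')
  (D : DualPair L L')

omit C' in
include hC in
theorem homOfLE_chart {U V : Y.Opens} (hU : IsAffineOpen U) (hV : IsAffineOpen V) (i : V ≤ U) :
    PC.homOfLE (pC.preimage_mono i) ≫ (chartC U hU).hom =
      (chartC V hV).hom ≫ Proj.map (C.𝒮h.res hU hV i) (irrelevant_le_map_res C.𝒮h hU hV i) := by
  rw [← cancel_mono (RelProj.emb pC chartC U hU), Category.assoc, Category.assoc, chart_hom_emb,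
    Scheme.homOfLE_ι, map_res_emb' hC hU hV i, chart_hom_emb]

variable (chartC chartC') in
/-- `Φ` over the pieces. -/
def IsFlip (φ : PC ⟶ PC') : Prop :=
  ∀ k : FPair D, RelProj.emb pC chartC k.U k.hU ≫ φ =
    Proj.map (k.flip C C') (k.flip_irrelevant C C') ≫ RelProj.emb pC' chartC' k.U k.hU

include hC hC' in
theorem exists_isFlip : ∃ φ, IsFlip C C' chartC chartC' D φ := by
  obtain ⟨φ, hφ, -⟩ := existsUnique_glue_family pC (κ := FPair D) (fun k => k.U) (FPair.exists_le D)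
    (fun k => (chartC k.U k.hU).hom ≫ Proj.map (k.flip C C') (k.flip_irrelevant C C') ≫
      RelProj.emb pC' chartC' k.U k.hU) (fun k l i => by
      rw [reassoc_of% (homOfLE_chart C hC k.hU l.hU i), reassoc_of% (k.map_flip_res C C' i),
        map_res_emb' hC' k.hU l.hU i])
  exact ⟨φ, fun k => by rw [RelProj.emb, Category.assoc, hφ k, Iso.inv_hom_id_assoc]⟩

omit C' in
theorem hom_ext_fpair {T : Scheme.{u}} {f g : PC ⟶ T}
    (h : ∀ k : FPair D, RelProj.emb pC chartC k.U k.hU ≫ f = RelProj.emb pC chartC k.U k.hU ≫ g) : f = g := by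
  refine Scheme.hom_ext_of_forall _ _ fun x => ?_
  obtain ⟨k, hx, -⟩ := FPair.exists_le D (pC.base x) ⊤ trivial
  refine ⟨pC ⁻¹ᵁ k.U, hx, ?_⟩
  rw [← chart_hom_emb (chart := chartC) k.U k.hU, Category.assoc, Category.assoc, h k]

theorem flip_comp_eq_id {φ : PC ⟶ PC'} {φ' : PC' ⟶ PC} (hφ : IsFlip C C' chartC chartC' D φ)
    (hφ' : IsFlip C' C chartC' chartC D.swap φ') : φ ≫ φ' = 𝟙 PC := by
  refine hom_ext_fpair C (pC := pC) (chartC := chartC) D fun k => ?_
  rw [reassoc_of% (hφ k)]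
  refine (congrArg (_ ≫ ·) (hφ' k.swap)).trans ?_
  rw [Category.comp_id]
  exact (Category.assoc _ _ _).symm.trans ((congrArg (· ≫ _) (k.map_flip_swap C C')).trans (Category.id_comp _))

include hC hC' in
theorem flip_over {φ : PC ⟶ PC'} (hφ : IsFlip C C' chartC chartC' D φ) : φ ≫ pC' = pC := by
  refine hom_ext_fpair C (pC := pC) (chartC := chartC) D fun k => ?_
  rw [reassoc_of% (hφ k), emb_p hC', emb_p hC]
  have e : Proj.map (k.flip C C') (k.flip_irrelevant C C') ≫ Proj.toSpecZero (C'.𝒮h.deg k.U k.hU) ≫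
      Spec.map (C'.𝒮h.strZero k.U k.hU) =
      Proj.toSpecZero (C.𝒮h.deg k.U k.hU) ≫ Spec.map (C.𝒮h.strZero k.U k.hU) := by
    refine (Proj.mapAffineOpenCover (k.flip C C') (k.flip_irrelevant C C')).openCover.hom_ext _ _ fun s => ?_
    simp only [Scheme.AffineOpenCover.openCover_f, Proj.mapAffineOpenCover_f]
    suffices H : ∀ (d : ℕ) (hd : 0 < d) (f : C'.𝒮h.presheaf.obj (op k.U)) (hf : f ∈ C'.𝒮h.deg k.U k.hU d),
        Proj.awayι (C.𝒮h.deg k.U k.hU) (k.flip C C' f) ((k.flip C C').2 hf) hd ≫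
          Proj.map (k.flip C C') (k.flip_irrelevant C C') ≫
            Proj.toSpecZero (C'.𝒮h.deg k.U k.hU) ≫ Spec.map (C'.𝒮h.strZero k.U k.hU) =
        Proj.awayι (C.𝒮h.deg k.U k.hU) (k.flip C C' f) ((k.flip C C').2 hf) hd ≫
          Proj.toSpecZero (C.𝒮h.deg k.U k.hU) ≫ Spec.map (C.𝒮h.strZero k.U k.hU) from
      H s.1 s.1.2 s.2 s.2.2
    intro d hd f hf
    rw [Proj.awayι_comp_map_assoc _ _ hd _ hf, Proj.awayι_toSpecZero_assoc,
      Proj.awayι_toSpecZero_assoc, ← Spec.map_comp, ← Spec.map_comp, ← Spec.map_comp]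
    congr 1
    ext r
    change (HomogeneousLocalization.Away.map (k.flip C C') _
      (HomogeneousLocalization.fromZeroRingHom _ _ ((C'.𝒮h.strZero k.U k.hU).hom r))).val = _
    refine (HomogeneousLocalization.val_mk _).trans ?_
    refine Eq.trans ?_ (HomogeneousLocalization.val_mk _).symm
    congr 1
    · exact k.flip_str C C' r
    · exact Subtype.ext (map_one (k.flip C C'))
  simpa only [Category.assoc] using congrArg (· ≫ k.hU.fromSpec) e

include hC in
theorem mem_range_coneImm_iff {i : C.𝒮.toQCAlg.spec ⟶ PC} (hi : RelCone.IsConeImm C.𝒮 C.poly pC chartC i)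
    (U : Y.Opens) (hU : IsAffineOpen U) (y : Proj (C.𝒮h.deg U hU)) :
    (RelProj.emb pC chartC U hU).base y ∈ Set.range i.base ↔
      RelCone.restrictTop C.𝒮h C.z U ∉ y.asHomogeneousIdeal := by
  rw [range_coneImm C.poly hC hi]
  exact (emb_mem_globalOpen_iff hC C.z U hU y).trans (Proj.mem_basicOpen _ _ y)

theorem flip_apply_mem_iff {φ : PC ⟶ PC'} (hφ : IsFlip C C' chartC chartC' D φ) (k : FPair D)
    (y : Proj (C.𝒮h.deg k.U k.hU)) :
    ∃ y', φ.base ((RelProj.emb pC chartC k.U k.hU).base y) = (RelProj.emb pC' chartC' k.U k.hU).base y' ∧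
      (RelCone.restrictTop C'.𝒮h C'.z k.U ∈ y'.asHomogeneousIdeal ↔ C.gen k.U k.hU k.e ∈ y.asHomogeneousIdeal) := by
  refine ⟨(Proj.map (k.flip C C') (k.flip_irrelevant C C')).base y, congr(($(hφ k)).base y), ?_⟩
  change k.flip C C' (RelCone.restrictTop C'.𝒮h C'.z k.U) ∈ y.asHomogeneousIdeal ↔ _
  rw [FPair.flip_z]

omit C' in
include hC in
/-- On a piece, the zero section is where the frame vanishes. -/
theorem mem_range_zero_iff {aug : C.𝒮.toQCAlg ⟶ RelSpec.QCAlg.unit Y} (haug : RelCone.IsAugmentation C.𝒮 aug)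
    {ε : Y ⟶ C.𝒮.toQCAlg.spec} (hε : RelCone.IsVertex C.𝒮 aug ε)
    {i : C.𝒮.toQCAlg.spec ⟶ PC} (hi : RelCone.IsConeImm C.𝒮 C.poly pC chartC i) (U : Y.Opens)
    (hU : IsAffineOpen U) {e : Γ(L, U)} (he : IsFrame L U e) (y : Proj (C.𝒮h.deg U hU)) :
    (RelProj.emb pC chartC U hU).base y ∈ Set.range (ε ≫ i).base ↔
      C.gen U hU e ∈ y.asHomogeneousIdeal := by
  have hconv : ∀ c : Spec (C.𝒮.presheaf.obj (op U)),
      (C.gen U hU e ∈ (conePoint C.poly U hU c).asHomogeneousIdeal ↔ jR C.j U e ∈ c.asIdeal) := fun c => by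
    have := conePoint_mem_iff C.poly U hU c one_pos (C.sym.2 U hU e)
    rw [Proj.mem_basicOpen] at this
    exact not_iff_not.mp this
  have hvert : ∀ c : Spec (C.𝒮.presheaf.obj (op U)),
      (C.𝒮.toQCAlg.ι U hU).base c ∈ Set.range ε.base ↔ jR C.j U e ∈ c.asIdeal := fun c => by
    let V0 : C.𝒮.toQCAlg.spec.Opens :=
      ⟨(Set.range ε.base)ᶜ, (isClosedImmersion_vertex hε).base_closed.isClosed_range.isOpen_compl⟩
    have := LineContraction.ι_mem_V0_iff C.qc C.sym haug hε V0 rfl U hU e he c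
    exact not_iff_not.mp this
  constructor
  · rintro ⟨x, hx⟩
    rw [Scheme.Hom.comp_apply] at hx
    obtain ⟨c, hc⟩ : ε.base x ∈ (C.𝒮.toQCAlg.ι U hU).opensRange := by
      rw [opensRange_specι]
      change C.𝒮.toQCAlg.π.base (ε.base x) ∈ U
      have h1 : pC.base (i.base (ε.base x)) = C.𝒮.toQCAlg.π.base (ε.base x) :=
        congr(($(coneImm_over C.poly hC hi)).base (ε.base x))
      rw [← h1, hx]
      change (RelProj.emb pC chartC U hU).base y ∈ pC ⁻¹ᵁ U
      rw [← opensRange_emb (chart := chartC) U hU]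
      exact ⟨y, rfl⟩
    have hyc : conePoint C.poly U hU c = y := by
      refine (RelProj.emb pC chartC U hU).isOpenEmbedding.injective ?_
      rw [← hx, ← hc]
      exact (congr(($(hi U hU)).base c)).symm
    rw [← hyc]
    exact (hconv c).mpr ((hvert c).mp ⟨x, hc.symm⟩)
  · intro hy
    have hzy : RelCone.restrictTop C.𝒮h C.z U ∉ y.asHomogeneousIdeal := fun hzy => by
      refine y.not_irrelevant_le ?_
      refine irrelevant_le_of_le (RelProj.gradedHomAt C.ι C.poly.graded U hU) (C.poly.deg_z U hU)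
        (C.poly.bij U hU) (fun d hd a ha => ?_) hzy
      obtain ⟨r, rfl⟩ := (LineChart.isLineGen C.qc C.sym U hU e he).exists_eq d a ha
      rw [map_mul, map_pow]
      exact Ideal.mul_mem_left _ _ (Ideal.pow_mem_of_mem _ hy d hd)
    obtain ⟨q, hq⟩ : y ∈ (Proj.awayι (C.𝒮h.deg U hU) (RelCone.restrictTop C.𝒮h C.z U)
        (C.poly.deg_z U hU) one_pos).opensRange := by
      rw [Proj.opensRange_awayι]; exact (Proj.mem_basicOpen _ _ y).mpr hzy
    have := isIso_SpecMap_awayZToBase C.poly U hU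
    obtain ⟨c, rfl⟩ := (Spec.map (CommRingCat.ofHom (C.poly.awayZToBase U hU))).homeomorph.surjective q
    change conePoint C.poly U hU c = y at hq
    subst hq
    obtain ⟨x, hx⟩ := (hvert c).mpr ((hconv c).mp hy)
    refine ⟨x, ?_⟩
    rw [Scheme.Hom.comp_apply, hx]
    exact congr(($(hi U hU)).base c)

include hC hC' in
theorem flip_mem_range_iff {aug : C.𝒮.toQCAlg ⟶ RelSpec.QCAlg.unit Y} (haug : RelCone.IsAugmentation C.𝒮 aug)
    {ε : Y ⟶ C.𝒮.toQCAlg.spec} (hε : RelCone.IsVertex C.𝒮 aug ε)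
    {i : C.𝒮.toQCAlg.spec ⟶ PC} (hi : RelCone.IsConeImm C.𝒮 C.poly pC chartC i)
    {i' : C'.𝒮.toQCAlg.spec ⟶ PC'} (hi' : RelCone.IsConeImm C'.𝒮 C'.poly pC' chartC' i')
    {φ : PC ⟶ PC'} (hφ : IsFlip C C' chartC chartC' D φ) (x : PC) :
    φ.base x ∈ Set.range i'.base ↔ x ∉ Set.range (ε ≫ i).base := by
  obtain ⟨k, hx, -⟩ := FPair.exists_le D (pC.base x) ⊤ trivial
  obtain ⟨y, rfl⟩ : x ∈ (RelProj.emb pC chartC k.U k.hU).opensRange := by rw [opensRange_emb]; exact hx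
  obtain ⟨y', hy', hiff⟩ := flip_apply_mem_iff C C' D hφ k y
  rw [hy', mem_range_coneImm_iff C' hC' hi' k.U k.hU y', hiff,
    mem_range_zero_iff C hC haug hε hi k.U k.hU (D.frame_left k.hR) y]

end Groth.Agent.EGAProj74
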