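import Groth.Agent.EGAProj74.LineChart
import Groth.Agent.Props58.Comp
import Groth.Agent.SchBasics.NormalizationChar
import Groth.Agent.NormalPush99.Basic
import Mathlib.RingTheory.Polynomial.IsIntegral
import Mathlib.AlgebraicGeometry.Properties

/-! Integrality and normality of line bundles. -/

set_option autoImplicit false
set_option backward.isDefEq.respectTransparency false

universe u

open CategoryTheory CategoryTheory.Limits AlgebraicGeometry TopologicalSpace Opposite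
open scoped Polynomial

noncomputable section

namespace Groth.Agent.EGAProj74.LineNormal

open Groth.Agent.EGAProj74 Var76.LineBundle

variable {X : Scheme.{u}} {L : X.Modules} (hL : PicF.IsInvertible L) (hLq : Coh.IsQCoh L)
  {𝒜 : RelSpec.QCAlg X} {j : L ⟶ 𝒜.toModule} (hA : RelSpec.IsSymAlg L 𝒜 j)

include hLq hA in
theorem exists_polyEquiv (U : X.Opens) (hU : IsAffineOpen U) (e : Γ(L, U)) (he : IsFrame L U e) :
    Nonempty (𝒜.presheaf.obj (op U) ≃+* Γ(X, U)[X]) := by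
  obtain ⟨g, -, -⟩ := exists_symAlg_equiv hLq hA U hU
  have hb : Function.Bijective (LinearMap.toSpanSingleton Γ(X, U) Γ(L, U) e) := by
    have hres : res L (le_refl U) e = e := Groth.Agent.QC70.res_self e
    have := he U le_rfl
    rw [hres] at this
    exact this
  let b : Module.Basis (Fin 1) Γ(X, U) Γ(L, U) :=
    (Module.Basis.singleton (Fin 1) Γ(X, U)).map (LinearEquiv.ofBijective _ hb)
  exact ⟨(g.trans (SymmetricAlgebra.equivMvPolynomial b).toRingEquiv).trans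
    (MvPolynomial.uniqueAlgEquiv Γ(X, U) (Fin 1)).toRingEquiv⟩

include hL hLq hA in
theorem exists_chart (v : 𝒜.spec) (O : X.Opens) (hv : 𝒜.π v ∈ O) :
    ∃ (W : X.Opens) (hW : IsAffineOpen W), W ≤ O ∧ v ∈ Set.range (𝒜.ι W hW).base ∧
      Nonempty (𝒜.presheaf.obj (op W) ≃+* Γ(X, W)[X]) := by
  obtain ⟨⟨W, hW⟩, hvW, hWO, e, he⟩ := Mero90.exists_affine_frame hL (𝒜.π v) O hv
  exact ⟨W, hW, hWO, (opensRange_specι 𝒜 W hW).ge hvW, exists_polyEquiv hLq hA W hW e he⟩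

include hL hLq hA in
theorem isIntegral_spec [IsIntegral X] : IsIntegral 𝒜.spec := by
  have hdom : ∀ (W : X.Opens) (hW : IsAffineOpen W), Nonempty W →
      Nonempty (𝒜.presheaf.obj (op W) ≃+* Γ(X, W)[X]) → IsDomain (𝒜.presheaf.obj (op W)) := by
    rintro W hW hne ⟨Φ⟩
    exact Φ.toMulEquiv.isDomain Γ(X, W)[X]
  haveI : Nonempty 𝒜.spec := by
    obtain ⟨x⟩ : Nonempty X := inferInstance
    obtain ⟨⟨W, hW⟩, hxW, -, e, he⟩ := Mero90.exists_affine_frame hL x ⊤ trivial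
    haveI := hdom W hW ⟨⟨x, hxW⟩⟩ (exists_polyEquiv hLq hA W hW e he)
    exact ⟨𝒜.ι W hW (⟨⊥, Ideal.isPrime_bot⟩ : PrimeSpectrum _)⟩
  haveI : ∀ v : 𝒜.spec, _root_.IsReduced (𝒜.spec.presheaf.stalk v) := fun v => by
    obtain ⟨W, hW, -, ⟨P, rfl⟩, hΦ⟩ := exists_chart hL hLq hA v ⊤ trivial
    haveI := hdom W hW ⟨⟨_, (opensRange_specι 𝒜 W hW).le ⟨P, rfl⟩⟩⟩ hΦ
    exact isReduced_of_injective ((𝒜.ι W hW).stalkMap P).hom
      (ConcreteCategory.bijective_of_isIso ((𝒜.ι W hW).stalkMap P)).1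
  haveI := isReduced_of_isReduced_stalk 𝒜.spec
  haveI : IrreducibleSpace 𝒜.spec := by
    have : PreirreducibleSpace 𝒜.spec := by
      refine ⟨fun A B hA' hB ⟨a, _, ha⟩ ⟨b, _, hb⟩ => ?_⟩
      obtain ⟨W, hW, -, ⟨P, hP⟩, hΦ⟩ := exists_chart hL hLq hA a ⊤ trivial
      obtain ⟨W', hW', -, ⟨P', hP'⟩, hΦ'⟩ := exists_chart hL hLq hA b ⊤ trivial
      have hxW : 𝒜.π a ∈ W := (opensRange_specι 𝒜 W hW).le ⟨P, hP⟩
      have hxW' : 𝒜.π b ∈ W' := (opensRange_specι 𝒜 W' hW').le ⟨P', hP'⟩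
      haveI := hdom W hW ⟨⟨_, hxW⟩⟩ hΦ
      haveI := hdom W' hW' ⟨⟨_, hxW'⟩⟩ hΦ'
      have hS : ∀ (W : X.Opens) (hW : IsAffineOpen W) [IsDomain (𝒜.presheaf.obj (op W))],
          IsPreirreducible (𝒜.π ⁻¹ᵁ W : Set 𝒜.spec) := fun W hW _ => by
        rw [← opensRange_specι 𝒜 W hW, Scheme.Hom.coe_opensRange, ← Set.image_univ]
        exact (PreirreducibleSpace.isPreirreducible_univ).image _ (𝒜.ι W hW).continuous.continuousOn
      obtain ⟨x, -, hxW2, hxW2'⟩ := (PreirreducibleSpace.isPreirreducible_univ (X := X)) W W' W.2 W'.2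
        ⟨_, trivial, hxW⟩ ⟨_, trivial, hxW'⟩
      obtain ⟨W3, hW3, hxW3, hW3le⟩ :=
        exists_isAffineOpen_mem_and_subset (U := W ⊓ W') (x := x) ⟨hxW2, hxW2'⟩
      obtain ⟨⟨W4, hW4⟩, hxW4, hW4le, e, he⟩ := Mero90.exists_affine_frame hL x W3 hxW3
      haveI := hdom W4 hW4 ⟨⟨x, hxW4⟩⟩ (exists_polyEquiv hLq hA W4 hW4 e he)
      let η : 𝒜.spec := 𝒜.ι W4 hW4 (⟨⊥, Ideal.isPrime_bot⟩ : PrimeSpectrum _)
      have hη : 𝒜.π η ∈ W4 := (opensRange_specι 𝒜 W4 hW4).le ⟨_, rfl⟩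
      have hη2 : η ∈ (𝒜.π ⁻¹ᵁ W : Set 𝒜.spec) ∩ (𝒜.π ⁻¹ᵁ W' : Set 𝒜.spec) :=
        ⟨(hW3le (hW4le hη)).1, (hW3le (hW4le hη)).2⟩
      obtain ⟨z, hzW, hzA, hzW'⟩ := hS W hW A (𝒜.π ⁻¹ᵁ W') hA' (𝒜.π ⁻¹ᵁ W').2 ⟨a, hxW, ha⟩ ⟨η, hη2⟩
      obtain ⟨z', -, hz', hz''⟩ := hS W' hW' A B hA' hB ⟨z, hzW', hzA⟩ ⟨b, hxW', hb⟩
      exact ⟨z', trivial, hz', hz''⟩
    exact ⟨inferInstance⟩
  exact isIntegral_of_irreducibleSpace_of_isReduced 𝒜.spec

include hL hLq hA in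
theorem locally (hloc : ∀ x : X, ∃ U : X.Opens, x ∈ U ∧ IsIntegral (U : Scheme.{u}))
    (hX : Pi1.IsNormalScheme X) (v : 𝒜.spec) :
    (∃ O : 𝒜.spec.Opens, v ∈ O ∧ IsIntegral (O : Scheme.{u})) ∧
      IsDomain (𝒜.spec.presheaf.stalk v) ∧ IsIntegrallyClosed (𝒜.spec.presheaf.stalk v) := by
  obtain ⟨O, hxO, hO⟩ := hloc (𝒜.π v)
  obtain ⟨W, hW, hWO, ⟨P, rfl⟩, ⟨Φ⟩⟩ := exists_chart hL hLq hA v O hxO
  haveI hne : Nonempty W := ⟨⟨_, (opensRange_specι 𝒜 W hW).le ⟨P, rfl⟩⟩⟩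
  haveI := hO
  haveI : IsIntegral (W : Scheme.{u}) := isIntegral_of_isOpenImmersion (X.homOfLE hWO)
  haveI : IsDomain Γ(X, W) := W.topIso.commRingCatIsoToRingEquiv.symm.toMulEquiv.isDomain Γ((W : Scheme.{u}), ⊤)
  haveI : IsIntegrallyClosed Γ(X, W) := by
    haveI : Nonempty (⊤ : (W : Scheme.{u}).Opens) := ⟨⟨Classical.arbitrary W, trivial⟩⟩
    haveI := NormalPush99.isIntegrallyClosed_of_opens
      (SchBasics.isNormalScheme_of_isOpenImmersion W.ι fun w => hX _) (⊤ : (W : Scheme.{u}).Opens)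
    exact IsIntegrallyClosed.of_equiv W.topIso.commRingCatIsoToRingEquiv
  haveI : IsDomain (𝒜.presheaf.obj (op W)) := Φ.toMulEquiv.isDomain Γ(X, W)[X]
  haveI : IsIntegrallyClosed (𝒜.presheaf.obj (op W)) := IsIntegrallyClosed.of_equiv Φ.symm
  refine ⟨⟨(𝒜.ι W hW).opensRange, ⟨P, rfl⟩, ?_⟩, ?_⟩
  · haveI : Nonempty ((𝒜.ι W hW).opensRange : Scheme.{u}) := ⟨⟨_, P, rfl⟩⟩
    exact isIntegral_of_isOpenImmersion (𝒜.ι W hW).isoOpensRange.inv
  let P' : PrimeSpectrum (𝒜.presheaf.obj (op W)) := P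
  haveI : IsDomain (Localization.AtPrime P'.asIdeal) :=
    IsLocalization.isDomain_localization P'.asIdeal.primeCompl_le_nonZeroDivisors
  haveI : IsIntegrallyClosed (Localization.AtPrime P'.asIdeal) :=
    isIntegrallyClosed_of_isLocalization _ P'.asIdeal.primeCompl P'.asIdeal.primeCompl_le_nonZeroDivisors
  let e : 𝒜.spec.presheaf.stalk (𝒜.ι W hW P) ≃+* Localization.AtPrime P'.asIdeal :=
    (asIso ((𝒜.ι W hW).stalkMap P) ≪≫ Spec.stalkIso (𝒜.presheaf.obj (op W)) P').commRingCatIsoToRingEquiv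
  exact ⟨e.toMulEquiv.isDomain _, IsIntegrallyClosed.of_equiv e.symm⟩

end Groth.Agent.EGAProj74.LineNormal
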