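import Groth.Agent.EGAProj74.LineSym
import Groth.Agent.EGAProj74.QMapPre
import Groth.Agent.EGAProj74.GenDegOne

/-!
The relative Proj of the graded symmetric algebra of an invertible module.
-/

set_option autoImplicit false

universe u

open CategoryTheory CategoryTheory.Limits AlgebraicGeometry TopologicalSpace Opposite
open HomogeneousLocalization
open scoped HomogeneousIdeal

noncomputable section

namespace Groth.Agent.EGAProj74

variable {X : Scheme.{u}} {𝒮 : RelProj.QCGrAlg X} {U : X.Opens} {hU : IsAffineOpen U}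
  {e : 𝒮.presheaf.obj (op U)}

theorem IsLineGen.notMem (h : IsLineGen 𝒮 U hU e) (y : Proj (𝒮.deg U hU)) : e ∉ y.asHomogeneousIdeal := by
  intro he
  refine (y : ProjectiveSpectrum _).not_irrelevant_le (irrelevant_toIdeal_le_span.trans (Ideal.span_le.mpr ?_))
  rintro a ⟨d, hd, ha⟩
  obtain ⟨r, rfl⟩ := h.exists_eq d a ha
  exact Ideal.mul_mem_left _ _ (Ideal.pow_mem_of_mem _ he d hd)

theorem IsLineGen.basicOpen_eq_top (h : IsLineGen 𝒮 U hU e) : Proj.basicOpen (𝒮.deg U hU) e = ⊤ :=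
  top_le_iff.mp fun y _ => (Proj.mem_basicOpen _ e y).mpr (h.notMem y)

theorem IsLineGen.bijective_toAway (h : IsLineGen 𝒮 U hU e) :
    Function.Bijective ((HomogeneousLocalization.fromZeroRingHom (𝒮.deg U hU) (Submonoid.powers e)).comp
      (𝒮.strZero U hU).hom) := by
  have hval : ∀ r, ((HomogeneousLocalization.fromZeroRingHom (𝒮.deg U hU) (Submonoid.powers e)).comp
      (𝒮.strZero U hU).hom r).val = algebraMap _ (Localization (Submonoid.powers e)) ((𝒮.str.app (op U)).hom r) := by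
    intro r
    exact (val_mk _).trans (Localization.mk_one_eq_algebraMap _)
  constructor
  · rw [injective_iff_map_eq_zero]
    intro r hr
    have h1 := congrArg HomogeneousLocalization.val hr
    rw [hval, val_zero, IsLocalization.map_eq_zero_iff (Submonoid.powers e)] at h1
    obtain ⟨⟨_, n, rfl⟩, hn⟩ := h1
    exact h.inj n r (by rw [mul_comm]; exact hn)
  · intro x
    obtain ⟨n, a, ha, rfl⟩ := Away.mk_surjective (𝒮.deg U hU) h.mem x
    obtain ⟨r, rfl⟩ := h.exists_eq n a (by simpa using ha)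
    refine ⟨r, val_injective _ ?_⟩
    rw [hval, Away.val_mk, ← Localization.mk_one_eq_algebraMap, Localization.mk_eq_mk_iff, Localization.r_iff_exists]
    exact ⟨1, by simp; ring⟩

theorem IsLineGen.isIso_toBase (h : IsLineGen 𝒮 U hU e) :
    IsIso (Proj.toSpecZero (𝒮.deg U hU) ≫ Spec.map (𝒮.strZero U hU)) := by
  have : IsIso (Proj.awayι (𝒮.deg U hU) e h.mem Nat.one_pos) := by
    refine (isIso_iff_isOpenImmersion_and_epi_base _).mpr ⟨inferInstance, ?_⟩
    rw [TopCat.epi_iff_surjective]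
    intro y
    have : y ∈ (Proj.awayι (𝒮.deg U hU) e h.mem Nat.one_pos).opensRange := by
      rw [Proj.opensRange_awayι, h.basicOpen_eq_top]; trivial
    exact this
  have : IsIso (Proj.awayι (𝒮.deg U hU) e h.mem Nat.one_pos ≫ Proj.toSpecZero (𝒮.deg U hU) ≫
      Spec.map (𝒮.strZero U hU)) := by
    rw [Proj.awayι_toSpecZero_assoc, ← Spec.map_comp]
    have : IsIso (𝒮.strZero U hU ≫ CommRingCat.ofHom
        (HomogeneousLocalization.fromZeroRingHom (𝒮.deg U hU) (Submonoid.powers e))) :=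
      (ConcreteCategory.isIso_iff_bijective _).mpr h.bijective_toAway
    infer_instance
  exact IsIso.of_isIso_comp_left (Proj.awayι (𝒮.deg U hU) e h.mem Nat.one_pos) _

variable {PL : Scheme.{u}} {pL : PL ⟶ X}
  {chartL : ∀ (U : X.Opens) (hU : IsAffineOpen U), (((pL ⁻¹ᵁ U : PL.Opens) : Scheme.{u}) ≅ Proj (𝒮.deg U hU))}
  (hPL : RelProj.IsRelProj 𝒮 pL chartL)

include hPL

omit hU in
theorem isIso_of_forall_isLineGen
    (hcov : ∀ x : X, ∃ (U : X.Opens) (hU : IsAffineOpen U) (e : _), x ∈ U ∧ IsLineGen 𝒮 U hU e) : IsIso pL := by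
  choose W hW e hx he using hcov
  have hc : (⨆ x, W x) = ⊤ := top_le_iff.mp fun x _ => Opens.mem_iSup.mpr ⟨x, hx x⟩
  refine (IsZariskiLocalAtTarget.iff_of_iSup_eq_top (P := MorphismProperty.isomorphisms Scheme) W hc).mpr fun x => ?_
  have := (he x).isIso_toBase
  let ψ := Proj.toSpecZero (𝒮.deg (W x) (hW x)) ≫ Spec.map (𝒮.strZero (W x) (hW x))
  have heq : pL ∣_ W x = (chartL (W x) (hW x)).hom ≫ ψ ≫ (hW x).isoSpec.inv := by
    rw [← cancel_mono (W x).ι, morphismRestrict_ι]
    simp only [Category.assoc, ψ]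
    rw [(hW x).isoSpec_inv_ι]
    exact (hPL.chart_over (W x) (hW x)).symm
  change IsIso (pL ∣_ W x)
  rw [heq]
  infer_instance

theorem isIso_toBase [IsIso pL] (U : X.Opens) (hU : IsAffineOpen U) :
    IsIso (Proj.toSpecZero (𝒮.deg U hU) ≫ Spec.map (𝒮.strZero U hU)) := by
  let ψ := Proj.toSpecZero (𝒮.deg U hU) ≫ Spec.map (𝒮.strZero U hU)
  have heq : pL ∣_ U = (chartL U hU).hom ≫ ψ ≫ hU.isoSpec.inv := by
    rw [← cancel_mono U.ι, morphismRestrict_ι]
    simp only [Category.assoc, ψ]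
    rw [hU.isoSpec_inv_ι]
    exact (hPL.chart_over U hU).symm
  have : IsIso (pL ∣_ U) := inferInstance
  rw [heq] at this
  have : IsIso (ψ ≫ hU.isoSpec.inv) := IsIso.of_isIso_comp_left (chartL U hU).hom _
  exact IsIso.of_isIso_comp_right ψ hU.isoSpec.inv

theorem exists_eq_emb [IsIso pL] {U : X.Opens} (hU : IsAffineOpen U) (z : PL) (hz : pL.base z ∈ U)
    (y : Proj (𝒮.deg U hU)) (hy : pL.base ((RelProj.emb pL chartL U hU).base y) = pL.base z) :
    (RelProj.emb pL chartL U hU).base y = z :=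
  pL.isOpenEmbedding.injective hy

omit hU

/-- A generator of the sections of degree `d` is a unit at every point of the fibre. -/
theorem mem_basicOpen_of_subset_span (hgen : 𝒮.IsGenDegOne) {V : X.Opens} (hV : IsAffineOpen V) {d : ℕ} (hd : 0 < d)
    {t : 𝒮.presheaf.obj (op V)}
    (h : ((𝒮.deg V hV d : AddSubgroup _) : Set (𝒮.presheaf.obj (op V))) ⊆ (Ideal.span {t} : Set (𝒮.presheaf.obj (op V))))
    (y : Proj (𝒮.deg V hV)) : y ∈ Proj.basicOpen (𝒮.deg V hV) t := by
  by_contra hy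
  rw [Proj.mem_basicOpen, not_not] at hy
  refine (y : ProjectiveSpectrum _).not_irrelevant_le
    ((irrelevant_le_span_one_of_gen (hgen V hV)).trans (Ideal.span_le.mpr fun a ha => ?_))
  have had : a ^ d ∈ 𝒮.deg V hV d := by simpa using SetLike.pow_mem_graded d (show a ∈ 𝒮.deg V hV 1 from ha)
  exact (y : ProjectiveSpectrum _).isPrime.mem_of_pow_mem d
    ((Ideal.span_singleton_le_iff_mem _).mpr hy (h had))

/-- Where a section of degree `d` does not vanish it generates near the point. -/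
theorem exists_subset_span_of_mem_basicOpen
    (hline : ∀ (x : X) (V : X.Opens), x ∈ V → ∃ (U : X.Opens) (hU : IsAffineOpen U), x ∈ U ∧ U ≤ V ∧ ∃ e, IsLineGen 𝒮 U hU e)
    [IsIso pL] {V : X.Opens} (hV : IsAffineOpen V) {d : ℕ} (hd : 0 < d)
    {t : 𝒮.presheaf.obj (op V)} (ht : t ∈ 𝒮.deg V hV d) (y : Proj (𝒮.deg V hV))
    (hy : y ∈ Proj.basicOpen (𝒮.deg V hV) t) :
    ∃ (W : X.Opens) (hW : IsAffineOpen W) (i : W ≤ V), pL.base ((RelProj.emb pL chartL V hV).base y) ∈ W ∧
      ((𝒮.deg W hW d : AddSubgroup _) : Set (𝒮.presheaf.obj (op W))) ⊆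
        (Ideal.span {(𝒮.presheaf.map (homOfLE i).op).hom t} : Set (𝒮.presheaf.obj (op W))) := by
  let O : X.Opens := (inv pL) ⁻¹ᵁ (RelProj.emb pL chartL V hV ''ᵁ Proj.basicOpen (𝒮.deg V hV) t)
  have hinv : ∀ z, (inv pL).base (pL.base z) = z := fun z => congr($(IsIso.hom_inv_id pL).base z)
  have hxO : pL.base ((RelProj.emb pL chartL V hV).base y) ∈ O ⊓ V :=
    ⟨show (inv pL).base (pL.base ((RelProj.emb pL chartL V hV).base y)) ∈ RelProj.emb pL chartL V hV ''ᵁ Proj.basicOpen (𝒮.deg V hV) t by rw [hinv]; exact ⟨y, hy, rfl⟩, emb_mem V hV y⟩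
  obtain ⟨W, hW, hxW, hWle, e, he⟩ := hline _ (O ⊓ V) hxO
  have i : W ≤ V := hWle.trans inf_le_right
  refine ⟨W, hW, i, hxW, ?_⟩
  set tW := (𝒮.presheaf.map (homOfLE i).op).hom t
  obtain ⟨a, ha⟩ := he.exists_eq d tW (𝒮.map_mem hV hW i ht)
  have hall : ∀ w : Proj (𝒮.deg W hW), w ∈ Proj.basicOpen (𝒮.deg W hW) tW := fun w => by
    have hwO : pL.base ((RelProj.emb pL chartL W hW).base w) ∈ O := (hWle (emb_mem W hW w)).1
    obtain ⟨v, hv, hve⟩ : (inv pL).base (pL.base ((RelProj.emb pL chartL W hW).base w)) ∈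
        RelProj.emb pL chartL V hV ''ᵁ Proj.basicOpen (𝒮.deg V hV) t := hwO
    rw [hinv] at hve
    exact (mem_basicOpen_res_iff hPL hV hW i hve t).mp hv
  have hau : IsUnit a := by
    have htW := 𝒮.map_mem hV hW i ht
    have htop : PrimeSpectrum.basicOpen (Away.isLocalizationElem he.mem htW) = ⊤ := by
      rw [← Proj.awayι_preimage_basicOpen (𝒮.deg W hW) he.mem Nat.one_pos htW hd]
      exact top_le_iff.mp fun c _ => hall _
    have htop : IsUnit (Away.isLocalizationElem he.mem htW) := by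
      have := (PrimeSpectrum.iSup_basicOpen_eq_top_iff (ι := Unit) (f := fun _ => Away.isLocalizationElem he.mem htW)).mp (by rw [ciSup_const]; exact htop)
      rw [Set.range_const] at this
      exact Ideal.span_singleton_eq_top.mp this
    obtain ⟨b, hb⟩ := he.bijective_toAway.2 ↑(htop.unit⁻¹)
    have heq : Away.isLocalizationElem he.mem htW =
        (HomogeneousLocalization.fromZeroRingHom (𝒮.deg W hW) (Submonoid.powers e)).comp (𝒮.strZero W hW).hom a := by
      apply val_injective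
      refine Eq.trans ?_ ((val_mk _).trans rfl).symm
      rw [Away.isLocalizationElem, Away.val_mk, Localization.mk_eq_mk_iff, Localization.r_iff_exists]
      refine ⟨1, ?_⟩
      simp [mul_comm]
      exact ha.trans (mul_comm _ _)
    refine IsUnit.of_mul_eq_one b (he.bijective_toAway.1 ?_)
    rw [map_mul, map_one, ← heq, hb]
    exact htop.mul_val_inv
  intro g hg
  obtain ⟨r, rfl⟩ := he.exists_eq d g hg
  refine Ideal.mem_span_singleton'.mpr ⟨(𝒮.str.app (op W)).hom (r * hau.unit⁻¹.1), ?_⟩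
  rw [ha, ← mul_assoc, ← map_mul, mul_assoc, hau.val_inv_mul, mul_one]

end Groth.Agent.EGAProj74
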