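import Groth.Agent.EGAProj74.LineChart
import Mathlib.RingTheory.PowerSeries.Basic
import Mathlib.RingTheory.PowerSeries.Inverse
import Mathlib.RingTheory.PowerSeries.Substitution

/-! Expansion of functions along the zero section of a line bundle. -/

set_option autoImplicit false
set_option backward.isDefEq.respectTransparency false

universe u

open CategoryTheory CategoryTheory.Limits AlgebraicGeometry TopologicalSpace Opposite

noncomputable section

namespace Groth.Agent.EGAProj74.LineSeries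

open Groth.Agent.EGAProj74 Var76.LineBundle

variable {X : Scheme.{u}} {L : X.Modules} (hLq : Coh.IsQCoh L) {𝒜 : RelProj.QCGrAlg X} {j : L ⟶ 𝒜.toModule}
  (hA : RelProj.IsGrSymAlg L 𝒜 j)
  (U : X.Opens) (hU : IsAffineOpen U) (e : Γ(L, U)) (he : IsFrame L U e)

/-- The expansion of the functions over `U`. -/
def expand : 𝒜.presheaf.obj (op U) →+* PowerSeries Γ(X, U) :=
  Polynomial.coeToPowerSeries.ringHom.comp (LineChart.equiv hLq hA U hU e he).toRingHom

theorem expand_str (r : Γ(X, U)) :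
    expand hLq hA U hU e he ((𝒜.str.app (op U)).hom r) = PowerSeries.C r := by
  show ((LineChart.equiv hLq hA U hU e he ((𝒜.str.app (op U)).hom r) : Polynomial Γ(X, U)) : PowerSeries Γ(X, U)) = _
  rw [LineChart.equiv_str, Polynomial.coe_C]

theorem expand_gen : expand hLq hA U hU e he (jR j U e) = PowerSeries.X := by
  show ((LineChart.equiv hLq hA U hU e he (jR j U e) : Polynomial Γ(X, U)) : PowerSeries Γ(X, U)) = _
  rw [LineChart.equiv_gen, Polynomial.coe_X]

/-- The formal neighbourhood of the zero section over `U`. -/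
def nbhd : Spec (CommRingCat.of (PowerSeries Γ(X, U))) ⟶ 𝒜.toQCAlg.spec :=
  Spec.map (CommRingCat.ofHom (expand hLq hA U hU e he)) ≫ 𝒜.toQCAlg.ι U hU

theorem nbhd_π :
    nbhd hLq hA U hU e he ≫ 𝒜.toQCAlg.π =
      Spec.map (CommRingCat.ofHom (PowerSeries.C (R := Γ(X, U)))) ≫ hU.fromSpec := by
  rw [nbhd, Category.assoc, RelSpec.QCAlg.ι_π, ← Category.assoc, ← Spec.map_comp]
  congr 2
  exact CommRingCat.hom_ext (RingHom.ext (expand_str hLq hA U hU e he))

variable {aug : 𝒜.toQCAlg ⟶ RelSpec.QCAlg.unit X} (haug : RelCone.IsAugmentation 𝒜 aug)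
  {j0 : X ⟶ 𝒜.toQCAlg.spec} (hj0 : RelCone.IsVertex 𝒜 aug j0)

include haug hj0 in
/-- The zero section in the formal neighbourhood. -/
theorem nbhd_comp_constantCoeff :
    Spec.map (CommRingCat.ofHom (PowerSeries.constantCoeff (R := Γ(X, U)))) ≫ nbhd hLq hA U hU e he =
      hU.fromSpec ≫ j0 := by
  rw [nbhd, ← Category.assoc, ← Spec.map_comp, hj0.chart U hU]
  congr 2
  refine CommRingCat.hom_ext (RingHom.ext fun b => ?_)
  refine Eq.trans ?_ (LineChart.aug_eq_coeff hLq hA U hU e he haug b).symm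
  show PowerSeries.constantCoeff ((LineChart.equiv hLq hA U hU e he b : Polynomial Γ(X, U)) : PowerSeries Γ(X, U)) = _
  rw [Polynomial.constantCoeff_coe]

theorem specializes_constantCoeff {R : Type u} [CommRing R] (P : PrimeSpectrum (PowerSeries R)) :
    ∃ m : PrimeSpectrum R, P ⤳ PrimeSpectrum.comap (PowerSeries.constantCoeff (R := R)) m := by
  obtain ⟨M, hM, hPM⟩ := Ideal.exists_le_maximal P.asIdeal P.2.ne_top
  refine ⟨⟨M.comap PowerSeries.C, hM.isPrime.comap _⟩, (PrimeSpectrum.le_iff_specializes _ _).1 ?_⟩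
  have hX : (PowerSeries.X : PowerSeries R) ∈ M := by
    by_contra hX
    obtain ⟨g, i, hi, hgi⟩ := hM.exists_inv hX
    have h1 : IsUnit i := by
      rw [PowerSeries.isUnit_iff_constantCoeff]
      have h2 := congrArg (PowerSeries.constantCoeff (R := R)) hgi
      simp only [map_add, map_mul, PowerSeries.constantCoeff_X, mul_zero, zero_mul, zero_add, map_one] at h2
      rw [h2]; exact isUnit_one
    exact hM.ne_top (Ideal.eq_top_of_isUnit_mem M hi h1)
  intro a ha
  show PowerSeries.C (PowerSeries.constantCoeff (R := R) a) ∈ M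
  obtain ⟨b, hb⟩ := PowerSeries.X_dvd_iff.2
    (show PowerSeries.constantCoeff (R := R) (a - PowerSeries.C (PowerSeries.constantCoeff (R := R) a)) = 0 by simp)
  have := Ideal.sub_mem M (hPM ha) (hb ▸ Ideal.mul_mem_right b M hX : a - _ ∈ M)
  rwa [sub_sub_cancel] at this

variable {Ω : 𝒜.toQCAlg.spec.Opens} (hΩ : ∀ x ∈ U, j0 x ∈ Ω)

include haug hj0 hΩ in
theorem top_le_preimage : ⊤ ≤ nbhd hLq hA U hU e he ⁻¹ᵁ Ω := by
  intro P _
  obtain ⟨m, hm⟩ := specializes_constantCoeff (R := Γ(X, U)) P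
  refine ((hm.map (nbhd hLq hA U hU e he).continuous).mem_open Ω.2 ?_)
  have h := hΩ (hU.fromSpec m) (hU.range_fromSpec.le ⟨m, rfl⟩)
  rwa [← Scheme.Hom.comp_apply, ← nbhd_comp_constantCoeff hLq hA U hU e he haug hj0] at h

theorem appLE_appTop {A B C : Scheme.{u}} (f : A ⟶ B) (g : B ⟶ C) {W : C.Opens} (h : ⊤ ≤ g ⁻¹ᵁ W) :
    g.appLE W ⊤ h ≫ f.appTop = (f ≫ g).appLE W ⊤ (fun x _ => h (trivial : f x ∈ (⊤ : B.Opens))) := by
  rw [show f.appTop = f.appLE ⊤ ⊤ le_top from Scheme.Hom.app_eq_appLE f, Scheme.Hom.appLE_comp_appLE]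

/-- The expansion of a function defined near the zero section. -/
def series (h : Γ(𝒜.toQCAlg.spec, Ω)) (hle : ⊤ ≤ nbhd hLq hA U hU e he ⁻¹ᵁ Ω) : PowerSeries Γ(X, U) :=
  (Scheme.ΓSpecIso (CommRingCat.of (PowerSeries Γ(X, U)))).hom ((nbhd hLq hA U hU e he).appLE Ω ⊤ hle h)

theorem mem_basicOpen_iff (h : Γ(𝒜.toQCAlg.spec, Ω)) (hle : ⊤ ≤ nbhd hLq hA U hU e he ⁻¹ᵁ Ω)
    (P : PrimeSpectrum (PowerSeries Γ(X, U))) :
    nbhd hLq hA U hU e he P ∈ 𝒜.toQCAlg.spec.basicOpen h ↔ series hLq hA U hU e he h hle ∉ P.asIdeal := by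
  have h1 : P ∈ (Spec (CommRingCat.of (PowerSeries Γ(X, U)))).basicOpen
      ((nbhd hLq hA U hU e he).appLE Ω ⊤ hle h) ↔ nbhd hLq hA U hU e he P ∈ 𝒜.toQCAlg.spec.basicOpen h := by
    rw [Scheme.basicOpen_appLE]
    exact ⟨fun hh => hh.2, fun hh => ⟨trivial, hh⟩⟩
  rw [← h1, basicOpen_eq_of_affine']
  exact Iff.rfl

theorem expand_res (U' : X.Opens) (hU' : IsAffineOpen U') (e' : Γ(L, U')) (he' : IsFrame L U' e') (i : U' ≤ U)
    (v : Γ(X, U')) (hv : res L i e = v • e') :
    (expand hLq hA U' hU' e' he').comp (𝒜.presheaf.map (homOfLE i).op).hom =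
      ((PowerSeries.rescale v).comp (PowerSeries.map (X.presheaf.map (homOfLE i).op).hom)).comp
        (expand hLq hA U hU e he) := by
  refine LineChart.ringHom_ext hLq hA U hU e he (fun r => ?_) ?_
  · rw [RingHom.comp_apply, RingHom.comp_apply, RingHom.comp_apply, expand_str, PowerSeries.map_C]
    have hn : (𝒜.presheaf.map (homOfLE i).op).hom ((𝒜.str.app (op U)).hom r) =
        (𝒜.str.app (op U')).hom ((X.presheaf.map (homOfLE i).op).hom r) :=
      (congr(CommRingCat.Hom.hom $(𝒜.str.naturality (homOfLE i).op) r)).symm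
    rw [hn, expand_str]
    ext k
    rcases k with - | k <;> simp [PowerSeries.coeff_rescale, PowerSeries.coeff_C]
  · rw [RingHom.comp_apply, RingHom.comp_apply, RingHom.comp_apply, expand_gen, PowerSeries.map_X]
    rw [RLRel.jR_res, hv, RLRel.jR_smul, map_mul, expand_str, expand_gen]
    ext k
    rcases k with - | _ | k <;> simp [PowerSeries.coeff_rescale, PowerSeries.coeff_X]

theorem coeff_series_res (h : Γ(𝒜.toQCAlg.spec, Ω)) (hle : ⊤ ≤ nbhd hLq hA U hU e he ⁻¹ᵁ Ω)
    (U' : X.Opens) (hU' : IsAffineOpen U') (e' : Γ(L, U')) (he' : IsFrame L U' e') (i : U' ≤ U)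
    (hle' : ⊤ ≤ nbhd hLq hA U' hU' e' he' ⁻¹ᵁ Ω)
    (v : Γ(X, U')) (hv : res L i e = v • e') (n : ℕ) :
    PowerSeries.coeff n (series hLq hA U' hU' e' he' h hle') =
      v ^ n * X.presheaf.map (homOfLE i).op (PowerSeries.coeff n (series hLq hA U hU e he h hle)) := by
  let σ := CommRingCat.ofHom ((PowerSeries.rescale v).comp (PowerSeries.map (X.presheaf.map (homOfLE i).op).hom))
  have hs : Spec.map σ ≫ nbhd hLq hA U hU e he = nbhd hLq hA U' hU' e' he' := by
    rw [nbhd, nbhd, ← Category.assoc, ← Spec.map_comp, ← map_res_specι 𝒜.toQCAlg hU hU' i, ← Category.assoc,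
      ← Spec.map_comp]
    congr 2
    exact CommRingCat.hom_ext (expand_res hLq hA U hU e he U' hU' e' he' i v hv).symm
  have hser : series hLq hA U' hU' e' he' h hle' = σ (series hLq hA U hU e he h hle) := by
    simp only [series]
    rw [← CommRingCat.comp_apply (Scheme.ΓSpecIso _).hom σ, ← Scheme.ΓSpecIso_naturality σ, CommRingCat.comp_apply]
    congr 1
    rw [← CommRingCat.comp_apply, appLE_appTop]
    simp only [hs]
  rw [hser]
  show PowerSeries.coeff n (PowerSeries.rescale v (PowerSeries.map _ _)) = _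
  rw [PowerSeries.coeff_rescale, PowerSeries.coeff_map]

end Groth.Agent.EGAProj74.LineSeries
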