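import Groth.Agent.EGAProj74.SymAlgUnique
import Groth.Agent.Mero90.Frames
import Mathlib.LinearAlgebra.SymmetricAlgebra.Basis

/-!
The graded symmetric algebra of an invertible module is locally a polynomial ring in one variable.
-/

set_option autoImplicit false
set_option backward.isDefEq.respectTransparency.types false

universe u

open CategoryTheory CategoryTheory.Limits AlgebraicGeometry TopologicalSpace Opposite
open scoped Polynomial HomogeneousIdeal

noncomputable section

namespace Groth.Agent.EGAProj74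

variable {X : Scheme.{u}}

/-- `e` generates `𝒮(U)` freely over the functions on `U`, in degree one. -/
structure IsLineGen (𝒮 : RelProj.QCGrAlg X) (U : X.Opens) (hU : IsAffineOpen U)
    (e : 𝒮.presheaf.obj (op U)) : Prop where
  mem : e ∈ 𝒮.deg U hU 1
  exists_eq : ∀ (n : ℕ), ∀ g ∈ 𝒮.deg U hU n, ∃ r, g = (𝒮.str.app (op U)).hom r * e ^ n
  inj : ∀ (n : ℕ) (r : Γ(X, U)), (𝒮.str.app (op U)).hom r * e ^ n = 0 → r = 0
  gen : Subring.closure (Set.range (𝒮.str.app (op U)).hom ∪ {e}) = ⊤

theorem isLineGen_of_equiv {𝒮 : RelProj.QCGrAlg X} {U : X.Opens} {hU : IsAffineOpen U}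
    {e : 𝒮.presheaf.obj (op U)} (he : e ∈ 𝒮.deg U hU 1) (Φ : 𝒮.presheaf.obj (op U) ≃+* Γ(X, U)[X])
    (hC : ∀ r, Φ ((𝒮.str.app (op U)).hom r) = Polynomial.C r) (hX : Φ e = Polynomial.X) :
    IsLineGen 𝒮 U hU e := by
  have hsym : ∀ p, Φ.symm p = p.eval₂ (𝒮.str.app (op U)).hom e := by
    intro p
    induction p using Polynomial.induction_on' with
    | add p q hp hq => rw [map_add, Polynomial.eval₂_add, hp, hq]
    | monomial k a =>
      rw [Polynomial.eval₂_monomial, RingEquiv.symm_apply_eq, map_mul, map_pow, hC, hX,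
        Polynomial.C_mul_X_pow_eq_monomial]
  refine ⟨he, fun n g hg => ?_, fun n r h => ?_, top_le_iff.mp fun g _ => ?_⟩
  · classical
    refine ⟨(Φ g).coeff n, ?_⟩
    have hg' := (Φ.symm_apply_apply g).symm.trans (hsym (Φ g))
    rw [Polynomial.eval₂_eq_sum, Polynomial.sum_def] at hg'
    have hd : ∀ i, (𝒮.str.app (op U)).hom ((Φ g).coeff i) * e ^ i ∈ 𝒮.deg U hU i := fun i => by
      simpa using SetLike.mul_mem_graded (A := 𝒮.deg U hU) (𝒮.str_mem U hU ((Φ g).coeff i))
        (SetLike.pow_mem_graded i he)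
    have h1 := congrArg (GradedRing.proj (𝒮.deg U hU) n) hg'
    rw [map_sum, GradedRing.proj_apply, DirectSum.decompose_of_mem_same _ hg] at h1
    refine h1.trans ?_
    rw [Finset.sum_eq_single n]
    · rw [GradedRing.proj_apply, DirectSum.decompose_of_mem_same _ (hd n)]
    · intro i _ hi
      rw [GradedRing.proj_apply, DirectSum.decompose_of_mem_ne _ (hd i) hi]
    · intro hn
      rw [Polynomial.notMem_support_iff.mp hn, map_zero, zero_mul, map_zero]
  · have := congrArg (fun p => (Φ p).coeff n) h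
    simpa [hC, hX] using this
  · rw [← Φ.symm_apply_apply g, hsym, Polynomial.eval₂_eq_sum, Polynomial.sum_def]
    refine Subring.sum_mem _ fun i _ => mul_mem (Subring.subset_closure (Or.inl ⟨_, rfl⟩))
      (pow_mem (Subring.subset_closure ?_) _)
    exact Or.inr rfl

/-- Near every point the graded symmetric algebra of an invertible module has a line generator. -/
theorem exists_isLineGen {L : X.Modules} (hL : PicF.IsInvertible L) (hLq : L.IsQuasicoherent)
    {𝒮 : RelProj.QCGrAlg X} {j : L ⟶ 𝒮.toModule} (hj : RelProj.IsGrSymAlg L 𝒮 j) (x : X) (V : X.Opens)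
    (hx : x ∈ V) :
    ∃ (U : X.Opens) (hU : IsAffineOpen U), x ∈ U ∧ U ≤ V ∧ ∃ e, IsLineGen 𝒮 U hU e := by
  obtain ⟨W, hxW, hWV, e₀, he₀⟩ := Groth.Agent.Mero90.exists_affine_frame hL x V hx
  obtain ⟨g, hg, hgj⟩ := exists_symAlg_equiv hLq hj.1 W.1 W.2
  have hb : Function.Bijective (LinearMap.toSpanSingleton Γ(X, W.1) Γ(L, W.1) e₀) := by
    have hres : Groth.Agent.Var76.LineBundle.res L (le_refl W.1) e₀ = e₀ :=
      Groth.Agent.QC70.res_self e₀
    have := he₀ W.1 le_rfl
    rw [hres] at this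
    exact this
  let b : Module.Basis (Fin 1) Γ(X, W.1) Γ(L, W.1) :=
    (Module.Basis.singleton (Fin 1) Γ(X, W.1)).map (LinearEquiv.ofBijective _ hb)
  have hb0 : b 0 = e₀ := by simp [b]
  refine ⟨W.1, W.2, hxW, hWV, j.app W.1 e₀, ?_⟩
  refine isLineGen_of_equiv (hj.2 W.1 W.2 e₀) ((g.trans (SymmetricAlgebra.equivMvPolynomial b).toRingEquiv).trans
    (MvPolynomial.uniqueAlgEquiv Γ(X, W.1) (Fin 1)).toRingEquiv) (fun r => ?_) ?_
  · change MvPolynomial.uniqueAlgEquiv Γ(X, W.1) (Fin 1) (SymmetricAlgebra.equivMvPolynomial b (g _)) = _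
    rw [hg, AlgEquiv.commutes, AlgEquiv.commutes]
    rfl
  · change MvPolynomial.uniqueAlgEquiv Γ(X, W.1) (Fin 1) (SymmetricAlgebra.equivMvPolynomial b (g _)) = _
    rw [hgj, ← hb0, SymmetricAlgebra.equivMvPolynomial_ι_apply]
    simp

end Groth.Agent.EGAProj74
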