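import Groth.Agent.EGA73.ProjMorph
import Groth.Agent.EGAProj74.TwistComap
import Mathlib.Algebra.Polynomial.AlgebraMap

/-! `Proj S → Proj (S♮ ⊗ S₀)`. -/

set_option autoImplicit false
set_option backward.isDefEq.respectTransparency false

universe u

open CategoryTheory CategoryTheory.Limits AlgebraicGeometry
open scoped HomogeneousIdeal

namespace Groth.Agent.EGAProj74.NaturalDegZero

variable {R A B C : Type u} [CommRing R] [CommRing A] [Algebra R A]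
    {𝒜 : ℕ → Submodule R A} [GradedAlgebra 𝒜] [CommRing B] [Algebra R B] {ℬ : ℕ → Submodule R B} [GradedAlgebra ℬ]
    {φ : B →ₐ[R] Polynomial A} (hφ : Function.Injective φ)
    (hdeg : ∀ n : ℕ, Submodule.map φ.toLinearMap (ℬ n) =
      Submodule.map ((Polynomial.monomial n : A →ₗ[A] Polynomial A).restrictScalars R) (⨆ (m : ℕ) (_ : n ≤ m), 𝒜 m))
    [CommRing C] [Algebra R C] {𝒞 : ℕ → Submodule R C} [GradedAlgebra 𝒞]
    (π : ℬ →+*ᵍ 𝒞) (hπ : Function.Surjective π)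
    (hker : RingHom.ker π.toRingHom =
      Ideal.span (⇑φ ⁻¹' (⇑(Polynomial.C : A →+* Polynomial A) '' ((HomogeneousIdeal.irrelevant 𝒜).toIdeal : Set A))))
    (ρ : 𝒞 →+*ᵍ 𝒜) (hρ : ∀ (n : ℕ) (b : B), b ∈ ℬ n → ρ (π b) = GradedRing.proj 𝒜 n ((φ b).coeff n))

include hdeg in
theorem exists_lift {n : ℕ} {a : A} (ha : a ∈ ⨆ (m : ℕ) (_ : n ≤ m), 𝒜 m) :
    ∃ b ∈ ℬ n, φ b = Polynomial.monomial n a := by
  obtain ⟨b, hb, he⟩ := Submodule.mem_map.1 ((hdeg n).ge ⟨a, ha, rfl⟩)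
  exact ⟨b, hb, he⟩

theorem mem_tail {n m : ℕ} (h : n ≤ m) {a : A} (ha : a ∈ 𝒜 m) : a ∈ ⨆ (m : ℕ) (_ : n ≤ m), 𝒜 m :=
  Submodule.mem_iSup_of_mem m (Submodule.mem_iSup_of_mem h ha)

include hdeg hρ in
theorem surjective : Function.Surjective ρ := by
  classical
  intro a
  rw [← DirectSum.sum_support_decompose 𝒜 a]
  have : ∀ n, ∃ c, ρ c = (DirectSum.decompose 𝒜 a n : A) := fun n => by
    obtain ⟨b, hb, he⟩ := exists_lift hdeg (mem_tail le_rfl (SetLike.coe_mem (DirectSum.decompose 𝒜 a n)))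
    refine ⟨π b, ?_⟩
    rw [hρ n b hb, he, Polynomial.coeff_monomial_same, GradedRing.proj_apply,
      DirectSum.decompose_of_mem_same 𝒜 (SetLike.coe_mem _)]
  choose c hc using this
  exact ⟨∑ n ∈ (DirectSum.decompose 𝒜 a).support, c n, by simp only [map_sum, hc]⟩

include hπ in
theorem exists_preimage {n : ℕ} {c : C} (hc : c ∈ 𝒞 n) : ∃ b ∈ ℬ n, π b = c :=
  EGA73.surjOn_of_surjective π hπ n hc

include hdeg in
theorem exists_eq_monomial {n : ℕ} {b : B} (hb : b ∈ ℬ n) :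
    ∃ a ∈ ⨆ (m : ℕ) (_ : n ≤ m), 𝒜 m, φ b = Polynomial.monomial n a := by
  obtain ⟨a, ha, he⟩ := Submodule.mem_map.1 ((hdeg n).le ⟨b, hb, rfl⟩)
  exact ⟨a, ha, he.symm⟩

include hker in
theorem map_eq_zero_of_eq {b b₀ b₁ : B} {a : A} (ha : a ∈ (HomogeneousIdeal.irrelevant 𝒜).toIdeal)
    (h₀ : φ b₀ = Polynomial.C a) (h : b = b₀ * b₁) : π b = 0 := by
  have : b ∈ RingHom.ker π.toRingHom := by
    rw [hker, h]
    exact Ideal.mul_mem_right _ _ (Ideal.subset_span ⟨a, ha, h₀.symm⟩)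
  exact this

include hφ hdeg hker in
/-- A homogeneous element above the diagonal. -/
theorem map_monomial_mul_eq_zero {n : ℕ} {a₀ a₁ : A} {m₀ m₁ : ℕ} (h₀ : 0 < m₀) (ha₀ : a₀ ∈ 𝒜 m₀)
    (h₁ : n ≤ m₁) (ha₁ : a₁ ∈ 𝒜 m₁) {b : B} (hb : φ b = Polynomial.monomial n (a₀ * a₁)) :
    π b = 0 := by
  obtain ⟨b₀, -, e₀⟩ := exists_lift hdeg (mem_tail (Nat.zero_le m₀) ha₀)
  obtain ⟨b₁, -, e₁⟩ := exists_lift hdeg (mem_tail h₁ ha₁)
  refine map_eq_zero_of_eq π hker (HomogeneousIdeal.mem_irrelevant_of_mem 𝒜 h₀ ha₀) (b₀ := b₀) (b₁ := b₁)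
    (by rw [e₀, Polynomial.monomial_zero_left]) (hφ ?_)
  rw [hb, map_mul φ, e₀, e₁, Polynomial.monomial_mul_monomial, zero_add]

include hφ hdeg hπ hker hρ in
/-- The kernel in one degree, one component at a time. -/
theorem ker_component (P : C → Prop) (h0 : P 0) (hadd : ∀ x y, P x → P y → P (x + y)) {n : ℕ}
    (hmon : ∀ (m : ℕ) (a : A) (b : B), n < m → a ∈ 𝒜 m → φ b = Polynomial.monomial n a → P (π b))
    {c : C} (hc : c ∈ 𝒞 n) (hc0 : ρ c = 0) : P c := by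
  classical
  obtain ⟨b, hb, rfl⟩ := exists_preimage π hπ hc
  obtain ⟨a, ha, he⟩ := exists_eq_monomial hdeg hb
  rw [hρ n b hb, he, Polynomial.coeff_monomial_same, GradedRing.proj_apply] at hc0
  have hcomp : ∀ m, (DirectSum.decompose 𝒜 a m : A) ≠ 0 → n < m := by
    intro m hm
    by_contra hle
    rcases (not_lt.1 hle).eq_or_lt with rfl | hlt
    · exact hm hc0
    · refine hm ?_
      let pm : A →ₗ[R] A := (𝒜 m).subtype.comp ((DirectSum.component R ℕ (fun i => 𝒜 i) m).comp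
        (DirectSum.decomposeLinearEquiv 𝒜).toLinearMap)
      refine (iSup₂_le (fun i hi x hx => ?_) : (⨆ (i : ℕ) (_ : n ≤ i), 𝒜 i) ≤ LinearMap.ker pm) ha
      exact DirectSum.decompose_of_mem_ne 𝒜 hx (by omega)
  have hb' : ∀ m ∈ (DirectSum.decompose 𝒜 a).support, ∃ b', φ b' = Polynomial.monomial n (DirectSum.decompose 𝒜 a m : A) :=
    fun m hm => by
      obtain ⟨b', -, e⟩ := exists_lift hdeg (mem_tail (hcomp m (fun h => DFinsupp.mem_support_iff.1 hm (Subtype.ext h))).le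
        (SetLike.coe_mem (DirectSum.decompose 𝒜 a m)))
      exact ⟨b', e⟩
  choose! f hf using hb'
  have hsum : b = ∑ m ∈ (DirectSum.decompose 𝒜 a).support, f m := by
    refine hφ ?_
    rw [map_sum, Finset.sum_congr rfl hf, ← map_sum, DirectSum.sum_support_decompose, he]
  rw [hsum, map_sum]
  refine Finset.sum_induction _ P hadd h0 fun m hm => ?_
  exact hmon m _ _ (hcomp m fun h => DFinsupp.mem_support_iff.1 hm (Subtype.ext h)) (SetLike.coe_mem _) (hf m hm)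

include hφ hdeg hπ hker hρ in
theorem isNilpotent_of_mem {n : ℕ} {c : C} (hc : c ∈ 𝒞 n) (hc0 : ρ c = 0) : IsNilpotent c := by
  refine ker_component hφ hdeg π hπ hker ρ hρ IsNilpotent IsNilpotent.zero
    (fun x y hx hy => (Commute.all x y).isNilpotent_add hx hy) ?_ hc hc0
  intro m a b hm ha hb
  refine ⟨m, ?_⟩
  rw [← map_pow]
  have hpow : a ^ (m - 1) ∈ 𝒜 ((m - 1) * m) := by simpa using SetLike.pow_mem_graded (m - 1) ha
  have hle : n * m ≤ (m - 1) * m := Nat.mul_le_mul_right m (by omega)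
  refine map_monomial_mul_eq_zero hφ hdeg π hker (n := n * m) (by omega) ha hle hpow ?_
  rw [map_pow, hb, Polynomial.monomial_pow, ← pow_succ', Nat.sub_add_cancel (by omega : 1 ≤ m)]

include hφ hdeg hπ hker hρ in
theorem isNilpotent_of_map_eq_zero (c : C) (hc : ρ c = 0) : IsNilpotent c := by
  classical
  rw [← DirectSum.sum_support_decompose 𝒞 c]
  refine Finset.sum_induction _ IsNilpotent (fun x y hx hy => (Commute.all x y).isNilpotent_add hx hy)
    IsNilpotent.zero fun n _ => ?_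
  refine isNilpotent_of_mem hφ hdeg π hπ hker ρ hρ (SetLike.coe_mem _) ?_
  rw [GradedRingHom.map_directSumDecompose, hc]
  simp

include hφ hdeg hπ hker hρ in
theorem eq_zero_of_mem (n₀ : ℕ) (hgen : ∀ n : ℕ, n₀ ≤ n → 𝒜 (n + 1) = 𝒜 1 * 𝒜 n) {n : ℕ} (hn : n₀ ≤ n)
    {c : C} (hc : c ∈ 𝒞 n) (hc0 : ρ c = 0) : c = 0 := by
  refine ker_component hφ hdeg π hπ hker ρ hρ (· = 0) rfl (fun x y hx hy => by rw [hx, hy, add_zero]) ?_ hc hc0
  intro m a b hm ha hb
  obtain ⟨m', rfl⟩ : ∃ m', m = m' + 1 := ⟨m - 1, by omega⟩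
  rw [hgen m' (by omega)] at ha
  have key : ∀ x ∈ 𝒜 1 * 𝒜 m', ∃ b', φ b' = Polynomial.monomial n x ∧ π b' = 0 := by
    intro x hx
    induction hx using Submodule.mul_induction_on' with
    | mem_mul_mem u hu v hv =>
      have huv : u * v ∈ 𝒜 (1 + m') := SetLike.mul_mem_graded hu hv
      obtain ⟨b', -, e⟩ := exists_lift hdeg (mem_tail (show n ≤ 1 + m' by omega) huv)
      exact ⟨b', e, map_monomial_mul_eq_zero hφ hdeg π hker one_pos hu (by omega) hv e⟩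
    | add x _ y _ hx hy =>
      obtain ⟨p, hp, hp'⟩ := hx
      obtain ⟨q, hq, hq'⟩ := hy
      exact ⟨p + q, by rw [map_add, hp, hq, map_add], by rw [map_add, hp', hq', add_zero]⟩
  obtain ⟨b', e, e'⟩ := key a ha
  rwa [hφ (hb.trans e.symm)]

include hφ hdeg hπ hker hρ in
theorem bijective (hirr : 𝒜₊ ≤ (𝒞₊).map ρ) : Function.Bijective (Proj.map ρ hirr).base := by
  have hs := surjective hdeg π ρ hρ
  have := EGA73.isClosedImmersion_map_of_surjective ρ hs hirr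
  exact ⟨(Proj.map ρ hirr).isEmbedding.injective,
    EGA73.surjective_map_of_ker_nilpotent ρ hs (isNilpotent_of_map_eq_zero hφ hdeg π hπ hker ρ hρ) hirr⟩

include hφ hdeg hπ hker hρ in
theorem isIso (hirr : 𝒜₊ ≤ (𝒞₊).map ρ) (hgen : ∃ n₀ : ℕ, ∀ n : ℕ, n₀ ≤ n → 𝒜 (n + 1) = 𝒜 1 * 𝒜 n) :
    IsIso (Proj.map ρ hirr) := by
  obtain ⟨n₀, hgen⟩ := hgen
  have hs := surjective hdeg π ρ hρ
  have : IsIso (domMap ρ) := isIso_domMap ρ n₀ (fun m _ => EGA73.surjOn_of_surjective ρ hs m) fun m hm a ha h0 =>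
    eq_zero_of_mem hφ hdeg π hπ hker ρ hρ n₀ hgen hm ha h0
  have hι : IsIso (RelCone.domOpen ρ).ι := by
    rw [domOpen_eq_top_of_le ρ hirr]; exact inferInstanceAs (IsIso (Proj 𝒜).topIso.hom)
  have : IsIso ((RelCone.domOpen ρ).ι ≫ Proj.map ρ hirr) := by rwa [ι_map_eq_domMap]
  exact IsIso.of_isIso_comp_left (RelCone.domOpen ρ).ι _

end Groth.Agent.EGAProj74.NaturalDegZero
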