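import Groth.Agent.EGAProj74.FormProj
import Groth.Agent.Approx60.Segre
import Groth.Agent.Csa25.FormMap
import Groth.Agent.Amp73.Avoid
import Mathlib.FieldTheory.IsAlgClosed.AlgebraicClosure

/-! Multiplication of a linear form with a binary form: `P¹ × Pⁿ → Pⁿ⁺¹` is finite and surjective. -/

set_option autoImplicit false
set_option backward.isDefEq.respectTransparency false
set_option maxHeartbeats 1000000

universe u

open CategoryTheory CategoryTheory.Limits AlgebraicGeometry TopologicalSpace Opposite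

noncomputable section

namespace Groth.Agent.EGAProj74.P1Mult

open Var76.LineBundle Var76.ZeroScheme Amp73 Approx60

variable (R : Type u) [CommRing R] (n : ℕ)

theorem f_smul (m : ℕ) (i l : Fin (m + 1)) :
    Segre.f R m i l • res (Twist.twistProjSpace m R 1) (le_top : ProjCharts.U R m i ≤ ⊤) (ProjUP.coord m R i) =
      res (Twist.twistProjSpace m R 1) le_top (ProjUP.coord m R l) :=
  Csa25.away_smul_globalOf (ProjCharts.X₁ R m i) (ProjCharts.X₁ R m l)

/-- The product. -/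
abbrev Prod' : Scheme.{u} := pullback (CohB1.ProjSpace.toSpec 1 R) (CohB1.ProjSpace.toSpec n R)

/-- The bundle `O(1) ⊠ O(1)`. -/
abbrev L : (Prod' R n).Modules :=
  CohB1.tensorMod ((Scheme.Modules.pullback (Segre.pr₁ R 1 n)).obj (Twist.twistProjSpace 1 R 1))
    ((Scheme.Modules.pullback (Segre.pr₂ R 1 n)).obj (Twist.twistProjSpace n R 1))

/-- The monomial sections. -/
def mon (ab : Fin (1 + 1) × Fin (n + 1)) : Coh.structureModule (Prod' R n) ⟶ L R n :=
  SecTwist.tmulHom (pullHom (Segre.pr₁ R 1 n) (FormProj.formHom (ProjCharts.X₁ R 1 ab.1)))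
    (pullHom (Segre.pr₂ R 1 n) (FormProj.formHom (ProjCharts.X₁ R n ab.2)))

theorem isInvertible_L : PicF.IsInvertible (L R n) :=
  EGA73.isInvertible_tensorMod
    (isInvertible_pullback _ (Var76.Reg.isInvertible_twist (n := 1) (A := R) 1))
    (isInvertible_pullback _ (Var76.Reg.isInvertible_twist (n := n) (A := R) 1))

theorem genLocus_mon (ab : Fin (1 + 1) × Fin (n + 1)) :
    CohB1.genLocus _ (mon R n ab) = Segre.W R 1 n ab := by
  rw [mon, genLocus_tmulHom (isInvertible_pullback _ (Var76.Reg.isInvertible_twist (n := 1) (A := R) 1))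
    (isInvertible_pullback _ (Var76.Reg.isInvertible_twist (n := n) (A := R) 1)),
    genLocus_pullHom _ (Var76.Reg.isInvertible_twist (n := 1) (A := R) 1),
    genLocus_pullHom _ (Var76.Reg.isInvertible_twist (n := n) (A := R) 1),
    FormProj.genLocus_form, FormProj.genLocus_form]
  rfl

theorem val_pull_formHom {m : ℕ} {Y : Scheme.{u}} (g : Y ⟶ CohB1.ProjSpace m R) (i l : Fin (m + 1))
    (O : Y.Opens) (hO : O ≤ g ⁻¹ᵁ ProjCharts.U R m i) :
    val _ (pullHom g (FormProj.formHom (ProjCharts.X₁ R m l))) O =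
      g.appLE (ProjCharts.U R m i) O hO (Segre.f R m i l) •
        val _ (pullHom g (FormProj.formHom (ProjCharts.X₁ R m i))) O := by
  rw [← res_val _ _ hO, ← res_val _ (pullHom g (FormProj.formHom (ProjCharts.X₁ R m i))) hO,
    val_pullHom, val_pullHom]
  have hv : ∀ j, val _ (FormProj.formHom (ProjCharts.X₁ R m j)) (ProjCharts.U R m i) =
      res (Twist.twistProjSpace m R 1) le_top (ProjUP.coord m R j) := fun j => Var76.Frames.val_ofSection _ _ _
  rw [hv, hv, ← f_smul R m i l, pullS_smul, res_smul]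
  rfl

/-- The coefficient of a monomial. -/
def q (ab ab' : Fin (1 + 1) × Fin (n + 1)) : Γ(Prod' R n, Segre.W R 1 n ab) :=
  (Segre.pr₁ R 1 n).appLE (ProjCharts.U R 1 ab.1) (Segre.W R 1 n ab) inf_le_left (Segre.f R 1 ab.1 ab'.1) *
    (Segre.pr₂ R 1 n).appLE (ProjCharts.U R n ab.2) (Segre.W R 1 n ab) inf_le_right (Segre.f R n ab.2 ab'.2)

theorem q_smul (ab ab' : Fin (1 + 1) × Fin (n + 1)) :
    q R n ab ab' • val _ (mon R n ab) (Segre.W R 1 n ab) = val _ (mon R n ab') (Segre.W R 1 n ab) := by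
  rw [mon, mon, Amp73.val_tmulHom, Amp73.val_tmulHom,
    val_pull_formHom R (Segre.pr₁ R 1 n) ab.1 ab'.1 (Segre.W R 1 n ab) inf_le_left,
    val_pull_formHom R (Segre.pr₂ R 1 n) ab.2 ab'.2 (Segre.W R 1 n ab) inf_le_right, tm_smul]
  rfl

/-- The monomials of total index `j`. -/
abbrev Idx (j : Fin (n + 1 + 1)) := {p : Fin (1 + 1) × Fin (n + 1) // p.1.val + p.2.val = j.val}

/-- The coefficients of the product. -/
def cs (j : Fin (n + 1 + 1)) : Coh.structureModule (Prod' R n) ⟶ L R n :=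
  Var76.Frames.ofSection _ (∑ p : Idx n j, val _ (mon R n p.1) ⊤)

/-- The local coefficient. -/
def C (ab : Fin (1 + 1) × Fin (n + 1)) (j : Fin (n + 1 + 1)) : Γ(Prod' R n, Segre.W R 1 n ab) :=
  ∑ p : Idx n j, q R n ab p.1

theorem C_smul (ab : Fin (1 + 1) × Fin (n + 1)) (j : Fin (n + 1 + 1)) :
    C R n ab j • val _ (mon R n ab) (Segre.W R 1 n ab) = val _ (cs R n j) (Segre.W R 1 n ab) :=
  exists_coord_sum _ ((isFrame_iff_le_genLocus _ _).2 (genLocus_mon R n ab).ge) _ fun p => q_smul R n ab p.1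

theorem isAffineOpen_cs (j : Fin (n + 1 + 1)) : IsAffineOpen (CohB1.genLocus _ (cs R n j)) :=
  isAffineOpen_genLocus_sum (isInvertible_L R n) _ fun p => by
    rw [genLocus_mon]
    exact Segre.isAffineOpen_W R 1 n p.1

theorem exists_mem_genLocus_cs (x : Prod' R n) : ∃ j, x ∈ CohB1.genLocus _ (cs R n j) := by
  classical
  obtain ⟨a, ha⟩ := ProjCharts.exists_mem_U R 1 (Segre.pr₁ R 1 n x)
  obtain ⟨b, hb⟩ := ProjCharts.exists_mem_U R n (Segre.pr₂ R 1 n x)
  let A : Finset (Fin (1 + 1)) := {a | Segre.pr₁ R 1 n x ∈ ProjCharts.U R 1 a}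
  let B : Finset (Fin (n + 1)) := {b | Segre.pr₂ R 1 n x ∈ ProjCharts.U R n b}
  have hA : A.Nonempty := ⟨a, Finset.mem_filter.2 ⟨Finset.mem_univ _, ha⟩⟩
  have hB : B.Nonempty := ⟨b, Finset.mem_filter.2 ⟨Finset.mem_univ _, hb⟩⟩
  let a₀ := A.min' hA
  let b₀ := B.min' hB
  refine ⟨⟨a₀.val + b₀.val, by omega⟩, mem_genLocus_sum (isInvertible_L R n) _
    (j := (⟨(a₀, b₀), rfl⟩ : Idx n ⟨a₀.val + b₀.val, _⟩)) ?_ ?_⟩
  · rw [genLocus_mon]
    exact ⟨(Finset.mem_filter.1 (A.min'_mem hA)).2, (Finset.mem_filter.1 (B.min'_mem hB)).2⟩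
  · rintro ⟨⟨a', b'⟩, h⟩ hne hx
    rw [genLocus_mon] at hx
    have h1 : a₀ ≤ a' := A.min'_le _ (Finset.mem_filter.2 ⟨Finset.mem_univ _, hx.1⟩)
    have h2 : b₀ ≤ b' := B.min'_le _ (Finset.mem_filter.2 ⟨Finset.mem_univ _, hx.2⟩)
    simp only [Fin.le_def] at h1 h2
    refine hne (Subtype.ext (Prod.ext (Fin.ext ?_) (Fin.ext ?_)))
    · simp only at h ⊢; omega
    · simp only at h ⊢; omega

/-- The defining property of the multiplication map. -/
structure IsMult (π : Prod' R n ⟶ CohB1.ProjSpace (n + 1) R) : Prop where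
  comm : π ≫ CohB1.ProjSpace.toSpec (n + 1) R = Segre.pr₁ R 1 n ≫ CohB1.ProjSpace.toSpec 1 R
  finite : IsFinite π
  preimage : ∀ j, π ⁻¹ᵁ ProjCharts.U R (n + 1) j = CohB1.genLocus _ (cs R n j)
  ratio : ∀ ab (l j : Fin (n + 1 + 1)) (O : (Prod' R n).Opens) (hO : O ≤ Segre.W R 1 n ab)
    (hl : O ≤ π ⁻¹ᵁ ProjCharts.U R (n + 1) l),
    π.appLE (ProjCharts.U R (n + 1) l) O hl (Segre.f R (n + 1) l j) * fres hO (C R n ab l) = fres hO (C R n ab j)

theorem exists_mult : ∃ π, IsMult R n π := by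
  classical
  let L' := L R n
  have hL := isInvertible_L R n
  obtain ⟨π, hπ, τ, hτ⟩ := Groth.Agent.S3572.result (n + 1)
    (Segre.pr₁ R 1 n ≫ CohB1.ProjSpace.toSpec 1 R) L' hL (fun j => val L' (cs R n j) ⊤)
    (EGA73.ImmersionPn.generatedBy_of_genLocus L' _ fun x => by
      obtain ⟨j, hj⟩ := exists_mem_genLocus_cs R n x
      exact ⟨j, by rwa [EGA73.AmpleImmersion.genLocus_ofSection_val]⟩)
  have hcoord : ∀ j, τ.hom.app ⊤ (val _ (pullHom π (FormProj.formHom (ProjCharts.X₁ R (n + 1) j))) ⊤) =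
      val L' (cs R n j) ⊤ := fun j => by
    rw [FormProj.val_pullHom_top]
    exact hτ j
  have hval : ∀ j (O : (Prod' R n).Opens),
      τ.hom.app O (val _ (pullHom π (FormProj.formHom (ProjCharts.X₁ R (n + 1) j))) O) = val L' (cs R n j) O :=
    fun j O => by
    rw [← res_val _ _ (le_top : O ≤ ⊤), ← res_val _ (cs R n j) (le_top : O ≤ ⊤), ← hcoord j, Mero90.app_res]
  have hpre : ∀ j, π ⁻¹ᵁ ProjCharts.U R (n + 1) j = CohB1.genLocus _ (cs R n j) := fun j => by
    let h := pullHom π (FormProj.formHom (ProjCharts.X₁ R (n + 1) j))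
    have h1 : CohB1.genLocus _ h = π ⁻¹ᵁ ProjCharts.U R (n + 1) j := by
      rw [genLocus_pullHom _ (Var76.Reg.isInvertible_twist (n := n + 1) (A := R) 1), FormProj.genLocus_form]
      rfl
    rw [← h1, ← genLocus_comp_iso h τ.hom, ← EGA73.AmpleImmersion.genLocus_ofSection_val (h ≫ τ.hom),
      ← EGA73.AmpleImmersion.genLocus_ofSection_val (cs R n j)]
    congr 2
    exact hval j ⊤
  haveI : IsAffineHom π := isAffineHom_of_forall_exists_isAffineOpen π fun y => by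
    obtain ⟨j, hj⟩ := ProjCharts.exists_mem_U R (n + 1) y
    refine ⟨_, hj, ProjCharts.isAffineOpen_U R (n + 1) j, ?_⟩
    rw [hpre]
    exact isAffineOpen_cs R n j
  haveI : IsProper π := by
    have := Segre.isProper_toSpec R 1
    have := Segre.isProper_toSpec R n
    have := Segre.isProper_toSpec R (n + 1)
    have : IsProper (π ≫ CohB1.ProjSpace.toSpec (n + 1) R) := by rw [hπ]; infer_instance
    exact IsProper.of_comp π (CohB1.ProjSpace.toSpec (n + 1) R)
  refine ⟨π, hπ, IsFinite.iff_isProper_and_isAffineHom.2 ⟨inferInstance, inferInstance⟩, hpre,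
    fun ab l j O hO hl => ?_⟩
  have he : IsFrame L' O (val L' (mon R n ab) O) :=
    (isFrame_iff_le_genLocus _ _).2 (hO.trans (genLocus_mon R n ab).ge)
  have hC : ∀ i, fres hO (C R n ab i) • val L' (mon R n ab) O = val L' (cs R n i) O := fun i => by
    rw [← res_val _ _ hO, ← res_val _ (cs R n i) hO, ← C_smul, res_smul]
  refine (he O le_rfl).1 ?_
  show _ • res L' le_rfl _ = _ • res L' le_rfl _
  rw [res_self, mul_smul, hC, hC, ← hval j O, val_pull_formHom R π l j O hl, ← hval l O,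
    Scheme.Modules.Hom.app_smul]

section Surj


variable {K : Type u} [Field K]

theorem appLE_fromSpec {Y : Scheme.{u}} {U : Y.Opens} (hU : IsAffineOpen U) (φ : Γ(Y, U) ⟶ CommRingCat.of K)
    (h : ⊤ ≤ (Spec.map φ ≫ hU.fromSpec) ⁻¹ᵁ U) :
    (Spec.map φ ≫ hU.fromSpec).appLE U ⊤ h = φ ≫ (Scheme.ΓSpecIso (CommRingCat.of K)).inv := by
  refine Spec.map_injective ?_
  rw [← cancel_mono hU.fromSpec, IsAffineOpen.SpecMap_appLE_fromSpec _ hU (isAffineOpen_top _) h,
    IsAffineOpen.fromSpec_top, Scheme.isoSpec_Spec_inv, Spec.map_comp, Category.assoc]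

/-- A point with given coordinates. -/
theorem exists_point {m : ℕ} (a : Fin (m + 1) → K) (i : Fin (m + 1)) (hi : a i = 1) :
    ∃ (g : Spec (CommRingCat.of K) ⟶ CohB1.ProjSpace m (ULift.{u} ℤ)) (h : ⊤ ≤ g ⁻¹ᵁ ProjCharts.U (ULift.{u} ℤ) m i),
      ∀ l, (Scheme.ΓSpecIso (CommRingCat.of K)).hom (g.appLE _ ⊤ h (Segre.f (ULift.{u} ℤ) m i l)) = a l := by
  let κ : (ULift.{u} ℤ) →+* K := (Int.castRingHom K).comp ULift.ringEquiv.toRingHom
  have hu := ProjCharts.isUnit_eval_X (N := m) κ a i (by rw [hi]; exact isUnit_one)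
  let aw := ProjCharts.awayEval (MvPolynomial.eval₂Hom κ a) _ hu
  let ι := Proj.basicOpenIsoAway (CohB1.polyGrading m (ULift.{u} ℤ)) (MvPolynomial.X i) (ProjCharts.X₁ (ULift.{u} ℤ) m i).2 one_pos
  let φ : Γ(CohB1.ProjSpace m (ULift.{u} ℤ), ProjCharts.U (ULift.{u} ℤ) m i) ⟶ CommRingCat.of K := ι.inv ≫ CommRingCat.ofHom aw
  let hU := ProjCharts.isAffineOpen_U (ULift.{u} ℤ) m i
  have h : ⊤ ≤ (Spec.map φ ≫ hU.fromSpec) ⁻¹ᵁ ProjCharts.U (ULift.{u} ℤ) m i := fun x _ =>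
    hU.range_fromSpec.le ⟨Spec.map φ x, rfl⟩
  refine ⟨_, h, fun l => ?_⟩
  rw [appLE_fromSpec, ← CommRingCat.comp_apply, Category.assoc, Iso.inv_hom_id, Category.comp_id]
  refine Eq.trans ?_ (ProjCharts.awayEval_frac κ a i hi hu l)
  show aw (ι.inv (ι.hom (ProjCharts.frac (ULift.{u} ℤ) m i (ProjCharts.X₁ (ULift.{u} ℤ) m l)))) = _
  rw [← CommRingCat.comp_apply, Iso.hom_inv_id]
  rfl

theorem point_ext {m : ℕ} (i : Fin (m + 1)) (g g' : Spec (CommRingCat.of K) ⟶ CohB1.ProjSpace m (ULift.{u} ℤ))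
    (h : ⊤ ≤ g ⁻¹ᵁ ProjCharts.U (ULift.{u} ℤ) m i) (h' : ⊤ ≤ g' ⁻¹ᵁ ProjCharts.U (ULift.{u} ℤ) m i)
    (e : ∀ l, g.appLE _ ⊤ h (Segre.f (ULift.{u} ℤ) m i l) = g'.appLE _ ⊤ h' (Segre.f (ULift.{u} ℤ) m i l)) : g = g' := by
  have key : g.appLE _ ⊤ h = g'.appLE _ ⊤ h' := by
    refine CommRingCat.hom_ext (RingHom.ext fun x => ?_)
    obtain ⟨p, rfl⟩ := ProjCharts.exists_eval₂_eq (ULift.{u} ℤ) m i x
    rw [MvPolynomial.eval₂_comp_left, MvPolynomial.eval₂_comp_left]
    congr 1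
    · have : ∀ φ ψ : (ULift.{u} ℤ) →+* Γ(Spec (CommRingCat.of K), ⊤), φ = ψ := fun φ ψ => RingHom.ext fun r => by
        have := RingHom.ext_int (φ.comp ULift.ringEquiv.symm.toRingHom) (ψ.comp ULift.ringEquiv.symm.toRingHom)
        exact RingHom.congr_fun this r.down
      exact this _ _
    · exact funext e
  have := congrArg Spec.map key
  rw [← cancel_mono (ProjCharts.isAffineOpen_U (ULift.{u} ℤ) m i).fromSpec,
    IsAffineOpen.SpecMap_appLE_fromSpec _ _ (isAffineOpen_top _) h,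
    IsAffineOpen.SpecMap_appLE_fromSpec _ _ (isAffineOpen_top _) h', cancel_epi] at this
  exact this

theorem sum_idx (α : Fin (1 + 1) → K) (B : ℕ → K) (hB : ∀ i, n < i → B i = 0) (j : Fin (n + 1 + 1)) :
    ∑ p : Idx n j, α p.1.1 * B p.1.2.val = α 0 * B j.val + α 1 * (if j.val = 0 then 0 else B (j.val - 1)) := by
  classical
  have hsum : ∀ i : ℕ, ∑ b : Fin (n + 1), (if b.val = i then B b.val else 0) = B i := fun i => by
    rw [Fin.sum_univ_eq_sum_range (fun b => if b = i then B b else 0) (n + 1), Finset.sum_ite_eq']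
    split_ifs with h
    · rfl
    · exact (hB i (by simp only [Finset.mem_range] at h; omega)).symm
  rw [← Finset.sum_subtype (Finset.univ.filter fun p : Fin (1 + 1) × Fin (n + 1) => p.1.val + p.2.val = j.val)
    (by simp) (fun p => α p.1 * B p.2.val), Finset.sum_filter, Fintype.sum_prod_type, Fin.sum_univ_two]
  congr 1
  · rw [← hsum j.val, Finset.mul_sum]
    exact Finset.sum_congr rfl fun b _ => by simp [mul_ite]
  · split_ifs with hj
    · rw [mul_zero]
      exact Finset.sum_eq_zero fun b _ => if_neg (by simp; omega)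
    · rw [← hsum (j.val - 1), Finset.mul_sum]
      refine Finset.sum_congr rfl fun b _ => ?_
      simp only [mul_ite, mul_zero]
      exact if_congr (by simp; omega) rfl rfl

/-- A binary form over an algebraically closed field has a linear factor. -/
theorem exists_factor [IsAlgClosed K] (γ : Fin (n + 1 + 1) → K) (l : Fin (n + 1 + 1)) (hl : γ l = 1) :
    ∃ (α : Fin (1 + 1) → K) (β : Fin (n + 1) → K) (c : K) (a : Fin (1 + 1)) (b : Fin (n + 1)),
      α a = 1 ∧ β b = 1 ∧ c ≠ 0 ∧ ∀ j, ∑ p : Idx n j, α p.1.1 * β p.1.2 = c * γ j := by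
  classical
  by_cases h : γ (Fin.last (n + 1)) = 0
  · have hln : l.val < n + 1 := by
      by_contra hh
      rw [show l = Fin.last (n + 1) from Fin.ext (by simp; omega), h] at hl
      exact zero_ne_one hl
    let B : ℕ → K := fun i => if hi : i < n + 1 then γ ⟨i, by omega⟩ else 0
    refine ⟨![1, 0], fun b => B b, 1, 0, ⟨l.val, hln⟩, rfl, ?_, one_ne_zero, fun j => ?_⟩
    · exact (dif_pos hln).trans hl
    · rw [sum_idx n ![1, 0] B (fun i hi => dif_neg (by omega)) j]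
      simp only [Matrix.cons_val_zero, Matrix.cons_val_one, zero_mul, add_zero, one_mul]
      by_cases hj : j.val < n + 1
      · exact dif_pos hj
      · rw [show j = Fin.last (n + 1) from Fin.ext (by simp; omega), h]
        simp [B]
  · let P : Polynomial K := ∑ i : Fin (n + 1 + 1), Polynomial.C (γ i) * Polynomial.X ^ i.val
    have hP : ∀ i : Fin (n + 1 + 1), P.coeff i.val = γ i := fun i => by
      simp [P, Polynomial.finsetSum_coeff, Polynomial.coeff_X_pow, Fin.val_inj]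
    have hP' : ∀ i, n + 1 < i → P.coeff i = 0 := fun i hi => by
      simp only [P, Polynomial.finsetSum_coeff, Polynomial.coeff_C_mul, Polynomial.coeff_X_pow]
      exact Finset.sum_eq_zero fun x _ => by rw [if_neg (by omega), mul_zero]
    have hlast : P.coeff (n + 1) = γ (Fin.last (n + 1)) := hP (Fin.last (n + 1))
    have hdeg : P.natDegree = n + 1 :=
      Polynomial.natDegree_eq_of_le_of_coeff_ne_zero
        (Polynomial.natDegree_le_iff_coeff_eq_zero.2 fun i hi => hP' i hi) (hlast ▸ h)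
    obtain ⟨r, hr⟩ := IsAlgClosed.exists_root P (by
      intro h0
      rw [Polynomial.natDegree_eq_zero_iff_degree_le_zero.2 h0.le] at hdeg
      omega)
    obtain ⟨Q, hQ⟩ := Polynomial.dvd_iff_isRoot.2 hr
    have hcoeff : ∀ i, P.coeff i = (if i = 0 then 0 else Q.coeff (i - 1)) - r * Q.coeff i := fun i => by
      rw [hQ, sub_mul, Polynomial.coeff_sub, Polynomial.coeff_C_mul]
      congr 1
      rcases i with - | i
      · simp
      · rw [Polynomial.coeff_X_mul]; simp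
    have hQn : ∀ i, n < i → Q.coeff i = 0 := by
      intro i hi
      have hQ0 : Q ≠ 0 := fun h0 => h (by rw [← hlast, hQ, h0, mul_zero, Polynomial.coeff_zero])
      have := hdeg
      rw [hQ, Polynomial.natDegree_mul (Polynomial.X_sub_C_ne_zero r) hQ0, Polynomial.natDegree_X_sub_C] at this
      exact Polynomial.coeff_eq_zero_of_natDegree_lt (by omega)
    have hQlast : Q.coeff n = γ (Fin.last (n + 1)) := by
      rw [← hlast, hcoeff (n + 1), hQn (n + 1) (by omega)]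
      simp
    let c := (γ (Fin.last (n + 1)))⁻¹
    refine ⟨![-r, 1], fun b => c * Q.coeff b, c, 1, Fin.last n, rfl, ?_, inv_ne_zero h, fun j => ?_⟩
    · show c * Q.coeff n = 1
      rw [hQlast]
      exact inv_mul_cancel₀ h
    · rw [sum_idx n ![-r, 1] (fun i => c * Q.coeff i) (fun i hi => by simp [hQn i hi]) j, ← hP j, hcoeff]
      simp only [Matrix.cons_val_zero, Matrix.cons_val_one]
      split_ifs <;> ring

theorem surjective_mult (π : Prod' (ULift.{u} ℤ) n ⟶ CohB1.ProjSpace (n + 1) (ULift.{u} ℤ)) (hπ : IsMult (ULift.{u} ℤ) n π) : Surjective π := by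
  classical
  refine ⟨fun y => ?_⟩
  obtain ⟨l, hyl⟩ := ProjCharts.exists_mem_U (ULift.{u} ℤ) (n + 1) y
  let K' := AlgebraicClosure ((CohB1.ProjSpace (n + 1) (ULift.{u} ℤ)).residueField y)
  let g : Spec (CommRingCat.of K') ⟶ CohB1.ProjSpace (n + 1) (ULift.{u} ℤ) :=
    Spec.map (CommRingCat.ofHom (algebraMap ((CohB1.ProjSpace (n + 1) (ULift.{u} ℤ)).residueField y) K')) ≫
      (CohB1.ProjSpace (n + 1) (ULift.{u} ℤ)).fromSpecResidueField y
  have hgy : ∀ s, g s = y := fun s => by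
    rw [Scheme.Hom.comp_apply]
    exact Scheme.fromSpecResidueField_apply _ _
  have hg : ⊤ ≤ g ⁻¹ᵁ ProjCharts.U (ULift.{u} ℤ) (n + 1) l := fun s _ => by
    show g s ∈ ProjCharts.U (ULift.{u} ℤ) (n + 1) l
    rwa [hgy]
  let ev := (Scheme.ΓSpecIso (CommRingCat.of K')).hom
  let γ : Fin (n + 1 + 1) → K' := fun j => ev (g.appLE _ ⊤ hg (Segre.f (ULift.{u} ℤ) (n + 1) l j))
  obtain ⟨α, β, c, a, b, ha, hb, hc, hfac⟩ := exists_factor n γ l (by
    show ev (g.appLE _ ⊤ hg (Segre.f (ULift.{u} ℤ) (n + 1) l l)) = 1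
    rw [Segre.f_self]
    exact (congrArg ev (map_one _)).trans (map_one _))
  obtain ⟨z, hz, hzc⟩ := exists_point α a ha
  obtain ⟨w, hw, hwc⟩ := exists_point β b hb
  let x : Spec (CommRingCat.of K') ⟶ Prod' (ULift.{u} ℤ) n := pullback.lift z w (specULiftZIsTerminal.hom_ext _ _)
  have hx1 : x ≫ Segre.pr₁ (ULift.{u} ℤ) 1 n = z := pullback.lift_fst _ _ _
  have hx2 : x ≫ Segre.pr₂ (ULift.{u} ℤ) 1 n = w := pullback.lift_snd _ _ _
  have hxW : ⊤ ≤ x ⁻¹ᵁ Segre.W (ULift.{u} ℤ) 1 n (a, b) := fun s _ => by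
    refine ⟨?_, ?_⟩
    · have h := hz (trivial : s ∈ ⊤)
      rw [← hx1] at h
      exact h
    · have h := hw (trivial : s ∈ ⊤)
      rw [← hx2] at h
      exact h
  have hap : ∀ {m : ℕ} (p : Prod' (ULift.{u} ℤ) n ⟶ CohB1.ProjSpace m (ULift.{u} ℤ)) (z : Spec (CommRingCat.of K') ⟶ _) (_ : x ≫ p = z)
      (U : (CohB1.ProjSpace m (ULift.{u} ℤ)).Opens) (O : (Prod' (ULift.{u} ℤ) n).Opens) (hO : O ≤ p ⁻¹ᵁ U) (hx : ⊤ ≤ x ⁻¹ᵁ O)
      (hz : ⊤ ≤ z ⁻¹ᵁ U) (r : Γ(CohB1.ProjSpace m (ULift.{u} ℤ), U)),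
      x.appLE O ⊤ hx (p.appLE U O hO r) = z.appLE U ⊤ hz r := by
    rintro m p _ rfl U O hO hx hz r
    rw [← CommRingCat.comp_apply, Scheme.Hom.appLE_comp_appLE]
  have hC : ∀ j, ev (x.appLE _ ⊤ hxW (C (ULift.{u} ℤ) n (a, b) j)) = c * γ j := fun j => by
    rw [← hfac j, C, map_sum, map_sum]
    refine Finset.sum_congr rfl fun p _ => ?_
    rw [q, map_mul, map_mul, hap _ z hx1 _ _ _ hxW hz, hap _ w hx2 _ _ _ hxW hw, hzc, hwc]
  let O := (Prod' (ULift.{u} ℤ) n).basicOpen (C (ULift.{u} ℤ) n (a, b) l)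
  have hO : O ≤ Segre.W (ULift.{u} ℤ) 1 n (a, b) := (Prod' (ULift.{u} ℤ) n).basicOpen_le _
  have hOl : O ≤ π ⁻¹ᵁ ProjCharts.U (ULift.{u} ℤ) (n + 1) l := by
    rw [hπ.preimage]
    have := genLocus_inf_eq_basicOpen (cs (ULift.{u} ℤ) n l)
      ((isFrame_iff_le_genLocus _ _).2 (genLocus_mon (ULift.{u} ℤ) n (a, b)).ge) (C_smul (ULift.{u} ℤ) n (a, b) l)
    exact this.ge.trans inf_le_left
  have hunit : IsUnit (x.appLE _ ⊤ hxW (C (ULift.{u} ℤ) n (a, b) l)) := by
    have h1 : IsUnit (ev (x.appLE _ ⊤ hxW (C (ULift.{u} ℤ) n (a, b) l))) := by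
      rw [hC, isUnit_iff_ne_zero]
      refine mul_ne_zero hc ?_
      show ev (g.appLE _ ⊤ hg (Segre.f (ULift.{u} ℤ) (n + 1) l l)) ≠ 0
      rw [Segre.f_self]
      exact fun h0 => one_ne_zero (((congrArg ev (map_one _)).trans (map_one _)).symm.trans h0)
    have h2 := h1.map (Scheme.ΓSpecIso (CommRingCat.of K')).inv.hom
    rwa [← CommRingCat.comp_apply, Iso.hom_inv_id] at h2
  have hxO : ⊤ ≤ x ⁻¹ᵁ O := by
    intro s _
    have h3 : s ∈ (Spec (CommRingCat.of K')).basicOpen (x.appLE _ ⊤ hxW (C (ULift.{u} ℤ) n (a, b) l)) := by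
      rw [Scheme.basicOpen_of_isUnit _ hunit]; trivial
    rw [Scheme.basicOpen_appLE] at h3
    exact h3.2
  have hh : ⊤ ≤ (x ≫ π) ⁻¹ᵁ ProjCharts.U (ULift.{u} ℤ) (n + 1) l := fun s _ => hOl (hxO (trivial : s ∈ ⊤))
  have hres : ∀ r : Γ(Prod' (ULift.{u} ℤ) n, Segre.W (ULift.{u} ℤ) 1 n (a, b)), x.appLE O ⊤ hxO (fres hO r) = x.appLE _ ⊤ hxW r :=
    fun r => by
    show x.appLE O ⊤ hxO ((Prod' (ULift.{u} ℤ) n).presheaf.map (homOfLE hO).op r) = _
    rw [← CommRingCat.comp_apply, Scheme.Hom.map_appLE]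
  have hkey : g = x ≫ π := by
    refine point_ext l g (x ≫ π) hg hh fun j => ?_
    have e := congrArg (fun r => ev (x.appLE O ⊤ hxO r)) (hπ.ratio (a, b) l j O hO hOl)
    simp only [map_mul, hres, hC] at e
    rw [hap π _ rfl _ _ _ hxO hh] at e
    have h1 : γ l = 1 := by
      show ev (g.appLE _ ⊤ hg (Segre.f (ULift.{u} ℤ) (n + 1) l l)) = 1
      rw [Segre.f_self]
      exact (congrArg ev (map_one _)).trans (map_one _)
    rw [h1, mul_one, mul_comm c] at e
    have e2 := mul_right_cancel₀ hc e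
    refine (ConcreteCategory.bijective_of_isIso (Scheme.ΓSpecIso (CommRingCat.of K')).hom).1 ?_
    exact e2.symm
  obtain ⟨s⟩ : Nonempty (Spec (CommRingCat.of K')) := inferInstance
  exact ⟨x s, by rw [← Scheme.Hom.comp_apply, ← hkey, hgy]⟩

end Surj

end Groth.Agent.EGAProj74.P1Mult
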