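import Groth.Agent.EGAProj74.P1Mult
import Groth.Agent.EGA73.ProjPoint

/-! `(P¹)ⁿ → Pⁿ` is finite and surjective. -/

set_option autoImplicit false
set_option backward.isDefEq.respectTransparency false

universe u

open CategoryTheory CategoryTheory.Limits AlgebraicGeometry TopologicalSpace Opposite

noncomputable section

namespace Groth.Agent.EGAProj74.P1Power

/-- The multiplication map over any base. -/
theorem exists_mult (S : Scheme.{u}) (n : ℕ) :
    ∃ φ : pullback (CohB1.ProjSpaceOver.toBase 1 S) (CohB1.ProjSpaceOver.toBase n S) ⟶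
        CohB1.ProjSpaceOver (n + 1) S,
      IsFinite φ ∧ Surjective φ ∧ φ ≫ CohB1.ProjSpaceOver.toBase (n + 1) S =
        pullback.fst _ _ ≫ CohB1.ProjSpaceOver.toBase 1 S := by
  let T := specULiftZIsTerminal.{u}.from S
  let a := CohB1.ProjSpace.toSpec 1 (ULift.{u} ℤ)
  let b := CohB1.ProjSpace.toSpec n (ULift.{u} ℤ)
  let c := CohB1.ProjSpace.toSpec (n + 1) (ULift.{u} ℤ)
  obtain ⟨φ, hφ⟩ := P1Mult.exists_mult (ULift.{u} ℤ) n
  haveI := hφ.finite
  haveI := P1Mult.surjective_mult n φ hφ
  let q : pullback (CohB1.ProjSpaceOver.toBase 1 S) (CohB1.ProjSpaceOver.toBase n S) ⟶ pullback a b :=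
    pullback.lift (pullback.fst _ _ ≫ pullback.fst a T) (pullback.snd _ _ ≫ pullback.fst b T)
      (specULiftZIsTerminal.hom_ext _ _)
  let t := pullback.fst (CohB1.ProjSpaceOver.toBase 1 S) (CohB1.ProjSpaceOver.toBase n S) ≫
    CohB1.ProjSpaceOver.toBase 1 S
  have hq : IsPullback q t (pullback.fst a b ≫ a) T := by
    refine IsPullback.of_isLimit' ⟨specULiftZIsTerminal.hom_ext _ _⟩ (PullbackCone.IsLimit.mk _ (fun s =>
      pullback.lift (pullback.lift (s.fst ≫ pullback.fst a b) s.snd (specULiftZIsTerminal.hom_ext _ _))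
        (pullback.lift (s.fst ≫ pullback.snd a b) s.snd (specULiftZIsTerminal.hom_ext _ _))
        (by simp [CohB1.ProjSpaceOver.toBase])) (fun s => ?_) (fun s => ?_) (fun s l h1 h2 => ?_))
    · apply pullback.hom_ext <;> (simp [q]; exact pullback.lift_fst _ _ _)
    · simp [t, CohB1.ProjSpaceOver.toBase]
    · apply pullback.hom_ext <;> apply pullback.hom_ext
      · simpa [q] using congrArg (fun z => z ≫ pullback.fst a b) h1
      · simpa [t, CohB1.ProjSpaceOver.toBase] using h2
      · simpa [q] using congrArg (fun z => z ≫ pullback.snd a b) h1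
      · have := pullback.condition (f := CohB1.ProjSpaceOver.toBase 1 S) (g := CohB1.ProjSpaceOver.toBase n S)
        simp only [CohB1.ProjSpaceOver.toBase] at this
        simpa [t, CohB1.ProjSpaceOver.toBase, ← this] using h2
  have h := IsPullback.of_right (h₁₁ := pullback.lift (q ≫ φ) t (specULiftZIsTerminal.hom_ext _ _))
    (by rw [hφ.comm]; exact (show IsPullback q (pullback.lift (q ≫ φ) t (specULiftZIsTerminal.hom_ext _ _) ≫
      pullback.snd c T) (pullback.fst a b ≫ a) T by rw [pullback.lift_snd]; exact hq).flip)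
    (pullback.lift_fst _ _ _) (IsPullback.of_hasPullback c T).flip
  exact ⟨_, MorphismProperty.of_isPullback h.flip inferInstance, MorphismProperty.of_isPullback h.flip inferInstance,
    pullback.lift_snd _ _ _⟩

theorem isIso_toBase_zero (S : Scheme.{u}) : IsIso (CohB1.ProjSpaceOver.toBase 0 S) := by
  haveI := EGA73.isIso_toSpec_zero (ULift.{u} ℤ)
  exact inferInstanceAs (IsIso (pullback.snd (CohB1.ProjSpace.toSpec 0 (ULift.{u} ℤ)) _))

theorem exists_power (S : Scheme.{u}) (n : ℕ) :
    ∃ φ : widePullback S (fun _ : Fin n => CohB1.ProjSpaceOver 1 S) (fun _ => CohB1.ProjSpaceOver.toBase 1 S) ⟶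
        CohB1.ProjSpaceOver n S,
      IsFinite φ ∧ Surjective φ ∧
        φ ≫ CohB1.ProjSpaceOver.toBase n S = WidePullback.base (fun _ => CohB1.ProjSpaceOver.toBase 1 S) := by
  induction n with
  | zero =>
    haveI := isIso_toBase_zero S
    haveI : IsIso (WidePullback.base (fun _ : Fin 0 => CohB1.ProjSpaceOver.toBase 1 S)) :=
      ⟨WidePullback.lift (𝟙 S) (fun i => i.elim0) (fun i => i.elim0),
        WidePullback.hom_ext _ _ _ (fun i => i.elim0) (by simp), by simp⟩
    exact ⟨WidePullback.base _ ≫ inv (CohB1.ProjSpaceOver.toBase 0 S), inferInstance, inferInstance, by simp⟩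
  | succ n ih =>
    obtain ⟨φ, h1, h2, h3⟩ := ih
    obtain ⟨μ, m1, m2, m3⟩ := exists_mult S n
    let p := CohB1.ProjSpaceOver.toBase 1 S
    let W := fun k => widePullback S (fun _ : Fin k => CohB1.ProjSpaceOver 1 S) (fun _ => p)
    let b := WidePullback.base (fun _ : Fin n => p)
    let ψ : W (n + 1) ⟶ pullback p b :=
      pullback.lift (WidePullback.π (fun _ => p) 0)
        (WidePullback.lift (WidePullback.base fun _ => p) (fun i => WidePullback.π (fun _ => p) i.succ)
          fun i => WidePullback.π_arrow (fun _ : Fin (n + 1) => p) i.succ)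
        (by simp only [b, WidePullback.lift_base]; exact WidePullback.π_arrow (fun _ : Fin (n + 1) => p) 0)
    let ψ' : pullback p b ⟶ W (n + 1) :=
      WidePullback.lift (pullback.fst p b ≫ p)
        (Fin.cases (pullback.fst p b) (fun i => pullback.snd p b ≫ WidePullback.π (fun _ => p) i))
        (Fin.cases rfl (fun i => by
          simp only [Fin.cases_succ, Category.assoc, WidePullback.π_arrow]
          exact pullback.condition.symm))
    haveI : IsIso ψ := ⟨ψ', by
      refine WidePullback.hom_ext _ _ _ (fun i => ?_) ?_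
      · refine Fin.cases ?_ (fun i => ?_) i <;> simp [ψ, ψ']
      · simp [ψ, ψ', p], by
      refine pullback.hom_ext ?_ (WidePullback.hom_ext _ _ _ (fun i => ?_) ?_)
      · simp [ψ, ψ']
      · simp [ψ, ψ']
      · simp [ψ, ψ', b, ← pullback.condition]⟩
    let m : pullback p b ⟶ pullback p (CohB1.ProjSpaceOver.toBase n S) :=
      pullback.map p b p (CohB1.ProjSpaceOver.toBase n S) (𝟙 _) φ (𝟙 _) (by simp) (by simp [b, h3, p])
    haveI : IsFinite m := MorphismProperty.pullbackMap (P := @IsFinite) (inferInstance : IsFinite (𝟙 _)) h1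
      (Category.id_comp _).symm h3.symm
    haveI : Surjective m := MorphismProperty.pullbackMap (P := @Surjective) (inferInstance : Surjective (𝟙 _)) h2
      (Category.id_comp _).symm h3.symm
    refine ⟨ψ ≫ m ≫ μ, inferInstance, inferInstance, ?_⟩
    simp only [Category.assoc, m3, m]
    simp [ψ, p]

end Groth.Agent.EGAProj74.P1Power
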