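import Groth.Agent.EGAProj74.Dom
import Mathlib.Algebra.Polynomial.Basic
import Mathlib.RingTheory.GradedAlgebra.Homogeneous.Ideal

/-!
Graded rings `B = A[z]`.
-/

set_option autoImplicit false

universe u

open Polynomial AlgebraicGeometry CategoryTheory HomogeneousLocalization
open scoped HomogeneousIdeal

noncomputable section

namespace Groth.Agent.EGAProj74

variable {A B : Type u} [CommRing A] [CommRing B] {𝒜 : ℕ → AddSubgroup A} [GradedRing 𝒜]
  {ℬ : ℕ → AddSubgroup B} [GradedRing ℬ] (ι : 𝒜 →+*ᵍ ℬ) {z : B} (hz : z ∈ ℬ 1)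
  (bij : Function.Bijective (Polynomial.eval₂RingHom ι.toRingHom z))

include bij in
theorem exists_poly (x : B) : ∃ p : A[X], eval₂ ι.toRingHom z p = x := bij.2 x

include hz bij in
/-- A homogeneous element of `A[z]` has homogeneous coefficients. -/
theorem coeff_mem_of_mem {k : ℕ} {p : A[X]} (hp : eval₂ ι.toRingHom z p ∈ ℬ k) :
    (∀ j, j ≤ k → p.coeff j ∈ 𝒜 (k - j)) ∧ ∀ j, k < j → p.coeff j = 0 := by
  classical
  let q : A[X] := ∑ j ∈ p.support, if j ≤ k then C (GradedRing.proj 𝒜 (k - j) (p.coeff j)) * X ^ j else 0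
  have hterm : ∀ j, GradedRing.proj ℬ k (ι (p.coeff j) * z ^ j) =
      if j ≤ k then ι (GradedRing.proj 𝒜 (k - j) (p.coeff j)) * z ^ j else 0 := by
    intro j
    rw [GradedRing.proj_apply,
      DirectSum.coe_decompose_mul_of_right_mem ℬ k (show z ^ j ∈ ℬ j by simpa using SetLike.pow_mem_graded j hz)]
    split_ifs with h
    · congr 1
      rw [GradedRing.proj_apply]
      exact (GradedRingHom.map_directSumDecompose 𝒜 ℬ ι).symm
    · rfl
  have hq : eval₂ ι.toRingHom z q = eval₂ ι.toRingHom z p := by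
    have e : eval₂ ι.toRingHom z p = ∑ j ∈ p.support, ι (p.coeff j) * z ^ j := by
      rw [eval₂_eq_sum, Polynomial.sum_def]; rfl
    have e2 : eval₂ ι.toRingHom z p = GradedRing.proj ℬ k (eval₂ ι.toRingHom z p) := by
      rw [GradedRing.proj_apply, DirectSum.decompose_of_mem_same ℬ hp]
    rw [e2, e, map_sum, eval₂_finsetSum]
    refine Finset.sum_congr rfl fun j _ => ?_
    rw [hterm]
    split_ifs
    · simp
    · simp
  have hpq : q = p := bij.1 hq
  refine ⟨fun j hj => ?_, fun j hj => ?_⟩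
  · rw [← hpq]
    simp only [q, finsetSum_coeff]
    refine sum_mem fun i _ => ?_
    split_ifs with hi
    · rw [coeff_C_mul, coeff_X_pow]
      split_ifs with h
      · subst h; rw [mul_one]; exact SetLike.coe_mem _
      · simp
    · simp
  · rw [← hpq]
    simp only [q, finsetSum_coeff]
    refine Finset.sum_eq_zero fun i _ => ?_
    split_ifs with hi
    · rw [coeff_C_mul, coeff_X_pow, if_neg (by omega), mul_zero]
    · simp

include hz bij in
/-- "Set `z = 1`" is injective on each homogeneous piece. -/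
theorem eval_one_inj {k : ℕ} {p : A[X]} (hp : eval₂ ι.toRingHom z p ∈ ℬ k) (h : p.eval 1 = 0) :
    p = 0 := by
  classical
  obtain ⟨h1, h2⟩ := coeff_mem_of_mem ι hz bij hp
  ext j
  rw [coeff_zero]
  by_cases hj : j ≤ k
  · have e : p.eval 1 = ∑ i ∈ p.support, p.coeff i := by
      rw [eval_eq_sum, Polynomial.sum_def]; simp
    have := congr(GradedRing.proj 𝒜 (k - j) $(e ▸ h))
    rw [map_sum, map_zero, Finset.sum_eq_single j] at this
    · rwa [GradedRing.proj_apply, DirectSum.decompose_of_mem_same 𝒜 (h1 j hj)] at this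
    · intro i _ hij
      by_cases hi : i ≤ k
      · rw [GradedRing.proj_apply, DirectSum.decompose_of_mem_ne 𝒜 (h1 i hi) (by omega)]
      · rw [h2 i (by omega), map_zero]
    · intro hjs
      rw [notMem_support_iff.mp hjs, map_zero]
  · exact h2 j (by omega)

include hz bij in
theorem irrelevant_le_of_le {I : Ideal B} (hι : ∀ d, 0 < d → ∀ a ∈ 𝒜 d, ι a ∈ I) (hzI : z ∈ I) :
    (HomogeneousIdeal.irrelevant ℬ).toIdeal ≤ I := by
  refine irrelevant_toIdeal_le_span.trans (Ideal.span_le.mpr ?_)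
  rintro x ⟨k, hk, hx⟩
  obtain ⟨p, rfl⟩ := exists_poly ι bij x
  obtain ⟨h1, h2⟩ := coeff_mem_of_mem ι hz bij hx
  rw [eval₂_eq_sum, Polynomial.sum_def]
  refine Submodule.sum_mem _ fun j hj => ?_
  rcases Nat.eq_zero_or_pos j with rfl | hj0
  · rw [pow_zero, mul_one]
    exact hι _ (by omega) _ (h1 0 (by omega))
  · exact Ideal.mul_mem_left _ _ (Ideal.pow_mem_of_mem _ hzI _ hj0)

section retraction

variable (θ : ℬ →+*ᵍ 𝒜) (hθι : ∀ a, θ (ι a) = a) (hθz : θ z = 0)

include bij hθι hθz in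
theorem sub_ι_θ_mem (b : B) : b - ι (θ b) ∈ Ideal.span {z} := by
  obtain ⟨p, rfl⟩ := exists_poly ι bij b
  refine Polynomial.induction_on p (fun a => ?_) (fun p q hp hq => ?_) fun n a _ => ?_
  · simp [hθι]
  · rw [eval₂_add, map_add, map_add, add_sub_add_comm]; exact add_mem hp hq
  · rw [eval₂_mul, eval₂_C, eval₂_X_pow, map_mul, map_pow, hθz]
    simp only [pow_succ, mul_zero, map_zero, sub_zero]
    exact Ideal.mul_mem_left _ _ (Ideal.mul_mem_left _ _ (Ideal.subset_span rfl))

include hz bij hθι hθz in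
theorem range_map_retraction (h : 𝒜₊ ≤ (ℬ₊).map θ) :
    Set.range (Proj.map θ h).base = ((Proj.basicOpen ℬ z : TopologicalSpace.Opens _) : Set (Proj ℬ))ᶜ := by
  refine Set.Subset.antisymm ?_ fun y hy => ?_
  · rintro _ ⟨x, rfl⟩ hx
    refine (Proj.mem_basicOpen ℬ z _).mp hx ?_
    change θ z ∈ x.asHomogeneousIdeal.toIdeal
    rw [hθz]; exact zero_mem _
  · have hzy : z ∈ y.asHomogeneousIdeal.toIdeal := by
      by_contra h'; exact hy ((Proj.mem_basicOpen ℬ z y).mpr h')
    have hzs : ∀ b ∈ Ideal.span {z}, b ∈ y.asHomogeneousIdeal.toIdeal := fun b hb =>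
      Ideal.span_le.mpr (Set.singleton_subset_iff.mpr hzy) hb
    refine ⟨(⟨y.asHomogeneousIdeal.comap ι, y.isPrime.comap ι.toRingHom, fun hle => ?_⟩ :
      ProjectiveSpectrum 𝒜), ?_⟩
    · exact y.not_irrelevant_le (irrelevant_le_of_le ι hz bij
        (fun d hd a ha => hle (HomogeneousIdeal.mem_irrelevant_of_mem 𝒜 hd ha)) hzy)
    · refine ProjectiveSpectrum.ext (HomogeneousIdeal.toIdeal_injective ?_)
      ext b
      change ι (θ b) ∈ y.asHomogeneousIdeal.toIdeal ↔ b ∈ y.asHomogeneousIdeal.toIdeal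
      have := hzs _ (sub_ι_θ_mem ι bij θ hθι hθz b)
      exact ⟨fun h => by simpa using add_mem this h, fun h => by simpa using sub_mem h this⟩

end retraction

include hz bij in
/-- The comparison `B_(z) → A` is bijective. -/
theorem awayZ_bijective (g : Away ℬ z →+* A)
    (hg : ∀ (q : Away ℬ z) (p : A[X]) (k : ℕ),
      q.val = Localization.mk (eval₂ ι.toRingHom z p) ⟨z ^ k, pow_mem (Submonoid.mem_powers _) k⟩ →
        g q = p.eval 1) :
    Function.Bijective g := by
  classical
  constructor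
  · rw [injective_iff_map_eq_zero]
    intro q hq
    obtain ⟨k, x, hx, rfl⟩ := Away.mk_surjective ℬ hz q
    obtain ⟨p, rfl⟩ := exists_poly ι bij x
    rw [hg _ p k (Away.val_mk (𝒜 := ℬ) k hz _ hx)] at hq
    have := eval_one_inj ι hz bij (k := k) (by simpa using hx) hq
    refine val_injective _ ?_
    rw [Away.val_mk, val_zero]
    subst this
    simp only [eval₂_zero]
    exact Localization.mk_zero _
  · intro a
    rw [← DirectSum.sum_support_decompose 𝒜 a]
    refine (RingHom.range g).sum_mem fun i _ => ?_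
    let q : Away ℬ z := Away.mk ℬ hz i (ι (DirectSum.decompose 𝒜 a i : A))
      (by simpa using ι.map_mem (SetLike.coe_mem (DirectSum.decompose 𝒜 a i)))
    refine ⟨q, ?_⟩
    rw [hg q (C (DirectSum.decompose 𝒜 a i : A)) i ?_, eval_C]
    rw [Away.val_mk, eval₂_C]
    rfl

end Groth.Agent.EGAProj74
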