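import Groth.Agent.EGAProj74.ConeInfinity
import Groth.Agent.EGAProj74.ConeMap
import Groth.Agent.EGAProj74.QMapProps

/-!
The pointed projective cone.
-/

set_option autoImplicit false

universe u

open CategoryTheory CategoryTheory.Limits AlgebraicGeometry TopologicalSpace Opposite
open scoped HomogeneousIdeal

noncomputable section

namespace Groth.Agent.EGAProj74

variable {Y : Scheme.{u}} {𝒮 𝒮h : RelProj.QCGrAlg Y} {ι : 𝒮.toQCAlg ⟶ 𝒮h.toQCAlg}
  {z : 𝒮h.presheaf.obj (op ⊤)} (hz : RelCone.IsPolyOver 𝒮 𝒮h ι z)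
  {PC : Scheme.{u}} {pC : PC ⟶ Y}
  {chartC : ∀ (U : Y.Opens) (hU : IsAffineOpen U),
    (((pC ⁻¹ᵁ U : PC.Opens) : Scheme.{u}) ≅ Proj (𝒮h.deg U hU))}
  (hC : RelProj.IsRelProj 𝒮h pC chartC)

include hC

theorem pointedProjCone_eq_domQ :
    RelCone.pointedProjCone 𝒮 hz pC chartC =
      RelProj.domQ (RelProj.QGrHom.ofHom ι hz.graded) pC chartC := by
  refine le_antisymm (iSup_le fun U => ?_) fun x hx => ?_
  · rw [← gradedAt_ofHom ι hz.graded U.1 U.2, ← domQ_inf_preimage _ hC U.2 U.2 le_rfl]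
    exact inf_le_left
  · obtain ⟨U, hU, y, rfl⟩ := exists_emb_apply (chart := chartC) x
    refine Opens.mem_iSup.mpr ⟨⟨U, hU⟩, y, ?_, rfl⟩
    have := (emb_mem_domQ_iff (g := 𝟙 Y) _ hC hU hU le_rfl y).mp hx
    rw [gradedAt_ofHom] at this
    exact this

theorem emb_mem_pointedProjCone_iff (U : Y.Opens) (hU : IsAffineOpen U) (y : Proj (𝒮h.deg U hU)) :
    (RelProj.emb pC chartC U hU).base y ∈ RelCone.pointedProjCone 𝒮 hz pC chartC ↔
      y ∈ RelCone.domOpen (RelProj.gradedHomAt ι hz.graded U hU) := by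
  rw [pointedProjCone_eq_domQ hz hC, emb_mem_domQ_iff (g := 𝟙 Y) _ hC hU hU le_rfl y, gradedAt_ofHom]

omit hC in
theorem awayZToBase_elem (U : Y.Opens) (hU : IsAffineOpen U) {d : ℕ} {a : 𝒮.presheaf.obj (op U)}
    (ha : a ∈ 𝒮.deg U hU d) :
    hz.awayZToBase U hU (HomogeneousLocalization.Away.isLocalizationElem (hz.deg_z U hU)
      ((RelProj.gradedHomAt ι hz.graded U hU).map_mem ha)) = a := by
  refine (hz.awayZToBase_of_val U hU _ (RelProj.gradedHomAt ι hz.graded U hU a ^ 1) d ?_).trans ?_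
  · rw [HomogeneousLocalization.Away.isLocalizationElem, HomogeneousLocalization.Away.val_mk]; rfl
  · rw [pow_one]
    exact hz.evalOne_ι U hU a

theorem preimage_chartImm_pointedProjCone {i : 𝒮.toQCAlg.spec ⟶ PC}
    (hi : RelCone.IsConeImm 𝒮 hz pC chartC i) :
    i ⁻¹ᵁ RelCone.pointedProjCone 𝒮 hz pC chartC = RelCone.pointedCone 𝒮 := by
  ext x
  obtain ⟨⟨U, hU⟩, hx⟩ := Opens.mem_iSup.mp ((iSup_affineOpens_eq_top Y).ge (Set.mem_univ (𝒮.toQCAlg.π.base x)))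
  obtain ⟨c, rfl⟩ : x ∈ (𝒮.toQCAlg.ι U hU).opensRange := by rw [opensRange_specι]; exact hx
  refine Iff.trans ?_ (Iff.of_eq (congrArg (c ∈ ·) (preimage_pointedCone 𝒮 U hU)).symm)
  have e : i.base ((𝒮.toQCAlg.ι U hU).base c) = (RelProj.emb pC chartC U hU).base
      ((Proj.awayι (𝒮h.deg U hU) (RelCone.restrictTop 𝒮h z U) (hz.deg_z U hU) one_pos).base
        ((Spec.map (CommRingCat.ofHom (hz.awayZToBase U hU))).base c)) :=
    congr(($(hi U hU)).base c)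
  change i.base ((𝒮.toQCAlg.ι U hU).base c) ∈ RelCone.pointedProjCone 𝒮 hz pC chartC ↔ _
  rw [e, emb_mem_pointedProjCone_iff hz hC U hU, domOpen_eq_iSup, Opens.mem_iSup]
  have key : ∀ (d : ℕ), 0 < d → ∀ a : 𝒮.presheaf.obj (op U), a ∈ 𝒮.deg U hU d →
      ((Proj.awayι (𝒮h.deg U hU) (RelCone.restrictTop 𝒮h z U) (hz.deg_z U hU) one_pos).base
        ((Spec.map (CommRingCat.ofHom (hz.awayZToBase U hU))).base c) ∈
          Proj.basicOpen (𝒮h.deg U hU) (RelProj.gradedHomAt ι hz.graded U hU a) ↔ a ∉ c.asIdeal) := by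
    intro d hd a ha
    change c ∈ Spec.map (CommRingCat.ofHom (hz.awayZToBase U hU)) ⁻¹ᵁ
      (Proj.awayι (𝒮h.deg U hU) (RelCone.restrictTop 𝒮h z U) (hz.deg_z U hU) one_pos ⁻¹ᵁ
        Proj.basicOpen (𝒮h.deg U hU) (RelProj.gradedHomAt ι hz.graded U hU a)) ↔ _
    have e2 := Proj.awayι_preimage_basicOpen (𝒮h.deg U hU) (hz.deg_z U hU) one_pos
      ((RelProj.gradedHomAt ι hz.graded U hU).map_mem ha) hd
    refine Iff.trans (Iff.of_eq (congrArg (fun O : TopologicalSpace.Opens _ =>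
      c ∈ Spec.map (CommRingCat.ofHom (hz.awayZToBase U hU)) ⁻¹ᵁ O) e2)) ?_
    change hz.awayZToBase U hU _ ∉ c.asIdeal ↔ _
    rw [awayZToBase_elem hz U hU ha]
  constructor
  · rintro ⟨⟨⟨d, hd⟩, a, ha⟩, h⟩
    exact fun hle => (key d hd a ha).mp h (hle (HomogeneousIdeal.mem_irrelevant_of_mem _ hd ha))
  · intro h
    by_contra hne
    refine h (irrelevant_toIdeal_le_span.trans (Ideal.span_le.mpr ?_))
    rintro a ⟨d, hd, ha⟩
    by_contra hac
    exact hne ⟨⟨⟨d, hd⟩, a, ha⟩, (key d hd a ha).mpr hac⟩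

theorem compl_pointedProjCone_le_globalOpen :
    ((RelCone.pointedProjCone 𝒮 hz pC chartC : PC.Opens) : Set PC)ᶜ ⊆
      ((globalOpen pC chartC z : PC.Opens) : Set PC) := by
  intro x hx
  obtain ⟨U, hU, y, rfl⟩ := exists_emb_apply (chart := chartC) x
  refine (emb_mem_globalOpen_iff hC z U hU y).mpr ((Proj.mem_basicOpen _ _ y).mpr fun hzy => ?_)
  refine y.not_irrelevant_le (irrelevant_le_of_le (RelProj.gradedHomAt ι hz.graded U hU) (hz.deg_z U hU)
    (hz.bij U hU) (fun d hd a ha => ?_) hzy)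
  by_contra hay
  exact hx ((emb_mem_pointedProjCone_iff hz hC U hU y).mpr
    (basicOpen_le_domOpen _ hd ha ((Proj.mem_basicOpen _ _ y).mpr hay)))

theorem pointedProjCone_eq_compl (h0 : RelCone.StrZeroBij 𝒮) {aug : 𝒮.toQCAlg ⟶ RelSpec.QCAlg.unit Y}
    (haug : RelCone.IsAugmentation 𝒮 aug) {ε : Y ⟶ 𝒮.toQCAlg.spec} (hε : RelCone.IsVertex 𝒮 aug ε)
    {i : 𝒮.toQCAlg.spec ⟶ PC} (hi : RelCone.IsConeImm 𝒮 hz pC chartC i) :
    ((RelCone.pointedProjCone 𝒮 hz pC chartC : PC.Opens) : Set PC) = (Set.range (ε ≫ i).base)ᶜ := by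
  have hc := pointedCone_eq_compl h0 haug hε
  have hp := preimage_chartImm_pointedProjCone hz hC hi
  refine Set.Subset.antisymm ?_ fun x hx => ?_
  · rintro x hx ⟨y, rfl⟩
    have h1 : ε.base y ∈ RelCone.pointedCone 𝒮 := hp.le hx
    exact hc.le h1 ⟨y, rfl⟩
  · by_contra hne
    obtain ⟨c, rfl⟩ := (range_coneImm hz hC hi).ge (compl_pointedProjCone_le_globalOpen hz hC hne)
    obtain ⟨y, rfl⟩ : c ∈ Set.range ε.base := by
      by_contra hce
      exact hne (hp.ge (hc.ge hce))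
    exact hx ⟨y, rfl⟩

end Groth.Agent.EGAProj74
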