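import Groth.Agent.EGAProj74.RelBasic
import Groth.Agent.EGAProj74.DomComp
import Groth.Prelude.Def_RelProj4

/-!
`Proj(u)` on `G(u)` for a graded morphism over a morphism of bases.
-/

set_option autoImplicit false

universe u

open CategoryTheory CategoryTheory.Limits AlgebraicGeometry TopologicalSpace Opposite
open scoped HomogeneousIdeal

noncomputable section

namespace Groth.Agent.EGAProj74

variable {S S' : Scheme.{u}} {g : S' ⟶ S} {𝒮 : RelProj.QCGrAlg S} {𝒮' : RelProj.QCGrAlg S'}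
  (u : RelProj.QGrHom g 𝒮 𝒮')

theorem gradedAt_res {U D : S.Opens} {U' D' : S'.Opens} (hU : IsAffineOpen U) (hD : IsAffineOpen D)
    (hU' : IsAffineOpen U') (hD' : IsAffineOpen D') (hle : U' ≤ g ⁻¹ᵁ U) (hle' : D' ≤ g ⁻¹ᵁ D)
    (i : D ≤ U) (i' : D' ≤ U') :
    (𝒮'.res hU' hD' i').comp (u.gradedAt U hU U' hU' hle) =
      (u.gradedAt D hD D' hD' hle').comp (𝒮.res hU hD i) := by
  ext x
  exact (congr($(u.toQHom.appLE_map hle i').hom x)).trans (congr($(u.toQHom.map_appLE i hle').hom x)).symm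

theorem strZero_gradedAt (U : S.Opens) (hU : IsAffineOpen U) (U' : S'.Opens) (hU' : IsAffineOpen U')
    (hle : U' ≤ g ⁻¹ᵁ U) :
    𝒮.strZero U hU ≫ CommRingCat.ofHom (zeroHom (u.gradedAt U hU U' hU' hle)) =
      g.appLE U U' hle ≫ 𝒮'.strZero U' hU' := by
  ext x : 2
  exact Subtype.ext congr($(u.toQHom.str_appLE U U' hle).hom x)

variable {P' : Scheme.{u}} {p' : P' ⟶ S'}
  {chart' : ∀ (U' : S'.Opens) (hU' : IsAffineOpen U'), (((p' ⁻¹ᵁ U' : P'.Opens) : Scheme.{u}) ≅ Proj (𝒮'.deg U' hU'))}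

theorem emb_mem_preimage (U' : S'.Opens) (hU' : IsAffineOpen U') (y : Proj (𝒮'.deg U' hU')) :
    (RelProj.emb p' chart' U' hU').base y ∈ p' ⁻¹ᵁ U' := by
  rw [← opensRange_emb (chart := chart') U' hU']; exact ⟨y, rfl⟩

theorem exists_affine_pair {U V : S.Opens} {U' V' : S'.Opens} (hle : U' ≤ g ⁻¹ᵁ U) (hle' : V' ≤ g ⁻¹ᵁ V)
    (s : S') (hs : s ∈ U' ⊓ V') :
    ∃ (D : S.Opens) (_ : IsAffineOpen D) (D' : S'.Opens) (_ : IsAffineOpen D'),
      D' ≤ g ⁻¹ᵁ D ∧ D ≤ U ⊓ V ∧ D' ≤ U' ⊓ V' ∧ s ∈ D' := by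
  obtain ⟨_, ⟨D, hD, rfl⟩, hgD, hDle⟩ := (Scheme.isBasis_affineOpens S).exists_subset_of_mem_open
    (show g.base s ∈ ((U ⊓ V : S.Opens) : Set S) from ⟨hle hs.1, hle' hs.2⟩) (U ⊓ V).2
  obtain ⟨_, ⟨D', hD', rfl⟩, hsD', hD'le⟩ := (Scheme.isBasis_affineOpens S').exists_subset_of_mem_open
    (show s ∈ ((U' ⊓ V' ⊓ g ⁻¹ᵁ D : S'.Opens) : Set S') from ⟨hs, hgD⟩) (U' ⊓ V' ⊓ g ⁻¹ᵁ D).2
  exact ⟨D, hD, D', hD', fun x hx => (hD'le hx).2, hDle, fun x hx => (hD'le hx).1, hsD'⟩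

variable (hP' : RelProj.IsRelProj 𝒮' p' chart')
include hP'

theorem mem_domOpen_iff_res {U D : S.Opens} {U' D' : S'.Opens} (hU : IsAffineOpen U) (hD : IsAffineOpen D)
    (hU' : IsAffineOpen U') (hD' : IsAffineOpen D') (hle : U' ≤ g ⁻¹ᵁ U) (hle' : D' ≤ g ⁻¹ᵁ D)
    (i : D ≤ U) (i' : D' ≤ U') (y : Proj (𝒮'.deg U' hU')) (y' : Proj (𝒮'.deg D' hD'))
    (e : (RelProj.emb p' chart' U' hU').base y = (RelProj.emb p' chart' D' hD').base y') :
    y ∈ RelCone.domOpen (u.gradedAt U hU U' hU' hle) ↔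
      y' ∈ RelCone.domOpen (u.gradedAt D hD D' hD' hle') := by
  have hy : (Proj.map (𝒮'.res hU' hD' i') (irrelevant_le_map_res 𝒮' hU' hD' i')).base y' = y := by
    refine (RelProj.emb p' chart' U' hU').isOpenEmbedding.injective ?_
    rw [e, ← map_res_emb' hP' hU' hD' i']
    rfl
  rw [domOpen_comm _ _ _ _ (irrelevant_le_map_res 𝒮 hU hD i) (irrelevant_le_map_res 𝒮' hU' hD' i')
    (gradedAt_res u hU hD hU' hD' hle hle' i i'), ← hy]
  rfl

theorem emb_mem_domQ_iff {U : S.Opens} {U' : S'.Opens} (hU : IsAffineOpen U) (hU' : IsAffineOpen U')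
    (hle : U' ≤ g ⁻¹ᵁ U) (y : Proj (𝒮'.deg U' hU')) :
    (RelProj.emb p' chart' U' hU').base y ∈ RelProj.domQ u p' chart' ↔
      y ∈ RelCone.domOpen (u.gradedAt U hU U' hU' hle) := by
  refine ⟨fun h => ?_, fun h => Opens.mem_iSup.mpr ⟨⟨(⟨U, hU⟩, ⟨U', hU'⟩), hle⟩, y, h, rfl⟩⟩
  obtain ⟨⟨⟨⟨V, hV⟩, ⟨V', hV'⟩⟩, hle'⟩, z, hz, hzy⟩ := Opens.mem_iSup.mp h
  change (RelProj.emb p' chart' V' hV').base z = _ at hzy
  have hs : p'.base ((RelProj.emb p' chart' U' hU').base y) ∈ U' ⊓ V' := by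
    refine ⟨emb_mem_preimage U' hU' y, ?_⟩
    rw [← hzy]
    exact emb_mem_preimage V' hV' z
  obtain ⟨D, hD, D', hD', hDle, hDUV, hD'UV, hsD⟩ := exists_affine_pair hle hle' _ hs
  obtain ⟨w, hw⟩ : (RelProj.emb p' chart' U' hU').base y ∈ (RelProj.emb p' chart' D' hD').opensRange := by
    rw [opensRange_emb]; exact hsD
  rw [mem_domOpen_iff_res u hP' hU hD hU' hD' hle hDle (hDUV.trans inf_le_left)
    (hD'UV.trans inf_le_left) y w hw.symm]
  exact (mem_domOpen_iff_res u hP' hV hD hV' hD' hle' hDle (hDUV.trans inf_le_right)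
    (hD'UV.trans inf_le_right) z w (hzy.trans hw.symm)).mp hz

theorem preimage_domQ {U : S.Opens} {U' : S'.Opens} (hU : IsAffineOpen U) (hU' : IsAffineOpen U')
    (hle : U' ≤ g ⁻¹ᵁ U) :
    RelProj.emb p' chart' U' hU' ⁻¹ᵁ RelProj.domQ u p' chart' =
      RelCone.domOpen (u.gradedAt U hU U' hU' hle) :=
  Opens.ext (Set.ext fun y => emb_mem_domQ_iff u hP' hU hU' hle y)

theorem domQ_inf_preimage {U : S.Opens} {U' : S'.Opens} (hU : IsAffineOpen U) (hU' : IsAffineOpen U')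
    (hle : U' ≤ g ⁻¹ᵁ U) :
    RelProj.domQ u p' chart' ⊓ p' ⁻¹ᵁ U' =
      RelProj.emb p' chart' U' hU' ''ᵁ RelCone.domOpen (u.gradedAt U hU U' hU' hle) := by
  rw [← preimage_domQ u hP' hU hU' hle, Scheme.Hom.image_preimage_eq_opensRange_inf, opensRange_emb,
    inf_comm]

omit hP'

/-- The piece of `G(u)` over an affine pair. -/
def qι (U : S.Opens) (hU : IsAffineOpen U) (U' : S'.Opens) (hU' : IsAffineOpen U') (hle : U' ≤ g ⁻¹ᵁ U) :
    (RelCone.domOpen (u.gradedAt U hU U' hU' hle) : Scheme.{u}) ⟶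
      (RelProj.domQ u p' chart' : Scheme.{u}) :=
  IsOpenImmersion.lift (RelProj.domQ u p' chart').ι
    ((RelCone.domOpen (u.gradedAt U hU U' hU' hle)).ι ≫ RelProj.emb p' chart' U' hU') (by
      rw [Scheme.Opens.range_ι]
      rintro _ ⟨y, rfl⟩
      exact Opens.mem_iSup.mpr ⟨⟨(⟨U, hU⟩, ⟨U', hU'⟩), hle⟩, y.1, y.2, rfl⟩)

variable (U : S.Opens) (hU : IsAffineOpen U) (U' : S'.Opens) (hU' : IsAffineOpen U') (hle : U' ≤ g ⁻¹ᵁ U)

@[reassoc (attr := simp)]
theorem qι_ι : qι u (p' := p') (chart' := chart') U hU U' hU' hle ≫ (RelProj.domQ u p' chart').ι =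
    (RelCone.domOpen (u.gradedAt U hU U' hU' hle)).ι ≫ RelProj.emb p' chart' U' hU' :=
  IsOpenImmersion.lift_fac ..

instance : IsOpenImmersion (qι u (p' := p') (chart' := chart') U hU U' hU' hle) :=
  have : IsOpenImmersion (qι u (p' := p') (chart' := chart') U hU U' hU' hle ≫
      (RelProj.domQ u p' chart').ι) := by rw [qι_ι]; infer_instance
  IsOpenImmersion.of_comp _ (RelProj.domQ u p' chart').ι

theorem qι_base (y : RelCone.domOpen (u.gradedAt U hU U' hU' hle)) :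
    (RelProj.domQ u p' chart').ι.base ((qι u (p' := p') (chart' := chart') U hU U' hU' hle).base y) =
      (RelProj.emb p' chart' U' hU').base y.1 :=
  congr($(qι_ι u (p' := p') (chart' := chart') U hU U' hU' hle).base y)

/-- An affine pair. -/
structure AffPair (g : S' ⟶ S) where
  /-- the open downstairs -/
  U : S.Opens
  hU : IsAffineOpen U
  /-- the open upstairs -/
  U' : S'.Opens
  hU' : IsAffineOpen U'
  hle : U' ≤ g ⁻¹ᵁ U

/-- The pieces cover `G(u)`. -/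
def qCover : (RelProj.domQ u p' chart' : Scheme.{u}).OpenCover where
  I₀ := AffPair g
  X V := (RelCone.domOpen (u.gradedAt V.U V.hU V.U' V.hU' V.hle) : Scheme.{u})
  f V := qι u V.U V.hU V.U' V.hU' V.hle
  mem₀ := by
    rw [Scheme.presieve₀_mem_precoverage_iff]
    refine ⟨fun x => ?_, fun _ => inferInstance⟩
    obtain ⟨V, y, hy, hyx⟩ := Opens.mem_iSup.mp x.2
    exact ⟨⟨V.1.1.1, V.1.1.2, V.1.2.1, V.1.2.2, V.2⟩, ⟨y, hy⟩,
      Subtype.ext ((qι_base u _ _ _ _ _ ⟨y, hy⟩).trans hyx)⟩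

theorem domQ_hom_ext {T : Scheme.{u}} {r r' : (RelProj.domQ u p' chart' : Scheme.{u}) ⟶ T}
    (h : ∀ (U : S.Opens) (hU : IsAffineOpen U) (U' : S'.Opens) (hU' : IsAffineOpen U')
      (hle : U' ≤ g ⁻¹ᵁ U), qι u U hU U' hU' hle ≫ r = qι u U hU U' hU' hle ≫ r') : r = r' :=
  (qCover u).hom_ext _ _ fun V => h V.U V.hU V.U' V.hU' V.hle

include hP' in
theorem opensRange_qι :
    (qι u (p' := p') (chart' := chart') U hU U' hU' hle).opensRange =
      (RelProj.domQ u p' chart').ι ⁻¹ᵁ (p' ⁻¹ᵁ U') := by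
  have e : (RelProj.domQ u p' chart').ι ''ᵁ (qι u (p' := p') (chart' := chart') U hU U' hU' hle).opensRange =
      RelProj.domQ u p' chart' ⊓ p' ⁻¹ᵁ U' := by
    rw [← Scheme.Hom.opensRange_comp, domQ_inf_preimage u hP' hU hU' hle]
    simp only [qι_ι]
    rw [Scheme.Hom.opensRange_comp, Scheme.Opens.opensRange_ι]
  rw [← (RelProj.domQ u p' chart').ι.preimage_image_eq
    (qι u (p' := p') (chart' := chart') U hU U' hU' hle).opensRange, e]
  simp [Scheme.Hom.preimage_inf]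

variable {P : Scheme.{u}} {p : P ⟶ S}
  {chart : ∀ (U : S.Opens) (hU : IsAffineOpen U), (((p ⁻¹ᵁ U : P.Opens) : Scheme.{u}) ≅ Proj (𝒮.deg U hU))}

theorem lift_awayEmb {d : ℕ} (hd : 0 < d) (f : 𝒮.presheaf.obj (op U)) (hf : f ∈ 𝒮.deg U hU d)
    (hW : Set.range (RelProj.awayEmb u p' chart' U hU U' hU' hle hd f hf).base ⊆
      Set.range (RelProj.domQ u p' chart').ι.base) :
    IsOpenImmersion.lift (RelProj.domQ u p' chart').ι (RelProj.awayEmb u p' chart' U hU U' hU' hle hd f hf) hW =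
      domChart (u.gradedAt U hU U' hU' hle) hd f hf ≫ qι u U hU U' hU' hle := by
  symm
  apply IsOpenImmersion.lift_uniq
  rw [Category.assoc, qι_ι, domChart_ι_assoc]
  rfl

theorem isProjQMapOn_iff {v : (RelProj.domQ u p' chart' : Scheme.{u}) ⟶ P} :
    RelProj.IsProjQMapOn u p chart p' chart' (RelProj.domQ u p' chart') v ↔
      ∀ (U : S.Opens) (hU : IsAffineOpen U) (U' : S'.Opens) (hU' : IsAffineOpen U') (hle : U' ≤ g ⁻¹ᵁ U),
        qι u U hU U' hU' hle ≫ v =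
          domMap (u.gradedAt U hU U' hU' hle) ≫ RelProj.emb p chart U hU := by
  constructor
  · intro h U hU U' hU' hle
    refine dom_hom_ext _ _ _ fun d hd f hf => ?_
    have := h U hU U' hU' hle d hd f hf (RelProj.range_awayEmb_subset_domQ ..)
    rw [lift_awayEmb, Category.assoc] at this
    rw [this, domChart_domMap_assoc]
  · intro h U hU U' hU' hle d hd f hf hW
    rw [lift_awayEmb, Category.assoc, h, domChart_domMap_assoc]

variable (hP : RelProj.IsRelProj 𝒮 p chart)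
include hP hP'

theorem existsUnique_projQMapOn :
    ∃! v : (RelProj.domQ u p' chart' : Scheme.{u}) ⟶ P,
      RelProj.IsProjQMapOn u p chart p' chart' (RelProj.domQ u p' chart') v := by
  suffices ∃ v, RelProj.IsProjQMapOn u p chart p' chart' (RelProj.domQ u p' chart') v by
    obtain ⟨v, hv⟩ := this
    exact ⟨v, hv, fun w hw => domQ_hom_ext u fun U hU U' hU' hle => by
      rw [(isProjQMapOn_iff u).mp hw, (isProjQMapOn_iff u).mp hv]⟩
  let 𝒰 := qCover u (p' := p') (chart' := chart')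
  let G : ∀ V : 𝒰.I₀, 𝒰.X V ⟶ P := fun V => domMap (u.gradedAt V.U V.hU V.U' V.hU' V.hle) ≫
    RelProj.emb p chart V.U V.hU
  refine ⟨𝒰.glueMorphisms G ?_, (isProjQMapOn_iff u).mpr fun U hU U' hU' hle =>
    𝒰.ι_glueMorphisms G _ ⟨U, hU, U', hU', hle⟩⟩
  rintro ⟨U, hU, U', hU', hle⟩ ⟨V, hV, V', hV', hle'⟩
  change pullback.fst (qι u U hU U' hU' hle) (qι u V hV V' hV' hle') ≫
      domMap (u.gradedAt U hU U' hU' hle) ≫ RelProj.emb p chart U hU =
    pullback.snd (qι u U hU U' hU' hle) (qι u V hV V' hV' hle') ≫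
      domMap (u.gradedAt V hV V' hV' hle') ≫ RelProj.emb p chart V hV
  let a := pullback.fst (qι u (p' := p') (chart' := chart') U hU U' hU' hle) (qι u V hV V' hV' hle')
  let b := pullback.snd (qι u (p' := p') (chart' := chart') U hU U' hU' hle) (qι u V hV V' hV' hle')
  let z := a ≫ qι u U hU U' hU' hle ≫ (RelProj.domQ u p' chart').ι
  refine Scheme.hom_ext_of_forall _ _ fun w => ?_
  have hz : p'.base (z.base w) ∈ U' ⊓ V' := by
    constructor
    · change p'.base ((RelProj.domQ u p' chart').ι.base ((qι u U hU U' hU' hle).base (a.base w))) ∈ U'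
      exact (qι_base u U hU U' hU' hle (a.base w)).symm ▸ emb_mem_preimage U' hU' _
    · have : z = b ≫ qι u V hV V' hV' hle' ≫ (RelProj.domQ u p' chart').ι := pullback.condition_assoc _
      rw [this]
      change p'.base ((RelProj.domQ u p' chart').ι.base ((qι u V hV V' hV' hle').base (b.base w))) ∈ V'
      exact (qι_base u V hV V' hV' hle' (b.base w)).symm ▸ emb_mem_preimage V' hV' _
  obtain ⟨D, hD, D', hD', hDle, hDUV, hD'UV, hsD⟩ := exists_affine_pair hle hle' _ hz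
  let O := (z ≫ p') ⁻¹ᵁ D'
  refine ⟨O, hsD, ?_⟩
  let m : (O : Scheme.{u}) ⟶ (RelCone.domOpen (u.gradedAt D hD D' hD' hDle) : Scheme.{u}) :=
    IsOpenImmersion.lift (qι u (p' := p') (chart' := chart') D hD D' hD' hDle)
      (O.ι ≫ a ≫ qι u U hU U' hU' hle) (by
        rintro _ ⟨x, rfl⟩
        change _ ∈ (qι u D hD D' hD' hDle).opensRange
        rw [opensRange_qι u hP']
        exact x.2)
  have hm : m ≫ qι u D hD D' hD' hDle = O.ι ≫ a ≫ qι u U hU U' hU' hle := IsOpenImmersion.lift_fac ..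
  have key : ∀ (X : S.Opens) (hX : IsAffineOpen X) (X' : S'.Opens) (hX' : IsAffineOpen X')
      (hXle : X' ≤ g ⁻¹ᵁ X) (_ : D ≤ X) (_ : D' ≤ X')
      (c : (O : Scheme.{u}) ⟶ (RelCone.domOpen (u.gradedAt X hX X' hX' hXle) : Scheme.{u})),
      c ≫ qι u (p' := p') (chart' := chart') X hX X' hX' hXle = m ≫ qι u D hD D' hD' hDle →
      c ≫ domMap (u.gradedAt X hX X' hX' hXle) ≫ RelProj.emb p chart X hX =
        m ≫ domMap (u.gradedAt D hD D' hD' hDle) ≫ RelProj.emb p chart D hD := by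
    intro X hX X' hX' hXle i i' c hc
    have e := gradedAt_res u hX hD hX' hD' hXle hDle i i'
    let q : (RelCone.domOpen (u.gradedAt D hD D' hD' hDle) : Scheme.{u}) ⟶
        (RelCone.domOpen (u.gradedAt X hX X' hX' hXle) : Scheme.{u}) :=
      IsOpenImmersion.lift (RelCone.domOpen (u.gradedAt X hX X' hX' hXle)).ι
        ((RelCone.domOpen (u.gradedAt D hD D' hD' hDle)).ι ≫
          Proj.map _ (irrelevant_le_map_res 𝒮' hX' hD' i')) (by
          rw [Scheme.Opens.range_ι]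
          rintro _ ⟨x, rfl⟩
          exact (SetLike.ext_iff.mp (domOpen_comm _ _ _ _ (irrelevant_le_map_res 𝒮 hX hD i)
            (irrelevant_le_map_res 𝒮' hX' hD' i') e) x.1).mp x.2)
    have hq : q ≫ (RelCone.domOpen (u.gradedAt X hX X' hX' hXle)).ι =
        (RelCone.domOpen (u.gradedAt D hD D' hD' hDle)).ι ≫
          Proj.map _ (irrelevant_le_map_res 𝒮' hX' hD' i') := IsOpenImmersion.lift_fac ..
    have hq' : q ≫ qι u X hX X' hX' hXle = qι u (p' := p') (chart' := chart') D hD D' hD' hDle := by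
      rw [← cancel_mono (RelProj.domQ u p' chart').ι, Category.assoc, qι_ι, qι_ι, reassoc_of% hq,
        map_res_emb' hP']
    obtain rfl : c = m ≫ q := by
      rw [← cancel_mono (qι u (p' := p') (chart' := chart') X hX X' hX' hXle), hc, Category.assoc, hq']
    rw [Category.assoc, reassoc_of% (domMap_comm _ _ _ _ (irrelevant_le_map_res 𝒮 hX hD i)
      (irrelevant_le_map_res 𝒮' hX' hD' i') e q hq), map_res_emb' hP]
  have h1 := key U hU U' hU' hle (hDUV.trans inf_le_left) (hD'UV.trans inf_le_left) (O.ι ≫ a)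
    (by rw [hm, Category.assoc])
  have h2 := key V hV V' hV' hle' (hDUV.trans inf_le_right) (hD'UV.trans inf_le_right) (O.ι ≫ b)
    (by rw [hm, Category.assoc, ← pullback.condition])
  simp only [Category.assoc] at h1 h2
  rw [h1, h2]

theorem projQMapOn_over {v : (RelProj.domQ u p' chart' : Scheme.{u}) ⟶ P}
    (hv : RelProj.IsProjQMapOn u p chart p' chart' (RelProj.domQ u p' chart') v) :
    v ≫ p = (RelProj.domQ u p' chart').ι ≫ p' ≫ g := by
  refine domQ_hom_ext u fun U hU U' hU' hle => ?_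
  rw [reassoc_of% ((isProjQMapOn_iff u).mp hv U hU U' hU' hle), emb_p hP, qι_ι_assoc,
    emb_p_assoc hP', ← IsAffineOpen.SpecMap_appLE_fromSpec g hU hU' hle,
    reassoc_of% (domMap_toSpecZero (u.gradedAt U hU U' hU' hle))]
  simp only [← Spec.map_comp_assoc, strZero_gradedAt]

omit hP in
theorem isPullback_qι {v : (RelProj.domQ u p' chart' : Scheme.{u}) ⟶ P}
    (hv : RelProj.IsProjQMapOn u p chart p' chart' (RelProj.domQ u p' chart') v)
    (hover : v ≫ p = (RelProj.domQ u p' chart').ι ≫ p' ≫ g) (heq : U' = g ⁻¹ᵁ U) :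
    IsPullback (domMap (u.gradedAt U hU U' hU' hle)) (qι u (p' := p') (chart' := chart') U hU U' hU' hle)
      (RelProj.emb p chart U hU) v := by
  refine IsOpenImmersion.isPullback _ _ _ _ ((isProjQMapOn_iff u).mp hv U hU U' hU' hle) ?_
  rw [opensRange_emb, opensRange_qι u hP' U hU U' hU' hle, ← Scheme.Hom.comp_preimage, hover, heq]
  rfl

end Groth.Agent.EGAProj74
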