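import Groth.Agent.EGAProj74.QMapComp
import Groth.Agent.EGAProj74.ConeQSquares

/-!
`Proj` of a composite graded morphism factors through `Proj` of its second factor.
-/

set_option autoImplicit false

universe u

open CategoryTheory CategoryTheory.Limits AlgebraicGeometry TopologicalSpace Opposite
open scoped HomogeneousIdeal

noncomputable section

namespace Groth.Agent.EGAProj74

variable {Y X : Scheme.{u}} {q : X ⟶ Y} {𝒮 𝒯 : RelProj.QCGrAlg Y} {𝒮L : RelProj.QCGrAlg X}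
  {u : RelProj.QGrHom q 𝒮 𝒮L} {v : 𝒯.toQCAlg ⟶ 𝒮.toQCAlg} (hv : RelProj.IsGradedHom v)
  {u' : RelProj.QGrHom q 𝒯 𝒮L} (hu' : ∀ U : Y.Opens, u'.app U = v.hom.app (op U) ≫ u.app U)
  {PL : Scheme.{u}} {pL : PL ⟶ X}
  {chartL : ∀ (U : X.Opens) (hU : IsAffineOpen U), (((pL ⁻¹ᵁ U : PL.Opens) : Scheme.{u}) ≅ Proj (𝒮L.deg U hU))}
  {P : Scheme.{u}} {p : P ⟶ Y}
  {chart : ∀ (U : Y.Opens) (hU : IsAffineOpen U), (((p ⁻¹ᵁ U : P.Opens) : Scheme.{u}) ≅ Proj (𝒮.deg U hU))}
  {r : (RelProj.domQ u pL chartL : Scheme.{u}) ⟶ P}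
  (hr : RelProj.IsProjQMapOn u p chart pL chartL (RelProj.domQ u pL chartL) r)
  (hP : RelProj.IsRelProj 𝒮 p chart)
  {P' : Scheme.{u}} {p' : P' ⟶ Y}
  {chart' : ∀ (U : Y.Opens) (hU : IsAffineOpen U), (((p' ⁻¹ᵁ U : P'.Opens) : Scheme.{u}) ≅ Proj (𝒯.deg U hU))}
  {r' : (RelProj.domQ u' pL chartL : Scheme.{u}) ⟶ P'}
  (hr' : RelProj.IsProjQMapOn u' p' chart' pL chartL (RelProj.domQ u' pL chartL) r')
  {rv : (RelProj.domQ (RelProj.QGrHom.ofHom v hv) p chart : Scheme.{u}) ⟶ P'}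
  (hrv : RelProj.IsProjQMapOn (RelProj.QGrHom.ofHom v hv) p' chart' p chart
    (RelProj.domQ (RelProj.QGrHom.ofHom v hv) p chart) rv)

include hu' in
theorem gradedAt_factor (U : Y.Opens) (hU : IsAffineOpen U) (U' : X.Opens) (hU' : IsAffineOpen U')
    (hle : U' ≤ q ⁻¹ᵁ U) :
    u'.gradedAt U hU U' hU' hle =
      (u.gradedAt U hU U' hU' hle).comp ((RelProj.QGrHom.ofHom v hv).gradedAt U hU U hU le_rfl) := by
  rw [gradedAt_ofHom]
  ext x
  exact appLE_comp u v u' hu' U U' hle x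

include hv hu' hr hr' hrv in
/-- The factorisation `G(u') → G(v) → Proj(𝒯)` of `Proj(u')`. -/
theorem exists_factor :
    ∃ (c : (RelProj.domQ u' pL chartL : Scheme.{u}) ⟶
        (RelProj.domQ (RelProj.QGrHom.ofHom v hv) p chart : Scheme.{u})),
      c ≫ (RelProj.domQ (RelProj.QGrHom.ofHom v hv) p chart).ι =
          PL.homOfLE (domQ_le_of_comp u v hv u' hu') ≫ r ∧
        c ≫ rv = r' := by
  set Gv := RelProj.domQ (RelProj.QGrHom.ofHom v hv) p chart
  set h := PL.homOfLE (domQ_le_of_comp u v hv u' hu' (pL := pL) (chartL := chartL))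
  have key : ∀ (U : Y.Opens) (hU : IsAffineOpen U) (U' : X.Opens) (hU' : IsAffineOpen U') (hle : U' ≤ q ⁻¹ᵁ U),
      ∃ k : (RelCone.domOpen (u'.gradedAt U hU U' hU' hle) : Scheme.{u}) ⟶
          (RelCone.domOpen ((RelProj.QGrHom.ofHom v hv).gradedAt U hU U hU le_rfl) : Scheme.{u}),
        qι u' (p' := pL) (chart' := chartL) U hU U' hU' hle ≫ h ≫ r =
          k ≫ qι (RelProj.QGrHom.ofHom v hv) (p' := p) (chart' := chart) U hU U hU le_rfl ≫ Gv.ι ∧
        k ≫ domMap ((RelProj.QGrHom.ofHom v hv).gradedAt U hU U hU le_rfl) =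
          domMap (u'.gradedAt U hU U' hU' hle) := by
    intro U hU U' hU' hle
    obtain ⟨j, k, hj, hk, hkm⟩ := exists_comp_lifts _ _ (gradedAt_factor hv hu' U hU U' hU' hle)
    refine ⟨k, ?_, hkm⟩
    have e : qι u' (p' := pL) (chart' := chartL) U hU U' hU' hle ≫ h = j ≫ qι u U hU U' hU' hle := by
      rw [← cancel_mono (RelProj.domQ u pL chartL).ι, Category.assoc, Category.assoc, Scheme.homOfLE_ι,
        qι_ι, qι_ι, reassoc_of% hj]
    rw [reassoc_of% e, (isProjQMapOn_iff u).mp hr U hU U' hU' hle]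
    exact (Category.assoc _ _ _).symm.trans ((hk.symm =≫ RelProj.emb p chart U hU).trans
      ((Category.assoc _ _ _).trans (k ≫= (qι_ι (RelProj.QGrHom.ofHom v hv) U hU U hU le_rfl).symm)))
  have hrange : Set.range (h ≫ r).base ⊆ Set.range Gv.ι.base := by
    rintro _ ⟨z, rfl⟩
    obtain ⟨V, y, rfl⟩ := (qCover u' (p' := pL) (chart' := chartL)).exists_eq z
    obtain ⟨k, hk, -⟩ := key V.U V.hU V.U' V.hU' V.hle
    refine ⟨(qι (RelProj.QGrHom.ofHom v hv) (p' := p) (chart' := chart) V.U V.hU V.U V.hU le_rfl).base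
      (k.base y), ?_⟩
    exact congr($(hk.symm).base y)
  let c := IsOpenImmersion.lift Gv.ι (h ≫ r) hrange
  have hc : c ≫ Gv.ι = h ≫ r := IsOpenImmersion.lift_fac ..
  refine ⟨c, hc, domQ_hom_ext u' fun U hU U' hU' hle => ?_⟩
  obtain ⟨k, hk, hkm⟩ := key U hU U' hU' hle
  have e : qι u' U hU U' hU' hle ≫ c = k ≫ qι (RelProj.QGrHom.ofHom v hv) U hU U hU le_rfl := by
    rw [← cancel_mono Gv.ι, Category.assoc, Category.assoc, hc, hk]
  rw [reassoc_of% e, (isProjQMapOn_iff _).mp hrv U hU U hU le_rfl, reassoc_of% hkm,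
    (isProjQMapOn_iff u').mp hr' U hU U' hU' hle]

include hv hu' hr hP hr' in
theorem isImmersion_of_comp (hP' : RelProj.IsRelProj 𝒯 p' chart')
    (hdef : RelProj.domQ u' pL chartL = ⊤) (himm : IsImmersion r') :
    RelProj.domQ u pL chartL = ⊤ ∧ IsImmersion r := by
  have hd : RelProj.domQ u pL chartL = ⊤ := top_le_iff.mp (hdef.ge.trans (domQ_le_of_comp u v hv u' hu'))
  obtain ⟨rv, hrv, -⟩ := existsUnique_projQMapOn (RelProj.QGrHom.ofHom v hv) (P := P') (p := p')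
    (chart := chart') hP hP'
  obtain ⟨c, hc, hcr⟩ := exists_factor hv hu' hr hr' hrv
  have : IsImmersion (c ≫ rv) := hcr ▸ himm
  have : IsImmersion c := IsImmersion.of_comp c rv
  have : IsIso (PL.homOfLE (domQ_le_of_comp u v hv u' hu' (pL := pL) (chartL := chartL))) :=
    ⟨PL.homOfLE (hd.le.trans hdef.ge), by simp, by simp⟩
  refine ⟨hd, ?_⟩
  rw [← IsIso.inv_hom_id_assoc (PL.homOfLE (domQ_le_of_comp u v hv u' hu' (pL := pL) (chartL := chartL))) r, ← hc]
  infer_instance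

include hv hu' hr hP hr' in
theorem isOpenImmersion_isClosedImmersion_of_comp (hP' : RelProj.IsRelProj 𝒯 p' chart')
    (hTN : ∃ n : ℕ, ∀ k, n ≤ k → ∀ (U : Y.Opens) (hU : IsAffineOpen U), ∀ y ∈ 𝒮.deg U hU k,
      ∃ x ∈ 𝒯.deg U hU k, (v.hom.app (op U)).hom x = y)
    (hdef : RelProj.domQ u' pL chartL = ⊤) :
    (IsOpenImmersion r' → IsOpenImmersion r) ∧ (IsClosedImmersion r' → IsClosedImmersion r) := by
  have hd : RelProj.domQ u pL chartL = ⊤ := top_le_iff.mp (hdef.ge.trans (domQ_le_of_comp u v hv u' hu'))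
  obtain ⟨rv, hrv, -⟩ := existsUnique_projQMapOn (RelProj.QGrHom.ofHom v hv) (P := P') (p := p')
    (chart := chart') hP hP'
  obtain ⟨c, hc, hcr⟩ := exists_factor hv hu' hr hr' hrv
  obtain ⟨n, hn⟩ := hTN
  have hs : ∀ (U : Y.Opens) (hU : IsAffineOpen U) m, n ≤ m → Set.SurjOn
      ((RelProj.QGrHom.ofHom v hv).gradedAt U hU U hU le_rfl) (𝒯.deg U hU m) (𝒮.deg U hU m) := by
    intro U hU m hm y hy
    obtain ⟨x, hx, hxy⟩ := hn m hm U hU y hy
    rw [gradedAt_ofHom]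
    exact ⟨x, hx, hxy⟩
  have : IsClosedImmersion rv := projQMapOn_id_of _ hP' hP hrv (Q := @IsClosedImmersion) fun U hU =>
    isClosedImmersion_domMap _ n (hs U hU)
  have hGv : RelProj.domQ (RelProj.QGrHom.ofHom v hv) p chart = ⊤ := by
    refine top_le_iff.mp fun x _ => ?_
    obtain ⟨U, hU, y, rfl⟩ := exists_emb_apply (chart := chart) x
    refine (emb_mem_domQ_iff _ hP hU hU le_rfl y).mpr ?_
    rw [domOpen_eq_top_of_surjOn _ n (hs U hU)]
    trivial
  have hι : IsIso (RelProj.domQ (RelProj.QGrHom.ofHom v hv) p chart).ι := by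
    rw [hGv]; exact inferInstanceAs (IsIso (Scheme.topIso _).hom)
  have : IsIso (PL.homOfLE (domQ_le_of_comp u v hv u' hu' (pL := pL) (chartL := chartL))) :=
    ⟨PL.homOfLE (hd.le.trans hdef.ge), by simp, by simp⟩
  set h := PL.homOfLE (domQ_le_of_comp u v hv u' hu' (pL := pL) (chartL := chartL))
  have hrc : r = inv h ≫ c ≫ (RelProj.domQ (RelProj.QGrHom.ofHom v hv) p chart).ι := by
    rw [hc, IsIso.inv_hom_id_assoc]
  have hpb : IsPullback (𝟙 _) c r' rv :=
    IsPullback.of_horiz_isIso_mono ⟨by rw [hcr, Category.id_comp]⟩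
  constructor
  · intro ho
    have : IsOpenImmersion c := MorphismProperty.of_isPullback hpb ho
    rw [hrc]; infer_instance
  · intro ho
    have : IsClosedImmersion (c ≫ rv) := hcr ▸ ho
    have : IsClosedImmersion c := IsClosedImmersion.of_comp c rv
    rw [hrc]; infer_instance

end Groth.Agent.EGAProj74
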