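import Groth.Agent.EGAProj74.SymPowHom
import Groth.Agent.Amp73.Ample
import Groth.Agent.EGA73.RelAmpleComp

/-!
`r_{L,σ}` for the algebra of all sections of powers of a relatively ample module.
-/

set_option autoImplicit false
set_option backward.isDefEq.respectTransparency.types false

universe u

open CategoryTheory CategoryTheory.Limits AlgebraicGeometry TopologicalSpace Opposite
open scoped HomogeneousIdeal

noncomputable section

namespace Groth.Agent.EGAProj74.RLAmple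

open Groth.Agent.EGAProj74 Groth.Agent.Var76.LineBundle Groth.Agent.Var76.ZeroScheme
open Groth.Agent.Amp73 Groth.Agent.EGA73.BundleImmersion

variable {X Y : Scheme.{u}} {q : X ⟶ Y} {L : X.Modules} (hL : PicF.IsInvertible L) (hLq : L.IsQuasicoherent)
  {𝒮L : RelProj.QCGrAlg X} {j : L ⟶ 𝒮L.toModule} (hj : RelProj.IsGrSymAlg L 𝒮L j)
  {𝒮 : RelProj.QCGrAlg Y} (u : RelProj.QGrHom q 𝒮 𝒮L) {U : Y.Opens} (hU : IsAffineOpen U)

/-- Sections of the algebra on `W` agreeing on framed affines agree. -/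
theorem eq_of_frames (hL : PicF.IsInvertible L) {W : X.Opens} {a b : 𝒮L.presheaf.obj (op W)}
    (h : ∀ (V : X.Opens), IsAffineOpen V → ∀ hVW : V ≤ W, ∀ e : Γ(L, V), IsFrame L V e →
      (𝒮L.presheaf.map (homOfLE hVW).op).hom a = (𝒮L.presheaf.map (homOfLE hVW).op).hom b) : a = b := by
  let I := {V : X.affineOpens // V.1 ≤ W ∧ ∃ e : Γ(L, V.1), IsFrame L V.1 e}
  refine TopCat.Sheaf.eq_of_locally_eq' ⟨𝒮L.presheaf, 𝒮L.isSheaf⟩ (fun V : I => V.1.1) W
    (fun V => homOfLE V.2.1) (fun x hx => ?_) _ _ fun ⟨V, hVW, e, he⟩ => h V.1 V.2 hVW e he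
  obtain ⟨V, hxV, hVW, e, he⟩ := Mero90.exists_affine_frame hL x W hx
  exact Opens.mem_iSup.2 ⟨⟨V, hVW, e, he⟩, hxV⟩

variable {u}

/-- Homogeneity can be tested on framed affines. -/
theorem mem_deg_of_frames (hL : PicF.IsInvertible L) (hinj : Function.Injective (u.app U).hom) {n : ℕ}
    {a : 𝒮.presheaf.obj (op U)} (h : ∀ (V : X.Opens) (hV : IsAffineOpen V) (hVU : V ≤ q ⁻¹ᵁ U) (e : Γ(L, V)),
      IsFrame L V e → (u.appLE U V hVU).hom a ∈ 𝒮L.deg V hV n) : a ∈ 𝒮.deg U hU n := by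
  classical
  rw [← DirectSum.sum_support_decompose (𝒮.deg U hU) a]
  refine sum_mem fun k _ => ?_
  by_cases hk : k = n
  · exact hk ▸ SetLike.coe_mem _
  rw [hinj (a₁ := (DirectSum.decompose (𝒮.deg U hU) a k : 𝒮.presheaf.obj (op U))) (a₂ := 0) ?_]
  · exact zero_mem _
  rw [map_zero]
  refine eq_of_frames hL fun V hV hVU e he => ?_
  rw [map_zero]
  show (u.gradedAt U hU V hV hVU) (DirectSum.decompose (𝒮.deg U hU) a k) = 0
  have h' : (u.gradedAt U hU V hV hVU) a ∈ 𝒮L.deg V hV n := h V hV hVU e he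
  rw [GradedRingHom.map_directSumDecompose, DirectSum.decompose_of_mem_ne _ h' (Ne.symm hk)]

/-- The element of the algebra given by a section. -/
abbrev el {M : X.Modules} (φ : M ⟶ 𝒮L.toModule) (W : X.Opens) (m : Γ(M, W)) : 𝒮L.presheaf.obj (op W) := φ.app W m

variable (j) in
/-- `φ` sends the `k`-th powers of frames to powers in the algebra. -/
def IsPowHom {M : X.Modules} (η : ∀ V : X.Opens, Γ(L, V) → Γ(M, V)) (k : ℕ) (φ : M ⟶ 𝒮L.toModule) : Prop :=
  ∀ (V : X.Opens), IsAffineOpen V → ∀ e : Γ(L, V), IsFrame L V e →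
    IsFrame M V (η V e) ∧ el φ V (η V e) = jR j V e ^ k

theorem isPowHom_pow {n : ℕ} {φ : CohB1.tensorPow L n ⟶ 𝒮L.toModule}
    (hφ : ∀ (V : X.Opens), IsAffineOpen V → ∀ e : Γ(L, V), IsFrame L V e → φ.app V (epow e n) = jR j V e ^ n) :
    IsPowHom j (fun _ e => epow e n) n φ := fun V hV e he => ⟨isFrame_epow he n, hφ V hV e he⟩

theorem app_smul' {M : X.Modules} (φ : M ⟶ 𝒮L.toModule) {W : X.Opens} (c : Γ(X, W)) (m : Γ(M, W)) :
    el φ W (c • m) = (𝒮L.str.app (op W)).hom c * el φ W m :=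
  Scheme.Modules.Hom.app_smul φ c m

theorem res_app {M : X.Modules} (φ : M ⟶ 𝒮L.toModule) {V W : X.Opens} (i : V ≤ W) (m : Γ(M, W)) :
    (𝒮L.presheaf.map (homOfLE i).op).hom (el φ W m) = el φ V (res M i m) :=
  (Mero90.app_res φ i m).symm

include hj in
/-- A section of a power gives a homogeneous element. -/
theorem exists_elem (hL : PicF.IsInvertible L) (hu : Function.Bijective (u.app U).hom) {M : X.Modules}
    {η : ∀ V : X.Opens, Γ(L, V) → Γ(M, V)} {k : ℕ} {φ : M ⟶ 𝒮L.toModule} (hφ : IsPowHom j η k φ)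
    (σ : Γ(M, q ⁻¹ᵁ U)) : ∃ a ∈ 𝒮.deg U hU k, (u.app U).hom a = el φ (q ⁻¹ᵁ U) σ := by
  obtain ⟨a, ha⟩ := hu.2 (el φ (q ⁻¹ᵁ U) σ)
  refine ⟨a, mem_deg_of_frames hU hL hu.1 fun V hV hVU e he => ?_, ha⟩
  show (𝒮L.presheaf.map (homOfLE hVU).op).hom ((u.app U).hom a) ∈ _
  obtain ⟨hf, hv⟩ := hφ V hV e he
  obtain ⟨c, hc⟩ := exists_coord_of_frame hf (res M hVU σ)
  rw [ha, res_app, ← hc, app_smul', hv]
  have h1 := SetLike.mul_mem_graded (A := 𝒮L.deg V hV) (𝒮L.str_mem V hV c)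
    (SetLike.pow_mem_graded k (hj.2 V hV e))
  rwa [smul_eq_mul, mul_one, zero_add] at h1

theorem appLE_coord {M : X.Modules} {η : ∀ V : X.Opens, Γ(L, V) → Γ(M, V)} {k : ℕ} {φ : M ⟶ 𝒮L.toModule}
    (hφ : IsPowHom j η k φ) {s : 𝒮.presheaf.obj (op U)} {σ : Γ(M, q ⁻¹ᵁ U)}
    (hs : (u.app U).hom s = el φ (q ⁻¹ᵁ U) σ) {V : X.Opens} (hV : IsAffineOpen V) (hVU : V ≤ q ⁻¹ᵁ U) {e : Γ(L, V)}
    (he : IsFrame L V e) {c : Γ(X, V)} (hc : c • η V e = res M hVU σ) :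
    (u.appLE U V hVU).hom s = (𝒮L.str.app (op V)).hom c * jR j V e ^ k := by
  show (𝒮L.presheaf.map (homOfLE hVU).op).hom ((u.app U).hom s) = _
  rw [hs, res_app, ← hc, app_smul', (hφ V hV e he).2]

section loc

variable {PL : Scheme.{u}} {pL : PL ⟶ X}
  {chartL : ∀ (U : X.Opens) (hU : IsAffineOpen U), (((pL ⁻¹ᵁ U : PL.Opens) : Scheme.{u}) ≅ Proj (𝒮L.deg U hU))}
  (hPL : RelProj.IsRelProj 𝒮L pL chartL)
  {n : ℕ} (hn : 0 < n) {φ : CohB1.tensorPow L n ⟶ 𝒮L.toModule} (hφ : IsPowHom j (fun _ e => epow e n) n φ)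
  {s : 𝒮.presheaf.obj (op U)} {σ : Γ(CohB1.tensorPow L n, q ⁻¹ᵁ U)}
  (hsd : s ∈ 𝒮.deg U hU n) (hs : (u.app U).hom s = el φ (q ⁻¹ᵁ U) σ)

include hL hLq hj hPL hn hφ hsd hs in
theorem nonVanish_eq_flocus : RLRel.nonVanish u n s = flocus σ := by
  have := isIso_pL hL hLq hj hPL
  refine le_antisymm (fun x hx => ?_) fun x hx => ?_
  · obtain ⟨V, hxV, hVU, e, he⟩ := Mero90.exists_affine_frame hL x (q ⁻¹ᵁ U) (RLRel.nonVanish_le u n s hx)
    obtain ⟨c, hc⟩ := exists_coord_of_frame (hφ V.1 V.2 e he).1 (res _ hVU σ)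
    obtain ⟨w, rfl⟩ := pL.surjective x
    obtain ⟨y, rfl⟩ := exists_lift (chart := chartL) w V.2 hxV
    have hy := (RLRel.mem_nonVanish_iff hL hLq hj hPL u hn hsd V.2 hVU y).1 hx
    obtain ⟨W, hW, i, hxW, hspan⟩ := exists_subset_span_of_mem_basicOpen hPL
      (fun x V hx => exists_isLineGen hL hLq hj x V hx) (t := (u.appLE U V.1 hVU).hom s) V.2 hn
      ((u.gradedAt U hU V.1 V.2 hVU).map_mem hsd) y hy
    rw [appLE_coord hφ hs V.2 hVU he hc, map_mul, map_pow, RLRel.res_str, RLRel.jR_res,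
      RLRel.span_iff_isUnit (RLRel.isLineGen_of_frame hLq hj hW (he.res i))] at hspan
    refine (flocus_inf_eq_basicOpen σ hVU (hφ V.1 V.2 e he).1 hc).ge.trans inf_le_left ?_
    rw [X.mem_basicOpen c _ hxV]
    have h2 := hspan.map (X.presheaf.germ _ _ hxW).hom
    exact (X.presheaf.germ_res_apply (homOfLE i) _ hxW c) ▸ h2
  · obtain ⟨V, hxV, hVle, e, he⟩ := Mero90.exists_affine_frame hL x (flocus σ) hx
    have hVU : V.1 ≤ q ⁻¹ᵁ U := hVle.trans (flocus_le σ)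
    obtain ⟨c, hc⟩ := exists_coord_of_frame (hφ V.1 V.2 e he).1 (res _ hVU σ)
    refine Opens.mem_iSup.2 ⟨⟨V, hVU, ?_⟩, hxV⟩
    rw [appLE_coord hφ hs V.2 hVU he hc, RLRel.span_iff_isUnit (RLRel.isLineGen_of_frame hLq hj V.2 he)]
    have h1 : IsFrame (CohB1.tensorPow L n) V.1 (c • epow e n) := by
      show IsFrame _ _ (c • (fun _ e => epow e n) V.1 e)
      rw [hc, ← res_res _ (flocus_le σ) hVle]
      exact (isFrame_flocus σ).res hVle
    exact (isFrame_smul_iff (hφ V.1 V.2 e he).1 c).1 h1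

include hL hj hφ hs in
/-- Functions on the locus are fractions. -/
theorem condGen_flocus (hu : Function.Bijective (u.app U).hom) (hc : IsCompact ((q ⁻¹ᵁ U : X.Opens) : Set X))
    (hqs : IsQuasiSeparated ((q ⁻¹ᵁ U : X.Opens) : Set X)) :
    RLRel.CondGen u hU n s (flocus σ) (flocus_le σ) := by
  intro t
  have hO : Coh.IsQCoh (Coh.structureModule X) := Mero90.isQCoh_of_isInvertible EGA73.isInvertible_structureModule
  obtain ⟨m₀, hm₀⟩ := exists_extend hc hqs (EGA73.isInvertible_tensorPow hL n) σ hO (t : Γ(X, flocus σ))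
  obtain ⟨t', ht'⟩ := hm₀ (m₀ + 1) (Nat.le_succ _)
  obtain ⟨Φ, hΦ⟩ := SymPow.exists_twistToSym hL j n (m₀ + 1)
  have hΦ' : IsPowHom j (fun V e => tm (Coh.structureModule X) _ (1 : Γ(X, V)) (epow (epow e n) (m₀ + 1)))
      (n * (m₀ + 1)) Φ := fun V hV e he => by
    refine ⟨isFrame_tm (fun W hW => ?_) (isFrame_epow (isFrame_epow he n) _), ?_⟩
    · show Function.Bijective fun a : Γ(X, W) => a * (X.presheaf.map (homOfLE hW).op).hom 1
      simp only [map_one, mul_one]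
      exact Function.bijective_id
    · refine (hΦ V hV e he 1).trans ?_
      rw [map_one, one_mul]
  obtain ⟨s', hs'd, hs'⟩ := exists_elem hj hU hL hu hΦ' t'
  refine ⟨m₀ + 1, Nat.succ_pos _, s', by rwa [mul_comm], eq_of_frames hL fun V hV hVW e he => ?_⟩
  have hVU : V ≤ q ⁻¹ᵁ U := hVW.trans (flocus_le σ)
  obtain ⟨c, hc⟩ := exists_coord_of_frame (hφ V hV e he).1 (res _ hVU σ)
  rw [map_mul, map_pow, RLRel.res_str, RLRel.appLE_restrict, RLRel.appLE_restrict,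
    appLE_coord hφ hs hV hVU he hc, mul_pow, ← mul_assoc, ← pow_mul, ← map_pow, ← map_mul]
  show _ = (𝒮L.presheaf.map (homOfLE hVU).op).hom ((u.app U).hom s')
  rw [hs', res_app, ← res_res _ (flocus_le σ) hVW, ht', res_tm, res_epow, res_res, ← hc, epow_smul,
    tm_smul_right, app_smul']
  refine Eq.trans ?_ (congrArg (fun z : 𝒮L.presheaf.obj (op V) =>
    (𝒮L.str.app (op V)).hom (c ^ (m₀ + 1)) * z) (hΦ V hV e he _)).symm
  rw [mul_comm (fres hVW t), map_mul, mul_assoc]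
  rfl

include hL hLq hj hφ hs in
/-- A fraction vanishing on the locus vanishes. -/
theorem condKer_flocus (hinj : Function.Injective (u.app U).hom) (hc : IsCompact ((q ⁻¹ᵁ U : X.Opens) : Set X)) :
    RLRel.CondKer u hU n s (flocus σ) (flocus_le σ) := by
  intro m _ s' hs' h0
  obtain ⟨ι, _, W, e, hW, he, hWU, hcov⟩ := exists_finite_frames_of_isCompact hc hL
  cases nonempty_fintype ι
  choose c hc' using fun i => exists_coord_of_frame (hφ (W i) (hW i) (e i) (he i)).1 (res _ (hWU i) σ)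
  have hgen := fun i => RLRel.isLineGen_of_frame hLq hj (hW i) (he i)
  choose b hb using fun i => (hgen i).exists_eq (m * n) _ ((u.gradedAt U hU (W i) (hW i) (hWU i)).map_mem hs')
  have hk : ∀ i, ∃ k : ℕ, c i ^ k * b i = 0 := fun i => by
    let D := X.basicOpen (c i)
    have hD : D ≤ flocus σ :=
      (flocus_inf_eq_basicOpen σ (hWU i) (hφ (W i) (hW i) (e i) (he i)).1 (hc' i)).ge.trans inf_le_left
    have h1 := congrArg (𝒮L.presheaf.map (homOfLE hD).op).hom h0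
    rw [map_zero, RLRel.appLE_restrict, ← RLRel.appLE_restrict u (X.basicOpen_le (c i)) (hWU i),
      show (u.appLE U (W i) (hWU i)).hom s' = _ from hb i, map_mul, map_pow, RLRel.res_str, RLRel.jR_res] at h1
    have h2 : fres (X.basicOpen_le (c i)) (b i) = 0 :=
      (RLRel.isLineGen_of_frame hLq hj ((hW i).basicOpen (c i)) ((he i).res (X.basicOpen_le (c i)))).inj (m * n) _ h1
    have := (hW i).isLocalization_basicOpen (c i)
    have h3 : algebraMap Γ(X, W i) Γ(X, D) (b i) = algebraMap Γ(X, W i) Γ(X, D) 0 := h2.trans (map_zero _).symm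
    obtain ⟨⟨_, k, rfl⟩, hk⟩ := (IsLocalization.eq_iff_exists (Submonoid.powers (c i)) Γ(X, D)).1 h3
    exact ⟨k, by simpa using hk⟩
  choose k hk using hk
  let K := (∑ i, k i) + 1
  refine ⟨K, Nat.succ_pos _, hinj ?_⟩
  rw [map_zero]
  let I : ι → X.Opens := W
  refine TopCat.Sheaf.eq_of_locally_eq' ⟨𝒮L.presheaf, 𝒮L.isSheaf⟩ I (q ⁻¹ᵁ U) (fun i => homOfLE (hWU i)) hcov _ _
    fun i => ?_
  show (u.appLE U (W i) (hWU i)).hom (s ^ K * s') = (𝒮L.presheaf.map _).hom 0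
  obtain ⟨d, hd⟩ : ∃ d, K = d + k i :=
    ⟨K - k i, (Nat.sub_add_cancel ((Finset.single_le_sum (fun l _ => Nat.zero_le (k l)) (Finset.mem_univ i)).trans
      (Nat.le_succ _))).symm⟩
  rw [map_zero, map_mul, map_pow, show (u.appLE U (W i) (hWU i)).hom s' = _ from hb i,
    appLE_coord hφ hs (hW i) (hWU i) (he i) (hc' i), mul_pow, mul_mul_mul_comm, ← map_pow, ← map_mul, hd, pow_add,
    mul_assoc (c i ^ d), hk, mul_zero, map_zero, zero_mul]

end loc

include hL hLq hj in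
/-- An element without non-vanishing points is nilpotent. -/
theorem exists_pow_eq_zero (hinj : Function.Injective (u.app U).hom) (hc : IsCompact ((q ⁻¹ᵁ U : X.Opens) : Set X))
    {d : ℕ} {t : 𝒮.presheaf.obj (op U)} (ht : t ∈ 𝒮.deg U hU d) (h0 : RLRel.nonVanish u d t = ⊥) :
    ∃ K : ℕ, t ^ K = 0 := by
  obtain ⟨ι, _, W, e, hW, he, hWU, hcov⟩ := exists_finite_frames_of_isCompact hc hL
  cases nonempty_fintype ι
  have hgen := fun i => RLRel.isLineGen_of_frame hLq hj (hW i) (he i)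
  choose b hb using fun i => (hgen i).exists_eq d _ ((u.gradedAt U hU (W i) (hW i) (hWU i)).map_mem ht)
  have hk : ∀ i, ∃ k : ℕ, b i ^ k = 0 := fun i => by
    have hD : X.basicOpen (b i) ≤ RLRel.nonVanish u d t := fun x hx => by
      refine Opens.mem_iSup.2 ⟨⟨⟨_, (hW i).basicOpen (b i)⟩, (X.basicOpen_le _).trans (hWU i), ?_⟩, hx⟩
      have h1 := congrArg (𝒮L.presheaf.map (homOfLE (X.basicOpen_le (b i))).op).hom (hb i)
      rw [map_mul, map_pow, RLRel.res_str, RLRel.jR_res] at h1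
      rw [← RLRel.appLE_restrict u (X.basicOpen_le (b i)) (hWU i)]
      refine subset_trans ?_ (subset_of_eq (congrArg (fun z => (Ideal.span {z} :
        Set (𝒮L.presheaf.obj (op (X.basicOpen (b i)))))) h1.symm))
      exact (RLRel.span_iff_isUnit (RLRel.isLineGen_of_frame hLq hj ((hW i).basicOpen (b i))
        ((he i).res (X.basicOpen_le (b i)))) _ d).2 (RingedSpace.isUnit_res_basicOpen _ _)
    have hbot : X.basicOpen (b i) = ⊥ := le_bot_iff.1 (h0 ▸ hD)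
    have := (hW i).isLocalization_basicOpen (b i)
    have : Subsingleton Γ(X, X.basicOpen (b i)) :=
      CommRingCat.subsingleton_of_isTerminal (X.sheaf.isTerminalOfEqEmpty hbot)
    obtain ⟨⟨_, k, rfl⟩, hk⟩ := (IsLocalization.eq_iff_exists (Submonoid.powers (b i)) Γ(X, X.basicOpen (b i))).1
      (Subsingleton.elim (algebraMap Γ(X, W i) _ 1) (algebraMap Γ(X, W i) _ 0))
    exact ⟨k, by simpa using hk⟩
  choose k hk using hk
  refine ⟨∑ i, k i, hinj ?_⟩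
  rw [map_zero]
  refine TopCat.Sheaf.eq_of_locally_eq' ⟨𝒮L.presheaf, 𝒮L.isSheaf⟩ W (q ⁻¹ᵁ U) (fun i => homOfLE (hWU i)) hcov _ _
    fun i => ?_
  show (u.appLE U (W i) (hWU i)).hom (t ^ ∑ i, k i) = (𝒮L.presheaf.map _).hom 0
  rw [map_zero, map_pow, show (u.appLE U (W i) (hWU i)).hom t = _ from hb i, mul_pow, ← map_pow,
    pow_eq_zero_of_le (Finset.single_le_sum (fun l _ => Nat.zero_le (k l)) (Finset.mem_univ i)) (hk i), map_zero,
    zero_mul]


/-- A relatively ample module has sections with affine loci. -/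
theorem exists_affine_flocus (h : RelAmple.IsRelAmple q L) (x : X) (V : Y.affineOpens) (hx : q x ∈ V.1) :
    ∃ (n : ℕ) (σ : Γ(CohB1.tensorPow L n, q ⁻¹ᵁ V.1)), 0 < n ∧ x ∈ flocus σ ∧ IsAffineOpen (flocus σ) := by
  obtain ⟨-, -, hamp⟩ := h.2 V
  obtain ⟨m, s, hxs, haff⟩ := hamp (⟨x, hx⟩ : (q ⁻¹ᵁ V.1 : Scheme.{u}))
  let jι := (q ⁻¹ᵁ V.1).ι
  let N := CohB1.tensorPow L (m + 1)
  let ψ := Amp73.powRestrict jι L (m + 1)
  have htop : q ⁻¹ᵁ V.1 ≤ jι ''ᵁ ⊤ := jι.image_top_eq_opensRange.ge.trans' (q ⁻¹ᵁ V.1).opensRange_ι.ge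
  let σ : Γ(N, q ⁻¹ᵁ V.1) := res N htop (ψ.hom.app ⊤ (val _ s ⊤))
  have hσ : ∀ (V' : (q ⁻¹ᵁ V.1 : Scheme.{u}).Opens) (h' : jι ''ᵁ V' ≤ q ⁻¹ᵁ V.1),
      res N h' σ = ψ.hom.app V' (val _ s V') := fun V' h' => by
    show res N h' (res N htop _) = _
    rw [res_res, ← res_val _ s (le_top : V' ≤ ⊤), Mero90.app_res]
    rfl
  have hfl : flocus σ = jι ''ᵁ CohB1.genLocus _ s := by
    refine le_antisymm ?_ ?_
    · have h1 : flocus σ = jι ''ᵁ (jι ⁻¹ᵁ flocus σ) := by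
        rw [jι.image_preimage_eq_opensRange_inf, Scheme.Opens.opensRange_ι, inf_eq_right.2 (flocus_le _)]
      rw [h1]
      refine jι.image_mono ((isFrame_iff_le_genLocus _ _).1 ?_)
      rw [← isFrame_app_iff ψ.hom, ← hσ _ (h1.ge.trans (flocus_le _)), isFrame_restrict_iff]
      have h2 := (isFrame_flocus σ).res h1.ge
      rw [res_res] at h2
      exact h2
    · have h1 : jι ''ᵁ CohB1.genLocus _ s ≤ q ⁻¹ᵁ V.1 :=
        (jι.image_le_opensRange _).trans_eq (Scheme.Opens.opensRange_ι _)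
      refine le_flocus _ h1 ?_
      rw [hσ _ h1, ← isFrame_restrict_iff, isFrame_app_iff]
      exact isFrame_genLocus _
  exact ⟨m + 1, σ, Nat.succ_pos m, hfl ▸ ⟨_, hxs, rfl⟩, hfl ▸ haff.image_of_isOpenImmersion jι⟩

section main

variable {PL : Scheme.{u}} {pL : PL ⟶ X}
  {chartL : ∀ (U : X.Opens) (hU : IsAffineOpen U), (((pL ⁻¹ᵁ U : PL.Opens) : Scheme.{u}) ≅ Proj (𝒮L.deg U hU))}
  (hPL : RelProj.IsRelProj 𝒮L pL chartL)

include hL hLq hj hPL

/-- For a relatively ample `L` the map `r_{L,σ}` is everywhere defined, an open immersion and dominant. -/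
theorem isOpenImmersion_isDominant (hu : ∀ U : Y.Opens, IsAffineOpen U → Function.Bijective (u.app U).hom)
    {P : Scheme.{u}} {p : P ⟶ Y}
    {chart : ∀ (U : Y.Opens) (hU : IsAffineOpen U), (((p ⁻¹ᵁ U : P.Opens) : Scheme.{u}) ≅ Proj (𝒮.deg U hU))}
    {r : (RelProj.domQ u pL chartL : Scheme.{u}) ⟶ P}
    (hr : RelProj.IsProjQMapOn u p chart pL chartL (RelProj.domQ u pL chartL) r) (hP : RelProj.IsRelProj 𝒮 p chart)
    (h : RelAmple.IsRelAmple q L) :
    RelProj.domQ u pL chartL = ⊤ ∧ IsOpenImmersion r ∧ IsDominant r := by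
  have := h.1
  have := EGA73.RelAmpleComp.quasiSeparated_of_isRelAmple h
  have hcpt : ∀ U : Y.affineOpens, IsCompact ((q ⁻¹ᵁ U.1 : X.Opens) : Set X) :=
    fun U => q.isCompact_preimage U.2.isCompact
  obtain ⟨htop, hopen⟩ : RelProj.domQ u pL chartL = ⊤ ∧ IsOpenImmersion r := by
    refine RLRel.isOpenImmersion_of_forall hL hLq hj hPL hr hP fun x => ?_
    obtain ⟨V, hV, hxV, -⟩ := exists_isAffineOpen_mem_and_subset (U := (⊤ : Y.Opens)) (x := q x) trivial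
    obtain ⟨n, σ, hn, hxσ, haff⟩ := exists_affine_flocus h x ⟨V, hV⟩ hxV
    obtain ⟨φ, hφ⟩ := SymPow.exists_powToSym hL j n
    have hφ' := isPowHom_pow hφ
    obtain ⟨s, hsd, hs⟩ := exists_elem hj hV hL (hu V hV) hφ' σ
    have heq := nonVanish_eq_flocus hL hLq hj hV hPL hn hφ' hsd hs
    refine ⟨⟨V, hV⟩, n, s, hn, hsd, heq.ge hxσ, heq ▸ haff, ?_⟩
    have key : ∀ (W : X.Opens) (hW : W ≤ q ⁻¹ᵁ V), flocus σ = W →
        RLRel.CondGen u hV n s W hW ∧ RLRel.CondKer u hV n s W hW := by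
      rintro W hW rfl
      exact ⟨condGen_flocus hL hj hV hφ' hs (hu V hV) (hcpt ⟨V, hV⟩)
          (q.isQuasiSeparated_preimage hV.isQuasiSeparated),
        condKer_flocus hL hLq hj hV hφ' hs (hu V hV).1 (hcpt ⟨V, hV⟩)⟩
    exact key _ _ heq.symm
  refine ⟨htop, hopen, ⟨dense_iff_inter_open.2 fun O hO hne => ?_⟩⟩
  obtain ⟨z, hz⟩ := hne
  obtain ⟨V, d, t, hd, ht, hzt, hle⟩ := RLRel.exists_piece_le (chart := chart) (O := ⟨O, hO⟩) hz
  have := isIso_pL hL hLq hj hPL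
  obtain ⟨x, hx⟩ : ∃ x, x ∈ RLRel.nonVanish u d t := by
    by_contra hcon
    obtain ⟨K, hK⟩ := exists_pow_eq_zero hL hLq hj V.2 (hu V.1 V.2).1 (hcpt V) ht
      (le_bot_iff.1 fun x hx => (hcon ⟨x, hx⟩).elim)
    obtain ⟨y, hy, -⟩ := hzt
    exact hy (y.isPrime.mem_of_pow_mem K (by rw [hK]; exact zero_mem _))
  obtain ⟨w, rfl⟩ := pL.surjective x
  obtain ⟨w', hw', -⟩ := (RLRel.image_preimage_basicOpen_eq hL hLq hj hPL hd ht hr hP).ge hx
  exact ⟨r w', hle hw', w', rfl⟩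

end main

end Groth.Agent.EGAProj74.RLAmple
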