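import Groth.Agent.EGAProj74.RLAmple
import Groth.Agent.Amp73.CounitEpi

/-!
An embedding `r_{L,σ}` makes `L` relatively ample.
-/

set_option autoImplicit false
set_option backward.isDefEq.respectTransparency.types false

universe u

open CategoryTheory CategoryTheory.Limits AlgebraicGeometry TopologicalSpace Opposite
open scoped HomogeneousIdeal

noncomputable section

namespace Groth.Agent.EGAProj74.RLAmple

open Groth.Agent.EGAProj74 Groth.Agent.Var76.LineBundle Groth.Agent.Var76.ZeroScheme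
open Groth.Agent.Amp73 Groth.Agent.EGA73.BundleImmersion

variable {X Y : Scheme.{u}} {q : X ⟶ Y} {L : X.Modules} (hL : PicF.IsInvertible L) (hLq : L.IsQuasicoherent)
  {𝒮L : RelProj.QCGrAlg X} {j : L ⟶ 𝒮L.toModule} (hj : RelProj.IsGrSymAlg L 𝒮L j)
  {𝒮 : RelProj.QCGrAlg Y} {u : RelProj.QGrHom q 𝒮 𝒮L}

include hL hLq hj

/-- The sections of a power are seen in the algebra. -/
theorem el_injective {n : ℕ} {φ : CohB1.tensorPow L n ⟶ 𝒮L.toModule} (hφ : IsPowHom j (fun _ e => epow e n) n φ)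
    {W : X.Opens} {m m' : Γ(CohB1.tensorPow L n, W)} (h : el φ W m = el φ W m') : m = m' := by
  refine eq_of_locally _ _ _ fun x hx => ?_
  obtain ⟨V, hxV, hVW, e, he⟩ := Mero90.exists_affine_frame hL x W hx
  refine ⟨V.1, hVW, hxV, ?_⟩
  obtain ⟨c, hc⟩ := exists_coord_of_frame (hφ V.1 V.2 e he).1 (res _ hVW m)
  obtain ⟨c', hc'⟩ := exists_coord_of_frame (hφ V.1 V.2 e he).1 (res _ hVW m')
  have h1 := congrArg (𝒮L.presheaf.map (homOfLE hVW).op).hom h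
  rw [res_app, res_app, ← hc, ← hc', app_smul', app_smul', (hφ V.1 V.2 e he).2, ← sub_eq_zero, ← sub_mul,
    ← map_sub] at h1
  rw [← hc, ← hc', sub_eq_zero.1 ((RLRel.isLineGen_of_frame hLq hj V.2 he).inj n _ h1)]

/-- A homogeneous element is a section of a power. -/
theorem exists_section {U : Y.Opens} (hU : IsAffineOpen U) {n : ℕ} {φ : CohB1.tensorPow L n ⟶ 𝒮L.toModule}
    (hφ : IsPowHom j (fun _ e => epow e n) n φ) {s : 𝒮.presheaf.obj (op U)} (hsd : s ∈ 𝒮.deg U hU n) :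
    ∃ σ : Γ(CohB1.tensorPow L n, q ⁻¹ᵁ U), (u.app U).hom s = el φ (q ⁻¹ᵁ U) σ := by
  let I := Σ' (V : X.affineOpens) (_ : V.1 ≤ q ⁻¹ᵁ U), {e : Γ(L, V.1) // IsFrame L V.1 e}
  choose b hb using fun i : I => (RLRel.isLineGen_of_frame hLq hj i.1.2 i.2.2.2).exists_eq n _
    ((u.gradedAt U hU i.1.1 i.1.2 i.2.1).map_mem hsd)
  let M := CohB1.tensorPow L n
  let σ : ∀ i : I, Γ(M, i.1.1) := fun i => b i • epow i.2.2.1 n
  have hel : ∀ i : I, el φ i.1.1 (σ i) = (u.appLE U i.1.1 i.2.1).hom s := fun i => by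
    rw [app_smul', show el φ i.1.1 (epow i.2.2.1 n) = _ from (hφ i.1.1 i.1.2 i.2.2.1 i.2.2.2).2]
    exact (hb i).symm
  have compat : TopCat.Presheaf.IsCompatible M.presheaf (fun i : I => i.1.1) σ := fun i k => by
    show res M inf_le_left (σ i) = res M inf_le_right (σ k)
    refine el_injective hL hLq hj hφ ?_
    rw [← res_app, ← res_app, hel, hel, RLRel.appLE_restrict, RLRel.appLE_restrict]
  obtain ⟨t, ht, -⟩ := TopCat.Sheaf.existsUnique_gluing' (⟨M.presheaf, M.isSheaf⟩ : TopCat.Sheaf Ab X)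
    (fun i : I => i.1.1) (q ⁻¹ᵁ U) (fun i => homOfLE i.2.1) (fun x hx => by
      obtain ⟨V, hxV, hVU, e, he⟩ := Mero90.exists_affine_frame hL x (q ⁻¹ᵁ U) hx
      exact Opens.mem_iSup.2 ⟨⟨V, hVU, e, he⟩, hxV⟩) σ compat
  refine ⟨t, eq_of_frames hL fun V hV hVU e he => ?_⟩
  let i : I := ⟨⟨V, hV⟩, hVU, e, he⟩
  rw [res_app, show res M hVU t = σ i from ht i]
  exact (hel i).symm

variable {PL : Scheme.{u}} {pL : PL ⟶ X}
  {chartL : ∀ (U : X.Opens) (hU : IsAffineOpen U), (((pL ⁻¹ᵁ U : PL.Opens) : Scheme.{u}) ≅ Proj (𝒮L.deg U hU))}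
  (hPL : RelProj.IsRelProj 𝒮L pL chartL)

include hPL

/-- If `r_{L,σ}` is an everywhere defined embedding then `L` is relatively ample. -/
theorem isRelAmple_of_isEmbedding [QuasiCompact q] [QuasiSeparated q] {P : Scheme.{u}} {p : P ⟶ Y}
    {chart : ∀ (U : Y.Opens) (hU : IsAffineOpen U), (((p ⁻¹ᵁ U : P.Opens) : Scheme.{u}) ≅ Proj (𝒮.deg U hU))}
    {r : (RelProj.domQ u pL chartL : Scheme.{u}) ⟶ P}
    (hr : RelProj.IsProjQMapOn u p chart pL chartL (RelProj.domQ u pL chartL) r) (hP : RelProj.IsRelProj 𝒮 p chart)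
    (htop : RelProj.domQ u pL chartL = ⊤) (hemb : Topology.IsEmbedding r.base) : RelAmple.IsRelAmple q L := by
  refine ⟨inferInstance, fun V => ?_⟩
  have := isIso_pL hL hLq hj hPL
  let a := (q ⁻¹ᵁ V.1).ι
  have := Amp73.compactSpace_preimage q V.2
  have : IsAffine (V.1 : Scheme.{u}) := V.2
  have : QuasiSeparated (q ∣_ V.1) := IsZariskiLocalAtTarget.restrict ‹_› V.1
  have : QuasiSeparatedSpace (q ⁻¹ᵁ V.1 : Scheme.{u}) := quasiSeparatedSpace_of_quasiSeparated (q ∣_ V.1)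
  have hLa := EGA73.isInvertible_restrict hL a
  refine isAmple_iff.2 ⟨hLa, inferInstance, fun ⟨x, hx⟩ => ?_⟩
  obtain ⟨W, hxW, hWle, e, he⟩ := Mero90.exists_affine_frame hL x (q ⁻¹ᵁ V.1) hx
  obtain ⟨w, rfl⟩ := pL.surjective x
  let z₀ : (RelProj.domQ u pL chartL : Scheme.{u}) := ⟨w, htop ▸ Opens.mem_top w⟩
  let T : Set (RelProj.domQ u pL chartL : Scheme.{u}) :=
    ((RelProj.domQ u pL chartL).ι ⁻¹ᵁ (pL ⁻¹ᵁ W.1) : (RelProj.domQ u pL chartL : Scheme.{u}).Opens)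
  obtain ⟨O, hO, hOT⟩ := hemb.isInducing.isOpen_iff.1
    (show IsOpen T from ((RelProj.domQ u pL chartL).ι ⁻¹ᵁ (pL ⁻¹ᵁ W.1)).2)
  have hz₀ : r z₀ ∈ O := hOT.ge (show z₀ ∈ T from hxW)
  have hz₀V : p.base (r z₀) ∈ V.1 := by
    have h1 : (r ≫ p) z₀ = ((RelProj.domQ u pL chartL).ι ≫ pL ≫ q) z₀ := by rw [projQMapOn_over u hPL hP hr]
    exact h1 ▸ hx
  obtain ⟨y, hy⟩ := exists_lift (chart := chart) (r z₀) V.2 hz₀V
  obtain ⟨d, t, hd, htd, hyt, hle⟩ := exists_basicOpen_le (O := RelProj.emb p chart V.1 V.2 ⁻¹ᵁ ⟨O, hO⟩)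
    (show y ∈ RelProj.emb p chart V.1 V.2 ⁻¹ᵁ ⟨O, hO⟩ from (hy ▸ hz₀ : (RelProj.emb p chart V.1 V.2).base y ∈ O))
  have himg := RLRel.image_preimage_basicOpen_eq hL hLq hj hPL hd htd hr hP
  have hxN : pL w ∈ RLRel.nonVanish u d t := himg.le ⟨z₀, ⟨y, hyt, hy⟩, rfl⟩
  have hNW : RLRel.nonVanish u d t ≤ W.1 := fun x hx => by
    obtain ⟨w', rfl⟩ := pL.surjective x
    obtain ⟨z, ⟨v, hv, hvz⟩, rfl⟩ := himg.ge hx
    exact hOT.le (show r z ∈ O from hvz ▸ hle hv)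
  obtain ⟨φ, hφ⟩ := SymPow.exists_powToSym hL j d
  have hφ' := isPowHom_pow hφ
  obtain ⟨σ, hσ⟩ := exists_section (u := u) hL hLq hj V.2 hφ' htd
  have heq := nonVanish_eq_flocus hL hLq hj V.2 hPL hd hφ' htd hσ
  obtain ⟨k, rfl⟩ := Nat.exists_eq_succ_of_ne_zero hd.ne'
  obtain ⟨G, hG, hGm⟩ := exists_genSet_of_section a hLa (1 : Γ((q ⁻¹ᵁ V.1 : Scheme.{u}), ⊤)) (n := k) σ (by
    rw [Scheme.basicOpen_of_isUnit _ isUnit_one, Scheme.Hom.image_top_eq_opensRange, Scheme.Opens.opensRange_ι])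
  have hGeq : G = a ⁻¹ᵁ flocus σ := by
    refine Opens.ext (Set.ext fun z => (hGm z).trans ⟨?_, fun hz => ⟨?_, flocus σ, flocus_le σ, hz, isFrame_flocus σ⟩⟩)
    · rintro ⟨-, V', hV', hzV', hfr⟩
      exact le_flocus σ hV' hfr hzV'
    · rw [Scheme.basicOpen_of_isUnit _ isUnit_one]; trivial
  refine ⟨G, hG, hGeq.ge (show pL w ∈ flocus σ from heq.le hxN), ?_⟩
  rw [← inf_eq_left.2 (show G ≤ a ⁻¹ᵁ W.1 from hGeq.le.trans (a.preimage_mono (heq.ge.trans hNW)))]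
  exact isAffineOpen_inf_of_mem_genSet hLa hG (W.2.preimage_of_isOpenImmersion _
    (by rw [Scheme.Opens.opensRange_ι]; exact hWle))

end Groth.Agent.EGAProj74.RLAmple
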