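import Groth.Agent.EGA73.GrAlgBaseChange
import Groth.Agent.EGAProj74.VeryAmpleBasic

/-!
Maps out of a symmetric algebra over a morphism of bases.
-/

set_option autoImplicit false
set_option backward.isDefEq.respectTransparency.types false

universe u

open CategoryTheory CategoryTheory.Limits AlgebraicGeometry TopologicalSpace Opposite
open scoped HomogeneousIdeal

noncomputable section

namespace Groth.Agent.EGAProj74

variable {X S : Scheme.{u}} (q : X ⟶ S) [QuasiCompact q] [QuasiSeparated q] (A : RelSpec.QCAlg X)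

theorem gammaMap_gammaInv (W : X.Opens) (a : A.presheaf.obj (op W)) :
    (A.gammaMap.app (op W)).hom (((EGA73.gammaInv A).app (op W)).hom a) = a := by
  have := EGAProj74.isIso_gammaMap A
  have h : EGA73.gammaInv A ≫ A.gammaMap = 𝟙 _ := IsIso.inv_hom_id A.gammaMap
  exact congr($(NatTrans.congr_app h (op W)).hom a)

/-- `q_* A` as a quasi-coherent algebra, receiving `q_*` of the module `A`. -/
def pushToAlg : (Scheme.Modules.pushforward q).obj A.toModule ⟶
    (RelSpec.QCAlg.directImage (A.π ≫ q)).toModule :=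
  ⟨letI := (RelSpec.QCAlg.directImage (A.π ≫ q)).moduleSect; letI := A.moduleSect
   PresheafOfModules.homMk
    { app := fun U => AddCommGrpCat.ofHom ((EGA73.gammaInv A).app (op (q ⁻¹ᵁ U.unop))).hom.toAddMonoidHom
      naturality := fun U V i => by
        ext m
        exact congr($((EGA73.gammaInv A).naturality ((Opens.map q.base).map i.unop).op).hom m) }
    fun U r m => by
      let W := q ⁻¹ᵁ U.unop
      have h : ((EGA73.gammaInv A).app (op W)).hom ((A.str.app (op W)).hom (q.app U.unop r)) =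
          (A.π ≫ q).app U.unop r := congr($(NatTrans.congr_app (EGA73.str_gammaInv A) (op W)).hom (q.app U.unop r))
      exact (map_mul ((EGA73.gammaInv A).app (op W)).hom _ _).trans (congrArg (· * _) h)⟩

/-- A module map out of `E` extends to an algebra map over `q` out of its symmetric algebra. -/
theorem exists_qHom {E : S.Modules} {T : RelSpec.QCAlg S} {j : E ⟶ T.toModule} (hj : RelSpec.IsSymAlg E T j)
    (φ : E ⟶ (Scheme.Modules.pushforward q).obj A.toModule) :
    ∃ u : RelSpec.QHom q T A, ∀ (U : S.Opens) (m : Γ(E, U)), (u.app U).hom (j.app U m) = φ.app U m := by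
  obtain ⟨ψ, hψ, -⟩ := hj (RelSpec.QCAlg.directImage (A.π ≫ q)) (φ ≫ pushToAlg q A)
  refine ⟨{
    app := fun U => ψ.hom.app (op U) ≫ A.gammaMap.app (op (q ⁻¹ᵁ U))
    naturality := fun {U V} i => by
      ext t
      show (A.presheaf.map (homOfLE (q.preimage_mono i)).op).hom
          ((A.gammaMap.app (op (q ⁻¹ᵁ U))).hom ((ψ.hom.app (op U)).hom t)) =
        (A.gammaMap.app (op (q ⁻¹ᵁ V))).hom ((ψ.hom.app (op V)).hom ((T.presheaf.map (homOfLE i).op).hom t))
      rw [show (ψ.hom.app (op V)).hom ((T.presheaf.map (homOfLE i).op).hom t) = _ from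
        congr($(ψ.hom.naturality (homOfLE i).op).hom t)]
      exact congr($(A.gammaMap.naturality (homOfLE (q.preimage_mono i)).op).hom ((ψ.hom.app (op U)).hom t)).symm
    str_app := fun U => by
      ext r
      have h0 : (ψ.hom.app (op U)).hom ((T.str.app (op U)).hom r) = (A.π ≫ q).app U r :=
        congr($(NatTrans.congr_app ψ.comm (op U)).hom r)
      show (A.gammaMap.app (op (q ⁻¹ᵁ U))).hom ((ψ.hom.app (op U)).hom ((T.str.app (op U)).hom r)) =
        (A.str.app (op (q ⁻¹ᵁ U))).hom (q.app U r)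
      rw [h0]
      exact congr($(NatTrans.congr_app A.π_c_gammaMap (op (q ⁻¹ᵁ U))).hom (q.app U r)) }, fun U m => ?_⟩
  show (A.gammaMap.app (op (q ⁻¹ᵁ U))).hom ((ψ.hom.app (op U)).hom (j.app U m)) = _
  rw [show (ψ.hom.app (op U)).hom (j.app U m) = ((EGA73.gammaInv A).app (op (q ⁻¹ᵁ U))).hom (φ.app U m) from
    congr(($hψ).app U m)]
  exact gammaMap_gammaInv A _ _

variable {q}

omit [QuasiCompact q] [QuasiSeparated q] in
/-- An algebra map over `q` out of a graded symmetric algebra preserves degrees as soon as generators go to degree one. -/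
theorem exists_qGrHom_of_qHom {E : S.Modules} (hE : E.IsQuasicoherent) {𝒯 : RelProj.QCGrAlg S} {𝒮 : RelProj.QCGrAlg X}
    {j : E ⟶ 𝒯.toModule} (hj : RelProj.IsGrSymAlg E 𝒯 j) (u : RelSpec.QHom q 𝒯.toQCAlg 𝒮.toQCAlg)
    (h1 : ∀ (U : S.Opens), IsAffineOpen U → ∀ (U' : X.Opens) (hU' : IsAffineOpen U') (hle : U' ≤ q ⁻¹ᵁ U) (m : Γ(E, U)),
      (u.appLE U U' hle).hom (j.app U m) ∈ 𝒮.deg U' hU' 1) :
    ∃ v : RelProj.QGrHom q 𝒯 𝒮, v.toQHom = u := by
  classical
  refine ⟨{ toQHom := u, map_mem := fun U hU U' hU' hle {d x} hx => ?_ }, rfl⟩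
  show (u.appLE U U' hle).hom x ∈ _
  let f : 𝒯.presheaf.obj (op U) →+* 𝒮.presheaf.obj (op U') := (u.appLE U U' hle).hom
  let R : Subring (𝒯.presheaf.obj (op U)) :=
    { carrier := {y | ∀ n, f (DirectSum.decompose (𝒯.deg U hU) y n : 𝒯.presheaf.obj (op U)) ∈ 𝒮.deg U' hU' n}
      zero_mem' := fun n => by simp
      one_mem' := fun n => by
        by_cases h : 0 = n
        · subst h
          rw [DirectSum.decompose_of_mem_same _ (SetLike.one_mem_graded (𝒯.deg U hU)), map_one]
          exact SetLike.one_mem_graded _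
        · rw [DirectSum.decompose_of_mem_ne _ (SetLike.one_mem_graded (𝒯.deg U hU)) h, map_zero]
          exact zero_mem _
      add_mem' := fun ha hb n => by
        simp only [DirectSum.decompose_add, DirectSum.add_apply, AddSubgroup.coe_add, map_add]
        exact add_mem (ha n) (hb n)
      neg_mem' := fun ha n => by
        simp only [DirectSum.decompose_neg]
        exact (map_neg f _).symm ▸ neg_mem (ha n)
      mul_mem' := fun {a b} ha hb n => by
        rw [DirectSum.decompose_mul, DirectSum.coe_mul_apply, map_sum]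
        refine sum_mem fun i hi => ?_
        rw [map_mul, ← (Finset.mem_filter.1 hi).2]
        exact SetLike.mul_mem_graded (ha i.1) (hb i.2) }
  have hhom : ∀ (k : ℕ) (z : 𝒯.presheaf.obj (op U)), z ∈ 𝒯.deg U hU k → f z ∈ 𝒮.deg U' hU' k → z ∈ R := by
    intro k z hz hfz n
    by_cases hn : k = n
    · subst hn
      rwa [DirectSum.decompose_of_mem_same (𝒯.deg U hU) hz]
    · rw [DirectSum.decompose_of_mem_ne (𝒯.deg U hU) hz hn, map_zero]
      exact zero_mem _
  have hgen : ∀ y, y ∈ R := fun y => by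
    refine Subring.closure_le.2 ?_ ((closure_grSym hE hj U hU).ge (Subring.mem_top y))
    rintro z (⟨r, rfl⟩ | ⟨m, rfl⟩)
    · refine hhom 0 _ (𝒯.str_mem U hU r) ?_
      rw [show f ((𝒯.str.app (op U)).hom r) = _ from congr($(u.str_appLE U U' hle).hom r)]
      exact 𝒮.str_mem U' hU' _
    · exact hhom 1 _ (hj.2 U hU m) (h1 U hU U' hU' hle m)
  simpa [f, DirectSum.decompose_of_mem_same (𝒯.deg U hU) hx] using hgen x d

/-- A map into `q_* L` extends to a graded map over `q` into the symmetric algebra of `L`. -/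
theorem exists_qGrHom_sym {L : X.Modules} {𝒮L : RelProj.QCGrAlg X} {jL : L ⟶ 𝒮L.toModule}
    (hjL : RelProj.IsGrSymAlg L 𝒮L jL) (q : X ⟶ S) [QuasiCompact q] [QuasiSeparated q] {E : S.Modules}
    (hE : E.IsQuasicoherent) {𝒯 : RelProj.QCGrAlg S} {j : E ⟶ 𝒯.toModule} (hj : RelProj.IsGrSymAlg E 𝒯 j)
    (φ : E ⟶ (Scheme.Modules.pushforward q).obj L) :
    ∃ u : RelProj.QGrHom q 𝒯 𝒮L, ∀ (U : S.Opens) (m : Γ(E, U)),
      (u.app U).hom (j.app U m) = jL.app (q ⁻¹ᵁ U) (φ.app U m) := by
  obtain ⟨u, hu⟩ := exists_qHom q 𝒮L.toQCAlg hj.1 (φ ≫ (Scheme.Modules.pushforward q).map jL)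
  obtain ⟨v, hv⟩ := exists_qGrHom_of_qHom hE hj u fun U hU U' hU' hle m => by
    show (𝒮L.presheaf.map (homOfLE hle).op).hom ((u.app U).hom (j.app U m)) ∈ _
    rw [hu]
    show (𝒮L.presheaf.map (homOfLE hle).op).hom (jL.app (q ⁻¹ᵁ U) (φ.app U m)) ∈ _
    rw [show (𝒮L.presheaf.map (homOfLE hle).op).hom (jL.app (q ⁻¹ᵁ U) (φ.app U m)) =
      jL.app U' (Var76.LineBundle.res L hle (φ.app U m)) from (Mero90.app_res jL hle _).symm]
    exact hjL.2 U' hU' _
  refine ⟨v, fun U m => ?_⟩
  exact (congr((($hv).app U).hom (j.app U m))).trans (hu U m)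

end Groth.Agent.EGAProj74
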