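import Groth.Agent.EGAProj74.RLRel
import Groth.Agent.EGAProj74.SymQHom
import Groth.Agent.EGA73.QuasiProjective

/-!
An immersion `r_{L,φ}` comes from a submodule of finite type.
-/

set_option autoImplicit false
set_option backward.isDefEq.respectTransparency.types false

universe u

open CategoryTheory CategoryTheory.Limits AlgebraicGeometry TopologicalSpace Opposite
open scoped HomogeneousIdeal

noncomputable section

namespace Groth.Agent.EGAProj74.RLRel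

open Groth.Agent.EGAProj74 Groth.Agent.Var76.LineBundle

variable {X Y : Scheme.{u}} {q : X ⟶ Y}

/-- The composite of an algebra map with a map over `q`. -/
theorem exists_comp_qGrHom {𝒯 𝒮 : RelProj.QCGrAlg Y} {𝒮L : RelProj.QCGrAlg X} (u : RelProj.QGrHom q 𝒮 𝒮L)
    (v : 𝒯.toQCAlg ⟶ 𝒮.toQCAlg) (hv : RelProj.IsGradedHom v) :
    ∃ u' : RelProj.QGrHom q 𝒯 𝒮L, ∀ U : Y.Opens, u'.app U = v.hom.app (op U) ≫ u.app U := by
  refine ⟨{
    app := fun U => v.hom.app (op U) ≫ u.app U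
    naturality := fun {U V} i => by
      ext t
      show (𝒮L.presheaf.map (homOfLE (q.preimage_mono i)).op).hom ((u.app U).hom ((v.hom.app (op U)).hom t)) =
        (u.app V).hom ((v.hom.app (op V)).hom ((𝒯.presheaf.map (homOfLE i).op).hom t))
      rw [show (v.hom.app (op V)).hom ((𝒯.presheaf.map (homOfLE i).op).hom t) = _ from
        congr($(v.hom.naturality (homOfLE i).op).hom t)]
      exact congr($(u.naturality i).hom ((v.hom.app (op U)).hom t))
    str_app := fun U => by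
      ext r
      show (u.app U).hom ((v.hom.app (op U)).hom ((𝒯.str.app (op U)).hom r)) = (𝒮L.str.app (op (q ⁻¹ᵁ U))).hom (q.app U r)
      rw [show (v.hom.app (op U)).hom ((𝒯.str.app (op U)).hom r) = (𝒮.str.app (op U)).hom r from
        congr($(NatTrans.congr_app v.comm (op U)).hom r)]
      exact congr($(u.str_app U).hom r)
    map_mem := fun U hU U' hU' hle {d x} hx => u.map_mem U hU U' hU' hle (hv U hU d x hx) }, fun U => rfl⟩

theorem appLE_of_comp {𝒯 𝒮 : RelProj.QCGrAlg Y} {𝒮L : RelProj.QCGrAlg X} {u : RelProj.QGrHom q 𝒮 𝒮L}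
    {v : 𝒯.toQCAlg ⟶ 𝒮.toQCAlg} {u' : RelProj.QGrHom q 𝒯 𝒮L} (hu' : ∀ U : Y.Opens, u'.app U = v.hom.app (op U) ≫ u.app U)
    {U : Y.Opens} {W : X.Opens} (hW : W ≤ q ⁻¹ᵁ U) (t : 𝒯.presheaf.obj (op U)) :
    (u'.appLE U W hW).hom t = (u.appLE U W hW).hom ((v.hom.app (op U)).hom t) := by
  show (𝒮L.presheaf.map (homOfLE hW).op).hom ((u'.app U).hom t) = _
  rw [hu']
  rfl

/-- Finitely many elements of a symmetric algebra come from finitely many sections. -/
theorem exists_finite_sections {F : Y.Modules} (hF : F.IsQuasicoherent) {𝒯 : RelProj.QCGrAlg Y} {jF : F ⟶ 𝒯.toModule}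
    (h𝒯 : RelProj.IsGrSymAlg F 𝒯 jF) {U : Y.Opens} (hU : IsAffineOpen U) (a : 𝒯.presheaf.obj (op U)) :
    ∃ T : Set Γ(F, U), T.Finite ∧ a ∈ Subring.closure (Set.range (𝒯.str.app (op U)).hom ∪ (fun m => jR jF U m) '' T) := by
  obtain ⟨T, -, hT, ha⟩ := EGA73.BundleImmersion.exists_finite_mem_closure
    (F := fun T : Set Γ(F, U) => Set.range (𝒯.str.app (op U)).hom ∪ (fun m => jR jF U m) '' T)
    (fun h => Set.union_subset_union_right _ (Set.image_mono h)) (T := Set.univ) (fun z hz => by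
      rcases hz with hz | ⟨m, -, rfl⟩
      · exact ⟨∅, Set.empty_subset _, Set.finite_empty, Set.mem_union_left _ hz⟩
      · exact ⟨{m}, Set.subset_univ _, Set.finite_singleton _, Set.mem_union_right _ ⟨m, rfl, rfl⟩⟩)
    (show a ∈ Subring.closure (Set.range (𝒯.str.app (op U)).hom ∪ (fun m => jR jF U m) '' Set.univ) by
      rw [Set.image_univ]; exact (closure_grSym hF h𝒯 U hU).ge (Subring.mem_top a))
  exact ⟨T, hT, ha⟩

variable {PL : Scheme.{u}} {L : X.Modules} (hL : PicF.IsInvertible L) (hLq : L.IsQuasicoherent)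
  {𝒮L : RelProj.QCGrAlg X} {jL : L ⟶ 𝒮L.toModule} (hjL : RelProj.IsGrSymAlg L 𝒮L jL)
  {pL : PL ⟶ X}
  {chartL : ∀ (U : X.Opens) (hU : IsAffineOpen U), (((pL ⁻¹ᵁ U : PL.Opens) : Scheme.{u}) ≅ Proj (𝒮L.deg U hU))}
  (hPL : RelProj.IsRelProj 𝒮L pL chartL)

include hL hLq hjL hPL

set_option maxHeartbeats 1600000 in
theorem exists_finiteType_of_isImmersion [CompactSpace Y] (hY : QuasiSeparatedSpace Y ∨ NoetherianSpace Y)
    [QuasiCompact q] [LocallyOfFiniteType q]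
    {F : Y.Modules} (hF : F.IsQuasicoherent) {𝒯 : RelProj.QCGrAlg Y} {jF : F ⟶ 𝒯.toModule}
    (h𝒯 : RelProj.IsGrSymAlg F 𝒯 jF) (u : RelProj.QGrHom q 𝒯 𝒮L)
    (hsurj : ∀ x : X, ∃ (U : Y.Opens) (hU : IsAffineOpen U) (e : Γ(F, U)) (V : X.Opens) (hV : IsAffineOpen V)
        (hVU : V ≤ q ⁻¹ᵁ U), x ∈ V ∧
          ((𝒮L.deg V hV 1 : AddSubgroup (𝒮L.presheaf.obj (op V))) : Set (𝒮L.presheaf.obj (op V))) ⊆
              (Ideal.span {(u.appLE U V hVU).hom ((jF.app U) e)} : Set (𝒮L.presheaf.obj (op V))))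
    {P : Scheme.{u}} {p : P ⟶ Y}
    {chart : ∀ (U : Y.Opens) (hU : IsAffineOpen U), (((p ⁻¹ᵁ U : P.Opens) : Scheme.{u}) ≅ Proj (𝒯.deg U hU))}
    (hP : RelProj.IsRelProj 𝒯 p chart) {r : ((RelProj.domQ u pL chartL : PL.Opens) : Scheme.{u}) ⟶ P}
    (hr : RelProj.IsProjQMapOn u p chart pL chartL (RelProj.domQ u pL chartL) r)
    (hdom : RelProj.domQ u pL chartL = ⊤) (himm : IsImmersion r) :
    ∃ (E : Y.Modules) (_ : Coh.IsQCoh E) (_ : CohB1.IsFT E) (ι : E ⟶ F) (_ : ∀ U : Y.Opens, Function.Injective (ι.app U))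
      (𝒯' : RelProj.QCGrAlg Y) (jE : E ⟶ 𝒯'.toModule) (_ : RelProj.IsGrSymAlg E 𝒯' jE)
      (u' : RelProj.QGrHom q 𝒯' 𝒮L)
      (_ : ∀ (U : Y.Opens) (x : Γ(E, U)), (u'.app U).hom ((jE.app U) x) = (u.app U).hom ((jF.app U) ((ι.app U) x))),
      (∀ x : X, ∃ (U : Y.Opens) (hU : IsAffineOpen U) (e : Γ(E, U)) (V : X.Opens) (hV : IsAffineOpen V)
          (hVU : V ≤ q ⁻¹ᵁ U), x ∈ V ∧
            ((𝒮L.deg V hV 1 : AddSubgroup (𝒮L.presheaf.obj (op V))) : Set (𝒮L.presheaf.obj (op V))) ⊆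
            (Ideal.span {(u'.appLE U V hVU).hom ((jE.app U) e)} : Set (𝒮L.presheaf.obj (op V)))) ∧
      ∀ (P' : Scheme.{u}) (p' : P' ⟶ Y)
          (chart' : ∀ (U : Y.Opens) (hU : IsAffineOpen U), (((p' ⁻¹ᵁ U : P'.Opens) : Scheme.{u}) ≅ Proj (𝒯'.deg U hU)))
          (_ : RelProj.IsRelProj 𝒯' p' chart')
          (r' : ((RelProj.domQ u' pL chartL : PL.Opens) : Scheme.{u}) ⟶ P')
          (_ : RelProj.IsProjQMapOn u' p' chart' pL chartL (RelProj.domQ u' pL chartL) r'),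
        RelProj.domQ u' pL chartL = ⊤ ∧ IsImmersion r' := by
  classical
  have : CompactSpace X := QuasiCompact.compactSpace_of_compactSpace q
  choose V n S hn hS hx haff hgen using (isImmersion_iff hL hLq hjL hPL hr hP).1 ⟨hdom, himm⟩
  choose U₁ hU₁ e₁ V₁ hV₁ hVU₁ hx₁ hspan₁ using hsurj
  obtain ⟨Z, hZ⟩ := isCompact_univ.elim_finite_subcover
    (fun x => ((nonVanish u (n x) (S x) ⊓ V₁ x : X.Opens) : Set X)) (fun x => (nonVanish u (n x) (S x) ⊓ V₁ x).2)
    fun x _ => Set.mem_iUnion.2 ⟨x, hx x, hx₁ x⟩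
  have hgens : ∀ x, ∃ B : Finset Γ(X, nonVanish u (n x) (S x)),
      Subring.closure (Set.range (q.appLE (V x).1 _ (nonVanish_le u (n x) (S x))) ∪ (B : Set _)) = ⊤ := fun x => by
    let := (q.appLE (V x).1 _ (nonVanish_le u (n x) (S x))).hom.toAlgebra
    have : Algebra.FiniteType Γ(Y, (V x).1) Γ(X, nonVanish u (n x) (S x)) := q.finiteType_appLE (V x).2 (haff x) _
    obtain ⟨B, hB⟩ := this.out
    refine ⟨B, ?_⟩
    have h2 := congrArg Subalgebra.toSubring hB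
    rw [Algebra.adjoin_eq_ring_closure, Algebra.top_toSubring] at h2
    exact h2
  choose B hB using hgens
  have hnum : ∀ x (b : B x), ∃ (m : ℕ) (s' : 𝒯.presheaf.obj (op (V x).1)), s' ∈ 𝒯.deg (V x).1 (V x).2 (m * n x) ∧
      (𝒮L.str.app (op (nonVanish u (n x) (S x)))).hom b.1 *
          ((u.appLE (V x).1 _ (nonVanish_le u (n x) (S x))).hom (S x)) ^ m =
        (u.appLE (V x).1 _ (nonVanish_le u (n x) (S x))).hom s' := fun x b => by
    obtain ⟨m, -, s', hs', he⟩ := hgen x b.1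
    exact ⟨m, s', hs', he⟩
  choose mb sb hsb heb using hnum
  choose TS hTS hSmem using fun x => exists_finite_sections hF h𝒯 (V x).2 (S x)
  choose Tb hTb hbmem using fun x (b : B x) => exists_finite_sections hF h𝒯 (V x).2 (sb x b)
  -- the sections to contain
  let I := X ⊕ X
  let UI : I → Y.affineOpens := Sum.elim V fun x => ⟨U₁ x, hU₁ x⟩
  let TI : ∀ i, Set Γ(F, (UI i).1) := fun i => match i with
    | Sum.inl x => TS x ∪ ⋃ b, Tb x b
    | Sum.inr x => {e₁ x}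
  have hTI : ∀ i, (TI i).Finite := fun i => match i with
    | Sum.inl x => (hTS x).union (Set.finite_iUnion (hTb x))
    | Sum.inr x => Set.finite_singleton _
  have : F.IsQuasicoherent := hF
  obtain ⟨E, ι, hι, hEq, hEft, hrange⟩ := EGA73.BundleExistence.exists_finiteType_through hY F
    (Z.image Sum.inl ∪ Z.image Sum.inr) UI TI hTI
  obtain ⟨𝒯', jE, hjE⟩ := exists_isGrSymAlg hEq
  obtain ⟨v, hvj, -⟩ := hjE.1 𝒯.toQCAlg (ι ≫ jF)
  have hvE : ∀ (U : Y.Opens) (m : Γ(E, U)), (v.hom.app (op U)).hom (jR jE U m) = jR jF U (ι.app U m) :=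
    fun U m => congr(($hvj).app U m)
  have hv : RelProj.IsGradedHom v := isGradedHom_of_grSym hEq hjE v fun U hU m => by
    rw [show (v.hom.app (op U)).hom (jE.app U m) = _ from hvE U m]
    exact h𝒯.2 U hU _
  obtain ⟨u', hu'⟩ := exists_comp_qGrHom u v hv
  have hinl : ∀ x ∈ Z, TI (Sum.inl x) ⊆ Set.range (ι.app (V x).1) := fun x hx =>
    hrange (Sum.inl x) (Finset.mem_union_left _ (Finset.mem_image_of_mem _ hx))
  have hlift : ∀ x ∈ Z, ∀ {d : ℕ} {a : 𝒯.presheaf.obj (op (V x).1)}, a ∈ 𝒯.deg (V x).1 (V x).2 d →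
      ∀ T : Set Γ(F, (V x).1), T ⊆ TI (Sum.inl x) →
      a ∈ Subring.closure (Set.range (𝒯.str.app (op (V x).1)).hom ∪ (fun m => jR jF (V x).1 m) '' T) →
      ∃ a' ∈ 𝒯'.deg (V x).1 (V x).2 d, (v.hom.app (op (V x).1)).hom a' = a := by
    intro x hx d a ha T hT hmem
    have hr : a ∈ (v.hom.app (op (V x).1)).hom.range := by
      refine Subring.closure_le.2 ?_ hmem
      rintro z (⟨t, rfl⟩ | ⟨m, hm, rfl⟩)
      · exact ⟨(𝒯'.str.app (op (V x).1)).hom t, congr($(NatTrans.congr_app v.comm (op (V x).1)).hom t)⟩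
      · obtain ⟨m', rfl⟩ := hinl x hx (hT hm)
        exact ⟨jR jE (V x).1 m', hvE _ m'⟩
    obtain ⟨a', ha'⟩ := hr
    refine ⟨DirectSum.decompose (𝒯'.deg (V x).1 (V x).2) a' d, SetLike.coe_mem _, ?_⟩
    have h1 : (RelProj.gradedHomAt v hv (V x).1 (V x).2) (DirectSum.decompose (𝒯'.deg (V x).1 (V x).2) a' d) =
        DirectSum.decompose (𝒯.deg (V x).1 (V x).2) ((RelProj.gradedHomAt v hv (V x).1 (V x).2) a') d :=
      GradedRingHom.map_directSumDecompose ..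
    exact h1.trans ((congrArg (fun z => (DirectSum.decompose (𝒯.deg (V x).1 (V x).2) z d : 𝒯.presheaf.obj (op (V x).1)))
      ha').trans (DirectSum.decompose_of_mem_same _ ha))
  refine ⟨E, hEq, hEft, ι, fun U => app_injective_of_mono ι U, 𝒯', jE, hjE, u', fun U m => ?_, fun x => ?_,
    fun P' p' chart' hP' r' hr' => (isImmersion_iff hL hLq hjL hPL hr' hP').2 fun x => ?_⟩
  · rw [hu']
    exact congrArg (u.app U).hom (hvE U m)
  · obtain ⟨z, hz, -, hxV₁⟩ := Set.mem_iUnion₂.1 (hZ (Set.mem_univ x))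
    obtain ⟨e, he⟩ := hrange (Sum.inr z) (Finset.mem_union_right _ (Finset.mem_image_of_mem _ hz)) rfl
    refine ⟨U₁ z, hU₁ z, e, V₁ z, hV₁ z, hVU₁ z, hxV₁, ?_⟩
    rw [appLE_of_comp hu', show (v.hom.app (op (U₁ z))).hom (jE.app (U₁ z) e) = jR jF (U₁ z) (e₁ z) from
      (hvE _ e).trans (congrArg _ he)]
    exact hspan₁ z
  · obtain ⟨z, hz, hxz, -⟩ := Set.mem_iUnion₂.1 (hZ (Set.mem_univ x))
    obtain ⟨S', hS', hvS⟩ := hlift z hz (hS z) (TS z) Set.subset_union_left (hSmem z)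
    have hnv : nonVanish u' (n z) S' = nonVanish u (n z) (S z) := by
      refine le_antisymm (iSup_le fun W => ?_) (iSup_le fun W => ?_)
      · obtain ⟨W, hWU, hW⟩ := W
        rw [appLE_of_comp hu', hvS] at hW
        exact le_iSup_of_le (⟨W, hWU, hW⟩ : {W : X.affineOpens // _}) le_rfl
      · obtain ⟨W, hWU, hW⟩ := W
        rw [← hvS, ← appLE_of_comp hu'] at hW
        exact le_iSup_of_le (⟨W, hWU, hW⟩ : {W : X.affineOpens // _}) le_rfl
    refine ⟨V z, n z, S', hn z, hS', hnv.ge hxz, hnv ▸ haff z, ?_⟩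
    have key : ∀ (W : X.Opens) (hWU : W ≤ q ⁻¹ᵁ (V z).1), nonVanish u (n z) (S z) = W →
        CondGen u' (V z).2 (n z) S' W hWU := by
      rintro W hWU rfl
      let Φ := (u'.appLE (V z).1 (nonVanish u (n z) (S z)) hWU).hom
      let Ψ := (𝒮L.str.app (op (nonVanish u (n z) (S z)))).hom
      have hpad : ∀ {k : ℕ} {f : 𝒯'.presheaf.obj (op (V z).1)}, f ∈ 𝒯'.deg (V z).1 (V z).2 (k * n z) → ∀ l,
          f * S' ^ l ∈ 𝒯'.deg (V z).1 (V z).2 ((k + l) * n z) := fun hf l => by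
        have h1 := SetLike.mul_mem_graded (A := 𝒯'.deg (V z).1 (V z).2) hf (SetLike.pow_mem_graded l hS')
        rwa [smul_eq_mul, ← add_mul] at h1
      let R : Subring Γ(X, nonVanish u (n z) (S z)) :=
        { carrier := {a | ∃ (k : ℕ) (f : 𝒯'.presheaf.obj (op (V z).1)),
            f ∈ 𝒯'.deg (V z).1 (V z).2 (k * n z) ∧ Ψ a * Φ S' ^ k = Φ f}
          one_mem' := ⟨0, 1, by rw [zero_mul]; exact SetLike.one_mem_graded _, by simp⟩
          zero_mem' := ⟨0, 0, zero_mem _, by simp⟩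
          mul_mem' := by
            rintro a b ⟨k₁, f, hf, ha⟩ ⟨k₂, g, hg, hb⟩
            refine ⟨k₁ + k₂, f * g, by rw [add_mul]; exact SetLike.mul_mem_graded hf hg, ?_⟩
            rw [map_mul Φ f g, map_mul Ψ, ← ha, ← hb, pow_add]; ring
          add_mem' := by
            rintro a b ⟨k₁, f, hf, ha⟩ ⟨k₂, g, hg, hb⟩
            refine ⟨k₁ + k₂, f * S' ^ k₂ + g * S' ^ k₁,
              add_mem (hpad hf k₂) (by rw [Nat.add_comm k₁ k₂]; exact hpad hg k₁), ?_⟩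
            rw [map_add Φ, map_mul Φ f, map_mul Φ g, map_pow, map_pow, ← ha, ← hb, map_add Ψ, pow_add]; ring
          neg_mem' := by
            rintro a ⟨k, f, hf, ha⟩
            exact ⟨k, -f, neg_mem hf, by rw [map_neg, map_neg, neg_mul, ha]⟩ }
      intro t
      have ht : t ∈ R := by
        refine Subring.closure_le.2 ?_ ((hB z).ge (Subring.mem_top t))
        rintro w (⟨a, rfl⟩ | hw)
        · refine ⟨0, (𝒯'.str.app (op (V z).1)).hom a, by rw [zero_mul]; exact 𝒯'.str_mem _ _ a, ?_⟩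
          rw [pow_zero, mul_one]
          exact (congr($(u'.toQHom.str_appLE (V z).1 _ hWU).hom a)).symm
        · obtain ⟨f, hf, hvf⟩ := hlift z hz (hsb z ⟨w, hw⟩) (Tb z ⟨w, hw⟩)
            ((Set.subset_iUnion (Tb z) ⟨w, hw⟩).trans Set.subset_union_right) (hbmem z ⟨w, hw⟩)
          refine ⟨mb z ⟨w, hw⟩, f, hf, ?_⟩
          show Ψ w * (u'.appLE (V z).1 _ hWU).hom S' ^ _ = (u'.appLE (V z).1 _ hWU).hom f
          rw [appLE_of_comp hu', appLE_of_comp hu', hvS, hvf]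
          exact heb z ⟨w, hw⟩
      obtain ⟨k, f, hf, hk⟩ := ht
      exact ⟨k + 1, Nat.succ_pos k, f * S' ^ 1, hpad hf 1, by
        show Ψ t * Φ S' ^ (k + 1) = Φ (f * S' ^ 1)
        rw [map_mul Φ f, pow_one, ← hk, pow_succ]; ring⟩
    exact key _ _ hnv.symm

end Groth.Agent.EGAProj74.RLRel
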