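import Groth.Agent.EGAProj74.GradedGen
import Groth.Agent.EGAProj74.DegSub
import Groth.Agent.EGA73.GrAlgGlue
import Groth.Agent.QC70.FiniteType

/-! The graded subalgebra generated by a subsheaf of finite type inside one degree. -/

set_option autoImplicit false
set_option backward.isDefEq.respectTransparency.types false

universe u

open CategoryTheory CategoryTheory.Limits AlgebraicGeometry TopologicalSpace Opposite DirectSum

noncomputable section

namespace Groth.Agent.EGAProj74.SubGrAlg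

open Groth.Agent.QC70 Groth.Agent.SubMod72 Groth.Agent.AlgSub72

variable {Y : Scheme.{u}} (𝒮 : RelProj.QCGrAlg Y)

attribute [local instance] RelProj.QCGrAlg.graded

/-- The sections of a subsheaf inside the algebra. -/
def secs (P : Sub 𝒮.toQCAlg.toModule) (U : Y.Opens) : AddSubgroup (bSec 𝒮.toQCAlg U) :=
  (P.carrier U).toAddSubgroup

theorem gens_eq (P : Sub 𝒮.toQCAlg.toModule) (U : Y.Opens) :
    gens 𝒮.toQCAlg P U = Set.range (bStr 𝒮.toQCAlg U) ∪ (secs 𝒮 P U : Set (bSec 𝒮.toQCAlg U)) :=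
  congrArg _ (Set.image_id' _)

variable {P : Sub 𝒮.toQCAlg.toModule} (hP : FG ⊤ P) {N : ℕ} (hN : 0 < N)
  (hdeg : ∀ (U : Y.Opens) (hU : IsAffineOpen U), ∀ x ∈ P.carrier U, toB 𝒮.toQCAlg x ∈ 𝒮.deg U hU N)

include hP hN hdeg in
theorem decompose_mem {U : Y.Opens} (hU : IsAffineOpen U) {x : bSec 𝒮.toQCAlg U}
    (hx : x ∈ algCarrier 𝒮.toQCAlg P U) (d : ℕ) :
    (decompose (𝒮.deg U hU) x d : bSec 𝒮.toQCAlg U) ∈ algCarrier 𝒮.toQCAlg P U ∧
      (d = 0 → (decompose (𝒮.deg U hU) x d : bSec 𝒮.toQCAlg U) ∈ (bStr 𝒮.toQCAlg U).range) ∧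
      (d = N → (decompose (𝒮.deg U hU) x d : bSec 𝒮.toQCAlg U) ∈ secs 𝒮 P U) := by
  rw [algCarrier_eq_of_isAffineOpen hP hU] at hx ⊢
  unfold closureAt at hx ⊢
  rw [gens_eq] at hx ⊢
  exact GradedGen.decompose_mem (𝒮.deg U hU) hN (bStr 𝒮.toQCAlg U) (𝒮.str_mem U hU) (secs 𝒮 P U)
    (hdeg U hU) (fun r y hy => (P.carrier U).smul_mem r hy) hx d

/-- The gradings on affine opens. -/
def locGrading : EGA73.LocGrading (algSub hP) where
  Small := IsAffineOpen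
  affine := id
  basis U x hx := by
    obtain ⟨_, ⟨V, hV, rfl⟩, hxV, hVU⟩ := (Scheme.isBasis_affineOpens Y).exists_subset_of_mem_open hx U.2
    exact ⟨V, hV, hxV, hVU⟩
  deg V hV := GradedGen.subDeg (𝒮.deg V hV) (algCarrier 𝒮.toQCAlg P V)
  graded V hV := GradedGen.gradedRing (𝒮.deg V hV) _ fun x hx d => (decompose_mem 𝒮 hP hN hdeg hV hx d).1
  map_mem hU hV h _ _ hx := 𝒮.map_mem hU hV h hx
  str_mem V hV r := 𝒮.str_mem V hV r

/-- The graded subalgebra. -/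
def grSub : RelProj.QCGrAlg Y := (locGrading 𝒮 hP hN hdeg).toQCGrAlg

theorem mem_deg_iff {U : Y.Opens} (hU : IsAffineOpen U) (d : ℕ) (x : algCarrier 𝒮.toQCAlg P U) :
    (show (grSub 𝒮 hP hN hdeg).presheaf.obj (op U) from x) ∈ (grSub 𝒮 hP hN hdeg).deg U hU d ↔
      (x : bSec 𝒮.toQCAlg U) ∈ 𝒮.deg U hU d := by
  show x ∈ (locGrading 𝒮 hP hN hdeg).degAt U d ↔ _
  rw [(locGrading 𝒮 hP hN hdeg).degAt_eq (V := U) hU]
  rfl

/-- The inclusion. -/
def incl : (grSub 𝒮 hP hN hdeg).toQCAlg ⟶ 𝒮.toQCAlg := algSubι hP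

theorem isGradedHom_incl : RelProj.IsGradedHom (incl 𝒮 hP hN hdeg) :=
  fun _ hU d x hx => (mem_deg_iff 𝒮 hP hN hdeg hU d x).1 hx

theorem injective_incl (U : Y.Opens) : Function.Injective ((incl 𝒮 hP hN hdeg).hom.app (op U)).hom :=
  Subtype.val_injective

theorem exists_preimage {U : Y.Opens} (hU : IsAffineOpen U) {x : bSec 𝒮.toQCAlg U}
    (hx : ofB 𝒮.toQCAlg x ∈ P.carrier U) :
    ∃ x' : (grSub 𝒮 hP hN hdeg).presheaf.obj (op U),
      x' ∈ (grSub 𝒮 hP hN hdeg).deg U hU N ∧ ((incl 𝒮 hP hN hdeg).hom.app (op U)).hom x' = x :=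
  ⟨(⟨x, closureAt_le _ P U (Subring.subset_closure (Or.inr ⟨_, hx, rfl⟩))⟩ : algCarrier 𝒮.toQCAlg P U),
    (mem_deg_iff 𝒮 hP hN hdeg hU N _).2 (hdeg U hU _ hx), rfl⟩

theorem deg_zero {U : Y.Opens} (hU : IsAffineOpen U) :
    (((grSub 𝒮 hP hN hdeg).deg U hU 0 : AddSubgroup ((grSub 𝒮 hP hN hdeg).presheaf.obj (op U))) :
      Set ((grSub 𝒮 hP hN hdeg).presheaf.obj (op U))) =
      Set.range ((grSub 𝒮 hP hN hdeg).str.app (op U)).hom := by
  refine Set.Subset.antisymm (fun x hx => ?_) ?_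
  · let x' : algCarrier 𝒮.toQCAlg P U := x
    obtain ⟨r, hr⟩ := (decompose_mem 𝒮 hP hN hdeg hU x'.2 0).2.1 rfl
    rw [decompose_of_mem_same _ ((mem_deg_iff 𝒮 hP hN hdeg hU 0 x').1 hx)] at hr
    exact ⟨r, Subtype.ext hr⟩
  · rintro _ ⟨r, rfl⟩
    exact (grSub 𝒮 hP hN hdeg).str_mem U hU r

include hP hN hdeg in
theorem mem_secs_of_mem_deg {U : Y.Opens} (hU : IsAffineOpen U) {x : algCarrier 𝒮.toQCAlg P U}
    (hx : (x : bSec 𝒮.toQCAlg U) ∈ 𝒮.deg U hU N) : ofB 𝒮.toQCAlg x.1 ∈ P.carrier U := by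
  have h := (decompose_mem 𝒮 hP hN hdeg hU x.2 N).2.2 rfl
  rw [decompose_of_mem_same _ hx] at h
  exact h

theorem closure_eq_top {U : Y.Opens} (hU : IsAffineOpen U) :
    Subring.closure ((((grSub 𝒮 hP hN hdeg).deg U hU 0 : AddSubgroup ((grSub 𝒮 hP hN hdeg).presheaf.obj (op U))) :
        Set ((grSub 𝒮 hP hN hdeg).presheaf.obj (op U))) ∪
      (((grSub 𝒮 hP hN hdeg).deg U hU N : AddSubgroup ((grSub 𝒮 hP hN hdeg).presheaf.obj (op U))) :
        Set ((grSub 𝒮 hP hN hdeg).presheaf.obj (op U)))) = ⊤ := by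
  refine top_le_iff.mp fun x _ => ?_
  let S : Subring (algCarrier 𝒮.toQCAlg P U) := Subring.closure
    ((((grSub 𝒮 hP hN hdeg).deg U hU 0 : AddSubgroup ((grSub 𝒮 hP hN hdeg).presheaf.obj (op U))) :
        Set ((grSub 𝒮 hP hN hdeg).presheaf.obj (op U))) ∪
      (((grSub 𝒮 hP hN hdeg).deg U hU N : AddSubgroup ((grSub 𝒮 hP hN hdeg).presheaf.obj (op U))) :
        Set ((grSub 𝒮 hP hN hdeg).presheaf.obj (op U))))
  have key : closureAt 𝒮.toQCAlg P U ≤ S.map (algCarrier 𝒮.toQCAlg P U).subtype := by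
    refine Subring.closure_le.mpr ?_
    rintro _ (⟨a, rfl⟩ | ⟨y, hy, rfl⟩)
    · exact ⟨_, Subring.subset_closure (Or.inl ((grSub 𝒮 hP hN hdeg).str_mem U hU a)), rfl⟩
    · obtain ⟨y', hy', e⟩ := exists_preimage 𝒮 hP hN hdeg hU hy
      exact ⟨_, Subring.subset_closure (Or.inr hy'), e⟩
  let x' : algCarrier 𝒮.toQCAlg P U := x
  have hx' : x'.1 ∈ closureAt 𝒮.toQCAlg P U := by rw [← algCarrier_eq_of_isAffineOpen hP hU]; exact x'.2
  obtain ⟨z, hz, e⟩ := key hx'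
  exact (Subtype.ext e : z = (show algCarrier 𝒮.toQCAlg P U from x)) ▸ hz

theorem isFTDeg : (grSub 𝒮 hP hN hdeg).IsFTDeg N := by
  classical
  intro U hU
  have := (isQuasicoherent_isFiniteType_toMod hP).1
  have := (isQuasicoherent_isFiniteType_toMod hP).2
  have := finite_sections_of_isFiniteType (toMod P) hU
  obtain ⟨n, s, hs⟩ := Module.Finite.exists_fin (R := Γ(Y, U)) (M := Γ(toMod P, U))
  have hmem : ∀ j, toB 𝒮.toQCAlg ((toModι P).app U (s j)) ∈ algCarrier 𝒮.toQCAlg P U := fun j =>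
    closureAt_le _ P U (Subring.subset_closure (Or.inr ⟨_, (mem_iff_exists P _).mpr ⟨s j, rfl⟩, rfl⟩))
  let g : Fin n → (grSub 𝒮 hP hN hdeg).presheaf.obj (op U) := fun j => (⟨_, hmem j⟩ : algCarrier 𝒮.toQCAlg P U)
  refine ⟨Finset.univ.image g, ?_, fun x hx => ?_⟩
  · intro t ht
    obtain ⟨j, -, rfl⟩ := Finset.mem_image.1 (Finset.mem_coe.1 ht)
    exact (mem_deg_iff 𝒮 hP hN hdeg hU N _).2 (hdeg U hU _ ((mem_iff_exists P _).mpr ⟨s j, rfl⟩))
  · let x' : algCarrier 𝒮.toQCAlg P U := x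
    obtain ⟨y, hy⟩ := (mem_iff_exists P _).mp
      (mem_secs_of_mem_deg 𝒮 hP hN hdeg hU (x := x') ((mem_deg_iff 𝒮 hP hN hdeg hU N x').1 hx))
    obtain ⟨c, hc⟩ := (Submodule.mem_span_range_iff_exists_fun Γ(Y, U)).1
      (show y ∈ Submodule.span Γ(Y, U) (Set.range s) from hs ▸ Submodule.mem_top)
    refine ⟨fun t => ∑ j ∈ Finset.univ.filter (fun j => g j = t), c j, ?_⟩
    have h1 : x' = ∑ j, (show algCarrier 𝒮.toQCAlg P U from ((algSub hP).str.app (op U)).hom (c j)) *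
        (⟨_, hmem j⟩ : algCarrier 𝒮.toQCAlg P U) := by
      refine Subtype.ext ?_
      rw [AddSubmonoidClass.coe_finsetSum]
      show toB 𝒮.toQCAlg (ofB 𝒮.toQCAlg x'.1) = _
      rw [← hy, ← hc, map_sum]
      refine Finset.sum_congr rfl fun j _ => ?_
      rw [Scheme.Modules.Hom.app_smul]
      rfl
    refine h1.trans ?_
    refine (Finset.sum_image' (s := Finset.univ) (g := g)
      (fun j => ((grSub 𝒮 hP hN hdeg).str.app (op U)).hom (c j) * g j) fun j _ => ?_).symm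
    show ((grSub 𝒮 hP hN hdeg).str.app (op U)).hom _ * g j = _
    rw [map_sum, Finset.sum_mul]
    exact Finset.sum_congr rfl fun i hi => by rw [← (Finset.mem_filter.1 hi).2]

/-- The composite of a graded homomorphism and a graded morphism over `q`. -/
def preQGrHom {X : Scheme.{u}} {q : X ⟶ Y} {𝒯 : RelProj.QCGrAlg Y} {𝒮L : RelProj.QCGrAlg X}
    (v : 𝒯.toQCAlg ⟶ 𝒮.toQCAlg) (hv : RelProj.IsGradedHom v) (u : RelProj.QGrHom q 𝒮 𝒮L) :
    RelProj.QGrHom q 𝒯 𝒮L where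
  app U := v.hom.app (op U) ≫ u.app U
  naturality i := by
    rw [← Category.assoc, v.hom.naturality, Category.assoc, u.naturality, ← Category.assoc]
  str_app U := by
    rw [← Category.assoc, ← NatTrans.comp_app, v.comm]
    exact u.str_app U
  map_mem U hU U' hU' hle _ x hx := u.map_mem U hU U' hU' hle (hv U hU _ x hx)

end Groth.Agent.EGAProj74.SubGrAlg
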