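import Groth.Agent.EGAProj74.RLLift
import Groth.Agent.EGAProj74.SubGrAlg

/-! Immersion pieces in one degree. -/

set_option autoImplicit false
set_option backward.isDefEq.respectTransparency.types false

universe u

open CategoryTheory CategoryTheory.Limits AlgebraicGeometry TopologicalSpace Opposite
open scoped HomogeneousIdeal

noncomputable section

namespace Groth.Agent.EGAProj74.RLImmSub

open Groth.Agent.EGAProj74

variable {X Y PL : Scheme.{u}} {q : X ⟶ Y} {L : X.Modules} (hL : PicF.IsInvertible L) (hLq : L.IsQuasicoherent)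
  {𝒮L : RelProj.QCGrAlg X} {j : L ⟶ 𝒮L.toModule} (hj : RelProj.IsGrSymAlg L 𝒮L j)
  {pL : PL ⟶ X}
  {chartL : ∀ (U : X.Opens) (hU : IsAffineOpen U), (((pL ⁻¹ᵁ U : PL.Opens) : Scheme.{u}) ≅ Proj (𝒮L.deg U hU))}
  (hPL : RelProj.IsRelProj 𝒮L pL chartL)
  {𝒮 : RelProj.QCGrAlg Y} (u : RelProj.QGrHom q 𝒮 𝒮L)

include hL hLq hj hPL

/-- Powers do not change the non-vanishing locus. -/
theorem nonVanish_pow {U : Y.Opens} (hU : IsAffineOpen U) {n : ℕ} (hn : 0 < n) {S : 𝒮.presheaf.obj (op U)}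
    (hS : S ∈ 𝒮.deg U hU n) {k : ℕ} (hk : 0 < k) :
    RLRel.nonVanish u (k * n) (S ^ k) = RLRel.nonVanish u n S := by
  have := isIso_pL hL hLq hj hPL
  have hSk : S ^ k ∈ 𝒮.deg U hU (k * n) := smul_eq_mul k n ▸ SetLike.pow_mem_graded k hS
  have key : ∀ x ∈ q ⁻¹ᵁ U, (x ∈ RLRel.nonVanish u (k * n) (S ^ k) ↔ x ∈ RLRel.nonVanish u n S) := by
    intro x hx
    obtain ⟨_, ⟨V, hV, rfl⟩, hxV, hVle⟩ :=
      X.isBasis_affineOpens.exists_subset_of_mem_open (show x ∈ q ⁻¹ᵁ U from hx) (q ⁻¹ᵁ U).2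
    obtain ⟨w, rfl⟩ := pL.surjective x
    obtain ⟨y, rfl⟩ := exists_lift (chart := chartL) w hV hxV
    rw [RLRel.mem_nonVanish_iff hL hLq hj hPL u (Nat.mul_pos hk hn) hSk hV hVle,
      RLRel.mem_nonVanish_iff hL hLq hj hPL u hn hS hV hVle, map_pow, Proj.basicOpen_pow _ _ k hk]
  ext x
  exact ⟨fun h => (key x (RLRel.nonVanish_le u _ _ h)).1 h, fun h => (key x (RLRel.nonVanish_le u _ _ h)).2 h⟩

variable [LocallyOfFiniteType q]

/-- Finitely many pieces with denominators and numerators in one degree. -/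
theorem exists_uniform [CompactSpace X]
    (h : ∀ x : X, ∃ (V : Y.affineOpens) (n : ℕ) (s : 𝒮.presheaf.obj (op V.1)), 0 < n ∧ s ∈ 𝒮.deg V.1 V.2 n ∧
      x ∈ RLRel.nonVanish u n s ∧ IsAffineOpen (RLRel.nonVanish u n s) ∧
        RLRel.CondGen u V.2 n s (RLRel.nonVanish u n s) (RLRel.nonVanish_le u n s)) :
    ∃ (N : ℕ) (Z : Finset X) (V : X → Y.affineOpens) (S : ∀ z, 𝒮.presheaf.obj (op (V z).1))
      (T : ∀ z, Set (𝒮.presheaf.obj (op (V z).1))),
      0 < N ∧ (∀ x : X, ∃ z ∈ Z, x ∈ RLRel.nonVanish u N (S z)) ∧ (∀ z, (T z).Finite) ∧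
      (∀ z, T z ⊆ (𝒮.deg (V z).1 (V z).2 N : Set _)) ∧
      ∀ z ∈ Z, S z ∈ T z ∧ IsAffineOpen (RLRel.nonVanish u N (S z)) ∧
        ∃ (ι : Type u) (b : ι → Γ(X, RLRel.nonVanish u N (S z))) (f : ι → 𝒮.presheaf.obj (op (V z).1)),
          Subring.closure (Set.range (q.appLE (V z).1 _ (RLRel.nonVanish_le u N (S z))) ∪ Set.range b) = ⊤ ∧
          ∀ i, f i ∈ T z ∧ (𝒮L.str.app (op _)).hom (b i) *
            (u.appLE (V z).1 _ (RLRel.nonVanish_le u N (S z))).hom (S z) ^ 1 =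
              (u.appLE (V z).1 _ (RLRel.nonVanish_le u N (S z))).hom (f i) := by
  classical
  choose V n s hn hs hx haff hgen using h
  choose ι hfin b m f hB hf using fun x => RLLift.exists_generators (V x).2 (haff x) (RLRel.nonVanish_le u _ _) (hgen x)
  obtain ⟨Z, hZ⟩ := isCompact_univ.elim_finite_subcover (fun x => (RLRel.nonVanish u (n x) (s x) : Set X))
    (fun x => (RLRel.nonVanish u (n x) (s x)).2) (fun x _ => Set.mem_iUnion.2 ⟨x, hx x⟩)
  let M : ℕ := ∑ z ∈ Z, ∑ i, m z i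
  let N : ℕ := (∏ z ∈ Z, n z) * (1 + M)
  let k : X → ℕ := fun x => N / n x
  have hdvd : ∀ z ∈ Z, n z ∣ ∏ y ∈ Z, n y := fun z hz => Finset.dvd_prod_of_mem n hz
  have hprod : 0 < ∏ y ∈ Z, n y := Finset.prod_pos fun y _ => hn y
  have hkn : ∀ z ∈ Z, k z * n z = N := fun z hz => Nat.div_mul_cancel ((hdvd z hz).mul_right _)
  have hkM : ∀ z ∈ Z, 1 + M ≤ k z := fun z hz => by
    rw [Nat.le_div_iff_mul_le (hn z), Nat.mul_comm]
    exact Nat.mul_le_mul_right _ (Nat.le_of_dvd hprod (hdvd z hz))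
  have hmk : ∀ z ∈ Z, ∀ i, m z i ≤ k z := fun z hz i =>
    ((Finset.single_le_sum (fun _ _ => Nat.zero_le _) (Finset.mem_univ i)).trans
      (Finset.single_le_sum (f := fun z => ∑ i, m z i) (fun _ _ => Nat.zero_le _) hz)).trans
      ((Nat.le_add_left M 1).trans (hkM z hz))
  let T : ∀ z, Set (𝒮.presheaf.obj (op (V z).1)) := fun z =>
    if z ∈ Z then insert (s z ^ k z) (Set.range fun i => f z i * s z ^ (k z - m z i)) else ∅
  refine ⟨N, Z, V, fun z => s z ^ k z, T, Nat.mul_pos hprod (by omega), fun x => ?_, fun z => ?_, fun z => ?_,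
    fun z hz => ?_⟩
  · obtain ⟨z, hz, hxz⟩ := Set.mem_iUnion₂.1 (hZ (Set.mem_univ x))
    refine ⟨z, hz, ?_⟩
    rw [← hkn z hz, nonVanish_pow hL hLq hj hPL u (V z).2 (hn z) (hs z) ((Nat.succ_pos M).trans_le (by
      have := hkM z hz; omega))]
    exact hxz
  · simp only [T]
    split
    · exact (Set.finite_range _).insert _
    · exact Set.finite_empty
  · simp only [T]
    split
    · rename_i hz
      refine Set.insert_subset ?_ ?_
      · show s z ^ k z ∈ 𝒮.deg _ _ N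
        rw [← hkn z hz]
        exact smul_eq_mul (k z) (n z) ▸ SetLike.pow_mem_graded _ (hs z)
      · rintro _ ⟨i, rfl⟩
        show f z i * s z ^ (k z - m z i) ∈ 𝒮.deg _ _ N
        have h1 := SetLike.mul_mem_graded (A := 𝒮.deg (V z).1 (V z).2) (hf z i).1
          (SetLike.pow_mem_graded (k z - m z i) (hs z))
        rwa [smul_eq_mul, ← add_mul, Nat.add_sub_cancel' (hmk z hz i), hkn z hz] at h1
    · exact Set.empty_subset _
  · have hT : T z = insert (s z ^ k z) (Set.range fun i => f z i * s z ^ (k z - m z i)) := if_pos hz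
    have hW : RLRel.nonVanish u N (s z ^ k z) = RLRel.nonVanish u (n z) (s z) := by
      rw [← hkn z hz]
      exact nonVanish_pow hL hLq hj hPL u (V z).2 (hn z) (hs z) (by have := hkM z hz; omega)
    refine ⟨hT ▸ Set.mem_insert _ _, hW ▸ haff z, ?_⟩
    suffices key : ∀ (W : X.Opens) (hW' : W ≤ q ⁻¹ᵁ (V z).1), RLRel.nonVanish u (n z) (s z) = W →
        ∃ (ι : Type u) (b : ι → Γ(X, W)) (g : ι → 𝒮.presheaf.obj (op (V z).1)),
          Subring.closure (Set.range (q.appLE (V z).1 W hW') ∪ Set.range b) = ⊤ ∧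
          ∀ i, g i ∈ T z ∧ (𝒮L.str.app (op W)).hom (b i) * (u.appLE (V z).1 W hW').hom (s z ^ k z) ^ 1 =
            (u.appLE (V z).1 W hW').hom (g i) from key _ _ hW.symm
    rintro W hW' rfl
    refine ⟨ι z, b z, fun i => f z i * s z ^ (k z - m z i), hB z, fun i =>
      ⟨hT ▸ Set.mem_insert_of_mem _ ⟨i, rfl⟩, ?_⟩⟩
    rw [pow_one, map_pow, map_mul, map_pow, ← (hf z i).2, mul_assoc, ← pow_add, Nat.add_sub_cancel' (hmk z hz i)]

end Groth.Agent.EGAProj74.RLImmSub
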