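import Groth.Agent.EGAProj74.RLRel
import Groth.Agent.EGAProj74.QMapFactor

/-!
Descending the immersion criterion for `r_{L,ψ}` along a graded homomorphism.
-/

set_option autoImplicit false
set_option backward.isDefEq.respectTransparency.types false

universe u

open CategoryTheory CategoryTheory.Limits AlgebraicGeometry TopologicalSpace Opposite
open scoped HomogeneousIdeal

noncomputable section

namespace Groth.Agent.EGAProj74.RLLift

open Groth.Agent.EGAProj74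

variable {X Y : Scheme.{u}} {q : X ⟶ Y} {𝒮 𝒯 : RelProj.QCGrAlg Y} {𝒮L : RelProj.QCGrAlg X}
  {u : RelProj.QGrHom q 𝒮 𝒮L}

/-- The fraction condition can be checked on generators. -/
theorem condGen_of_generators {U : Y.Opens} (hU : IsAffineOpen U) {n : ℕ} {S : 𝒮.presheaf.obj (op U)}
    (hS : S ∈ 𝒮.deg U hU n) {W : X.Opens} (hWU : W ≤ q ⁻¹ᵁ U) (B : Set Γ(X, W))
    (hB : Subring.closure (Set.range (q.appLE U W hWU) ∪ B) = ⊤)
    (hgen : ∀ b ∈ B, ∃ (m : ℕ) (f : 𝒮.presheaf.obj (op U)), f ∈ 𝒮.deg U hU (m * n) ∧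
      (𝒮L.str.app (op W)).hom b * (u.appLE U W hWU).hom S ^ m = (u.appLE U W hWU).hom f) :
    RLRel.CondGen u hU n S W hWU := by
  let Φ := (u.appLE U W hWU).hom
  let Ψ := (𝒮L.str.app (op W)).hom
  have hpad : ∀ {k : ℕ} {f : 𝒮.presheaf.obj (op U)}, f ∈ 𝒮.deg U hU (k * n) → ∀ l,
      f * S ^ l ∈ 𝒮.deg U hU ((k + l) * n) := fun hf l => by
    have h1 := SetLike.mul_mem_graded (A := 𝒮.deg U hU) hf (SetLike.pow_mem_graded l hS)
    rwa [smul_eq_mul, ← add_mul] at h1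
  let R : Subring Γ(X, W) :=
    { carrier := {a | ∃ (k : ℕ) (f : 𝒮.presheaf.obj (op U)), f ∈ 𝒮.deg U hU (k * n) ∧ Ψ a * Φ S ^ k = Φ f}
      one_mem' := ⟨0, 1, by rw [zero_mul]; exact SetLike.one_mem_graded _, by simp⟩
      zero_mem' := ⟨0, 0, zero_mem _, by simp⟩
      mul_mem' := by
        rintro a b ⟨k₁, f, hf, ha⟩ ⟨k₂, g, hg, hb⟩
        refine ⟨k₁ + k₂, f * g, by rw [add_mul]; exact SetLike.mul_mem_graded hf hg, ?_⟩
        rw [map_mul Φ f g, map_mul Ψ, ← ha, ← hb, pow_add]; ring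
      add_mem' := by
        rintro a b ⟨k₁, f, hf, ha⟩ ⟨k₂, g, hg, hb⟩
        refine ⟨k₁ + k₂, f * S ^ k₂ + g * S ^ k₁,
          add_mem (hpad hf k₂) (by rw [Nat.add_comm k₁ k₂]; exact hpad hg k₁), ?_⟩
        rw [map_add Φ, map_mul Φ f, map_mul Φ g, map_pow, map_pow, ← ha, ← hb, map_add Ψ, pow_add]; ring
      neg_mem' := by
        rintro a ⟨k, f, hf, ha⟩
        exact ⟨k, -f, neg_mem hf, by rw [map_neg, map_neg, neg_mul, ha]⟩ }
  intro t
  have ht : t ∈ R := by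
    refine Subring.closure_le.2 ?_ (hB.ge (Subring.mem_top t))
    rintro w (⟨a, rfl⟩ | hw)
    · refine ⟨0, (𝒮.str.app (op U)).hom a, by rw [zero_mul]; exact 𝒮.str_mem _ _ a, ?_⟩
      rw [pow_zero, mul_one]
      exact (congr($(u.toQHom.str_appLE U W hWU).hom a)).symm
    · exact hgen w hw
  obtain ⟨k, f, hf, hk⟩ := ht
  exact ⟨k + 1, Nat.succ_pos k, f * S ^ 1, hpad hf 1, by
    show Ψ t * Φ S ^ (k + 1) = Φ (f * S ^ 1)
    rw [map_mul Φ f, pow_one, ← hk, pow_succ]; ring⟩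

/-- Finitely many fractions generate. -/
theorem exists_generators [LocallyOfFiniteType q] {U : Y.Opens} (hU : IsAffineOpen U) {n : ℕ}
    {S : 𝒮.presheaf.obj (op U)} {W : X.Opens} (hW : IsAffineOpen W) (hWU : W ≤ q ⁻¹ᵁ U)
    (h : RLRel.CondGen u hU n S W hWU) :
    ∃ (ι : Type u) (_ : Fintype ι) (b : ι → Γ(X, W)) (m : ι → ℕ) (f : ι → 𝒮.presheaf.obj (op U)),
      Subring.closure (Set.range (q.appLE U W hWU) ∪ Set.range b) = ⊤ ∧ ∀ i, f i ∈ 𝒮.deg U hU (m i * n) ∧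
        (𝒮L.str.app (op W)).hom (b i) * (u.appLE U W hWU).hom S ^ m i = (u.appLE U W hWU).hom (f i) := by
  let := (q.appLE U W hWU).hom.toAlgebra
  have : Algebra.FiniteType Γ(Y, U) Γ(X, W) := q.finiteType_appLE hU hW _
  obtain ⟨B, hB⟩ := this.out
  have h2 := congrArg Subalgebra.toSubring hB
  rw [Algebra.adjoin_eq_ring_closure, Algebra.top_toSubring] at h2
  choose m hm f hf he using fun b : B => h b.1
  exact ⟨B, inferInstance, fun b => b.1, m, f, by simp only [Subtype.range_coe_subtype, Finset.setOfPred_mem]; exact h2, fun b => ⟨hf b, he b⟩⟩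

variable {v : 𝒯.toQCAlg ⟶ 𝒮.toQCAlg} {u' : RelProj.QGrHom q 𝒯 𝒮L}
  (hu' : ∀ U : Y.Opens, u'.app U = v.hom.app (op U) ≫ u.app U)

include hu'

theorem appLE_of_comp {U : Y.Opens} {W : X.Opens} (hW : W ≤ q ⁻¹ᵁ U) (t : 𝒯.presheaf.obj (op U)) :
    (u'.appLE U W hW).hom t = (u.appLE U W hW).hom ((v.hom.app (op U)).hom t) := by
  show (𝒮L.presheaf.map (homOfLE hW).op).hom ((u'.app U).hom t) = _
  rw [hu']
  rfl

theorem nonVanish_of_comp {U : Y.Opens} {n : ℕ} {S : 𝒯.presheaf.obj (op U)} :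
    RLRel.nonVanish u' n S = RLRel.nonVanish u n ((v.hom.app (op U)).hom S) := by
  refine le_antisymm (iSup_le fun W => ?_) (iSup_le fun W => ?_)
  · obtain ⟨W, hWU, hW⟩ := W
    rw [appLE_of_comp hu'] at hW
    exact le_iSup_of_le (⟨W, hWU, hW⟩ : {W : X.affineOpens // _}) le_rfl
  · obtain ⟨W, hWU, hW⟩ := W
    rw [← appLE_of_comp hu'] at hW
    exact le_iSup_of_le (⟨W, hWU, hW⟩ : {W : X.affineOpens // _}) le_rfl

/-- The criterion on a piece descends when a denominator and generating numerators lift. -/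
theorem piece_of_lifts {U : Y.affineOpens} {n : ℕ} {S : 𝒮.presheaf.obj (op U.1)} {S' : 𝒯.presheaf.obj (op U.1)}
    (hS' : S' ∈ 𝒯.deg U.1 U.2 n) (hvS : (v.hom.app (op U.1)).hom S' = S) {W : X.Opens}
    (hW : RLRel.nonVanish u n S = W) (haff : IsAffineOpen W) (hWU : W ≤ q ⁻¹ᵁ U.1) {ι : Type*}
    (b : ι → Γ(X, W)) (m : ι → ℕ) (f : ι → 𝒮.presheaf.obj (op U.1))
    (hB : Subring.closure (Set.range (q.appLE U.1 W hWU) ∪ Set.range b) = ⊤)
    (he : ∀ i, (𝒮L.str.app (op W)).hom (b i) * (u.appLE U.1 W hWU).hom S ^ m i = (u.appLE U.1 W hWU).hom (f i))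
    (hlift : ∀ i, ∃ f' ∈ 𝒯.deg U.1 U.2 (m i * n), (v.hom.app (op U.1)).hom f' = f i) :
    IsAffineOpen (RLRel.nonVanish u' n S') ∧ RLRel.CondGen u' U.2 n S' (RLRel.nonVanish u' n S') (RLRel.nonVanish_le u' n S') := by
  have hnv : RLRel.nonVanish u' n S' = W := by rw [nonVanish_of_comp hu', hvS, hW]
  refine ⟨hnv ▸ haff, ?_⟩
  have key : ∀ (W' : X.Opens) (h : W' ≤ q ⁻¹ᵁ U.1), W = W' → RLRel.CondGen u' U.2 n S' W' h := by
    rintro W' h rfl
    refine condGen_of_generators U.2 hS' _ (Set.range b) hB ?_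
    rintro _ ⟨i, rfl⟩
    obtain ⟨f', hf', hvf⟩ := hlift i
    refine ⟨m i, f', hf', ?_⟩
    rw [appLE_of_comp hu', appLE_of_comp hu', hvS, hvf]
    exact he i
  exact key _ _ hnv.symm

omit hu' in
/-- A preimage of a homogeneous element can be taken homogeneous. -/
theorem exists_homogeneous_preimage (hv : RelProj.IsGradedHom v) {U : Y.Opens} (hU : IsAffineOpen U) {d : ℕ}
    {a : 𝒮.presheaf.obj (op U)} (ha : a ∈ 𝒮.deg U hU d) {a' : 𝒯.presheaf.obj (op U)}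
    (h : (v.hom.app (op U)).hom a' = a) : ∃ a'' ∈ 𝒯.deg U hU d, (v.hom.app (op U)).hom a'' = a := by
  classical
  refine ⟨DirectSum.decompose (𝒯.deg U hU) a' d, SetLike.coe_mem _, ?_⟩
  have h1 : (RelProj.gradedHomAt v hv U hU) (DirectSum.decompose (𝒯.deg U hU) a' d) =
      DirectSum.decompose (𝒮.deg U hU) ((RelProj.gradedHomAt v hv U hU) a') d :=
    GradedRingHom.map_directSumDecompose ..
  exact h1.trans ((congrArg (fun z => (DirectSum.decompose (𝒮.deg U hU) z d : 𝒮.presheaf.obj (op U))) h).trans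
    (DirectSum.decompose_of_mem_same _ ha))

end Groth.Agent.EGAProj74.RLLift
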