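import Groth.Agent.EGAProj74.RLPsiImm

/-!
The criteria for `r_{L,ψ}` to be an immersion, an open immersion, a closed immersion.
-/

set_option autoImplicit false

universe u

open CategoryTheory CategoryTheory.Limits AlgebraicGeometry TopologicalSpace Opposite
open scoped HomogeneousIdeal

noncomputable section

namespace Groth.Agent.EGAProj74

/-- A property local on the target holds for `r` restricted to an open as soon as it holds on a cover of it. -/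
theorem restrict_iSup_of_forall {Q : MorphismProperty Scheme.{u}} [IsZariskiLocalAtTarget Q]
    {Z P : Scheme.{u}} (r : Z ⟶ P) {ι : Type*} (D : ι → P.Opens) (h : ∀ a, Q (r ∣_ D a)) : Q (r ∣_ (⨆ a, D a)) := by
  refine (IsZariskiLocalAtTarget.iff_of_iSup_eq_top (fun a => (⨆ a, D a).ι ⁻¹ᵁ D a) ?_).mpr fun a => ?_
  · rw [← Scheme.Hom.preimage_iSup]; exact Scheme.Opens.ι_preimage_self _
  · refine (MorphismProperty.arrow_mk_iso_iff Q (morphismRestrictRestrict r (⨆ a, D a) _ ≪≫ morphismRestrictEq r ?_)).mpr (h a)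
    rw [Scheme.Hom.image_preimage_eq_opensRange_inf, Scheme.Opens.opensRange_ι]
    exact inf_eq_right.mpr (le_iSup D a)

variable {X PL : Scheme.{u}} {L : X.Modules} (hL : PicF.IsInvertible L) (hLq : L.IsQuasicoherent)
  {𝒮L : RelProj.QCGrAlg X} {j : L ⟶ 𝒮L.toModule} (hj : RelProj.IsGrSymAlg L 𝒮L j)
  {pL : PL ⟶ X}
  {chartL : ∀ (U : X.Opens) (hU : IsAffineOpen U), (((pL ⁻¹ᵁ U : PL.Opens) : Scheme.{u}) ≅ Proj (𝒮L.deg U hU))}
  (hPL : RelProj.IsRelProj 𝒮L pL chartL)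
  {Y : Scheme.{u}} {q : X ⟶ Y} {𝒮 : RelProj.QCGrAlg Y} {u : RelProj.QGrHom q 𝒮 𝒮L}
  {P : Scheme.{u}} {p : P ⟶ Y}
  {chart : ∀ (U : Y.Opens) (hU : IsAffineOpen U), (((p ⁻¹ᵁ U : P.Opens) : Scheme.{u}) ≅ Proj (𝒮.deg U hU))}
  {r : (RelProj.domQ u pL chartL : Scheme.{u}) ⟶ P}
  (hr : RelProj.IsProjQMapOn u p chart pL chartL (RelProj.domQ u pL chartL) r)
  {hY : IsAffineOpen (⊤ : Y.Opens)}

/-- The piece `D₊(s)` of `P`. -/
abbrev piece (p : P ⟶ Y)
    (chart : ∀ (U : Y.Opens) (hU : IsAffineOpen U), (((p ⁻¹ᵁ U : P.Opens) : Scheme.{u}) ≅ Proj (𝒮.deg U hU)))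
    (hY : IsAffineOpen (⊤ : Y.Opens)) (s : 𝒮.presheaf.obj (op ⊤)) : P.Opens :=
  RelProj.emb p chart ⊤ hY ''ᵁ Proj.basicOpen (𝒮.deg ⊤ hY) s

/-- Condition (iii). -/
abbrev CondGen (u : RelProj.QGrHom q 𝒮 𝒮L) (hY : IsAffineOpen (⊤ : Y.Opens)) (n : ℕ) (s : 𝒮.presheaf.obj (op ⊤))
    (W : X.Opens) : Prop :=
  ∀ t : X.presheaf.obj (op W), ∃ (m : ℕ) (_ : 0 < m) (s' : 𝒮.presheaf.obj (op ⊤)) (_ : s' ∈ 𝒮.deg ⊤ hY (m * n)),
    (𝒮L.str.app (op W)).hom t * ((u.appLE ⊤ W (le_top.trans (Scheme.Hom.preimage_top q).ge)).hom s) ^ m =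
      (u.appLE ⊤ W (le_top.trans (Scheme.Hom.preimage_top q).ge)).hom s'

/-- Condition (iv). -/
abbrev CondKer (u : RelProj.QGrHom q 𝒮 𝒮L) (hY : IsAffineOpen (⊤ : Y.Opens)) (n : ℕ) (s : 𝒮.presheaf.obj (op ⊤))
    (W : X.Opens) : Prop :=
  ∀ (m : ℕ), 0 < m → ∀ s' ∈ 𝒮.deg ⊤ hY (m * n),
    (u.appLE ⊤ W (le_top.trans (Scheme.Hom.preimage_top q).ge)).hom s' = 0 → ∃ (k : ℕ), 0 < k ∧ s ^ k * s' = 0

include hL hLq hj hPL hr

theorem isClosedImmersion_piece_iff {n : ℕ} (hn : 0 < n) {s : 𝒮.presheaf.obj (op ⊤)} (hs : s ∈ 𝒮.deg ⊤ hY n) :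
    IsClosedImmersion (r ∣_ piece p chart hY s) ↔
      IsAffineOpen (nonVanish u n s) ∧ CondGen u hY n s (nonVanish u n s) := by
  have := isIso_pL hL hLq hj hPL
  constructor
  · intro h
    have hD : IsAffineOpen (piece p chart hY s) := by
      refine IsAffineOpen.image_of_isOpenImmersion ?_ _
      rw [← Proj.opensRange_awayι (𝒮.deg ⊤ hY) s hs hn]
      exact isAffineOpen_opensRange _
    have : IsAffine ↑(piece p chart hY s) := hD
    have h1 : IsAffineOpen (r ⁻¹ᵁ piece p chart hY s) := isAffine_of_isAffineHom (r ∣_ piece p chart hY s)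
    have h2 : IsAffineOpen ((RelProj.domQ u pL chartL).ι ''ᵁ (r ⁻¹ᵁ piece p chart hY s)) :=
      h1.image_of_isOpenImmersion _
    rw [image_preimage_basicOpen_eq hL hLq hj hPL hn hs hr] at h2
    have hW : IsAffineOpen (nonVanish u n s) := by
      have h3 := h2.image_of_isOpenImmersion pL
      rwa [Scheme.Hom.image_preimage_eq_opensRange_inf, Scheme.Hom.opensRange_of_isIso, top_inf_eq] at h3
    obtain ⟨e⟩ := nonempty_restrict_iso hL hLq hj hPL hr hn hs hW rfl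
    refine ⟨hW, (surjective_pieceMap_iff hL hLq hj hPL hn hs hW rfl).mp ?_⟩
    exact (isClosedImmersion_specMap_iff _).mp ((MorphismProperty.arrow_mk_iso_iff @IsClosedImmersion e).mp h)
  · rintro ⟨hW, hgen⟩
    obtain ⟨e⟩ := nonempty_restrict_iso hL hLq hj hPL hr hn hs hW rfl
    refine (MorphismProperty.arrow_mk_iso_iff @IsClosedImmersion e).mpr ((isClosedImmersion_specMap_iff _).mpr ?_)
    exact (surjective_pieceMap_iff hL hLq hj hPL hn hs hW rfl).mpr hgen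

theorem isIso_piece_iff {n : ℕ} (hn : 0 < n) {s : 𝒮.presheaf.obj (op ⊤)} (hs : s ∈ 𝒮.deg ⊤ hY n) :
    IsIso (r ∣_ piece p chart hY s) ↔
      (IsAffineOpen (nonVanish u n s) ∧ CondGen u hY n s (nonVanish u n s)) ∧ CondKer u hY n s (nonVanish u n s) := by
  constructor
  · intro h
    obtain ⟨hW, hgen⟩ := (isClosedImmersion_piece_iff hL hLq hj hPL hr hn hs).mp inferInstance
    obtain ⟨e⟩ := nonempty_restrict_iso hL hLq hj hPL hr hn hs hW rfl
    refine ⟨⟨hW, hgen⟩, (injective_pieceMap_iff hL hLq hj hPL hn hs hW rfl).mp ?_⟩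
    have := (MorphismProperty.arrow_mk_iso_iff (MorphismProperty.isomorphisms Scheme) e).mp h
    exact (@bijective_of_isIso_specMap _ _ _ this).1
  · rintro ⟨⟨hW, hgen⟩, hker⟩
    obtain ⟨e⟩ := nonempty_restrict_iso hL hLq hj hPL hr hn hs hW rfl
    refine (MorphismProperty.arrow_mk_iso_iff (MorphismProperty.isomorphisms Scheme) e).mpr
      (isIso_specMap_of_bijective _ ⟨?_, ?_⟩)
    · exact (injective_pieceMap_iff hL hLq hj hPL hn hs hW rfl).mpr hker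
    · exact (surjective_pieceMap_iff hL hLq hj hPL hn hs hW rfl).mpr hgen

theorem preimage_piece_eq_top {ι : Type*} {n : ι → ℕ} {s : ι → 𝒮.presheaf.obj (op ⊤)}
    (hns : ∀ a, 0 < n a ∧ s a ∈ 𝒮.deg ⊤ hY (n a)) (hcov : (⨆ a, nonVanish u (n a) (s a)) = ⊤) :
    RelProj.domQ u pL chartL = ⊤ ∧ r ⁻¹ᵁ (⨆ a, piece p chart hY (s a)) = ⊤ := by
  have key : ∀ w : PL, ∃ a, w ∈ (RelProj.domQ u pL chartL).ι ''ᵁ (r ⁻¹ᵁ piece p chart hY (s a)) := fun w => by
    have : pL.base w ∈ (⨆ a, nonVanish u (n a) (s a)) := hcov ▸ Opens.mem_top _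
    obtain ⟨a, ha⟩ := Opens.mem_iSup.mp this
    refine ⟨a, ?_⟩
    rw [image_preimage_basicOpen_eq hL hLq hj hPL (hns a).1 (hns a).2 hr]
    exact ha
  refine ⟨top_le_iff.mp fun w _ => ?_, top_le_iff.mp fun z _ => ?_⟩
  · obtain ⟨a, z, -, hze⟩ := key w
    exact hze ▸ z.2
  · obtain ⟨a, z', hz', he⟩ := key ((RelProj.domQ u pL chartL).ι.base z)
    obtain rfl := (RelProj.domQ u pL chartL).ι.isOpenEmbedding.injective he
    exact Opens.mem_iSup.mpr ⟨a, hz'⟩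

omit hL hLq hj hPL hr in
theorem exists_piece_le {O : P.Opens} {x : P} (hx : x ∈ O) :
    ∃ (n : ℕ) (s : 𝒮.presheaf.obj (op ⊤)), 0 < n ∧ s ∈ 𝒮.deg ⊤ hY n ∧
      x ∈ piece p chart hY s ∧ piece p chart hY s ≤ O := by
  obtain ⟨y, rfl⟩ := exists_lift (chart := chart) x hY trivial
  obtain ⟨n, s, hn, hs, hys, hle⟩ := exists_basicOpen_le (O := RelProj.emb p chart ⊤ hY ⁻¹ᵁ O) hx
  refine ⟨n, s, hn, hs, ⟨y, hys, rfl⟩, ?_⟩
  rintro _ ⟨v, hv, rfl⟩
  exact hle hv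

theorem cover_nonVanish_eq_top (htop : RelProj.domQ u pL chartL = ⊤) {ι : Type*} {n : ι → ℕ}
    {s : ι → 𝒮.presheaf.obj (op ⊤)} (hns : ∀ a, 0 < n a ∧ s a ∈ 𝒮.deg ⊤ hY (n a))
    (hcov : r ⁻¹ᵁ (⨆ a, piece p chart hY (s a)) = ⊤) : (⨆ a, nonVanish u (n a) (s a)) = ⊤ := by
  have := isIso_pL hL hLq hj hPL
  refine top_le_iff.mp fun x _ => ?_
  obtain ⟨w, rfl⟩ := pL.surjective x
  let z : (RelProj.domQ u pL chartL : Scheme.{u}) := ⟨w, htop ▸ Opens.mem_top w⟩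
  have hz : z ∈ r ⁻¹ᵁ (⨆ a, piece p chart hY (s a)) := hcov ▸ Opens.mem_top z
  obtain ⟨a, ha⟩ := Opens.mem_iSup.mp hz
  have hw : w ∈ (RelProj.domQ u pL chartL).ι ''ᵁ (r ⁻¹ᵁ piece p chart hY (s a)) := ⟨z, ha, rfl⟩
  rw [image_preimage_basicOpen_eq hL hLq hj hPL (hns a).1 (hns a).2 hr] at hw
  exact Opens.mem_iSup.mpr ⟨a, hw⟩

omit hL hLq hj hPL hr in
/-- `r` factors through the restriction over an open containing its image. -/
theorem restrict_factor {O : P.Opens} (h : r ⁻¹ᵁ O = ⊤) :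
    ∃ c, IsIso c ∧ r = c ≫ (r ∣_ O) ≫ O.ι := by
  refine ⟨(Scheme.topIso _).inv ≫ (Scheme.isoOfEq _ h.symm).hom, inferInstance, ?_⟩
  rw [morphismRestrict_ι]
  simp

theorem isImmersion_iff_exists :
    (RelProj.domQ u pL chartL = ⊤ ∧ IsImmersion r) ↔
      ∃ (ι : Type u) (n : ι → ℕ) (s : ι → 𝒮.presheaf.obj (op ⊤)) (XT : ι → X.Opens),
        (∀ a, 0 < n a ∧ s a ∈ 𝒮.deg ⊤ hY (n a)) ∧ (∀ a, XT a = nonVanish u (n a) (s a)) ∧
        (⨆ a, XT a) = ⊤ ∧ (∀ a, IsAffineOpen (XT a)) ∧ ∀ a, CondGen u hY (n a) (s a) (XT a) := by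
  constructor
  · rintro ⟨htop, himm⟩
    let O := r.coborderRange
    have hO : IsClosedImmersion (r ∣_ O) := by
      refine (MorphismProperty.arrow_mk_iso_iff @IsClosedImmersion ?_).mp (inferInstance : IsClosedImmersion r.liftCoborder)
      have hpre : r ⁻¹ᵁ O = ⊤ := top_le_iff.mp fun z _ => by
        change r.base z ∈ O
        rw [← congr($(r.liftCoborder_ι).base z)]
        exact (r.liftCoborder.base z).2
      refine Arrow.isoMk ((Scheme.topIso _).symm ≪≫ Scheme.isoOfEq _ hpre.symm) (Iso.refl _) ?_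
      rw [← cancel_mono O.ι]
      simp [O]
    let ι := {a : ℕ × 𝒮.presheaf.obj (op ⊤) // 0 < a.1 ∧ a.2 ∈ 𝒮.deg ⊤ hY a.1 ∧ piece p chart hY a.2 ≤ O}
    have hc : ∀ a : ι, IsClosedImmersion (r ∣_ piece p chart hY a.1.2) := fun a => by
      refine (MorphismProperty.arrow_mk_iso_iff @IsClosedImmersion
        (morphismRestrictRestrict r O (O.ι ⁻¹ᵁ piece p chart hY a.1.2) ≪≫ morphismRestrictEq r ?_)).mp
        (IsZariskiLocalAtTarget.restrict hO _)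
      rw [Scheme.Hom.image_preimage_eq_opensRange_inf, Scheme.Opens.opensRange_ι]
      exact inf_eq_right.mpr a.2.2.2
    refine ⟨ι, fun a => a.1.1, fun a => a.1.2, fun a => nonVanish u a.1.1 a.1.2, fun a => ⟨a.2.1, a.2.2.1⟩,
      fun a => rfl, cover_nonVanish_eq_top hL hLq hj hPL hr htop (fun a : ι => ⟨a.2.1, a.2.2.1⟩)
        (top_le_iff.mp fun z _ => ?_),
      fun a => ((isClosedImmersion_piece_iff hL hLq hj hPL hr a.2.1 a.2.2.1).mp (hc a)).1,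
      fun a => ((isClosedImmersion_piece_iff hL hLq hj hPL hr a.2.1 a.2.2.1).mp (hc a)).2⟩
    have hzO : r.base z ∈ O := by
      rw [← congr($(r.liftCoborder_ι).base z)]
      exact (r.liftCoborder.base z).2
    obtain ⟨n, s, hn, hs, hzs, hle⟩ := exists_piece_le (chart := chart) (hY := hY) hzO
    exact Opens.mem_iSup.mpr ⟨⟨(n, s), hn, hs, hle⟩, hzs⟩
  · rintro ⟨ι, n, s, XT, hns, hXT, hcov, haff, hgen⟩
    obtain rfl : XT = fun a => nonVanish u (n a) (s a) := funext hXT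
    obtain ⟨htop, hpre⟩ := preimage_piece_eq_top hL hLq hj hPL hr hns hcov
    have := restrict_iSup_of_forall (Q := @IsClosedImmersion) r (fun a => piece p chart hY (s a)) fun a =>
      (isClosedImmersion_piece_iff hL hLq hj hPL hr (hns a).1 (hns a).2).mpr ⟨haff a, hgen a⟩
    obtain ⟨c, hc, hfac⟩ := restrict_factor (r := r) hpre
    exact ⟨htop, by rw [hfac]; infer_instance⟩

theorem isOpenImmersion_iff_exists :
    (RelProj.domQ u pL chartL = ⊤ ∧ IsOpenImmersion r) ↔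
      ∃ (ι : Type u) (n : ι → ℕ) (s : ι → 𝒮.presheaf.obj (op ⊤)) (XT : ι → X.Opens),
        (∀ a, 0 < n a ∧ s a ∈ 𝒮.deg ⊤ hY (n a)) ∧ (∀ a, XT a = nonVanish u (n a) (s a)) ∧
        (⨆ a, XT a) = ⊤ ∧ (∀ a, IsAffineOpen (XT a)) ∧ (∀ a, CondGen u hY (n a) (s a) (XT a)) ∧
        ∀ a, CondKer u hY (n a) (s a) (XT a) := by
  constructor
  · rintro ⟨htop, himm⟩
    let ι := {a : ℕ × 𝒮.presheaf.obj (op ⊤) // 0 < a.1 ∧ a.2 ∈ 𝒮.deg ⊤ hY a.1 ∧ piece p chart hY a.2 ≤ r.opensRange}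
    have hc : ∀ a : ι, IsIso (r ∣_ piece p chart hY a.1.2) := fun a => by
      refine (isIso_iff_isOpenImmersion_and_epi_base _).mpr ⟨inferInstance, ?_⟩
      rw [TopCat.epi_iff_surjective]
      intro x
      obtain ⟨z, hz⟩ := a.2.2.2 x.2
      exact ⟨⟨z, show r.base z ∈ _ from hz ▸ x.2⟩, Subtype.ext ((congr($(morphismRestrict_ι r _).base _)).trans hz)⟩
    refine ⟨ι, fun a => a.1.1, fun a => a.1.2, fun a => nonVanish u a.1.1 a.1.2, fun a => ⟨a.2.1, a.2.2.1⟩,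
      fun a => rfl, cover_nonVanish_eq_top hL hLq hj hPL hr htop (fun a : ι => ⟨a.2.1, a.2.2.1⟩)
        (top_le_iff.mp fun z _ => ?_),
      fun a => ((isIso_piece_iff hL hLq hj hPL hr a.2.1 a.2.2.1).mp (hc a)).1.1,
      fun a => ((isIso_piece_iff hL hLq hj hPL hr a.2.1 a.2.2.1).mp (hc a)).1.2,
      fun a => ((isIso_piece_iff hL hLq hj hPL hr a.2.1 a.2.2.1).mp (hc a)).2⟩
    obtain ⟨n, s, hn, hs, hzs, hle⟩ := exists_piece_le (chart := chart) (hY := hY) (O := r.opensRange) (x := r.base z) ⟨z, rfl⟩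
    exact Opens.mem_iSup.mpr ⟨⟨(n, s), hn, hs, hle⟩, hzs⟩
  · rintro ⟨ι, n, s, XT, hns, hXT, hcov, haff, hgen, hker⟩
    obtain rfl : XT = fun a => nonVanish u (n a) (s a) := funext hXT
    obtain ⟨htop, hpre⟩ := preimage_piece_eq_top hL hLq hj hPL hr hns hcov
    have : IsIso (r ∣_ (⨆ a, piece p chart hY (s a))) :=
      restrict_iSup_of_forall (Q := MorphismProperty.isomorphisms Scheme) r (fun a => piece p chart hY (s a)) fun a =>
        (isIso_piece_iff hL hLq hj hPL hr (hns a).1 (hns a).2).mpr ⟨⟨haff a, hgen a⟩, hker a⟩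
    obtain ⟨c, hc, hfac⟩ := restrict_factor (r := r) hpre
    exact ⟨htop, by rw [hfac]; infer_instance⟩

theorem isClosedImmersion_iff_exists :
    (RelProj.domQ u pL chartL = ⊤ ∧ IsClosedImmersion r) ↔
      ∃ (ι : Type u) (n : ι → ℕ) (s : ι → 𝒮.presheaf.obj (op ⊤)) (XT : ι → X.Opens),
        (∀ a, 0 < n a ∧ s a ∈ 𝒮.deg ⊤ hY (n a)) ∧ (∀ a, XT a = nonVanish u (n a) (s a)) ∧
        (⨆ a, XT a) = ⊤ ∧ (∀ a, IsAffineOpen (XT a)) ∧ (∀ a, CondGen u hY (n a) (s a) (XT a)) ∧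
        (⨆ a, Proj.basicOpen (𝒮.deg ⊤ hY) (s a)) = ⊤ := by
  constructor
  · rintro ⟨htop, himm⟩
    let ι := {a : ℕ × 𝒮.presheaf.obj (op ⊤) // 0 < a.1 ∧ a.2 ∈ 𝒮.deg ⊤ hY a.1}
    have hc : ∀ a : ι, IsClosedImmersion (r ∣_ piece p chart hY a.1.2) := fun a =>
      IsZariskiLocalAtTarget.restrict himm _
    refine ⟨ι, fun a => a.1.1, fun a => a.1.2, fun a => nonVanish u a.1.1 a.1.2, fun a => a.2,
      fun a => rfl, cover_nonVanish_eq_top hL hLq hj hPL hr htop (fun a : ι => a.2)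
        (top_le_iff.mp fun z _ => ?_),
      fun a => ((isClosedImmersion_piece_iff hL hLq hj hPL hr a.2.1 a.2.2).mp (hc a)).1,
      fun a => ((isClosedImmersion_piece_iff hL hLq hj hPL hr a.2.1 a.2.2).mp (hc a)).2,
      top_le_iff.mp fun y _ => ?_⟩
    · obtain ⟨n, s, hn, hs, hzs, -⟩ := exists_piece_le (chart := chart) (hY := hY) (O := ⊤) (x := r.base z) trivial
      exact Opens.mem_iSup.mpr ⟨⟨(n, s), hn, hs⟩, hzs⟩
    · obtain ⟨n, s, hn, hs, hys⟩ := exists_pos_notMem y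
      exact Opens.mem_iSup.mpr ⟨⟨(n, s), hn, hs⟩, hys⟩
  · rintro ⟨ι, n, s, XT, hns, hXT, hcov, haff, hgen, hall⟩
    obtain rfl : XT = fun a => nonVanish u (n a) (s a) := funext hXT
    obtain ⟨htop, -⟩ := preimage_piece_eq_top hL hLq hj hPL hr hns hcov
    refine ⟨htop, (IsZariskiLocalAtTarget.iff_of_iSup_eq_top (fun a => piece p chart hY (s a))
      (top_le_iff.mp fun x _ => ?_)).mpr fun a =>
        (isClosedImmersion_piece_iff hL hLq hj hPL hr (hns a).1 (hns a).2).mpr ⟨haff a, hgen a⟩⟩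
    obtain ⟨y, rfl⟩ := exists_lift (chart := chart) x hY trivial
    obtain ⟨a, ha⟩ := Opens.mem_iSup.mp (show y ∈ ⨆ a, Proj.basicOpen (𝒮.deg ⊤ hY) (s a) from hall ▸ Opens.mem_top y)
    exact Opens.mem_iSup.mpr ⟨a, y, ha, rfl⟩

end Groth.Agent.EGAProj74
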