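import Mathlib

/-!
Immersions between spectra in terms of rings.
-/

set_option autoImplicit false

universe u

open CategoryTheory AlgebraicGeometry

namespace Groth.Agent.EGAProj74

theorem isClosedImmersion_specMap_iff {R S : CommRingCat.{u}} (f : R ⟶ S) :
    IsClosedImmersion (Spec.map f) ↔ Function.Surjective f.hom := by
  refine ⟨fun h => ?_, IsClosedImmersion.spec_of_surjective f⟩
  have h2 := (IsClosedImmersion.isAffine_surjective_of_isAffine (Spec.map f)).2
  intro s
  obtain ⟨r, hr⟩ := h2 ((Scheme.ΓSpecIso S).inv s)
  refine ⟨(Scheme.ΓSpecIso R).hom r, ?_⟩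
  have e := congr($(Scheme.ΓSpecIso_naturality f) r)
  simp only [CommRingCat.hom_comp, RingHom.comp_apply, ConcreteCategory.comp_apply] at e
  refine e.symm.trans ?_
  rw [hr]
  exact congr($((Scheme.ΓSpecIso S).inv_hom_id) s)

theorem bijective_of_isIso_specMap {R S : CommRingCat.{u}} (f : R ⟶ S) [IsIso (Spec.map f)] :
    Function.Bijective f.hom := by
  have : IsIso f := by
    have : IsIso (Scheme.Spec.map f.op) := ‹_›
    have := isIso_of_fully_faithful Scheme.Spec f.op
    exact isIso_of_op f
  exact ConcreteCategory.bijective_of_isIso f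

theorem isIso_specMap_of_bijective {R S : CommRingCat.{u}} (f : R ⟶ S) (h : Function.Bijective f.hom) :
    IsIso (Spec.map f) := by
  have := (ConcreteCategory.isIso_iff_bijective f).mpr h
  infer_instance

end Groth.Agent.EGAProj74
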