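import Groth.Agent.EGAProj74.RLPsi
import Groth.Agent.EGAProj74.SpecImm

/-!
When `r_{L,ψ}` over an affine base is an immersion, open or closed.
-/

set_option autoImplicit false

universe u

open CategoryTheory CategoryTheory.Limits AlgebraicGeometry TopologicalSpace Opposite
open HomogeneousLocalization
open scoped HomogeneousIdeal

noncomputable section

namespace Groth.Agent.EGAProj74

variable {X PL : Scheme.{u}} {L : X.Modules} (hL : PicF.IsInvertible L) (hLq : L.IsQuasicoherent)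
  {𝒮L : RelProj.QCGrAlg X} {j : L ⟶ 𝒮L.toModule} (hj : RelProj.IsGrSymAlg L 𝒮L j)
  {pL : PL ⟶ X}
  {chartL : ∀ (U : X.Opens) (hU : IsAffineOpen U), (((pL ⁻¹ᵁ U : PL.Opens) : Scheme.{u}) ≅ Proj (𝒮L.deg U hU))}
  (hPL : RelProj.IsRelProj 𝒮L pL chartL)
  {Y : Scheme.{u}} {q : X ⟶ Y} {𝒮 : RelProj.QCGrAlg Y} {u : RelProj.QGrHom q 𝒮 𝒮L}
  {P : Scheme.{u}} {p : P ⟶ Y}
  {chart : ∀ (U : Y.Opens) (hU : IsAffineOpen U), (((p ⁻¹ᵁ U : P.Opens) : Scheme.{u}) ≅ Proj (𝒮.deg U hU))}
  {r : (RelProj.domQ u pL chartL : Scheme.{u}) ⟶ P}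
  (hr : RelProj.IsProjQMapOn u p chart pL chartL (RelProj.domQ u pL chartL) r)
  {hY : IsAffineOpen (⊤ : Y.Opens)} {d : ℕ} (hd : 0 < d) {f : 𝒮.presheaf.obj (op ⊤)} (hf : f ∈ 𝒮.deg ⊤ hY d)
  {W : X.Opens} (hW : IsAffineOpen W) (heq : nonVanish u d f = W)

/-- The ring map of the piece. -/
abbrev pieceMap (u : RelProj.QGrHom q 𝒮 𝒮L) (hY : IsAffineOpen (⊤ : Y.Opens)) (f : 𝒮.presheaf.obj (op ⊤))
    {W : X.Opens} (hW : IsAffineOpen W) :
    Away (𝒮.deg ⊤ hY) f →+* Away (𝒮L.deg W hW) (u.gradedAt ⊤ hY W hW (le_preimage_top W) f) :=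
  Away.map (u.gradedAt ⊤ hY W hW (le_preimage_top W)) f

include hL hLq hj hPL hd hf heq

theorem mem_basicOpen_piece (y : Proj (𝒮L.deg W hW)) :
    y ∈ Proj.basicOpen (𝒮L.deg W hW) ((u.appLE ⊤ W (le_preimage_top W)).hom f) :=
  (mem_nonVanish_iff hL hLq hj hPL u hd hf hW y).mp (heq ▸ emb_mem W hW y)

include hr in
theorem nonempty_restrict_iso :
    Nonempty (Arrow.mk (r ∣_ (RelProj.emb p chart ⊤ hY ''ᵁ Proj.basicOpen (𝒮.deg ⊤ hY) f)) ≅
      Arrow.mk (Spec.map (CommRingCat.ofHom (pieceMap u hY f hW)))) := by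
  let g := Proj.awayι (𝒮.deg ⊤ hY) f hf hd ≫ RelProj.emb p chart ⊤ hY
  let φ := u.gradedAt ⊤ hY W hW (le_preimage_top W)
  let jj := domChart φ hd f hf ≫ qι u (p' := pL) (chart' := chartL) ⊤ hY W hW (le_preimage_top W)
  have hgD : g.opensRange = RelProj.emb p chart ⊤ hY ''ᵁ Proj.basicOpen (𝒮.deg ⊤ hY) f := by
    rw [Scheme.Hom.opensRange_comp, Proj.opensRange_awayι]
  have hw : Spec.map (CommRingCat.ofHom (pieceMap u hY f hW)) ≫ g = jj ≫ r := by
    simp only [jj, g, Category.assoc]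
    rw [(isProjQMapOn_iff u).mp hr ⊤ hY W hW (le_preimage_top W), domChart_domMap_assoc]
  have hpb : IsPullback (Spec.map (CommRingCat.ofHom (pieceMap u hY f hW))) jj g r := by
    refine IsOpenImmersion.isPullback _ _ _ _ hw.symm ?_
    rw [hgD]
    refine (RelProj.domQ u pL chartL).ι.image_injective ?_
    dsimp only
    rw [image_preimage_basicOpen_eq hL hLq hj hPL hd hf hr, heq, ← Scheme.Hom.opensRange_comp]
    have hj' : jj ≫ (RelProj.domQ u pL chartL).ι =
        Proj.awayι (𝒮L.deg W hW) (φ f) (φ.map_mem hf) hd ≫ RelProj.emb pL chartL W hW := by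
      simp only [jj, Category.assoc, qι_ι]
      exact (Category.assoc _ _ _).symm.trans (domChart_ι φ hd f hf =≫ _)
    refine Opens.ext (Set.ext fun z => ⟨fun hz => ?_, ?_⟩)
    · obtain ⟨y, rfl⟩ := exists_lift (chart := chartL) z hW hz
      obtain ⟨c, hc⟩ : y ∈ (Proj.awayι (𝒮L.deg W hW) (φ f) (φ.map_mem hf) hd).opensRange := by
        rw [Proj.opensRange_awayι]; exact mem_basicOpen_piece hL hLq hj hPL hd hf hW heq y
      refine ⟨c, ?_⟩
      rw [hj', Scheme.Hom.comp_base, TopCat.comp_app, hc]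
    · rintro ⟨c, rfl⟩
      rw [hj', Scheme.Hom.comp_base, TopCat.comp_app]
      exact emb_mem W hW _
  exact ⟨(morphismRestrictEq r hgD.symm ≪≫ morphismRestrictOpensRange r g) ≪≫
    (Arrow.isoMk (f := Arrow.mk (Spec.map (CommRingCat.ofHom (pieceMap u hY f hW)))) (g := Arrow.mk (pullback.snd r g)) hpb.flip.isoPullback (Iso.refl _) (by simp)).symm⟩

theorem bijective_toAway_piece :
    Function.Bijective ((HomogeneousLocalization.fromZeroRingHom (𝒮L.deg W hW)
      (Submonoid.powers (u.gradedAt ⊤ hY W hW (le_preimage_top W) f))).comp (𝒮L.strZero W hW).hom) := by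
  have := isIso_pL hL hLq hj hPL
  have := isIso_toBase hPL W hW
  let t := u.gradedAt ⊤ hY W hW (le_preimage_top W) f
  have htm : t ∈ 𝒮L.deg W hW d := (u.gradedAt ⊤ hY W hW (le_preimage_top W)).map_mem hf
  have : IsIso (Proj.awayι (𝒮L.deg W hW) t htm hd) := by
    refine (isIso_iff_isOpenImmersion_and_epi_base _).mpr ⟨inferInstance, ?_⟩
    rw [TopCat.epi_iff_surjective]
    intro y
    have : y ∈ (Proj.awayι (𝒮L.deg W hW) t htm hd).opensRange := by
      rw [Proj.opensRange_awayι]; exact mem_basicOpen_piece hL hLq hj hPL hd hf hW heq y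
    exact this
  have hh : Proj.awayι (𝒮L.deg W hW) t htm hd ≫ Proj.toSpecZero (𝒮L.deg W hW) ≫
      Spec.map (𝒮L.strZero W hW) = Spec.map (𝒮L.strZero W hW ≫
        CommRingCat.ofHom (HomogeneousLocalization.fromZeroRingHom (𝒮L.deg W hW) (Submonoid.powers t))) := by
    rw [Proj.awayι_toSpecZero_assoc, Spec.map_comp]
  have : IsIso (Spec.map (𝒮L.strZero W hW ≫
      CommRingCat.ofHom (HomogeneousLocalization.fromZeroRingHom (𝒮L.deg W hW) (Submonoid.powers t)))) := by
    rw [← hh]; infer_instance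
  exact @bijective_of_isIso_specMap _ _ (𝒮L.strZero W hW ≫
      CommRingCat.ofHom (HomogeneousLocalization.fromZeroRingHom (𝒮L.deg W hW) (Submonoid.powers t))) this

omit hL hLq hj hPL hd hf heq in
theorem val_toAway (t : X.presheaf.obj (op W)) :
    ((HomogeneousLocalization.fromZeroRingHom (𝒮L.deg W hW)
      (Submonoid.powers (u.gradedAt ⊤ hY W hW (le_preimage_top W) f))).comp (𝒮L.strZero W hW).hom t).val =
      Localization.mk ((𝒮L.str.app (op W)).hom t) 1 :=
  val_mk _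

theorem surjective_pieceMap_iff :
    Function.Surjective (pieceMap u hY f hW) ↔
      ∀ t : X.presheaf.obj (op W), ∃ (m : ℕ) (_ : 0 < m) (s' : 𝒮.presheaf.obj (op ⊤)) (_ : s' ∈ 𝒮.deg ⊤ hY (m * d)),
        (𝒮L.str.app (op W)).hom t * ((u.appLE ⊤ W (le_preimage_top W)).hom f) ^ m =
          (u.appLE ⊤ W (le_preimage_top W)).hom s' := by
  constructor
  · intro h t
    obtain ⟨x, hx⟩ := h ((HomogeneousLocalization.fromZeroRingHom (𝒮L.deg W hW)
      (Submonoid.powers (u.gradedAt ⊤ hY W hW (le_preimage_top W) f))).comp (𝒮L.strZero W hW).hom t)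
    obtain ⟨m, s, hs, rfl⟩ := Away.mk_surjective (𝒮.deg ⊤ hY) hf x
    have h1 := congrArg HomogeneousLocalization.val hx
    rw [val_toAway, pieceMap, Away.map_mk, Away.val_mk, Localization.mk_eq_mk_iff, Localization.r_iff_exists] at h1
    obtain ⟨⟨_, c, rfl⟩, hc⟩ := h1
    simp only [OneMemClass.coe_one, one_mul, RelProj.QGrHom.gradedAt_apply] at hc
    refine ⟨m + c + 1, by omega, s * f ^ (c + 1), ?_, ?_⟩
    · have := SetLike.mul_mem_graded (A := 𝒮.deg ⊤ hY) hs (SetLike.pow_mem_graded (c + 1) hf)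
      rw [smul_eq_mul, smul_eq_mul] at this
      convert this using 2
      ring
    · rw [map_mul, map_pow]
      linear_combination (exp := 1) (-((u.appLE ⊤ W (le_preimage_top W)).hom f)) * hc
  · intro h x
    obtain ⟨t, rfl⟩ := (bijective_toAway_piece hL hLq hj hPL hd hf hW heq).2 x
    obtain ⟨m, -, s, hs, he⟩ := h t
    refine ⟨Away.mk (𝒮.deg ⊤ hY) hf m s (by rwa [smul_eq_mul]), val_injective _ ?_⟩
    rw [val_toAway, pieceMap, Away.map_mk, Away.val_mk, Localization.mk_eq_mk_iff, Localization.r_iff_exists]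
    refine ⟨1, ?_⟩
    simp only [OneMemClass.coe_one, one_mul, RelProj.QGrHom.gradedAt_apply]
    linear_combination (exp := 1) -he

theorem injective_pieceMap_iff :
    Function.Injective (pieceMap u hY f hW) ↔
      ∀ (m : ℕ), 0 < m → ∀ s' ∈ 𝒮.deg ⊤ hY (m * d),
        (u.appLE ⊤ W (le_preimage_top W)).hom s' = 0 → ∃ (k : ℕ), 0 < k ∧ f ^ k * s' = 0 := by
  rw [injective_iff_map_eq_zero]
  constructor
  · intro h m _ s hs hs0
    have h0 := h (Away.mk (𝒮.deg ⊤ hY) hf m s (by rwa [smul_eq_mul])) (val_injective _ (by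
      rw [pieceMap, Away.map_mk, Away.val_mk, val_zero]
      simp only [RelProj.QGrHom.gradedAt_apply, hs0, Localization.mk_zero]
      rfl))
    have h1 := congrArg HomogeneousLocalization.val h0
    rw [Away.val_mk, val_zero, ← Localization.mk_zero 1, Localization.mk_eq_mk_iff, Localization.r_iff_exists] at h1
    obtain ⟨⟨_, c, rfl⟩, hc⟩ := h1
    simp only [OneMemClass.coe_one, one_mul, mul_zero] at hc
    exact ⟨c + 1, c.succ_pos, by rw [pow_succ, mul_assoc, mul_left_comm, hc, mul_zero]⟩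
  · intro h x hx
    obtain ⟨m, s, hs, rfl⟩ := Away.mk_surjective (𝒮.deg ⊤ hY) hf x
    have h1 := congrArg HomogeneousLocalization.val hx
    rw [pieceMap, Away.map_mk, Away.val_mk, val_zero, ← Localization.mk_zero 1, Localization.mk_eq_mk_iff,
      Localization.r_iff_exists] at h1
    obtain ⟨⟨_, c, rfl⟩, hc⟩ := h1
    simp only [OneMemClass.coe_one, one_mul, mul_zero, RelProj.QGrHom.gradedAt_apply] at hc
    obtain ⟨k, -, hk⟩ := h (m + c + 1) (by omega) (s * f ^ (c + 1)) (by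
      have := SetLike.mul_mem_graded (A := 𝒮.deg ⊤ hY) hs (SetLike.pow_mem_graded (c + 1) hf)
      rw [smul_eq_mul, smul_eq_mul] at this
      convert this using 2
      ring) (by rw [map_mul, map_pow, pow_succ, ← mul_assoc, mul_comm ((u.appLE ⊤ W _).hom s), hc, zero_mul])
    refine val_injective _ ?_
    rw [Away.val_mk, val_zero, ← Localization.mk_zero 1, Localization.mk_eq_mk_iff, Localization.r_iff_exists]
    refine ⟨⟨f ^ (k + c + 1), _, rfl⟩, ?_⟩
    simp only [OneMemClass.coe_one, one_mul, mul_zero]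
    linear_combination (exp := 1) hk

end Groth.Agent.EGAProj74
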