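import Groth.Agent.EGAProj74.RelTwistTriv
import Groth.Agent.EGAProj74.QMapPre
import Groth.Agent.Amp73.Gen

/-!
The sections `a / b` of a twisting sheaf of a relative `Proj`.
-/

set_option autoImplicit false
set_option backward.isDefEq.respectTransparency.types false

universe u

open CategoryTheory CategoryTheory.Limits AlgebraicGeometry TopologicalSpace Opposite
open scoped HomogeneousIdeal

noncomputable section

namespace Groth.Agent.EGAProj74.TwistFrac

open Groth.Agent.EGAProj74 Groth.Agent.Var76.LineBundle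

section graded

variable {A σ : Type u} [CommRing A] [SetLike σ A] [AddSubgroupClass σ A] {𝒜 : ℕ → σ} [GradedRing 𝒜]
  {n k : ℕ} {a b : A} (ha : a ∈ 𝒜 (n + k)) (hb : b ∈ 𝒜 k)

theorem left_notMem {x : ProjectiveSpectrum 𝒜} (hx : a * b ∉ x.asHomogeneousIdeal) : a ∉ x.asHomogeneousIdeal :=
  fun h => hx (x.asHomogeneousIdeal.toIdeal.mul_mem_right b h)

theorem right_notMem {x : ProjectiveSpectrum 𝒜} (hx : a * b ∉ x.asHomogeneousIdeal) : b ∉ x.asHomogeneousIdeal :=
  fun h => hx (x.asHomogeneousIdeal.toIdeal.mul_mem_left a h)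

/-- `a / b` as a unit of `O(n)` on `D(ab)`. -/
def unit : GrT.TwistUnit (𝒜 := 𝒜) (n : ℤ) (ProjectiveSpectrum.basicOpen 𝒜 (a * b)) where
  fwd := GrT.ofTildeFun _ _ (GrT.fracSect ha hb (fun x => right_notMem x.2) (by push_cast; ring))
  bwd := GrT.ofTildeFun _ _ (GrT.fracSect hb ha (fun x => left_notMem x.2) (by push_cast; ring))
  mul_eq x := by
    show Localization.mk _ _ * Localization.mk _ _ = 1
    rw [Localization.mk_mul, ← Localization.mk_self (1 : x.1.asHomogeneousIdeal.toIdeal.primeCompl),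
      Localization.mk_eq_mk_iff, Localization.r_iff_exists]
    exact ⟨1, by simp [mul_comm]⟩

theorem unit_val (x : ProjectiveSpectrum.basicOpen 𝒜 (a * b)) :
    ((unit ha hb).fwd.1 x).1 = Localization.mk a ⟨b, right_notMem x.2⟩ := rfl

end graded

variable {Y P : Scheme.{u}} {𝒮 : RelProj.QCGrAlg Y} {p : P ⟶ Y}
  {chart : ∀ (U : Y.Opens) (hU : IsAffineOpen U), (((p ⁻¹ᵁ U : P.Opens) : Scheme.{u}) ≅ Proj (𝒮.deg U hU))}
  {n : ℕ} {On : P.Modules}
  {lam : ∀ (U : Y.Opens) (hU : IsAffineOpen U),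
    On ⟶ (Scheme.Modules.pushforward (RelProj.emb p chart U hU)).obj (GrTwist.twist (𝒮.deg U hU) (n : ℤ))}

/-- The value of `g` at a point of a chart. -/
abbrev valAt (lam : ∀ (U : Y.Opens) (hU : IsAffineOpen U),
    On ⟶ (Scheme.Modules.pushforward (RelProj.emb p chart U hU)).obj (GrTwist.twist (𝒮.deg U hU) (n : ℤ)))
    {U : Y.Opens} (hU : IsAffineOpen U) {W : P.Opens} (g : Γ(On, W)) (y : Proj (𝒮.deg U hU))
    (hy : (RelProj.emb p chart U hU).base y ∈ W) : GrTwist.Loc (𝒮.deg U hU) y :=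
  GrTwist.val (V := RelProj.emb p chart U hU ⁻¹ᵁ W) ((lam U hU).app W g) ⟨y, hy⟩

theorem valAt_res {U : Y.Opens} (hU : IsAffineOpen U) {W W' : P.Opens} (i : W' ≤ W) (g : Γ(On, W))
    (y : Proj (𝒮.deg U hU)) (hy : (RelProj.emb p chart U hU).base y ∈ W') :
    valAt lam hU (res On i g) y hy = valAt lam hU g y (i hy) := by
  show GrTwist.val (V := RelProj.emb p chart U hU ⁻¹ᵁ W') ((lam U hU).app W' (res On i g)) ⟨y, hy⟩ = _
  rw [show (lam U hU).app W' (res On i g) =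
    res ((Scheme.Modules.pushforward (RelProj.emb p chart U hU)).obj (GrTwist.twist (𝒮.deg U hU) (n : ℤ))) i
      ((lam U hU).app W g) from Mero90.app_res (lam U hU) i g]
  rfl

variable (hL : RelProj.IsRelTwist 𝒮 p chart (n : ℤ) On lam)

include hL

/-- There is a frame `a / b` of `O(n)` on the piece `D(ab)`. -/
theorem exists_frame {U : Y.Opens} (hU : IsAffineOpen U) {k : ℕ} {a b : 𝒮.presheaf.obj (op U)}
    (ha : a ∈ 𝒮.deg U hU (n + k)) (hb : b ∈ 𝒮.deg U hU k) :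
    ∃ g : Γ(On, RelProj.emb p chart U hU ''ᵁ Proj.basicOpen (𝒮.deg U hU) (a * b)),
      IsFrame On _ g ∧
      ∀ (y : Proj (𝒮.deg U hU)) (hy : y ∈ Proj.basicOpen (𝒮.deg U hU) (a * b)),
        valAt lam hU g y ⟨y, hy, rfl⟩ = Localization.mk a ⟨b, right_notMem hy⟩ := by
  let e := RelProj.emb p chart U hU
  let D := Proj.basicOpen (𝒮.deg U hU) (a * b)
  have hOU : e ''ᵁ D ≤ p ⁻¹ᵁ U := (e.image_le_opensRange D).trans_eq (opensRange_emb U hU)
  have hpre : e ⁻¹ᵁ (e ''ᵁ D) ≤ D := (e.preimage_image_eq D).le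
  obtain ⟨g, hg⟩ := (hL.bijective U hU _ hOU).surjective ((unit ha hb).res hpre).fwd
  have hval : ∀ (y : Proj (𝒮.deg U hU)) (hy : y ∈ D),
      valAt lam hU g y ⟨y, hy, rfl⟩ = Localization.mk a ⟨b, right_notMem hy⟩ := fun y hy =>
    congrArg (fun q => GrTwist.val (V := e ⁻¹ᵁ (e ''ᵁ D)) q ⟨y, ⟨y, hy, rfl⟩⟩) hg
  refine ⟨g, fun V hV => bijective_smul_of_unit hL hU (unit ha hb) (hV.trans hOU) (fun y hy => hpre (hV hy))
    (res On hV g) fun y => ?_, hval⟩
  exact (valAt_res hU hV g y.1 y.2).trans (hval y.1 (hpre (hV y.2)))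

/-- Sections with the same values agree. -/
theorem valAt_ext {U : Y.Opens} (hU : IsAffineOpen U) {W : P.Opens} (hW : W ≤ p ⁻¹ᵁ U) {g g' : Γ(On, W)}
    (h : ∀ (y : Proj (𝒮.deg U hU)) (hy : (RelProj.emb p chart U hU).base y ∈ W),
      valAt lam hU g y hy = valAt lam hU g' y hy) : g = g' :=
  (hL.bijective U hU W hW).1 (Subtype.ext (funext fun y => Subtype.ext (h y.1 y.2)))

omit hL in
/-- The values of a multiple. -/
theorem valAt_smul {U : Y.Opens} (hU : IsAffineOpen U) {W : P.Opens} (c : Γ(P, W)) (g : Γ(On, W))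
    (y : Proj (𝒮.deg U hU)) (hy : (RelProj.emb p chart U hU).base y ∈ W) :
    valAt lam hU (c • g) y hy =
      (((RelProj.emb p chart U hU).app W c).1 ⟨y, hy⟩).val * valAt lam hU g y hy := by
  show GrTwist.val (V := RelProj.emb p chart U hU ⁻¹ᵁ W) _ _ = _
  rw [Scheme.Modules.Hom.app_smul]
  exact GrTwist.coe_smul_val _ _ _ _

variable (hP : RelProj.IsRelProj 𝒮 p chart)

include hP

/-- The values over a basic open. -/
theorem valAt_basicOpen {U : Y.Opens} (hU : IsAffineOpen U) (r : Γ(Y, U)) {U' : Y.Opens} (hU' : IsAffineOpen U')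
    (hr : U' = Y.basicOpen r) {a b : 𝒮.presheaf.obj (op U)} {W : P.Opens} (g : Γ(On, W))
    (hW : W ≤ RelProj.emb p chart U hU ''ᵁ Proj.basicOpen (𝒮.deg U hU) (a * b))
    (hg : ∀ (y : Proj (𝒮.deg U hU)) (hy : (RelProj.emb p chart U hU).base y ∈ W)
      (hb : b ∉ y.asHomogeneousIdeal), valAt lam hU g y hy = Localization.mk a ⟨b, hb⟩)
    (y : Proj (𝒮.deg U' hU')) (hy : (RelProj.emb p chart U' hU').base y ∈ W) :
    ∃ hb : (𝒮.presheaf.map (homOfLE (hr.le.trans (Y.basicOpen_le r))).op).hom b ∉ y.asHomogeneousIdeal,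
      valAt lam hU' g y hy = Localization.mk
        ((𝒮.presheaf.map (homOfLE (hr.le.trans (Y.basicOpen_le r))).op).hom a) ⟨_, hb⟩ := by
  subst hr
  let y₀ : Proj (𝒮.deg U hU) := ProjectiveSpectrum.comap (𝒮.res hU (hU.basicOpen r) (Y.basicOpen_le r))
    (𝒮.irrelevant_le_map U hU r) y
  have he : (RelProj.emb p chart (Y.basicOpen r) hU').base y = (RelProj.emb p chart U hU).base y₀ :=
    (congr($(RelProj.map_res_emb hP U hU r).base y)).symm
  have hy' : (RelProj.emb p chart U hU).base y₀ ∈ W := he ▸ hy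
  have hy₀ : y₀ ∈ Proj.basicOpen (𝒮.deg U hU) (a * b) := by
    obtain ⟨v, hv, hve⟩ := hW hy'
    exact (RelProj.emb p chart U hU).isOpenEmbedding.injective hve ▸ hv
  refine ⟨right_notMem (x := y₀) hy₀, (hL.compat U hU r W g y hy hy').trans ?_⟩
  refine (congrArg (GrTwist.locMap _ _ y) (hg y₀ hy' (right_notMem hy₀))).trans ?_
  exact GrTwist.locMap_mk _ _ _ _ _

/-- The values over a basic open of a restricted ratio. -/
theorem valAt_res_basicOpen {U : Y.Opens} (hU : IsAffineOpen U) (r : Γ(Y, U)) {U' : Y.Opens} (hU' : IsAffineOpen U')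
    (hr : U' = Y.basicOpen r) {a b : 𝒮.presheaf.obj (op U)}
    (g : Γ(On, RelProj.emb p chart U hU ''ᵁ Proj.basicOpen (𝒮.deg U hU) (a * b)))
    (hg : ∀ (y : Proj (𝒮.deg U hU)) (hy : y ∈ Proj.basicOpen (𝒮.deg U hU) (a * b)),
      valAt lam hU g y ⟨y, hy, rfl⟩ = Localization.mk a ⟨b, right_notMem hy⟩)
    (W : P.Opens) (hW : W ≤ RelProj.emb p chart U hU ''ᵁ Proj.basicOpen (𝒮.deg U hU) (a * b))
    (y : Proj (𝒮.deg U' hU')) (hy : (RelProj.emb p chart U' hU').base y ∈ W) :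
    ∃ hb : (𝒮.presheaf.map (homOfLE (hr.le.trans (Y.basicOpen_le r))).op).hom b ∉ y.asHomogeneousIdeal,
      valAt lam hU' (res On hW g) y hy = Localization.mk
        ((𝒮.presheaf.map (homOfLE (hr.le.trans (Y.basicOpen_le r))).op).hom a) ⟨_, hb⟩ := by
  refine valAt_basicOpen hL hP hU r hU' hr (res On hW g) hW (fun y₀ h₀ hb₀ => ?_) y hy
  have hm : y₀ ∈ Proj.basicOpen (𝒮.deg U hU) (a * b) := by
    obtain ⟨v, hv, hve⟩ := hW h₀
    exact (RelProj.emb p chart U hU).isOpenEmbedding.injective hve ▸ hv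
  exact (valAt_res hU hW g y₀ h₀).trans (hg y₀ hm)

end Groth.Agent.EGAProj74.TwistFrac
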