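import Groth.Agent.EGAProj74.RLPull
import Groth.Agent.EGAProj74.TwistFrac

/-!
The inverse image of a twisting sheaf under `r_{L,σ}` is a power of `L`.
-/

set_option autoImplicit false
set_option backward.isDefEq.respectTransparency.types false

universe u

open CategoryTheory CategoryTheory.Limits AlgebraicGeometry TopologicalSpace Opposite
open scoped HomogeneousIdeal

noncomputable section

namespace Groth.Agent.EGAProj74.RLTwist

open Groth.Agent.EGAProj74 Groth.Agent.Var76.LineBundle Groth.Agent.Var76.ZeroScheme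
open Groth.Agent.Amp73 Groth.Agent.EGA73.BundleImmersion RLAmple

variable {X Y : Scheme.{u}} {q : X ⟶ Y} {L : X.Modules} (hL : PicF.IsInvertible L) (hLq : L.IsQuasicoherent)
  {𝒮L : RelProj.QCGrAlg X} {j : L ⟶ 𝒮L.toModule} (hj : RelProj.IsGrSymAlg L 𝒮L j)
  {PL : Scheme.{u}} {pL : PL ⟶ X}
  {chartL : ∀ (U : X.Opens) (hU : IsAffineOpen U), (((pL ⁻¹ᵁ U : PL.Opens) : Scheme.{u}) ≅ Proj (𝒮L.deg U hU))}
  (hPL : RelProj.IsRelProj 𝒮L pL chartL)
  {𝒮 : RelProj.QCGrAlg Y} {u : RelProj.QGrHom q 𝒮 𝒮L}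

theorem appLE_res_base {U U' : Y.Opens} (i : U' ≤ U) {V : X.Opens} (hV : V ≤ q ⁻¹ᵁ U')
    (f : 𝒮.presheaf.obj (op U)) :
    (u.appLE U' V hV).hom ((𝒮.presheaf.map (homOfLE i).op).hom f) =
      (u.appLE U V (hV.trans (q.preimage_mono i))).hom f := by
  refine (congrArg (𝒮L.presheaf.map (homOfLE hV).op).hom (congr($(u.toQHom.naturality i).hom f)).symm).trans ?_
  show (𝒮L.presheaf.map _ ≫ 𝒮L.presheaf.map _).hom ((u.app U).hom f) = _
  rw [← Functor.map_comp]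
  rfl

include hL hLq hj hPL

theorem mem_nonVanish_res {U U' : Y.Opens} (hU : IsAffineOpen U) (hU' : IsAffineOpen U') (i : U' ≤ U) {d : ℕ}
    (hd : 0 < d) {f : 𝒮.presheaf.obj (op U)} (hf : f ∈ 𝒮.deg U hU d) {x : X} (hx : x ∈ RLRel.nonVanish u d f)
    (hxU' : x ∈ q ⁻¹ᵁ U') : x ∈ RLRel.nonVanish u d ((𝒮.presheaf.map (homOfLE i).op).hom f) := by
  have := isIso_pL hL hLq hj hPL
  obtain ⟨V, hV, hxV, hVU⟩ := exists_isAffineOpen_mem_and_subset (U := q ⁻¹ᵁ U') (x := x) hxU'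
  obtain ⟨w, rfl⟩ := pL.surjective x
  obtain ⟨y, rfl⟩ := exists_lift (chart := chartL) w hV hxV
  rw [RLRel.mem_nonVanish_iff hL hLq hj hPL u hd (hY := hU') (𝒮.map_mem hU hU' i hf) hV hVU y,
    appLE_res_base i hVU]
  exact (RLRel.mem_nonVanish_iff hL hLq hj hPL u hd hf hV _ y).1 hx

theorem mem_nonVanish_mul {U : Y.Opens} (hU : IsAffineOpen U) {d d' : ℕ} (hd : 0 < d) (hd' : 0 < d')
    {f f' : 𝒮.presheaf.obj (op U)} (hf : f ∈ 𝒮.deg U hU d) (hf' : f' ∈ 𝒮.deg U hU d') {x : X}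
    (hx : x ∈ RLRel.nonVanish u d f) (hx' : x ∈ RLRel.nonVanish u d' f') :
    x ∈ RLRel.nonVanish u (d + d') (f * f') := by
  have := isIso_pL hL hLq hj hPL
  obtain ⟨V, hV, hxV, hVU⟩ := exists_isAffineOpen_mem_and_subset (U := q ⁻¹ᵁ U) (x := x)
    (RLRel.nonVanish_le u d f hx)
  obtain ⟨w, rfl⟩ := pL.surjective x
  obtain ⟨y, rfl⟩ := exists_lift (chart := chartL) w hV hxV
  rw [RLRel.mem_nonVanish_iff hL hLq hj hPL u (Nat.add_pos_left hd d') (SetLike.mul_mem_graded hf hf') hV hVU y,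
    map_mul, Proj.basicOpen_mul]
  exact ⟨(RLRel.mem_nonVanish_iff hL hLq hj hPL u hd hf hV hVU y).1 hx,
    (RLRel.mem_nonVanish_iff hL hLq hj hPL u hd' hf' hV hVU y).1 hx'⟩

omit hL hLq hj hPL in
variable (u) in
/-- A place where `O(n)` is trivialised by a ratio of two elements of `𝒮`. -/
structure Idx (n : ℕ) (φn : CohB1.tensorPow L n ⟶ 𝒮L.toModule) : Type u where
  V : X.affineOpens
  U : Y.affineOpens
  hVU : V.1 ≤ q ⁻¹ᵁ U.1
  k : ℕ
  hk : 0 < k
  a : 𝒮.presheaf.obj (op U.1)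
  b : 𝒮.presheaf.obj (op U.1)
  ha : a ∈ 𝒮.deg U.1 U.2 (n + k)
  hb : b ∈ 𝒮.deg U.1 U.2 k
  σ : Γ(CohB1.tensorPow L n, V.1)
  hσ : IsFrame (CohB1.tensorPow L n) V.1 σ
  heq : el φn V.1 σ * (u.appLE U.1 V.1 hVU).hom b = (u.appLE U.1 V.1 hVU).hom a
  hab : V.1 ≤ RLRel.nonVanish u (n + k + k) (a * b)

omit hL hLq hj hPL in
set_option maxHeartbeats 1000000 in
/-- Two ratios of degree `n` differ by a degree zero fraction. -/
theorem frac_smul_eq {P : Scheme.{u}} {p : P ⟶ Y}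
    {chart : ∀ (U : Y.Opens) (hU : IsAffineOpen U), (((p ⁻¹ᵁ U : P.Opens) : Scheme.{u}) ≅ Proj (𝒮.deg U hU))}
    (hP : RelProj.IsRelProj 𝒮 p chart) {n : ℕ} {On : P.Modules}
    {lam : ∀ (U : Y.Opens) (hU : IsAffineOpen U),
      On ⟶ (Scheme.Modules.pushforward (RelProj.emb p chart U hU)).obj (GrTwist.twist (𝒮.deg U hU) (n : ℤ))}
    (hOn : RelProj.IsRelTwist 𝒮 p chart (n : ℤ) On lam) {U U' U₂ : Y.Opens} (hU : IsAffineOpen U) (hU' : IsAffineOpen U')
    (hU₂ : IsAffineOpen U₂) {r₁ : Γ(Y, U)} (hr₁ : U₂ = Y.basicOpen r₁) {r₂ : Γ(Y, U')} (hr₂ : U₂ = Y.basicOpen r₂)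
    {a b : 𝒮.presheaf.obj (op U)} {a' b' : 𝒮.presheaf.obj (op U')} {D : ℕ} {S T : 𝒮.presheaf.obj (op U₂)}
    (hS : S ∈ 𝒮.deg U₂ hU₂ D) (hT : T ∈ 𝒮.deg U₂ hU₂ D)
    (hD₁ : RLRel.piece p chart hU₂ S ≤ RLRel.piece p chart hU (a * b))
    (hD₂ : RLRel.piece p chart hU₂ S ≤ RLRel.piece p chart hU' (a' * b'))
    (g : Γ(On, RLRel.piece p chart hU (a * b)))
    (hg : ∀ (y : Proj (𝒮.deg U hU)) (hy : y ∈ Proj.basicOpen (𝒮.deg U hU) (a * b)),
      TwistFrac.valAt lam hU g y ⟨y, hy, rfl⟩ = Localization.mk a ⟨b, TwistFrac.right_notMem hy⟩)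
    (g' : Γ(On, RLRel.piece p chart hU' (a' * b')))
    (hg' : ∀ (y : Proj (𝒮.deg U' hU')) (hy : y ∈ Proj.basicOpen (𝒮.deg U' hU') (a' * b')),
      TwistFrac.valAt lam hU' g' y ⟨y, hy, rfl⟩ = Localization.mk a' ⟨b', TwistFrac.right_notMem hy⟩)
    (heq : T * (𝒮.presheaf.map (homOfLE (hr₁.le.trans (Y.basicOpen_le r₁))).op).hom a *
        (𝒮.presheaf.map (homOfLE (hr₂.le.trans (Y.basicOpen_le r₂))).op).hom b' =
      (𝒮.presheaf.map (homOfLE (hr₂.le.trans (Y.basicOpen_le r₂))).op).hom a' * S *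
        (𝒮.presheaf.map (homOfLE (hr₁.le.trans (Y.basicOpen_le r₁))).op).hom b) :
    RLPull.frac p chart hS hT • res On hD₁ g = res On hD₂ g' := by
  let f := RLPull.frac p chart hS hT
  let e := RelProj.emb p chart U₂ hU₂
  refine TwistFrac.valAt_ext hOn hU₂ ((e.image_le_opensRange _).trans_eq (opensRange_emb U₂ hU₂)) fun y hy₀ => ?_
  have hy : y ∈ Proj.basicOpen (𝒮.deg U₂ hU₂) S := (e.preimage_image_eq _).le hy₀
  obtain ⟨hb₁, hv₁⟩ := TwistFrac.valAt_res_basicOpen hOn hP hU r₁ hU₂ hr₁ g hg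
    (RLRel.piece p chart hU₂ S) hD₁ y hy₀
  obtain ⟨hb₂, hv₂⟩ := TwistFrac.valAt_res_basicOpen hOn hP hU' r₂ hU₂ hr₂ g' hg'
    (RLRel.piece p chart hU₂ S) hD₂ y hy₀
  have hf : (e.app _ f).1 ⟨y, hy₀⟩ = (Proj.awayToSection (𝒮.deg U₂ hU₂) S
      (HomogeneousLocalization.Away.mk (𝒮.deg U₂ hU₂) hS 1 T (by simpa using hT))).1 ⟨y, hy⟩ := by
    simp only [f, e, RLPull.frac, ← CommRingCat.comp_apply, Scheme.Hom.appIso_inv_app]
    rfl
  rw [TwistFrac.valAt_smul, hv₁, hv₂, hf]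
  show Localization.mk T _ * Localization.mk _ _ = Localization.mk _ _
  rw [Localization.mk_mul, Localization.mk_eq_mk_iff, Localization.r_iff_exists]
  refine ⟨1, ?_⟩
  push_cast
  simp only [id_eq, pow_one]
  linear_combination heq

/-- Near every point there is such a place. -/
theorem exists_idx (hu : ∀ U : Y.Opens, IsAffineOpen U → Function.Bijective (u.app U).hom)
    (h : RelAmple.IsRelAmple q L) {n : ℕ} {φn : CohB1.tensorPow L n ⟶ 𝒮L.toModule}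
    (hφn : IsPowHom j (fun _ e => epow e n) n φn) (x : X) : ∃ i : Idx u n φn, x ∈ i.V.1 := by
  have := h.1
  have := EGA73.RelAmpleComp.quasiSeparated_of_isRelAmple h
  obtain ⟨U, hU, hxU, -⟩ := exists_isAffineOpen_mem_and_subset (U := (⊤ : Y.Opens)) (x := q x) trivial
  obtain ⟨d, σd, hd, hxσ, haff⟩ := exists_affine_flocus h x ⟨U, hU⟩ hxU
  obtain ⟨φd, hφd'⟩ := SymPow.exists_powToSym hL j d
  have hφd := isPowHom_pow hφd'
  obtain ⟨s, hsd, hs⟩ := exists_elem hj hU hL (hu U hU) hφd σd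
  obtain ⟨V, hxV, hVle, e, he⟩ := Mero90.exists_affine_frame hL x (flocus σd) hxσ
  obtain ⟨f, hfle, hxf⟩ := haff.exists_basicOpen_le (V := V.1) ⟨x, hxV⟩ hxσ
  obtain ⟨k₀, v, hv⟩ := (Amp73.isLocAt (Mero90.isQCoh_of_isInvertible (EGA73.isInvertible_tensorPow hL n))
    haff).exists_of f (res (CohB1.tensorPow L n) hfle (epow e n))
  have hc : IsCompact ((q ⁻¹ᵁ U : X.Opens) : Set X) := q.isCompact_preimage hU.isCompact
  obtain ⟨m₀, hm₀⟩ := exists_extend hc (q.isQuasiSeparated_preimage hU.isQuasiSeparated)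
    (EGA73.isInvertible_tensorPow hL d) σd (Mero90.isQCoh_of_isInvertible (EGA73.isInvertible_tensorPow hL n)) v
  obtain ⟨t', ht'⟩ := hm₀ (m₀ + 1) (Nat.le_succ _)
  obtain ⟨Φ, hΦ⟩ := SymPow.exists_symHom hL j (n + d * (m₀ + 1))
    (M := CohB1.tensorMod (CohB1.tensorPow L n) (CohB1.tensorPow (CohB1.tensorPow L d) (m₀ + 1)))
    (fun W e => tm _ _ (epow e n) (epow (epow e d) (m₀ + 1)))
    (fun W W' i e => by rw [res_tm, res_epow, res_epow, res_epow])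
    (fun W c e => by
      rw [epow_smul, epow_smul, epow_smul, tm_smul_left, tm_smul_right, smul_smul, ← pow_mul, ← pow_add])
    (fun W e he => isFrame_tm (isFrame_epow he n) (isFrame_epow (isFrame_epow he d) _))
  have hΦ' : IsPowHom j (fun W e => tm _ _ (epow e n) (epow (epow e d) (m₀ + 1))) (n + d * (m₀ + 1)) Φ :=
    fun W hW e he => ⟨isFrame_tm (isFrame_epow he n) (isFrame_epow (isFrame_epow he d) _), hΦ W hW e he⟩
  obtain ⟨a, had, ha⟩ := exists_elem hj hU hL (hu U hU) hΦ' t'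
  let B := X.basicOpen f
  have hBV : B ≤ V.1 := hfle
  have hBW : B ≤ flocus σd := X.basicOpen_le f
  have hBU : B ≤ q ⁻¹ᵁ U := hBW.trans (flocus_le σd)
  have heB := he.res hBV
  obtain ⟨c, hc⟩ := exists_coord_of_frame (hφd B (haff.basicOpen f) _ heB).1 (res _ hBU σd)
  let F : Γ(X, B) := fres hBW f ^ k₀
  have hFu : IsUnit F := (RingedSpace.isUnit_res_basicOpen X.toRingedSpace f).pow k₀
  have hcu : IsUnit c := by
    refine (isFrame_smul_iff (hφd B (haff.basicOpen f) _ heB).1 c).1 ?_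
    rw [hc, ← res_res _ (flocus_le σd) hBW]
    exact (isFrame_flocus σd).res hBW
  have hbB : (u.appLE U B hBU).hom (s ^ (m₀ + 1)) =
      (𝒮L.str.app (op B)).hom (c ^ (m₀ + 1)) * jR j B (res L hBV e) ^ (d * (m₀ + 1)) := by
    rw [map_pow, appLE_coord hφd hs (haff.basicOpen f) hBU heB hc, mul_pow, ← map_pow, ← pow_mul]
  have haB : (u.appLE U B hBU).hom a = (𝒮L.str.app (op B)).hom (F * c ^ (m₀ + 1)) *
      jR j B (res L hBV e) ^ (n + d * (m₀ + 1)) := by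
    refine appLE_coord hΦ' ha (haff.basicOpen f) hBU heB ?_
    have hv' : res (CohB1.tensorPow L n) hBW v = F • res (CohB1.tensorPow L n) hBV (epow e n) := hv
    rw [← res_res _ (flocus_le σd) hBW, ht', res_tm, res_epow, res_res, hv', res_epow, ← hc, epow_smul,
      tm_smul_right, tm_smul_left, smul_smul, mul_comm]
  refine ⟨⟨⟨B, haff.basicOpen f⟩, ⟨U, hU⟩, hBU, d * (m₀ + 1), Nat.mul_pos hd (Nat.succ_pos _), a, s ^ (m₀ + 1),
    had, by have h1 := SetLike.pow_mem_graded (m₀ + 1) hsd; rwa [smul_eq_mul, mul_comm] at h1,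
    F • epow (res L hBV e) n, (isFrame_smul_iff (isFrame_epow heB n) F).2 hFu, ?_, fun y hy => ?_⟩, hxf⟩
  · rw [app_smul', (hφn B (haff.basicOpen f) _ heB).2, hbB, haB, map_mul, pow_add]
    ring
  · refine Opens.mem_iSup.2 ⟨⟨⟨B, haff.basicOpen f⟩, hBU, ?_⟩, hy⟩
    rw [map_mul, haB, hbB, mul_mul_mul_comm, ← map_mul, ← pow_add]
    exact (RLRel.span_iff_isUnit (RLRel.isLineGen_of_frame hLq hj (haff.basicOpen f) heB) _ _).2
      ((hFu.mul (hcu.pow _)).mul (hcu.pow _))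

variable {P : Scheme.{u}} {p : P ⟶ Y}
  {chart : ∀ (U : Y.Opens) (hU : IsAffineOpen U), (((p ⁻¹ᵁ U : P.Opens) : Scheme.{u}) ≅ Proj (𝒮.deg U hU))}
  {r : (RelProj.domQ u pL chartL : Scheme.{u}) ⟶ P}
  (hr : RelProj.IsProjQMapOn u p chart pL chartL (RelProj.domQ u pL chartL) r) (hP : RelProj.IsRelProj 𝒮 p chart)

include hr hP

theorem preimage_le_piece {U : Y.Opens} (hU : IsAffineOpen U) {d : ℕ} (hd : 0 < d) {f : 𝒮.presheaf.obj (op U)}
    (hf : f ∈ 𝒮.deg U hU d) {V : X.Opens} (hV : V ≤ RLRel.nonVanish u d f) :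
    ((RelProj.domQ u pL chartL).ι ≫ pL) ⁻¹ᵁ V ≤ r ⁻¹ᵁ RLRel.piece p chart hU f := by
  intro z hz
  obtain ⟨z', hz', he⟩ := (RLRel.image_preimage_basicOpen_eq hL hLq hj hPL hd hf hr hP).ge (hV hz)
  exact (RelProj.domQ u pL chartL).ι.isOpenEmbedding.injective he ▸ hz'

set_option maxHeartbeats 1600000 in
/-- `r^* O(n) ≅ L^{⊗ n}` pulled back. -/
theorem nonempty_iso (hu : ∀ U : Y.Opens, IsAffineOpen U → Function.Bijective (u.app U).hom)
    (h : RelAmple.IsRelAmple q L) (n : ℕ) {On : P.Modules}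
    {lam : ∀ (U : Y.Opens) (hU : IsAffineOpen U),
      On ⟶ (Scheme.Modules.pushforward (RelProj.emb p chart U hU)).obj (GrTwist.twist (𝒮.deg U hU) (n : ℤ))}
    (hOn : RelProj.IsRelTwist 𝒮 p chart (n : ℤ) On lam) :
    Nonempty ((Scheme.Modules.pullback r).obj On ≅
      (Scheme.Modules.pullback ((RelProj.domQ u pL chartL).ι ≫ pL)).obj (CohB1.tensorPow L n)) := by
  classical
  obtain ⟨φn, hφn'⟩ := SymPow.exists_powToSym hL j n
  have hφn := isPowHom_pow hφn'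
  let p' := (RelProj.domQ u pL chartL).ι ≫ pL
  let G := (Scheme.Modules.pullback p').obj (CohB1.tensorPow L n)
  let N := (Scheme.Modules.pullback r).obj On
  let I := Idx u n φn
  choose g hgf hgv using fun i : I => TwistFrac.exists_frame hOn i.U.2 i.ha i.hb
  have h₁ : ∀ i : I, p' ⁻¹ᵁ i.V.1 ≤ r ⁻¹ᵁ RLRel.piece p chart i.U.2 (i.a * i.b) := fun i =>
    preimage_le_piece hL hLq hj hPL hr hP i.U.2 (Nat.add_pos_right _ i.hk) (SetLike.mul_mem_graded i.ha i.hb) i.hab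
  let e : ∀ i : I, Γ(G, p' ⁻¹ᵁ i.V.1) := fun i => pullS p' (CohB1.tensorPow L n) i.V.1 i.σ
  let ν : ∀ i : I, Γ(N, p' ⁻¹ᵁ i.V.1) := fun i =>
    res N (h₁ i) (pullS r On (RLRel.piece p chart i.U.2 (i.a * i.b)) (g i))
  have he : ∀ i, IsFrame G (p' ⁻¹ᵁ i.V.1) (e i) := fun i => Props58.PullTensor.isFrame_pullS p' i.hσ
  have hν : ∀ i, IsFrame N (p' ⁻¹ᵁ i.V.1) (ν i) := fun i =>
    (Props58.PullTensor.isFrame_pullS r (hgf i)).res (h₁ i)
  have hcov : ⨆ i : I, p' ⁻¹ᵁ i.V.1 = ⊤ := top_le_iff.1 fun z _ => by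
    obtain ⟨i, hi⟩ := exists_idx hL hLq hj hPL hu h hφn (p' z)
    exact Opens.mem_iSup.2 ⟨i, hi⟩
  obtain ⟨θ, hθ⟩ := exists_hom_of_frames (L := G) (M := N) (fun i : I => p' ⁻¹ᵁ i.V.1) hcov e he ν
    fun i i' O hi hi' c hc => by
      refine eq_of_locally N _ _ fun z hz => ?_
      obtain ⟨r₁, r₂, hr₁₂, hzr⟩ := exists_basicOpen_le_affine_inter i.U.2 i'.U.2 (q (p' z))
        ⟨i.hVU (hi hz), i'.hVU (hi' hz)⟩
      obtain ⟨U₂, hU₂⟩ : ∃ U₂ : Y.affineOpens, U₂.1 = Y.basicOpen r₁ := ⟨⟨_, i.U.2.basicOpen r₁⟩, rfl⟩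
      have hiU : U₂.1 ≤ i.U.1 := hU₂.le.trans (Y.basicOpen_le r₁)
      have hiU' : U₂.1 ≤ i'.U.1 := (hU₂.trans hr₁₂).le.trans (Y.basicOpen_le r₂)
      obtain ⟨V, hV, hzV, hVle⟩ := exists_isAffineOpen_mem_and_subset (U := i.V.1 ⊓ i'.V.1 ⊓ q ⁻¹ᵁ U₂.1)
        (x := p' z) ⟨⟨hi hz, hi' hz⟩, hU₂.ge hzr⟩
      have hVi : V ≤ i.V.1 := fun x hx => (hVle hx).1.1
      have hVi' : V ≤ i'.V.1 := fun x hx => (hVle hx).1.2
      have hVU : V ≤ q ⁻¹ᵁ U₂.1 := fun x hx => (hVle hx).2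
      let A := (𝒮.presheaf.map (homOfLE hiU).op).hom i.a
      let B := (𝒮.presheaf.map (homOfLE hiU).op).hom i.b
      let A' := (𝒮.presheaf.map (homOfLE hiU').op).hom i'.a
      let B' := (𝒮.presheaf.map (homOfLE hiU').op).hom i'.b
      have hA : A ∈ 𝒮.deg U₂.1 U₂.2 (n + i.k) := 𝒮.map_mem i.U.2 U₂.2 hiU i.ha
      have hB : B ∈ 𝒮.deg U₂.1 U₂.2 i.k := 𝒮.map_mem i.U.2 U₂.2 hiU i.hb
      have hA' : A' ∈ 𝒮.deg U₂.1 U₂.2 (n + i'.k) := 𝒮.map_mem i'.U.2 U₂.2 hiU' i'.ha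
      have hB' : B' ∈ 𝒮.deg U₂.1 U₂.2 i'.k := 𝒮.map_mem i'.U.2 U₂.2 hiU' i'.hb
      let S := A * B * (A' * B')
      let T := A' * B * (A' * B)
      let D := n + i.k + i.k + (n + i'.k + i'.k)
      have hS : S ∈ 𝒮.deg U₂.1 U₂.2 D := SetLike.mul_mem_graded (SetLike.mul_mem_graded hA hB) (SetLike.mul_mem_graded hA' hB')
      have hT : T ∈ 𝒮.deg U₂.1 U₂.2 D := by
        have h1 := SetLike.mul_mem_graded (SetLike.mul_mem_graded hA' hB) (SetLike.mul_mem_graded hA' hB)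
        rwa [show n + i'.k + i.k + (n + i'.k + i.k) = D from by simp only [D]; omega] at h1
      have hD : 0 < D := by have := i.hk; simp only [D]; omega
      have hVS : V ≤ RLRel.nonVanish u D S := fun x hx => by
        have h1 := mem_nonVanish_res hL hLq hj hPL i.U.2 U₂.2 hiU (Nat.add_pos_right _ i.hk)
          (SetLike.mul_mem_graded i.ha i.hb) (i.hab (hVi hx)) (hVU hx)
        have h2 := mem_nonVanish_res hL hLq hj hPL i'.U.2 U₂.2 hiU' (Nat.add_pos_right _ i'.hk)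
          (SetLike.mul_mem_graded i'.ha i'.hb) (i'.hab (hVi' hx)) (hVU hx)
        rw [map_mul] at h1 h2
        exact mem_nonVanish_mul hL hLq hj hPL U₂.2 (Nat.add_pos_right _ i.hk) (Nat.add_pos_right _ i'.hk)
          (SetLike.mul_mem_graded hA hB) (SetLike.mul_mem_graded hA' hB') h1 h2
      obtain ⟨γ, hγ⟩ := exists_coord_of_frame (i.hσ.res hVi) (res _ hVi' i'.σ)
      have hl : el φn V (res _ hVi i.σ) * (u.appLE U₂.1 V hVU).hom B = (u.appLE U₂.1 V hVU).hom A := by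
        rw [appLE_res_base, appLE_res_base, ← res_app, ← RLRel.appLE_restrict u hVi i.hVU,
          ← RLRel.appLE_restrict u hVi i.hVU, ← map_mul, i.heq]
      have hl' : el φn V (res _ hVi' i'.σ) * (u.appLE U₂.1 V hVU).hom B' = (u.appLE U₂.1 V hVU).hom A' := by
        rw [appLE_res_base, appLE_res_base, ← res_app, ← RLRel.appLE_restrict u hVi' i'.hVU,
          ← RLRel.appLE_restrict u hVi' i'.hVU, ← map_mul, i'.heq]
      rw [← hγ, app_smul'] at hl'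
      have hγS : (𝒮L.str.app (op V)).hom γ * (u.appLE U₂.1 V hVU).hom S = (u.appLE U₂.1 V hVU).hom T := by
        simp only [S, T, map_mul]
        rw [← hl, ← hl']
        ring
      have hD₁ : RLRel.piece p chart U₂.2 S ≤ RLRel.piece p chart i.U.2 (i.a * i.b) := by
        rintro _ ⟨y, hy, rfl⟩
        obtain ⟨y', hy'⟩ := exists_lift (chart := chart) ((RelProj.emb p chart U₂.1 U₂.2).base y) i.U.2
          (hiU (emb_mem U₂.1 U₂.2 y))
        refine ⟨y', (mem_basicOpen_res_iff hP i.U.2 U₂.2 hiU hy' _).2 ?_, hy'⟩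
        rw [map_mul]
        exact TwistFrac.left_notMem hy
      have hD₂ : RLRel.piece p chart U₂.2 S ≤ RLRel.piece p chart i'.U.2 (i'.a * i'.b) := by
        rintro _ ⟨y, hy, rfl⟩
        obtain ⟨y', hy'⟩ := exists_lift (chart := chart) ((RelProj.emb p chart U₂.1 U₂.2).base y) i'.U.2
          (hiU' (emb_mem U₂.1 U₂.2 y))
        refine ⟨y', (mem_basicOpen_res_iff hP i'.U.2 U₂.2 hiU' hy' _).2 ?_, hy'⟩
        rw [map_mul]
        exact TwistFrac.right_notMem hy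
      have hfrac : RLPull.frac p chart hS hT • res On hD₁ (g i) = res On hD₂ (g i') :=
        frac_smul_eq hP hOn i.U.2 i'.U.2 U₂.2 hU₂ (hU₂.trans hr₁₂) hS hT hD₁ hD₂ (g i) (hgv i) (g i') (hgv i')
          (show T * A * B' = A' * S * B by simp only [S, T]; ring)
      have h₂ : p' ⁻¹ᵁ V ≤ r ⁻¹ᵁ RLRel.piece p chart U₂.2 S :=
        preimage_le_piece hL hLq hj hPL hr hP U₂.2 hD hS hVS
      have hpull := RLPull.appLE_frac hL hLq hj hPL hr hP hD hS hT hV hVU hVS hγS h₂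
      have hO : O ⊓ p' ⁻¹ᵁ V ≤ O := inf_le_left
      have hOV : O ⊓ p' ⁻¹ᵁ V ≤ p' ⁻¹ᵁ V := inf_le_right
      refine ⟨O ⊓ p' ⁻¹ᵁ V, hO, ⟨hz, hzV⟩, ?_⟩
      have hG : fres hO c = fres hOV (p'.app V γ) := by
        have k1 : res G (hO.trans hi') (e i') = fres hO c • res G (hO.trans hi) (e i) := by
          exact (res_res G hi' hO _).symm.trans ((congrArg (res G hO) hc).trans
            ((res_smul G hO c _).trans (congrArg _ (res_res G hi hO _))))
        have k2 : res G (hO.trans hi') (e i') = fres hOV (p'.app V γ) • res G (hO.trans hi) (e i) := by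
          show res G (hO.trans hi') (pullS p' (CohB1.tensorPow L n) i'.V.1 i'.σ) =
            fres hOV (p'.app V γ) • res G (hO.trans hi) (pullS p' (CohB1.tensorPow L n) i.V.1 i.σ)
          rw [← res_res G (p'.preimage_mono hVi') hOV, ← res_res G (p'.preimage_mono hVi) hOV, res_pullS p' _ hVi',
            res_pullS p' _ hVi]
          rw [← hγ, pullS_smul]
          exact res_smul G hOV _ _
        exact (he i (O ⊓ p' ⁻¹ᵁ V) (hO.trans hi)).1 (k1.symm.trans k2)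
      rw [res_smul]
      show res N hO (res N hi' (ν i')) = fres hO c • res N hO (res N hi (ν i))
      rw [hG]
      show res N hO (res N hi' (res N (h₁ i') (pullS r On _ (g i')))) =
        _ • res N hO (res N hi (res N (h₁ i) (pullS r On _ (g i))))
      simp only [res_res]
      rw [← res_res N (r.preimage_mono hD₂) (hOV.trans h₂),
        ← res_res N (r.preimage_mono hD₁) (hOV.trans h₂), res_pullS r On hD₂,
        res_pullS r On hD₁, ← hfrac, pullS_smul, res_smul]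
      congr 1
      rw [← hpull, Scheme.Hom.appLE]
      exact (fres_fres h₂ hOV _).symm
  have : IsIso θ := isIso_of_frames θ fun z => by
    obtain ⟨i, hi⟩ := Opens.mem_iSup.1 (hcov.ge (Opens.mem_top z))
    exact ⟨p' ⁻¹ᵁ i.V.1, e i, hi, he i, (hθ i).symm ▸ hν i⟩
  exact ⟨(asIso θ).symm⟩

end Groth.Agent.EGAProj74.RLTwist
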