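import Groth.Agent.EGAProj74.RelFiniteType
import Groth.Agent.EGAProj74.Dom
import Mathlib.RingTheory.GradedAlgebra.Radical
import Mathlib.AlgebraicGeometry.Properties

/-!
Integral relative Proj.
-/

set_option autoImplicit false

universe u

open CategoryTheory CategoryTheory.Limits AlgebraicGeometry TopologicalSpace Opposite
open scoped HomogeneousIdeal

noncomputable section

namespace Groth.Agent.EGAProj74

variable {S P : Scheme.{u}} {𝒮 : RelProj.QCGrAlg S} {p : P ⟶ S}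
  {chart : ∀ (U : S.Opens) (hU : IsAffineOpen U), (((p ⁻¹ᵁ U : P.Opens) : Scheme.{u}) ≅ Proj (𝒮.deg U hU))}
  (hP : RelProj.IsRelProj 𝒮 p chart)

/-- The generic point of a chart. -/
def chartGeneric (U : S.Opens) (hU : IsAffineOpen U) (h : IsDomain (𝒮.presheaf.obj (op U)))
    (hne : ((𝒮.deg U hU)₊).toIdeal ≠ ⊥) : Proj (𝒮.deg U hU) :=
  (⟨⊥, by rw [HomogeneousIdeal.toIdeal_bot]; exact Ideal.isPrime_bot,
    fun hle => hne (le_bot_iff.mp fun x hx => hle hx)⟩ : ProjectiveSpectrum (𝒮.deg U hU))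

theorem chartGeneric_specializes (U : S.Opens) (hU : IsAffineOpen U) (h : IsDomain (𝒮.presheaf.obj (op U)))
    (hne : ((𝒮.deg U hU)₊).toIdeal ≠ ⊥) (y : Proj (𝒮.deg U hU)) :
    chartGeneric U hU h hne ⤳ y :=
  specializes_iff_mem_closure.mpr ((ProjectiveSpectrum.le_iff_mem_closure _ _ y).mp
    ((ProjectiveSpectrum.as_ideal_le_as_ideal _ _ y).mp bot_le))

include hP in
theorem emb_chartGeneric_res {U W : S.Opens} (hU : IsAffineOpen U) (hW : IsAffineOpen W) (i : W ≤ U)
    (hU' : IsDomain (𝒮.presheaf.obj (op U)) ∧ ((𝒮.deg U hU)₊).toIdeal ≠ ⊥)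
    (hW' : IsDomain (𝒮.presheaf.obj (op W)) ∧ ((𝒮.deg W hW)₊).toIdeal ≠ ⊥) :
    (RelProj.emb p chart U hU).base (chartGeneric U hU hU'.1 hU'.2) =
      (RelProj.emb p chart W hW).base (chartGeneric W hW hW'.1 hW'.2) := by
  have h1 : (RelProj.emb p chart U hU).base (chartGeneric U hU hU'.1 hU'.2) ⤳
      (RelProj.emb p chart W hW).base (chartGeneric W hW hW'.1 hW'.2) := by
    rw [← map_res_emb' hP hU hW i, Scheme.Hom.comp_apply]
    exact (chartGeneric_specializes U hU hU'.1 hU'.2 _).map (RelProj.emb p chart U hU).continuous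
  have hmem : (RelProj.emb p chart U hU).base (chartGeneric U hU hU'.1 hU'.2) ∈
      (RelProj.emb p chart W hW).opensRange :=
    h1.mem_open (RelProj.emb p chart W hW).opensRange.2 ⟨_, rfl⟩
  obtain ⟨w, hw⟩ := hmem
  have h2 : (RelProj.emb p chart W hW).base (chartGeneric W hW hW'.1 hW'.2) ⤳
      (RelProj.emb p chart U hU).base (chartGeneric U hU hU'.1 hU'.2) := by
    rw [← hw]
    exact (chartGeneric_specializes W hW hW'.1 hW'.2 w).map (RelProj.emb p chart W hW).continuous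
  exact (h1.antisymm h2).eq

include p chart in
theorem nonempty_of_mem_emb (U : S.Opens) (hU : IsAffineOpen U) (y : Proj (𝒮.deg U hU)) :
    (U : Set S).Nonempty :=
  ⟨p.base ((RelProj.emb p chart U hU).base y), by
    change (RelProj.emb p chart U hU).base y ∈ p ⁻¹ᵁ U
    rw [← opensRange_emb (chart := chart) U hU]; exact ⟨y, rfl⟩⟩

include hP in
theorem isIntegral_relProj [IsIntegral S]
    (hint : ∀ (U : S.Opens) (hU : IsAffineOpen U), (U : Set S).Nonempty →
      IsDomain (𝒮.presheaf.obj (op U)) ∧ ((𝒮.deg U hU)₊).toIdeal ≠ ⊥) :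
    IsIntegral P ∧ DenseRange p.base := by
  have hdense : DenseRange p.base := by
    rw [DenseRange, dense_iff_inter_open]
    intro O hO hne
    obtain ⟨s, hs⟩ := hne
    obtain ⟨_, ⟨W, hW, rfl⟩, hsW, hWO⟩ := (Scheme.isBasis_affineOpens S).exists_subset_of_mem_open hs hO
    have hd := hint W hW ⟨s, hsW⟩
    refine ⟨p.base ((RelProj.emb p chart W hW).base (chartGeneric W hW hd.1 hd.2)), hWO ?_, ⟨_, rfl⟩⟩
    change (RelProj.emb p chart W hW).base _ ∈ p ⁻¹ᵁ W
    rw [← opensRange_emb (chart := chart) W hW]; exact ⟨_, rfl⟩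
  have key : ∀ (O : Set P), IsOpen O → ∀ x ∈ O, ∀ (U : S.Opens) (hU : IsAffineOpen U) (hd :
      IsDomain (𝒮.presheaf.obj (op U)) ∧ ((𝒮.deg U hU)₊).toIdeal ≠ ⊥) (y : Proj (𝒮.deg U hU)),
      (RelProj.emb p chart U hU).base y = x →
        (RelProj.emb p chart U hU).base (chartGeneric U hU hd.1 hd.2) ∈ O := by
    intro O hO x hx U hU hd y hy
    exact ((chartGeneric_specializes U hU hd.1 hd.2 y).map
      (RelProj.emb p chart U hU).continuous).mem_open hO (hy ▸ hx)
  have hne : Nonempty P := by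
    obtain ⟨⟨U, hU⟩, hs⟩ := Opens.mem_iSup.mp ((iSup_affineOpens_eq_top S).ge
      (Set.mem_univ (Classical.arbitrary S)))
    have hd := hint U hU ⟨_, hs⟩
    exact ⟨(RelProj.emb p chart U hU).base (chartGeneric U hU hd.1 hd.2)⟩
  have hirr : PreirreducibleSpace P := by
    constructor
    rintro O₁ O₂ hO₁ hO₂ ⟨x₁, -, hx₁⟩ ⟨x₂, -, hx₂⟩
    obtain ⟨U₁, hU₁, y₁, hy₁⟩ := exists_emb_apply (chart := chart) x₁
    obtain ⟨U₂, hU₂, y₂, hy₂⟩ := exists_emb_apply (chart := chart) x₂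
    obtain ⟨s, hs⟩ := nonempty_preirreducible_inter U₁.2 U₂.2 (nonempty_of_mem_emb (chart := chart) U₁ hU₁ y₁)
      (nonempty_of_mem_emb (chart := chart) U₂ hU₂ y₂)
    obtain ⟨_, ⟨W, hW, rfl⟩, hsW, hWle⟩ := (Scheme.isBasis_affineOpens S).exists_subset_of_mem_open hs
      (U₁.2.inter U₂.2)
    have d1 := hint U₁ hU₁ (nonempty_of_mem_emb (chart := chart) U₁ hU₁ y₁)
    have d2 := hint U₂ hU₂ (nonempty_of_mem_emb (chart := chart) U₂ hU₂ y₂)
    have dW := hint W hW ⟨s, hsW⟩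
    refine ⟨(RelProj.emb p chart W hW).base (chartGeneric W hW dW.1 dW.2), trivial, ?_, ?_⟩
    · rw [← emb_chartGeneric_res hP hU₁ hW (fun x hx => (hWle hx).1) d1 dW]
      exact key O₁ hO₁ x₁ hx₁ U₁ hU₁ d1 y₁ hy₁
    · rw [← emb_chartGeneric_res hP hU₂ hW (fun x hx => (hWle hx).2) d2 dW]
      exact key O₂ hO₂ x₂ hx₂ U₂ hU₂ d2 y₂ hy₂
  have : IrreducibleSpace P := { hirr with toNonempty := hne }
  have : IsReduced P := isReduced_relProj (fun U hU => by
    refine isReduced_proj fun x _ hx => ?_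
    rcases Set.eq_empty_or_nonempty (U : Set S) with h | h
    · obtain rfl : U = ⊥ := SetLike.coe_injective h
      have h1 : (1 : 𝒮.presheaf.obj (op (⊥ : S.Opens))) = 0 := by
        rw [← map_one (𝒮.str.app (op (⊥ : S.Opens))).hom, Subsingleton.elim (1 : Γ(S, (⊥ : S.Opens))) 0]
        exact map_zero _
      rw [← mul_one x, h1, mul_zero]
    · have := (hint U hU h).1
      exact hx.eq_zero) hP
  exact ⟨(isIntegral_iff_irreducibleSpace_and_isReduced P).mpr ⟨inferInstance, inferInstance⟩, hdense⟩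

end Groth.Agent.EGAProj74
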