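import Groth.Agent.EGAProj74.RelIntegral

/-!
An essentially reduced algebra with integral dominant Proj is integral.
-/

set_option autoImplicit false

universe u

open CategoryTheory CategoryTheory.Limits AlgebraicGeometry TopologicalSpace Opposite
open HomogeneousLocalization
open scoped HomogeneousIdeal

noncomputable section

namespace Groth.Agent.EGAProj74

section ring

variable {A : Type u} [CommRing A] {𝒜 : ℕ → AddSubgroup A} [GradedRing 𝒜]

theorem eq_zero_of_basicOpen_eq_bot (hred : ∀ x ∈ (HomogeneousIdeal.irrelevant 𝒜).toIdeal, IsNilpotent x → x = 0)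
    {d : ℕ} (hd : 0 < d) {a : A} (ha : a ∈ 𝒜 d) (h : Proj.basicOpen 𝒜 a = ⊥) : a = 0 := by
  have hirr := HomogeneousIdeal.mem_irrelevant_of_mem 𝒜 hd ha
  refine hred a hirr ?_
  rw [← mem_nilradical, nilradical, Ideal.zero_eq_bot, Ideal.IsHomogeneous.radical_eq (𝒜 := 𝒜) (I := (⊥ : Ideal A))
    (HomogeneousIdeal.toIdeal_bot (𝒜 := 𝒜) ▸ (⊥ : HomogeneousIdeal 𝒜).isHomogeneous)]
  refine Submodule.mem_sInf.mpr fun J hJ => ?_
  by_contra haJ
  obtain ⟨hJh, -, hJp⟩ := hJ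
  let x : Proj 𝒜 := (⟨⟨J, hJh⟩, hJp, fun hle => haJ (hle hirr)⟩ : ProjectiveSpectrum 𝒜)
  have hx : x ∈ Proj.basicOpen 𝒜 a := (Proj.mem_basicOpen 𝒜 a x).mpr haJ
  rw [h] at hx
  exact hx

theorem fromZeroRingHom_eq_zero {d : ℕ} {b : A} (hb : b ∈ 𝒜 d) (a : 𝒜 0) (hab : (a : A) * b = 0) :
    HomogeneousLocalization.fromZeroRingHom 𝒜 (Submonoid.powers b) a = 0 := by
  apply val_injective
  rw [val_zero]
  refine (val_mk _).trans ?_
  rw [Localization.mk_eq_mk', IsLocalization.mk'_eq_zero_iff]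
  exact ⟨⟨b, 1, pow_one b⟩, by simpa [mul_comm] using hab⟩

end ring

variable {S P : Scheme.{u}} {𝒮 : RelProj.QCGrAlg S} {p : P ⟶ S}
  {chart : ∀ (U : S.Opens) (hU : IsAffineOpen U), (((p ⁻¹ᵁ U : P.Opens) : Scheme.{u}) ≅ Proj (𝒮.deg U hU))}
  (hP : RelProj.IsRelProj 𝒮 p chart)

include hP in
theorem disjoint_basicOpen_preimage (U : S.Opens) (hU : IsAffineOpen U) (r : Γ(S, U))
    {d : ℕ} (hd : 0 < d) {b : 𝒮.presheaf.obj (op U)} (hb : b ∈ 𝒮.deg U hU d)
    (hab : (𝒮.str.app (op U)).hom r * b = 0) :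
    RelProj.emb p chart U hU ''ᵁ Proj.basicOpen (𝒮.deg U hU) b ⊓ p ⁻¹ᵁ S.basicOpen r = ⊥ := by
  refine le_bot_iff.mp ?_
  rintro x ⟨⟨y, hy, rfl⟩, hx⟩
  obtain ⟨c, rfl⟩ : y ∈ (Proj.awayι (𝒮.deg U hU) b hb hd).opensRange := by
    rw [Proj.opensRange_awayι]; exact hy
  change c ∈ (Proj.awayι (𝒮.deg U hU) b hb hd ≫ RelProj.emb p chart U hU ≫ p) ⁻¹ᵁ S.basicOpen r at hx
  rw [emb_p hP, Proj.awayι_toSpecZero_assoc] at hx
  rw [Scheme.Hom.comp_preimage, Scheme.Hom.comp_preimage, hU.fromSpec_preimage_basicOpen] at hx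
  change HomogeneousLocalization.fromZeroRingHom (𝒮.deg U hU) (Submonoid.powers b)
    ((𝒮.strZero U hU).hom r) ∉ c.asIdeal at hx
  exact hx (by rw [fromZeroRingHom_eq_zero hb _ hab]; exact zero_mem _)

include hP in
theorem isDomain_of_isIntegral_relProj [IsIntegral S] [IsIntegral P]
    (h0 : ∀ (U : S.Opens) (hU : IsAffineOpen U), Function.Bijective (𝒮.strZero U hU).hom)
    (hred : ∀ (U : S.Opens) (hU : IsAffineOpen U) (x : 𝒮.presheaf.obj (op U)),
      x ∈ (𝒮.deg U hU)₊ → IsNilpotent x → x = 0)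
    (hdom : DenseRange p.base) (U : S.Opens) (hU : IsAffineOpen U) (hne : (U : Set S).Nonempty) :
    IsDomain (𝒮.presheaf.obj (op U)) ∧ ((𝒮.deg U hU)₊).toIdeal ≠ ⊥ := by
  classical
  obtain ⟨_, hsU, ⟨x, rfl⟩⟩ := (dense_iff_inter_open.mp hdom) U U.2 hne
  obtain ⟨y, hy⟩ : x ∈ (RelProj.emb p chart U hU).opensRange := by rw [opensRange_emb]; exact hsU
  have hirr : ((𝒮.deg U hU)₊).toIdeal ≠ ⊥ := fun h => y.not_irrelevant_le (by
    intro a ha
    have ha' : a ∈ ((𝒮.deg U hU)₊).toIdeal := ha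
    rw [h, Submodule.mem_bot] at ha'
    exact ha' ▸ zero_mem _)
  refine ⟨?_, hirr⟩
  have : Nonempty U := ⟨⟨_, hsU⟩⟩
  have hred' := fun x hx => hred U hU x hx
  have hnt : Nontrivial (𝒮.presheaf.obj (op U)) := by
    refine ⟨⟨0, 1, fun h => hirr (le_bot_iff.mp fun a _ => ?_)⟩⟩
    rw [← mul_one a, ← h, mul_zero]; exact zero_mem _
  have hzero : ∀ (r : Γ(S, U)) {d : ℕ}, 0 < d → ∀ b ∈ 𝒮.deg U hU d,
      (𝒮.str.app (op U)).hom r * b = 0 → r = 0 ∨ b = 0 := by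
    intro r d hd b hb hab
    by_contra! h
    obtain ⟨z, hz⟩ : (SetLike.coe (Proj.basicOpen (𝒮.deg U hU) b)).Nonempty := by
      rw [Set.nonempty_iff_ne_empty, ne_eq, TopologicalSpace.Opens.coe_eq_empty]
      exact fun he => h.2 (eq_zero_of_basicOpen_eq_bot hred' hd hb he)
    have hr : (S.basicOpen r : Set S).Nonempty := by
      rw [Set.nonempty_iff_ne_empty, ne_eq, TopologicalSpace.Opens.coe_eq_empty]
      exact fun he => h.1 ((basicOpen_eq_bot_iff r).mp he)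
    obtain ⟨_, hwr, ⟨w, rfl⟩⟩ := (dense_iff_inter_open.mp hdom) (S.basicOpen r : Set S) (S.basicOpen r).2 hr
    obtain ⟨v, hv⟩ := nonempty_preirreducible_inter
      (RelProj.emb p chart U hU ''ᵁ Proj.basicOpen (𝒮.deg U hU) b).2 (p ⁻¹ᵁ S.basicOpen r).2
      ⟨_, z, hz, rfl⟩ ⟨w, hwr⟩
    have := (disjoint_basicOpen_preimage hP U hU r hd hb hab).le hv
    exact this
  have key : ∀ {i j : ℕ}, ∀ a ∈ 𝒮.deg U hU i, ∀ b ∈ 𝒮.deg U hU j, a * b = 0 → a = 0 ∨ b = 0 := by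
    intro i j a ha b hb hab
    rcases Nat.eq_zero_or_pos i with rfl | hi <;> rcases Nat.eq_zero_or_pos j with rfl | hj
    · obtain ⟨r, hr⟩ := (h0 U hU).2 ⟨a, ha⟩
      obtain ⟨s, hs⟩ := (h0 U hU).2 ⟨b, hb⟩
      have hr' : (𝒮.str.app (op U)).hom r = a := congrArg Subtype.val hr
      have hs' : (𝒮.str.app (op U)).hom s = b := congrArg Subtype.val hs
      have h1 : r * s = 0 := (h0 U hU).1 (Subtype.ext (by
        rw [map_mul, map_zero]
        change (𝒮.str.app (op U)).hom r * (𝒮.str.app (op U)).hom s = 0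
        rw [hr', hs', hab]))
      rcases mul_eq_zero.mp h1 with h | h
      · left; rw [← hr', h, map_zero]
      · right; rw [← hs', h, map_zero]
    · obtain ⟨r, hr⟩ := (h0 U hU).2 ⟨a, ha⟩
      have hr' : (𝒮.str.app (op U)).hom r = a := congrArg Subtype.val hr
      rcases hzero r hj b hb (by rw [hr', hab]) with h | h
      · left; rw [← hr', h, map_zero]
      · exact Or.inr h
    · obtain ⟨s, hs⟩ := (h0 U hU).2 ⟨b, hb⟩
      have hs' : (𝒮.str.app (op U)).hom s = b := congrArg Subtype.val hs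
      rcases hzero s hi a ha (by rw [hs', mul_comm, hab]) with h | h
      · right; rw [← hs', h, map_zero]
      · exact Or.inl h
    · have hbot : Proj.basicOpen (𝒮.deg U hU) a ⊓ Proj.basicOpen (𝒮.deg U hU) b = ⊥ := by
        rw [← Proj.basicOpen_mul, hab]
        exact le_bot_iff.mp fun w hw => (Proj.mem_basicOpen _ _ w).mp hw (zero_mem _)
      by_contra! h
      obtain ⟨za, hza⟩ : (SetLike.coe (Proj.basicOpen (𝒮.deg U hU) a)).Nonempty := by
        rw [Set.nonempty_iff_ne_empty, ne_eq, TopologicalSpace.Opens.coe_eq_empty]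
        exact fun he => h.1 (eq_zero_of_basicOpen_eq_bot hred' hi ha he)
      obtain ⟨zb, hzb⟩ : (SetLike.coe (Proj.basicOpen (𝒮.deg U hU) b)).Nonempty := by
        rw [Set.nonempty_iff_ne_empty, ne_eq, TopologicalSpace.Opens.coe_eq_empty]
        exact fun he => h.2 (eq_zero_of_basicOpen_eq_bot hred' hj hb he)
      obtain ⟨v, hva, hvb⟩ := nonempty_preirreducible_inter
        (RelProj.emb p chart U hU ''ᵁ Proj.basicOpen (𝒮.deg U hU) a).2
        (RelProj.emb p chart U hU ''ᵁ Proj.basicOpen (𝒮.deg U hU) b).2 ⟨_, za, hza, rfl⟩ ⟨_, zb, hzb, rfl⟩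
      obtain ⟨wa, hwa, rfl⟩ := hva
      obtain ⟨wb, hwb, e⟩ := hvb
      obtain rfl := (RelProj.emb p chart U hU).isOpenEmbedding.injective e
      exact hbot.le ⟨hwa, hwb⟩
  have hp : (⊥ : Ideal (𝒮.presheaf.obj (op U))).IsPrime := by
    refine Ideal.IsHomogeneous.isPrime_of_homogeneous_mem_or_mem
      (HomogeneousIdeal.toIdeal_bot (𝒜 := 𝒮.deg U hU) ▸ (⊥ : HomogeneousIdeal (𝒮.deg U hU)).isHomogeneous) bot_ne_top ?_
    rintro a b ⟨i, ha⟩ ⟨j, hb⟩ hab
    rw [Submodule.mem_bot] at hab ⊢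
    exact key a ha b hb hab
  have : NoZeroDivisors (𝒮.presheaf.obj (op U)) :=
    ⟨fun {a b} h => by simpa using hp.mem_or_mem (show a * b ∈ (⊥ : Ideal _) by simpa using h)⟩
  exact NoZeroDivisors.to_isDomain _

end Groth.Agent.EGAProj74
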