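import Groth.Agent.EGAProj74.RingBaseChange
import Groth.Agent.EGAProj74.RelTwistMap

/-!
The twisting sheaves of a relative Proj commute with change of the base.
-/

set_option autoImplicit false
set_option backward.isDefEq.respectTransparency.types false

universe u

open CategoryTheory CategoryTheory.Limits AlgebraicGeometry TopologicalSpace Opposite TensorProduct
open scoped HomogeneousIdeal

noncomputable section

namespace Groth.Agent.EGAProj74.RelTwistPull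

open GrT FracSections

/-- Bijectivity of a lifted map passes along identifications of all the data. -/
theorem bijective_transport {R S R₀ S₀ : Type u} [CommRing R] [CommRing S] [CommRing R₀] [CommRing S₀]
    [Algebra R S] [Algebra R₀ S₀] {M M₀ N N₀ : Type u} [AddCommGroup M] [Module R M] [AddCommGroup M₀]
    [Module R₀ M₀] [AddCommGroup N] [Module S N] [AddCommGroup N₀] [Module S₀ N₀]
    (eR : R ≃+* R₀) (eS : S ≃+* S₀) (he : ∀ r, eS (algebraMap R S r) = algebraMap R₀ S₀ (eR r))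
    (eM : M ≃+ M₀) (hM : ∀ r m, eM (r • m) = eR r • eM m)
    (eN : N ≃+ N₀) (hN : ∀ s x, eN (s • x) = eS s • eN x)
    (E : S ⊗[R] M →ₗ[S] N) (E₀ : S₀ ⊗[R₀] M₀ →ₗ[S₀] N₀)
    (h : ∀ m, eN (E (1 ⊗ₜ m)) = E₀ (1 ⊗ₜ eM m)) (hE₀ : Function.Bijective E₀) : Function.Bijective E := by
  let T : S ⊗[R] M →+ S₀ ⊗[R₀] M₀ := TensorProduct.liftAddHom
    (AddMonoidHom.mk' (fun s => AddMonoidHom.mk' (fun m => eS s ⊗ₜ[R₀] eM m) fun m m' => by
        rw [map_add, TensorProduct.tmul_add])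
      fun s s' => AddMonoidHom.ext fun m => by
        show eS (s + s') ⊗ₜ[R₀] eM m = eS s ⊗ₜ[R₀] eM m + eS s' ⊗ₜ[R₀] eM m
        rw [map_add, TensorProduct.add_tmul])
    fun r s m => by
      show eS (r • s) ⊗ₜ[R₀] eM m = eS s ⊗ₜ[R₀] eM (r • m)
      rw [hM, Algebra.smul_def, map_mul, he, ← Algebra.smul_def, TensorProduct.smul_tmul]
  let T' : S₀ ⊗[R₀] M₀ →+ S ⊗[R] M := TensorProduct.liftAddHom
    (AddMonoidHom.mk' (fun s => AddMonoidHom.mk' (fun m => eS.symm s ⊗ₜ[R] eM.symm m) fun m m' => by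
        rw [map_add, TensorProduct.tmul_add])
      fun s s' => AddMonoidHom.ext fun m => by
        show eS.symm (s + s') ⊗ₜ[R] eM.symm m = eS.symm s ⊗ₜ[R] eM.symm m + eS.symm s' ⊗ₜ[R] eM.symm m
        rw [map_add, TensorProduct.add_tmul])
    fun r s m => by
      show eS.symm (r • s) ⊗ₜ[R] eM.symm m = eS.symm s ⊗ₜ[R] eM.symm (r • m)
      obtain ⟨r', rfl⟩ := eR.surjective r
      obtain ⟨m', rfl⟩ := eM.surjective m
      rw [← hM, AddEquiv.symm_apply_apply, AddEquiv.symm_apply_apply, TensorProduct.tmul_smul,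
        TensorProduct.smul_tmul', Algebra.smul_def, Algebra.smul_def, map_mul, ← he,
        RingEquiv.symm_apply_apply]
  have hT : Function.Bijective T := by
    refine ⟨Function.LeftInverse.injective (g := T') fun z => ?_,
      Function.RightInverse.surjective (g := T') fun z => ?_⟩
    · induction z using TensorProduct.induction_on with
      | zero => rw [map_zero, map_zero]
      | add a b ha hb => rw [map_add, map_add, ha, hb]
      | tmul s m =>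
        show eS.symm (eS s) ⊗ₜ[R] eM.symm (eM m) = _
        rw [RingEquiv.symm_apply_apply, AddEquiv.symm_apply_apply]
    · induction z using TensorProduct.induction_on with
      | zero => rw [map_zero, map_zero]
      | add a b ha hb => rw [map_add, map_add, ha, hb]
      | tmul s m =>
        show eS (eS.symm s) ⊗ₜ[R₀] eM (eM.symm m) = _
        rw [RingEquiv.apply_symm_apply, AddEquiv.apply_symm_apply]
  have hcomp : eN ∘ E = E₀ ∘ T := funext fun z => by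
    show eN (E z) = E₀ (T z)
    induction z using TensorProduct.induction_on with
    | zero => rw [map_zero, map_zero, map_zero, map_zero]
    | add a b ha hb => rw [map_add, map_add, map_add, map_add, ha, hb]
    | tmul s m =>
      show _ = E₀ (eS s ⊗ₜ[R₀] eM m)
      have h1 : s ⊗ₜ[R] m = s • ((1 : S) ⊗ₜ[R] m) := by rw [TensorProduct.smul_tmul', smul_eq_mul, mul_one]
      have h2 : eS s ⊗ₜ[R₀] eM m = eS s • ((1 : S₀) ⊗ₜ[R₀] eM m) := by
        rw [TensorProduct.smul_tmul', smul_eq_mul, mul_one]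
      rw [h1, map_smul, hN, h, h2, map_smul]
  exact (Function.Bijective.of_comp_iff' eN.bijective E).mp (hcomp ▸ hE₀.comp hT)

section twist

variable {S P : Scheme.{u}} {𝒮 : RelProj.QCGrAlg S} {p : P ⟶ S}
  {chart : ∀ (U : S.Opens) (hU : IsAffineOpen U), (((p ⁻¹ᵁ U : P.Opens) : Scheme.{u}) ≅ Proj (𝒮.deg U hU))}
  {n : ℤ} {L : P.Modules}
  {lam : ∀ (U : S.Opens) (hU : IsAffineOpen U),
    L ⟶ (Scheme.Modules.pushforward (RelProj.emb p chart U hU)).obj (GrTwist.twist (𝒮.deg U hU) n)}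

theorem val_lam_le (hP : RelProj.IsRelProj 𝒮 p chart) (hL : RelProj.IsRelTwist 𝒮 p chart n L lam)
    {U V : S.Opens} (hU : IsAffineOpen U) (hV : IsAffineOpen V) (i : V ≤ U) (W : P.Opens) (s : Γ(L, W))
    (y : Proj (𝒮.deg V hV)) (hy : (RelProj.emb p chart V hV).base y ∈ W)
    (hy' : (RelProj.emb p chart U hU).base
      (ProjectiveSpectrum.comap (𝒮.res hU hV i) (irrelevant_le_map_res 𝒮 hU hV i) y) ∈ W) :
    GrTwist.val (V := RelProj.emb p chart V hV ⁻¹ᵁ W) ((lam V hV).app W s) ⟨y, hy⟩ =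
      GrTwist.locMap (𝒮.res hU hV i) (irrelevant_le_map_res 𝒮 hU hV i) y
        (GrTwist.val (V := RelProj.emb p chart U hU ⁻¹ᵁ W) ((lam U hU).app W s) ⟨_, hy'⟩) := by
  have h1 := congr($((isSol_of_isRelTilde (hP := hP) (isQCoh_selfModule 𝒮)
    (isRelTilde_of_isRelTwist (hP := hP) hL)).comm (U := ⟨U, hU⟩) (V := ⟨V, hV⟩) (homOfLE i)).app W s)
  exact (((locModMap_self hU hV i _ _).symm.trans
    ((tildeMap_val hP (selfModule 𝒮) n hU hV i W _ y hy).symm.trans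
      (congrArg (fun q => GrMod.val (V := RelProj.emb p chart V hV ⁻¹ᵁ W) q ⟨y, hy⟩) h1)))).symm

/-- Two sections agree if their readings in some chart near every point agree. -/
theorem section_ext (hL : RelProj.IsRelTwist 𝒮 p chart n L lam) {W : P.Opens} {s t : Γ(L, W)}
    (h : ∀ z ∈ W, ∃ (U : S.Opens) (hU : IsAffineOpen U), p.base z ∈ U ∧
      ∀ (y : Proj (𝒮.deg U hU)) (hy : (RelProj.emb p chart U hU).base y ∈ W),
        GrTwist.val (V := RelProj.emb p chart U hU ⁻¹ᵁ W) ((lam U hU).app W s) ⟨y, hy⟩ =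
          GrTwist.val (V := RelProj.emb p chart U hU ⁻¹ᵁ W) ((lam U hU).app W t) ⟨y, hy⟩) : s = t := by
  choose U hU hz he using h
  refine TopCat.Sheaf.eq_of_locally_eq' (F := ⟨L.presheaf, L.isSheaf⟩)
    (fun z : W => W ⊓ p ⁻¹ᵁ U z.1 z.2) W (fun _ => homOfLE inf_le_left)
    (fun z hzW => Opens.mem_iSup.mpr ⟨⟨z, hzW⟩, hzW, hz z hzW⟩) _ _ fun z => ?_
  refine (hL.bijective (U z.1 z.2) (hU z.1 z.2) (W ⊓ p ⁻¹ᵁ U z.1 z.2) inf_le_right).injective ?_
  change (lam _ _).app _ (mres L inf_le_left s) = (lam _ _).app _ (mres L inf_le_left t)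
  rw [mres_app, mres_app]
  refine Subtype.ext (funext fun y => Subtype.ext ?_)
  exact he z.1 z.2 y.1 y.2.1

theorem val_lam_mres {U : S.Opens} (hU : IsAffineOpen U) {W V : P.Opens} (h : V ≤ W) (s : Γ(L, W))
    (y : Proj (𝒮.deg U hU)) (hy : (RelProj.emb p chart U hU).base y ∈ V) :
    GrTwist.val (V := RelProj.emb p chart U hU ⁻¹ᵁ V) ((lam U hU).app V (mres L h s)) ⟨y, hy⟩ =
      GrTwist.val (V := RelProj.emb p chart U hU ⁻¹ᵁ W) ((lam U hU).app W s) ⟨y, h hy⟩ := by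
  rw [mres_app]
  rfl

theorem val_lam_add {U : S.Opens} (hU : IsAffineOpen U) (W : P.Opens) (s t : Γ(L, W))
    (y : Proj (𝒮.deg U hU)) (hy : (RelProj.emb p chart U hU).base y ∈ W) :
    GrTwist.val (V := RelProj.emb p chart U hU ⁻¹ᵁ W) ((lam U hU).app W (s + t)) ⟨y, hy⟩ =
      GrTwist.val (V := RelProj.emb p chart U hU ⁻¹ᵁ W) ((lam U hU).app W s) ⟨y, hy⟩ +
        GrTwist.val (V := RelProj.emb p chart U hU ⁻¹ᵁ W) ((lam U hU).app W t) ⟨y, hy⟩ :=
  congrArg (fun q => GrTwist.val (V := RelProj.emb p chart U hU ⁻¹ᵁ W) q ⟨y, hy⟩)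
    (map_add ((lam U hU).app W).hom s t)

theorem val_lam_smul {U : S.Opens} (hU : IsAffineOpen U) (W : P.Opens) (r : Γ(P, W)) (s : Γ(L, W))
    (y : Proj (𝒮.deg U hU)) (hy : (RelProj.emb p chart U hU).base y ∈ W) :
    GrTwist.val (V := RelProj.emb p chart U hU ⁻¹ᵁ W) ((lam U hU).app W (r • s)) ⟨y, hy⟩ =
      ((((RelProj.emb p chart U hU).app W r).1 ⟨y, hy⟩)).val *
        GrTwist.val (V := RelProj.emb p chart U hU ⁻¹ᵁ W) ((lam U hU).app W s) ⟨y, hy⟩ :=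
  (congrArg (fun q => GrTwist.val (V := RelProj.emb p chart U hU ⁻¹ᵁ W) q ⟨y, hy⟩)
    (Scheme.Modules.Hom.app_smul (lam U hU) r s)).trans (GrTwist.coe_smul_val n y _ _)

variable (lam) in
/-- The sections of `L` over a chart open, as sections of `𝒮(U)(n)~`. -/
def chartHom {U : S.Opens} (hU : IsAffineOpen U) (O : P.Opens) {D : (Proj (𝒮.deg U hU)).Opens}
    (hD : D ≤ RelProj.emb p chart U hU ⁻¹ᵁ O) :
    Γ(L, O) →+ Γ(GrMod.tilde (𝒮.deg U hU) (𝒮.deg U hU) n, D) :=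
  (((GrMod.tilde (𝒮.deg U hU) (𝒮.deg U hU) n).presheaf.map (homOfLE hD).op).hom.comp
    ((GrT.twistIsoTilde (𝒮.deg U hU) n).hom.app (RelProj.emb p chart U hU ⁻¹ᵁ O)).hom).comp ((lam U hU).app O).hom

theorem val_chartHom {U : S.Opens} (hU : IsAffineOpen U) (O : P.Opens) {D : (Proj (𝒮.deg U hU)).Opens}
    (hD : D ≤ RelProj.emb p chart U hU ⁻¹ᵁ O) (s : Γ(L, O)) (y : D) :
    GrMod.val (V := D) (chartHom lam hU O hD s) y =
      GrTwist.val (V := RelProj.emb p chart U hU ⁻¹ᵁ O) ((lam U hU).app O s) ⟨y.1, hD y.2⟩ := rfl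

theorem chartHom_smul {U : S.Opens} (hU : IsAffineOpen U) (O : P.Opens) {D : (Proj (𝒮.deg U hU)).Opens}
    (hD : D ≤ RelProj.emb p chart U hU ⁻¹ᵁ O) (r : Γ(P, O)) (s : Γ(L, O)) :
    chartHom lam hU O hD (r • s) = (RelProj.emb p chart U hU).appLE O D hD r • chartHom lam hU O hD s := by
  refine GrT.sect_ext fun y => ?_
  refine ((val_chartHom hU O hD _ y).trans (val_lam_smul hU O r s y.1 (hD y.2))).trans ?_
  exact (GrMod.coe_smul_val n y.1 _ _).symm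

theorem bijective_chartHom (hL : RelProj.IsRelTwist 𝒮 p chart n L lam) {U : S.Opens} (hU : IsAffineOpen U)
    (O : P.Opens) (hO : O ≤ p ⁻¹ᵁ U) {D : (Proj (𝒮.deg U hU)).Opens}
    (hD : D = RelProj.emb p chart U hU ⁻¹ᵁ O) : Function.Bijective (chartHom lam hU O hD.le) := by
  subst hD
  have h₁ : Function.Bijective ((GrMod.tilde (𝒮.deg U hU) (𝒮.deg U hU) n).presheaf.map
      (homOfLE (le_refl (RelProj.emb p chart U hU ⁻¹ᵁ O))).op) := by
    have : IsIso (homOfLE (le_refl (RelProj.emb p chart U hU ⁻¹ᵁ O))) := ⟨homOfLE le_rfl, rfl, rfl⟩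
    exact (ConcreteCategory.isIso_iff_bijective _).mp (Functor.map_isIso _ _)
  have h₂ : Function.Bijective ((GrT.twistIsoTilde (𝒮.deg U hU) n).hom.app (RelProj.emb p chart U hU ⁻¹ᵁ O)) :=
    ConcreteCategory.bijective_of_isIso _
  exact h₁.comp (h₂.comp (hL.bijective U hU O hO))

theorem appLE_congr {X Z : Scheme.{u}} {e₁ e₂ : Z ⟶ X} (he : e₁ = e₂) (W : X.Opens) (D : Z.Opens)
    (h₁ : D ≤ e₁ ⁻¹ᵁ W) (h₂ : D ≤ e₂ ⁻¹ᵁ W) : e₁.appLE W D h₁ = e₂.appLE W D h₂ := by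
  subst he; rfl

end twist

variable {Y Y' P P' : Scheme.{u}} {ψ : Y' ⟶ Y} {𝒮 : RelProj.QCGrAlg Y} {𝒮' : RelProj.QCGrAlg Y'}
  {u : 𝒮.presheaf ⟶ ψ.base _* 𝒮'.presheaf}
  {φ : ∀ (U : Y.Opens) (hU : IsAffineOpen U) (U' : Y'.Opens) (hU' : IsAffineOpen U') (_ : U' ≤ ψ ⁻¹ᵁ U),
    𝒮.deg U hU →+*ᵍ 𝒮'.deg U' hU'}
  (hφ : ∀ (U : Y.Opens) (hU : IsAffineOpen U) (U' : Y'.Opens) (hU' : IsAffineOpen U') (hle : U' ≤ ψ ⁻¹ᵁ U),
    (φ U hU U' hU' hle).toRingHom =
      ((u.app (op U) : 𝒮.presheaf.obj (op U) ⟶ 𝒮'.presheaf.obj (op (ψ ⁻¹ᵁ U))) ≫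
        𝒮'.presheaf.map (homOfLE hle).op).hom)
  {hirr : ∀ (U : Y.Opens) (hU : IsAffineOpen U) (U' : Y'.Opens) (hU' : IsAffineOpen U') (hle : U' ≤ ψ ⁻¹ᵁ U),
    (𝒮'.deg U' hU')₊ ≤ ((𝒮.deg U hU)₊).map (φ U hU U' hU' hle)}
  {p : P ⟶ Y}
  {chart : ∀ (U : Y.Opens) (hU : IsAffineOpen U), (((p ⁻¹ᵁ U : P.Opens) : Scheme.{u}) ≅ Proj (𝒮.deg U hU))}
  (hP : RelProj.IsRelProj 𝒮 p chart) {p' : P' ⟶ Y'}
  {chart' : ∀ (U' : Y'.Opens) (hU' : IsAffineOpen U'), (((p' ⁻¹ᵁ U' : P'.Opens) : Scheme.{u}) ≅ Proj (𝒮'.deg U' hU'))}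
  (hP' : RelProj.IsRelProj 𝒮' p' chart') {g : P' ⟶ P}
  (hg : ∀ (U : Y.Opens) (hU : IsAffineOpen U) (U' : Y'.Opens) (hU' : IsAffineOpen U') (hle : U' ≤ ψ ⁻¹ᵁ U),
    (p' ⁻¹ᵁ U').ι ≫ g =
      (chart' U' hU').hom ≫ Proj.map (φ U hU U' hU' hle) (hirr U hU U' hU' hle) ≫ RelProj.emb p chart U hU)
  {n : ℤ} {L : P.Modules}
  {lam : ∀ (U : Y.Opens) (hU : IsAffineOpen U),
    L ⟶ (Scheme.Modules.pushforward (RelProj.emb p chart U hU)).obj (GrTwist.twist (𝒮.deg U hU) n)}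
  (hL : RelProj.IsRelTwist 𝒮 p chart n L lam) {L' : P'.Modules}
  {lam' : ∀ (U' : Y'.Opens) (hU' : IsAffineOpen U'),
    L' ⟶ (Scheme.Modules.pushforward (RelProj.emb p' chart' U' hU')).obj (GrTwist.twist (𝒮'.deg U' hU') n)}
  (hL' : RelProj.IsRelTwist 𝒮' p' chart' n L' lam')

/-- Pairs of affine opens, one mapping into the other. -/
structure Chart (ψ : Y' ⟶ Y) where
  /-- the open downstairs -/
  U : Y.Opens
  hU : IsAffineOpen U
  /-- the open upstairs -/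
  U' : Y'.Opens
  hU' : IsAffineOpen U'
  le : U' ≤ ψ ⁻¹ᵁ U

include hφ in
theorem map_res {a c : Chart ψ} (i : c.U ≤ a.U) (i' : c.U' ≤ a.U') (x : 𝒮.presheaf.obj (op a.U)) :
    𝒮'.res a.hU' c.hU' i' (φ a.U a.hU a.U' a.hU' a.le x) =
      φ c.U c.hU c.U' c.hU' c.le (𝒮.res a.hU c.hU i x) := by
  have e : ∀ (b : Chart ψ) x, φ b.U b.hU b.U' b.hU' b.le x =
      (𝒮'.presheaf.map (homOfLE b.le).op).hom ((u.app (op b.U)).hom x) := fun b x =>
    congr($(hφ b.U b.hU b.U' b.hU' b.le) x)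
  rw [e, e, RelProj.QCGrAlg.res_apply, RelProj.QCGrAlg.res_apply]
  have h1 := congr(CommRingCat.Hom.hom $(u.naturality (homOfLE i).op) x)
  refine Eq.trans ?_ (congrArg (𝒮'.presheaf.map (homOfLE c.le).op).hom h1).symm
  show _ = (𝒮'.presheaf.map (homOfLE c.le).op).hom ((𝒮'.presheaf.map ((Opens.map ψ.base).map (homOfLE i)).op).hom _)
  show (𝒮'.presheaf.map (homOfLE i').op).hom ((𝒮'.presheaf.map (homOfLE a.le).op).hom _) = _
  generalize (u.app (op a.U)).hom x = z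
  have e' : 𝒮'.presheaf.map (homOfLE a.le).op ≫ 𝒮'.presheaf.map (homOfLE i').op =
      𝒮'.presheaf.map ((Opens.map ψ.base).map (homOfLE i)).op ≫ 𝒮'.presheaf.map (homOfLE c.le).op := by
    rw [← Functor.map_comp, ← Functor.map_comp]
    rfl
  exact congr(CommRingCat.Hom.hom $e' z)

include hg in
theorem emb_comp (a : Chart ψ) :
    RelProj.emb p' chart' a.U' a.hU' ≫ g =
      Proj.map (φ a.U a.hU a.U' a.hU' a.le) (hirr a.U a.hU a.U' a.hU' a.le) ≫ RelProj.emb p chart a.U a.hU := by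
  rw [RelProj.emb, Category.assoc, hg a.U a.hU a.U' a.hU' a.le, Iso.inv_hom_id_assoc]

include hg in
theorem emb_apply (a : Chart ψ) (y : Proj (𝒮'.deg a.U' a.hU')) :
    g.base ((RelProj.emb p' chart' a.U' a.hU').base y) = (RelProj.emb p chart a.U a.hU).base
      (ProjectiveSpectrum.comap (φ a.U a.hU a.U' a.hU' a.le) (hirr a.U a.hU a.U' a.hU' a.le) y) :=
  congr($(emb_comp hg a).base y)

variable (lam) in
/-- The value prescribed in one chart. -/
def pairSect (a : Chart ψ) (W : P.Opens) (s : Γ(L, W)) :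
    Γ((Scheme.Modules.pushforward (RelProj.emb p' chart' a.U' a.hU')).obj (GrTwist.twist (𝒮'.deg a.U' a.hU') n),
      g ⁻¹ᵁ W) :=
  GrTwist.comapApp (φ a.U a.hU a.U' a.hU' a.le) (hirr a.U a.hU a.U' a.hU' a.le) n (RelProj.emb p chart a.U a.hU ⁻¹ᵁ W)
    (RelProj.emb p' chart' a.U' a.hU' ⁻¹ᵁ (g ⁻¹ᵁ W))
    (fun y hy => show _ ∈ W from Eq.subst (motive := fun t => t ∈ W) (emb_apply hg a y) hy)
    ((lam a.U a.hU).app W s)

theorem val_pairSect (a : Chart ψ) (W : P.Opens) (s : Γ(L, W)) (y : Proj (𝒮'.deg a.U' a.hU'))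
    (hy : (RelProj.emb p' chart' a.U' a.hU').base y ∈ g ⁻¹ᵁ W) :
    GrTwist.val (V := RelProj.emb p' chart' a.U' a.hU' ⁻¹ᵁ (g ⁻¹ᵁ W)) (pairSect hg lam a W s) ⟨y, hy⟩ =
      GrTwist.locMap (φ a.U a.hU a.U' a.hU' a.le) (hirr a.U a.hU a.U' a.hU' a.le) y
        (GrTwist.val (V := RelProj.emb p chart a.U a.hU ⁻¹ᵁ W) ((lam a.U a.hU).app W s)
          ⟨_, show _ ∈ W from Eq.subst (motive := fun t => t ∈ W) (emb_apply hg a y) hy⟩) := rfl

variable (lam lam') in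
/-- `t` is the prescribed image of `s` in every chart. -/
def IsPush (W : P.Opens) (s : Γ(L, W)) (t : Γ(L', g ⁻¹ᵁ W)) : Prop :=
  ∀ (a : Chart ψ) (y : Proj (𝒮'.deg a.U' a.hU')) (hy : (RelProj.emb p' chart' a.U' a.hU').base y ∈ g ⁻¹ᵁ W),
    GrTwist.val (V := RelProj.emb p' chart' a.U' a.hU' ⁻¹ᵁ (g ⁻¹ᵁ W)) ((lam' a.U' a.hU').app (g ⁻¹ᵁ W) t) ⟨y, hy⟩ =
      GrTwist.val (V := RelProj.emb p' chart' a.U' a.hU' ⁻¹ᵁ (g ⁻¹ᵁ W)) (pairSect hg lam a W s) ⟨y, hy⟩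

theorem exists_chart {y' : Y'} {O : Y.Opens} {O' : Y'.Opens} (hy : ψ.base y' ∈ O) (hy' : y' ∈ O') :
    ∃ c : Chart ψ, y' ∈ c.U' ∧ c.U ≤ O ∧ c.U' ≤ O' := by
  obtain ⟨D, hD, hDO⟩ := AffSystem.exists_affineOpens_le hy
  obtain ⟨D', hD', hDO'⟩ := AffSystem.exists_affineOpens_le (O := O' ⊓ ψ ⁻¹ᵁ D.1) (s := y') ⟨hy', hD⟩
  exact ⟨⟨D.1, D.2, D'.1, D'.2, hDO'.trans inf_le_right⟩, hD', hDO, hDO'.trans inf_le_left⟩

include hφ hP hP' hL hL' in
/-- A section with the prescribed reading in one chart has it in smaller charts. -/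
theorem reading_le (W : P.Opens) (s : Γ(L, W)) {a c : Chart ψ} (i : c.U ≤ a.U) (i' : c.U' ≤ a.U')
    {V : P'.Opens} (hV : V ≤ g ⁻¹ᵁ W) (t : Γ(L', V))
    (ht : ∀ y (hy : (RelProj.emb p' chart' a.U' a.hU').base y ∈ V),
      GrTwist.val (V := RelProj.emb p' chart' a.U' a.hU' ⁻¹ᵁ V) ((lam' a.U' a.hU').app V t) ⟨y, hy⟩ =
        GrTwist.val (V := RelProj.emb p' chart' a.U' a.hU' ⁻¹ᵁ (g ⁻¹ᵁ W)) (pairSect hg lam a W s) ⟨y, hV hy⟩)
    (y : Proj (𝒮'.deg c.U' c.hU')) (hy : (RelProj.emb p' chart' c.U' c.hU').base y ∈ V) :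
    GrTwist.val (V := RelProj.emb p' chart' c.U' c.hU' ⁻¹ᵁ V) ((lam' c.U' c.hU').app V t) ⟨y, hy⟩ =
      GrTwist.val (V := RelProj.emb p' chart' c.U' c.hU' ⁻¹ᵁ (g ⁻¹ᵁ W)) (pairSect hg lam c W s) ⟨y, hV hy⟩ := by
  have hy₁ : (RelProj.emb p' chart' a.U' a.hU').base
      (ProjectiveSpectrum.comap (𝒮'.res a.hU' c.hU' i') (irrelevant_le_map_res 𝒮' a.hU' c.hU' i') y) ∈ V := by
    exact Eq.subst (motive := fun t => t ∈ V) (congr($(map_res_emb' hP' a.hU' c.hU' i').base y)).symm hy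
  refine (val_lam_le hP' hL' a.hU' c.hU' i' V t y hy hy₁).trans ?_
  rw [ht _ hy₁, val_pairSect, val_pairSect]
  have hy₂ : (RelProj.emb p chart c.U c.hU).base
      (ProjectiveSpectrum.comap (φ c.U c.hU c.U' c.hU' c.le) (hirr c.U c.hU c.U' c.hU' c.le) y) ∈ W :=
    Eq.subst (motive := fun t => t ∈ W) (emb_apply hg c y) (hV hy)
  have hy₃ : (RelProj.emb p chart a.U a.hU).base (ProjectiveSpectrum.comap (𝒮.res a.hU c.hU i)
      (irrelevant_le_map_res 𝒮 a.hU c.hU i)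
      (ProjectiveSpectrum.comap (φ c.U c.hU c.U' c.hU' c.le) (hirr c.U c.hU c.U' c.hU' c.le) y)) ∈ W := by
    exact Eq.subst (motive := fun t => t ∈ W) (congr($(map_res_emb' hP a.hU c.hU i).base
      (ProjectiveSpectrum.comap (φ c.U c.hU c.U' c.hU' c.le) (hirr c.U c.hU c.U' c.hU' c.le) y))).symm hy₂
  rw [val_lam_le hP hL a.hU c.hU i W s _ hy₂ hy₃]
  exact map_section_congr ((lam a.U a.hU).app W s) _ _ _ _ _ _ _ _ (fun x => map_res hφ i i' x) y _ _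

include hφ hP hP' hL hL' in
theorem existsUnique_push (W : P.Opens) (s : Γ(L, W)) : ∃! t, IsPush hg lam lam' W s t := by
  refine existsUnique_of_exists_of_unique ?_ fun t t' ht ht' => ?_
  · have hloc : ∀ a : Chart ψ, ∃ t : Γ(L', g ⁻¹ᵁ W ⊓ p' ⁻¹ᵁ a.U'),
        (lam' a.U' a.hU').app _ t = mres _ inf_le_left (pairSect hg lam a W s) :=
      fun a => (hL'.bijective a.U' a.hU' _ inf_le_right).surjective _
    choose ta hta using hloc
    have hread : ∀ (a : Chart ψ) y (hy : (RelProj.emb p' chart' a.U' a.hU').base y ∈ g ⁻¹ᵁ W ⊓ p' ⁻¹ᵁ a.U'),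
        GrTwist.val (V := RelProj.emb p' chart' a.U' a.hU' ⁻¹ᵁ (g ⁻¹ᵁ W ⊓ p' ⁻¹ᵁ a.U'))
          ((lam' a.U' a.hU').app _ (ta a)) ⟨y, hy⟩ =
          GrTwist.val (V := RelProj.emb p' chart' a.U' a.hU' ⁻¹ᵁ (g ⁻¹ᵁ W)) (pairSect hg lam a W s) ⟨y, hy.1⟩ := by
      intro a y hy
      refine (congrArg (fun q => GrTwist.val
        (V := RelProj.emb p' chart' a.U' a.hU' ⁻¹ᵁ (g ⁻¹ᵁ W ⊓ p' ⁻¹ᵁ a.U')) q ⟨y, hy⟩) (hta a)).trans ?_
      exact val_mres_pushforward _ inf_le_left _ _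
    obtain ⟨t, ht, -⟩ := TopCat.Sheaf.existsUnique_gluing' ⟨L'.presheaf, L'.isSheaf⟩
      (fun a : Chart ψ => g ⁻¹ᵁ W ⊓ p' ⁻¹ᵁ a.U') (g ⁻¹ᵁ W) (fun _ => homOfLE inf_le_left)
      (fun z hz => by
        obtain ⟨c, hc, -, -⟩ := exists_chart (ψ := ψ) (y' := p'.base z) (O := ⊤) (O' := ⊤) trivial trivial
        exact Opens.mem_iSup.mpr ⟨c, hz, hc⟩)
      ta (fun a b => by
        change mres L' inf_le_left (ta a) = mres L' inf_le_right (ta b)
        refine section_ext hL' fun z hz => ?_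
        obtain ⟨c, hc, hcU, hcU'⟩ := exists_chart (ψ := ψ) (y' := p'.base z) (O := a.U ⊓ b.U) (O' := a.U' ⊓ b.U')
          ⟨a.le hz.1.2, b.le hz.2.2⟩ ⟨hz.1.2, hz.2.2⟩
        refine ⟨c.U', c.hU', hc, fun y hy => ?_⟩
        refine (val_lam_mres c.hU' inf_le_left (ta a) y hy).trans
          (Eq.trans ?_ (val_lam_mres c.hU' inf_le_right (ta b) y hy).symm)
        exact (reading_le hφ hP hP' hg hL hL' W s (hcU.trans inf_le_left) (hcU'.trans inf_le_left) inf_le_left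
            (ta a) (hread a) y hy.1).trans
          (reading_le hφ hP hP' hg hL hL' W s (hcU.trans inf_le_right) (hcU'.trans inf_le_right) inf_le_left
            (ta b) (hread b) y hy.2).symm)
    refine ⟨t, fun a y hy => ?_⟩
    have hy₁ : (RelProj.emb p' chart' a.U' a.hU').base y ∈ g ⁻¹ᵁ W ⊓ p' ⁻¹ᵁ a.U' := by
      refine ⟨hy, ?_⟩
      change (RelProj.emb p' chart' a.U' a.hU').base y ∈ p' ⁻¹ᵁ a.U'
      rw [← opensRange_emb (chart := chart') a.U' a.hU']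
      exact ⟨y, rfl⟩
    refine Eq.trans ?_ (hread a y hy₁)
    rw [← ht a]
    exact (val_lam_mres a.hU' inf_le_left t y hy₁).symm
  · refine section_ext hL' fun z hz => ?_
    obtain ⟨c, hc, -, -⟩ := exists_chart (ψ := ψ) (y' := p'.base z) (O := ⊤) (O' := ⊤) trivial trivial
    exact ⟨c.U', c.hU', hc, fun y hy => (ht c y hy).trans (ht' c y hy).symm⟩

/-- The comparison on sections. -/
def pushSect (W : P.Opens) (s : Γ(L, W)) : Γ(L', g ⁻¹ᵁ W) :=
  (existsUnique_push hφ hP hP' hg hL hL' W s).exists.choose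

theorem isPush_pushSect (W : P.Opens) (s : Γ(L, W)) :
    IsPush hg lam lam' W s (pushSect hφ hP hP' hg hL hL' W s) :=
  (existsUnique_push hφ hP hP' hg hL hL' W s).exists.choose_spec

theorem eq_pushSect {W : P.Opens} {s : Γ(L, W)} {t : Γ(L', g ⁻¹ᵁ W)} (ht : IsPush hg lam lam' W s t) :
    t = pushSect hφ hP hP' hg hL hL' W s :=
  (existsUnique_push hφ hP hP' hg hL hL' W s).unique ht (isPush_pushSect hφ hP hP' hg hL hL' W s)

theorem pushSect_add (W : P.Opens) (s t : Γ(L, W)) :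
    pushSect hφ hP hP' hg hL hL' W (s + t) =
      pushSect hφ hP hP' hg hL hL' W s + pushSect hφ hP hP' hg hL hL' W t := by
  refine (eq_pushSect hφ hP hP' hg hL hL' fun a y hy => ?_).symm
  rw [val_lam_add, isPush_pushSect hφ hP hP' hg hL hL' W s a y hy, isPush_pushSect hφ hP hP' hg hL hL' W t a y hy,
    val_pairSect, val_pairSect, val_pairSect, val_lam_add, map_add]

theorem pushSect_mres {W V : P.Opens} (i : V ≤ W) (s : Γ(L, W)) :
    pushSect hφ hP hP' hg hL hL' V (mres L i s) =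
      mres L' (g.preimage_mono i) (pushSect hφ hP hP' hg hL hL' W s) := by
  refine (eq_pushSect hφ hP hP' hg hL hL' fun a y hy => ?_).symm
  rw [val_lam_mres, isPush_pushSect hφ hP hP' hg hL hL' W s a y (g.preimage_mono i hy), val_pairSect, val_pairSect,
    val_lam_mres]

theorem pushSect_smul (W : P.Opens) (r : Γ(P, W)) (s : Γ(L, W)) :
    pushSect hφ hP hP' hg hL hL' W (r • s) = g.app W r • pushSect hφ hP hP' hg hL hL' W s := by
  refine (eq_pushSect hφ hP hP' hg hL hL' fun a y hy => ?_).symm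
  rw [val_lam_smul, isPush_pushSect hφ hP hP' hg hL hL' W s a y hy, val_pairSect, val_pairSect, val_lam_smul, map_mul]
  congr 1
  have hy' : y ∈ (RelProj.emb p' chart' a.U' a.hU' ≫ g) ⁻¹ᵁ W := hy
  exact (app_val_congr (emb_comp hg a) W r y hy' ((emb_comp hg a) ▸ hy')).trans (map_app_val _ _ _ _ y _)

/-- The comparison `O_P(n) → g_* O_P'(n)`. -/
def twistPull : L ⟶ (Scheme.Modules.pushforward g).obj L' :=
  ⟨PresheafOfModules.homMk
    { app := fun W => AddCommGrpCat.ofHom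
        (AddMonoidHom.mk' (pushSect hφ hP hP' hg hL hL' W.unop) (pushSect_add hφ hP hP' hg hL hL' W.unop))
      naturality := fun {W V} i => AddCommGrpCat.hom_ext (AddMonoidHom.ext fun s =>
        pushSect_mres hφ hP hP' hg hL hL' i.unop.le s) }
    fun W r s => pushSect_smul hφ hP hP' hg hL hL' W.unop r s⟩

theorem exists_lift_res {X Z : Scheme.{u}} (f : Z ⟶ X) {F : X.Modules} {G : Z.Modules}
    (θ : F ⟶ (Scheme.Modules.pushforward f).obj G) {O : X.Opens} {V : Z.Opens} (e : V ≤ f ⁻¹ᵁ O) :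
    letI := (f.appLE O V e).hom.toAlgebra
    ∃ E : (Γ(Z, V) ⊗[Γ(X, O)] Γ(F, O)) →ₗ[Γ(Z, V)] Γ(G, V), ∀ x, E (1 ⊗ₜ x) = QC70.res G e (θ.app O x) := by
  let := (f.appLE O V e).hom.toAlgebra
  let : Module Γ(X, O) Γ(G, V) := Module.compHom _ (algebraMap Γ(X, O) Γ(Z, V))
  have : IsScalarTower Γ(X, O) Γ(Z, V) Γ(G, V) := IsScalarTower.of_algebraMap_smul fun _ _ => rfl
  let l : Γ(F, O) →ₗ[Γ(X, O)] Γ(G, V) :=
    { toFun := fun x => QC70.res G e (θ.app O x)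
      map_add' := fun a b => by
        simp only [map_add]
        exact QC70.res_add _ _ _
      map_smul' := fun r a => by
        rw [Scheme.Modules.Hom.app_smul]
        exact QC70.res_smul _ _ _ }
  exact ⟨l.liftBaseChange _, fun x => (LinearMap.liftBaseChange_tmul _ _ _ _).trans (one_smul _ _)⟩

include hg in
theorem appLE_chart (c : Chart ψ) {U : P.Opens} {V : P'.Opens} (hV : V ≤ g ⁻¹ᵁ U)
    {D : (Proj (𝒮.deg c.U c.hU)).Opens} {D' : (Proj (𝒮'.deg c.U' c.hU')).Opens}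
    (h₁ : D ≤ RelProj.emb p chart c.U c.hU ⁻¹ᵁ U) (h₂ : D' ≤ RelProj.emb p' chart' c.U' c.hU' ⁻¹ᵁ V)
    (h₃ : D' ≤ Proj.map (φ c.U c.hU c.U' c.hU' c.le) (hirr c.U c.hU c.U' c.hU' c.le) ⁻¹ᵁ D) (r : Γ(P, U)) :
    (RelProj.emb p' chart' c.U' c.hU').appLE V D' h₂ (g.appLE U V hV r) =
      (Proj.map (φ c.U c.hU c.U' c.hU' c.le) (hirr c.U c.hU c.U' c.hU' c.le)).appLE D D' h₃
        ((RelProj.emb p chart c.U c.hU).appLE U D h₁ r) := by
  rw [← ConcreteCategory.comp_apply, ← ConcreteCategory.comp_apply, Scheme.Hom.appLE_comp_appLE,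
    Scheme.Hom.appLE_comp_appLE, appLE_congr (emb_comp hg c)]

theorem push_chartHom (c : Chart ψ) {f : 𝒮.presheaf.obj (op c.U)} {U : P.Opens} {V : P'.Opens} (hV : V ≤ g ⁻¹ᵁ U)
    (hU : Proj.basicOpen (𝒮.deg c.U c.hU) f ≤ RelProj.emb p chart c.U c.hU ⁻¹ᵁ U)
    (hV' : Proj.basicOpen (𝒮'.deg c.U' c.hU') (φ c.U c.hU c.U' c.hU' c.le f) ≤
      RelProj.emb p' chart' c.U' c.hU' ⁻¹ᵁ V)
    (x : Γ(L, U)) :
    chartHom lam' c.hU' V hV' (QC70.res L' hV ((twistPull hφ hP hP' hg hL hL').app U x)) =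
      TildeBaseChange.push (φ c.U c.hU c.U' c.hU' c.le) (hirr c.U c.hU c.U' c.hU' c.le)
        (ringSemi (φ c.U c.hU c.U' c.hU' c.le)) (fun _ _ ha => (φ c.U c.hU c.U' c.hU' c.le).map_mem ha) n
        (chartHom lam c.hU U hU x) := by
  refine GrT.sect_ext fun w => ?_
  refine (val_chartHom c.hU' V hV' _ w).trans ?_
  refine (val_lam_mres c.hU' hV _ w.1 (hV' w.2)).trans ?_
  refine (isPush_pushSect hφ hP hP' hg hL hL' U x c w.1 (hV (hV' w.2))).trans ?_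
  refine (val_pairSect hg c U x w.1 (hV (hV' w.2))).trans ?_
  exact (locModMap_ringSemi (φ c.U c.hU c.U' c.hU' c.le) (hirr c.U c.hU c.U' c.hU' c.le) w.1 _).symm

set_option maxHeartbeats 800000 in
-- many dependent chart identifications
include hφ hP hP' hg hL hL' in
theorem nonempty_pullback_iso
    (hpo : ∀ (U : Y.Opens) (hU : IsAffineOpen U) (U' : Y'.Opens) (hU' : IsAffineOpen U') (hle : U' ≤ ψ ⁻¹ᵁ U),
      IsPushout (ψ.appLE U U' hle) (𝒮.str.app (op U)) (𝒮'.str.app (op U'))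
        ((u.app (op U) : 𝒮.presheaf.obj (op U) ⟶ 𝒮'.presheaf.obj (op (ψ ⁻¹ᵁ U))) ≫
          𝒮'.presheaf.map (homOfLE hle).op)) :
    Nonempty ((Scheme.Modules.pullback g).obj L ≅ L') := by
  have : L.IsQuasicoherent := isQCoh_of_isRelTwist (hL := hL)
  have : L'.IsQuasicoherent := isQCoh_of_isRelTwist (hL := hL')
  have : IsIso (((Scheme.Modules.pullbackPushforwardAdjunction g).homEquiv _ _).symm
      (twistPull hφ hP hP' hg hL hL')) := by
    refine isIso_adjunct_of_baseChange g _ fun y' => ?_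
    obtain ⟨c, hc, -, -⟩ := exists_chart (ψ := ψ) (y' := p'.base y') (O := ⊤) (O' := ⊤) trivial trivial
    obtain ⟨z, rfl⟩ : y' ∈ Set.range (RelProj.emb p' chart' c.U' c.hU').base := by
      change y' ∈ (RelProj.emb p' chart' c.U' c.hU').opensRange
      rw [opensRange_emb]
      exact hc
    set φc := φ c.U c.hU c.U' c.hU' c.le
    set hψ := hirr c.U c.hU c.U' c.hU' c.le
    obtain ⟨d, f, hd, hf, hzf⟩ := GrT.exists_pos_notMem (𝒜 := 𝒮.deg c.U c.hU) (ProjectiveSpectrum.comap φc hψ z)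
    set e₁ := RelProj.emb p chart c.U c.hU
    set e₂ := RelProj.emb p' chart' c.U' c.hU'
    set D := Proj.basicOpen (𝒮.deg c.U c.hU) f
    set D' := Proj.basicOpen (𝒮'.deg c.U' c.hU') (φc f)
    have hV : e₂ ''ᵁ D' ≤ g ⁻¹ᵁ (e₁ ''ᵁ D) := by
      rintro _ ⟨w, hw, rfl⟩
      exact ⟨ProjectiveSpectrum.comap φc hψ w, TildeBaseChange.preimage_le φc hψ hw, (emb_apply hg c w).symm⟩
    have hD : D = e₁ ⁻¹ᵁ (e₁ ''ᵁ D) := (e₁.preimage_image_eq D).symm
    have hD' : D' = e₂ ⁻¹ᵁ (e₂ ''ᵁ D') := (e₂.preimage_image_eq D').symm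
    have hO : e₁ ''ᵁ D ≤ p ⁻¹ᵁ c.U := (e₁.image_le_opensRange D).trans_eq (opensRange_emb c.U c.hU)
    have hO' : e₂ ''ᵁ D' ≤ p' ⁻¹ᵁ c.U' := (e₂.image_le_opensRange D').trans_eq (opensRange_emb c.U' c.hU')
    refine ⟨e₁ ''ᵁ D, (Proj.isAffineOpen_basicOpen _ f hf hd).image_of_isOpenImmersion e₁, e₂ ''ᵁ D',
      (Proj.isAffineOpen_basicOpen _ _ (φc.map_mem hf) hd).image_of_isOpenImmersion e₂, hV,
      ⟨z, hzf, rfl⟩, ?_⟩
    let := (g.appLE (e₁ ''ᵁ D) (e₂ ''ᵁ D') hV).hom.toAlgebra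
    let := TildeBaseChange.algebraSections φc hψ (f := f)
    obtain ⟨E, hE⟩ := exists_lift_res g (twistPull hφ hP hP' hg hL hL') hV
    obtain ⟨E₀, hE₀⟩ := TildeBaseChange.exists_lift (ℳ := 𝒮.deg c.U c.hU) (𝒩 := 𝒮'.deg c.U' c.hU') φc hψ (ringSemi φc)
      (fun _ _ ha => φc.map_mem ha) (f := f) n
    have hb := RingBaseChange.bijective_lift φc hψ (hpo c.U c.hU c.U' c.hU' c.le) (hφ c.U c.hU c.U' c.hU' c.le)
      (𝒮.str_mem c.U c.hU) (𝒮'.str_mem c.U' c.hU') hf hd n hE₀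
    refine ⟨E, ?_, hE⟩
    refine bijective_transport (e₁.appIso D).commRingCatIsoToRingEquiv (e₂.appIso D').commRingCatIsoToRingEquiv
      (fun r => ?_)
      (AddEquiv.ofBijective (chartHom lam c.hU (e₁ ''ᵁ D) hD.le) (bijective_chartHom hL c.hU _ hO hD))
      (fun r m => ?_)
      (AddEquiv.ofBijective (chartHom lam' c.hU' (e₂ ''ᵁ D') hD'.le) (bijective_chartHom hL' c.hU' _ hO' hD'))
      (fun r m => ?_) E E₀ (fun m => ?_) hb
    · show (e₂.appIso D').hom ((g.appLE _ _ hV) r) = (Proj.map φc hψ).appLE _ _ _ ((e₁.appIso D).hom r)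
      rw [Scheme.Hom.appIso_hom', Scheme.Hom.appIso_hom']
      exact appLE_chart hg c hV _ _ _ r
    · show chartHom lam c.hU _ hD.le (r • m) = (e₁.appIso D).hom r • chartHom lam c.hU _ hD.le m
      rw [chartHom_smul, Scheme.Hom.appIso_hom']
    · show chartHom lam' c.hU' _ hD'.le (r • m) = (e₂.appIso D').hom r • chartHom lam' c.hU' _ hD'.le m
      rw [chartHom_smul, Scheme.Hom.appIso_hom']
    · show chartHom lam' c.hU' _ hD'.le (E (1 ⊗ₜ m)) = E₀ (1 ⊗ₜ chartHom lam c.hU _ hD.le m)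
      rw [hE, hE₀]
      exact push_chartHom hφ hP hP' hg hL hL' c hV hD.le hD'.le m
  exact ⟨asIso (((Scheme.Modules.pullbackPushforwardAdjunction g).homEquiv _ _).symm
    (twistPull hφ hP hP' hg hL hL'))⟩

end Groth.Agent.EGAProj74.RelTwistPull
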