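import Groth.Agent.EGAProj74.TildeBaseChange
import Groth.Agent.EGAProj74.TwistComap

/-!
`O(n)` on `D₊(f)` commutes with change of the base ring.
-/

set_option autoImplicit false
set_option backward.isDefEq.respectTransparency.types false

universe u

open CategoryTheory CategoryTheory.Limits AlgebraicGeometry TopologicalSpace Opposite TensorProduct
open scoped HomogeneousIdeal

noncomputable section

namespace Groth.Agent.EGAProj74.RingBaseChange

open GrT FracSections

section pushout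

variable {R R' A B : CommRingCat.{u}} {r : R ⟶ R'} {a : R ⟶ A} {a' : R' ⟶ B} {m : A ⟶ B}

theorem exists_lift (h : IsPushout r a a' m) (T : Type u) [AddCommGroup T] [Module R' T] (w : A →+ T)
    (hw : ∀ x s, w (a.hom x * s) = r.hom x • w s) :
    ∃ g : B →+ T, ∀ c s, g (a'.hom c * m.hom s) = c • w s := by
  letI : Algebra R R' := r.hom.toAlgebra
  letI : Algebra R A := a.hom.toAlgebra
  letI : Module R T := Module.compHom T r.hom
  haveI : IsScalarTower R R' T := IsScalarTower.of_algebraMap_smul fun _ _ => rfl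
  let l : A →ₗ[R] T := { w with map_smul' := fun x s => hw x s }
  let e := (h.isoIsPushout _ _ (CommRingCat.isPushout_tensorProduct R R' A)).commRingCatIsoToRingEquiv
  refine ⟨(l.liftBaseChange R').toAddMonoidHom.comp e.toAddMonoidHom, fun c s => ?_⟩
  have hc : e (a'.hom c) = c ⊗ₜ[R] (1 : A) :=
    congr(CommRingCat.Hom.hom $(IsPushout.inl_isoIsPushout_hom _ _ h (CommRingCat.isPushout_tensorProduct R R' A)) c)
  have hs : e (m.hom s) = (1 : R') ⊗ₜ[R] s :=
    congr(CommRingCat.Hom.hom $(IsPushout.inr_isoIsPushout_hom _ _ h (CommRingCat.isPushout_tensorProduct R R' A)) s)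
  show l.liftBaseChange R' (e (a'.hom c * m.hom s)) = _
  rw [map_mul, hc, hs, Algebra.TensorProduct.tmul_mul_tmul, mul_one, one_mul, LinearMap.liftBaseChange_tmul]
  rfl

theorem induction_on (h : IsPushout r a a' m) {P : B → Prop} (h0 : P 0)
    (hadd : ∀ x y, P x → P y → P (x + y)) (hgen : ∀ c s, P (a'.hom c * m.hom s)) (y : B) : P y := by
  letI : Algebra R R' := r.hom.toAlgebra
  letI : Algebra R A := a.hom.toAlgebra
  let e := (h.isoIsPushout _ _ (CommRingCat.isPushout_tensorProduct R R' A)).commRingCatIsoToRingEquiv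
  have hc : ∀ c : R', e (a'.hom c) = c ⊗ₜ[R] (1 : A) := fun c =>
    congr(CommRingCat.Hom.hom $(IsPushout.inl_isoIsPushout_hom _ _ h (CommRingCat.isPushout_tensorProduct R R' A)) c)
  have hs : ∀ s : A, e (m.hom s) = (1 : R') ⊗ₜ[R] s := fun s =>
    congr(CommRingCat.Hom.hom $(IsPushout.inr_isoIsPushout_hom _ _ h (CommRingCat.isPushout_tensorProduct R R' A)) s)
  obtain ⟨z, rfl⟩ := e.symm.surjective y
  induction z using TensorProduct.induction_on with
  | zero => rw [map_zero]; exact h0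
  | add z z' hz hz' => rw [map_add]; exact hadd _ _ hz hz'
  | tmul c s =>
    convert hgen c s using 1
    rw [RingEquiv.symm_apply_eq, map_mul, hc, hs, Algebra.TensorProduct.tmul_mul_tmul, mul_one, one_mul]

end pushout

variable {R R' A B : CommRingCat.{u}} {r : R ⟶ R'} {a : R ⟶ A} {a' : R' ⟶ B} {m : A ⟶ B}
  {σ σ' : Type u} [SetLike σ A] [AddSubgroupClass σ A] {𝒜 : ℕ → σ} [GradedRing 𝒜]
  [SetLike σ' B] [AddSubgroupClass σ' B] {ℬ : ℕ → σ'} [GradedRing ℬ]
  (ψ : 𝒜 →+*ᵍ ℬ) (hψ : ℬ₊ ≤ (𝒜₊).map ψ)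
  (h : IsPushout r a a' m) (hm : ψ.toRingHom = m.hom) (ha : ∀ x, a.hom x ∈ 𝒜 0) (ha' : ∀ c, a'.hom c ∈ ℬ 0)
  {d : ℕ} {f : A} (hf : f ∈ 𝒜 d) (hd : 0 < d) (n : ℤ)

/-- The exponent of the denominator in `compFrac`. -/
def compExp (d : ℕ) (n : ℤ) (q : ℕ) : ℕ := (((q : ℤ) - n) / d + n.natAbs).toNat

include hd in
theorem compExp_spec {q : ℕ} (hq : (d : ℤ) ∣ (q : ℤ) - n) :
    ((n.natAbs * d + q : ℕ) : ℤ) = (compExp d n q : ℕ) * d + n := by
  obtain ⟨c, hc⟩ := hq
  rw [compExp, hc, Int.mul_ediv_cancel_left _ (by omega), Int.toNat_of_nonneg]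
  · push_cast; linarith
  · by_contra hneg
    have h1 : (d : ℤ) * c ≤ (d : ℤ) * (-(n.natAbs : ℤ) - 1) :=
      mul_le_mul_of_nonneg_left (by omega) (by omega)
    have h2 : (n.natAbs : ℤ) + 1 ≤ (d : ℤ) * ((n.natAbs : ℤ) + 1) :=
      le_mul_of_one_le_left (by omega) (by omega)
    have h3 : (d : ℤ) * (-(n.natAbs : ℤ) - 1) = -((d : ℤ) * ((n.natAbs : ℤ) + 1)) := by ring
    omega

/-- The components of a ring element of degrees `≡ n` mod `d`. -/
def compFrac (q : ℕ) : 𝒜 q →+ Γ(GrMod.tilde 𝒜 𝒜 n, Proj.basicOpen 𝒜 f) :=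
  if hq : (d : ℤ) ∣ (q : ℤ) - n then
    AddMonoidHom.mk'
      (fun s => fracF hf (gsmul_mem 𝒜 𝒜 (pow_mem hf n.natAbs) s.2) (compExp d n q) (compExp_spec hd n hq))
      fun s s' => by
        rw [← fracF_add hf]
        exact fracF_eq_of_smul _ _ _ _ _ (by simp [mul_add])
  else 0

theorem compFrac_apply {q : ℕ} (hq : (d : ℤ) ∣ (q : ℤ) - n) (s : 𝒜 q) :
    compFrac hf hd n q s =
      fracF hf (gsmul_mem 𝒜 𝒜 (pow_mem hf n.natAbs) s.2) (compExp d n q) (compExp_spec hd n hq) := by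
  rw [compFrac, dif_pos hq]
  rfl

theorem compFrac_eq {q k : ℕ} (s : 𝒜 q) (hq : (q : ℤ) = k * d + n) :
    compFrac hf hd n q s = fracF hf s.2 k hq := by
  have hdvd : (d : ℤ) ∣ (q : ℤ) - n := ⟨k, by rw [hq]; ring⟩
  rw [compFrac_apply hf hd n hdvd]
  refine fracF_eq_of_smul hf _ _ _ _ ?_
  rw [smul_eq_mul, smul_eq_mul, smul_eq_mul, ← mul_assoc, ← pow_add]
  congr 2
  have : ((q : ℤ) - n) / d = k := by
    rw [show (q : ℤ) - n = (k : ℤ) * d by rw [hq]; ring, Int.mul_ediv_cancel _ (by omega)]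
  rw [compExp, this]
  omega

theorem compFrac_smul {q : ℕ} {c : A} (hc : c ∈ 𝒜 0) (s : 𝒜 q) :
    compFrac hf hd n q ⟨c * s, by simpa using SetLike.mul_mem_graded hc s.2⟩ =
      scal hf hd 0 (show c ∈ 𝒜 (0 * d) by rwa [zero_mul]) • compFrac hf hd n q s := by
  by_cases hq : (d : ℤ) ∣ (q : ℤ) - n
  · rw [compFrac_apply hf hd n hq, compFrac_apply hf hd n hq, scal_smul_fracF]
    exact fracF_eq_of_smul hf _ _ _ _ (by simp only [smul_eq_mul, zero_add]; ring)
  · simp [compFrac, dif_neg hq]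

include h hm ha ha' hd hf in
theorem bijective_lift
    {E : letI := TildeBaseChange.algebraSections ψ hψ (f := f)
      (Γ(Proj ℬ, Proj.basicOpen ℬ (ψ f)) ⊗[Γ(Proj 𝒜, Proj.basicOpen 𝒜 f)]
        Γ(GrMod.tilde 𝒜 𝒜 n, Proj.basicOpen 𝒜 f)) →ₗ[Γ(Proj ℬ, Proj.basicOpen ℬ (ψ f))]
        Γ(GrMod.tilde ℬ ℬ n, Proj.basicOpen ℬ (ψ f))}
    (hE : ∀ s, E (letI := TildeBaseChange.algebraSections ψ hψ (f := f); 1 ⊗ₜ s) =
      TildeBaseChange.push ψ hψ (ringSemi ψ) (fun _ _ ha => ψ.map_mem ha) n s) :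
    Function.Bijective E := by
  classical
  letI alg := TildeBaseChange.algebraSections ψ hψ (f := f)
  let T := Γ(Proj ℬ, Proj.basicOpen ℬ (ψ f)) ⊗[Γ(Proj 𝒜, Proj.basicOpen 𝒜 f)]
        Γ(GrMod.tilde 𝒜 𝒜 n, Proj.basicOpen 𝒜 f)
  have hf' : ψ f ∈ ℬ d := ψ.map_mem hf
  let κ : R' →+* Γ(Proj ℬ, Proj.basicOpen ℬ (ψ f)) :=
    { toFun := fun c => scal hf' hd 0 (show a'.hom c ∈ ℬ (0 * d) by rw [zero_mul]; exact ha' c)
      map_one' := by rw [← scal_self hf' hd 0]; exact scal_eq_of_mul hf' hd _ _ (by simp)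
      map_mul' := fun c c' => by rw [scal_mul]; exact scal_eq_of_mul hf' hd _ _ (by simp)
      map_zero' := by
        refine ext_val fun x => ?_
        refine Eq.trans (scal_val hf' hd 0 _ x) ?_
        show _ = (0 : GrTwist.A0 ℬ x.1).val
        rw [map_zero, HomogeneousLocalization.val_zero, Localization.mk_zero]
      map_add' := fun c c' => by rw [← scal_add]; exact scal_eq_of_mul hf' hd _ _ (by simp) }
  letI : Module R' T := Module.compHom T κ
  let w : A →+ T := (DirectSum.toAddMonoid fun q =>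
      (TensorProduct.mk Γ(Proj 𝒜, Proj.basicOpen 𝒜 f) _ _ 1).toAddMonoidHom.comp (compFrac hf hd n q)).comp
    (DirectSum.decomposeAddEquiv 𝒜).toAddMonoidHom
  have hw0 : ∀ (q : ℕ) (s : 𝒜 q), w s = 1 ⊗ₜ compFrac hf hd n q s := fun q s => by
    show DirectSum.toAddMonoid _ (DirectSum.decompose 𝒜 (s : A)) = _
    rw [DirectSum.decompose_coe, DirectSum.toAddMonoid_of]
    rfl
  have hmψ : ∀ s, m.hom s = ψ s := fun s => (congr($hm s)).symm
  have hκ : ∀ x, κ (r.hom x) = (Proj.map ψ hψ).appLE _ _ (TildeBaseChange.preimage_le ψ hψ)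
      (scal hf hd 0 (show a.hom x ∈ 𝒜 (0 * d) by rw [zero_mul]; exact ha x)) := fun x => by
    rw [TildeBaseChange.appLE_scal]
    refine scal_eq_of_mul hf' hd (show a'.hom (r.hom x) ∈ ℬ (0 * d) by rw [zero_mul]; exact ha' _) _ ?_
    exact congrArg _ (Eq.trans congr(CommRingCat.Hom.hom $(h.w) x) (hmψ _))
  have hw : ∀ x s, w (a.hom x * s) = r.hom x • w s := by
    intro x s
    induction s using DirectSum.Decomposition.inductionOn 𝒜 with
    | zero => rw [mul_zero, map_zero, smul_zero]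
    | add s s' hs hs' => rw [mul_add, map_add, hs, hs', map_add, smul_add]
    | @homogeneous q s =>
      show w ((⟨a.hom x * s, by simpa using SetLike.mul_mem_graded (ha x) s.2⟩ : 𝒜 q) : A) = κ (r.hom x) • w s
      rw [hw0, hw0, compFrac_smul hf hd n (ha x) s, TensorProduct.smul_tmul', smul_eq_mul, hκ]
      refine (TensorProduct.smul_tmul (scal hf hd 0 (show a.hom x ∈ 𝒜 (0 * d) by rw [zero_mul]; exact ha x))
        (1 : Γ(Proj ℬ, Proj.basicOpen ℬ (ψ f))) (compFrac hf hd n q s)).symm.trans ?_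
      rfl
  obtain ⟨g, hg⟩ := exists_lift h T w hw
  have hgc : ∀ (c : R') {q k : ℕ} {s : A} (hs : s ∈ 𝒜 q) (hq : (q : ℤ) = k * d + n),
      g (a'.hom c * m.hom s) = κ c ⊗ₜ fracF hf hs k hq := fun c q k s hs hq => by
    rw [hg, show w s = 1 ⊗ₜ compFrac hf hd n q ⟨s, hs⟩ from hw0 q ⟨s, hs⟩, compFrac_eq hf hd n ⟨s, hs⟩ hq]
    refine Eq.trans (TensorProduct.smul_tmul' (κ c) _ _) ?_
    rw [smul_eq_mul, mul_one]
  have hdec : ∀ (c : R') (s : A) (q : ℕ), (DirectSum.decompose ℬ (a'.hom c * m.hom s) q : B) =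
      a'.hom c * m.hom (DirectSum.decompose 𝒜 s q : A) := fun c s q => by
    rw [DirectSum.coe_decompose_mul_of_left_mem_zero ℬ (ha' c), hmψ, hmψ]
    congr 1
    induction s using DirectSum.Decomposition.inductionOn 𝒜 with
    | zero => simp
    | add s s' hs hs' =>
      simp only [map_add, DirectSum.decompose_add, DirectSum.add_apply, AddMemClass.coe_add, hs, hs']
    | @homogeneous l s =>
      by_cases hl : l = q
      · subst hl
        rw [DirectSum.decompose_of_mem_same _ s.2, DirectSum.decompose_of_mem_same ℬ (show ψ (s : A) ∈ ℬ l from ψ.map_mem s.2)]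
      · rw [DirectSum.decompose_of_mem_ne _ s.2 hl, DirectSum.decompose_of_mem_ne ℬ (show ψ (s : A) ∈ ℬ l from ψ.map_mem s.2) hl, map_zero]
  refine TildeBaseChange.bijective_lift ψ hψ (ringSemi ψ) (fun _ _ ha => ψ.map_mem ha) hf n (hd := hd) hE g
    (fun k q y hy hq => ?_) (fun e b hb k q s hs hq => ?_) fun k q y hy hq => ?_
  · have key : ∀ y, g (ψ f * (DirectSum.decompose ℬ y q : B)) = g (DirectSum.decompose ℬ y q : B) := by
      refine induction_on h (by simp) (fun y y' hy hy' => ?_) fun c s => ?_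
      · simp only [DirectSum.decompose_add, DirectSum.add_apply, AddMemClass.coe_add, mul_add, map_add, hy, hy']
      · rw [hdec]
        have hs := (DirectSum.decompose 𝒜 s q).2
        generalize ((DirectSum.decompose 𝒜 s q : A)) = t at hs
        have hft : f * t ∈ 𝒜 (d + q) := SetLike.mul_mem_graded hf hs
        rw [show ψ f * (a'.hom c * m.hom t) = a'.hom c * m.hom (f * t) by
          rw [map_mul, ← hmψ]; exact mul_left_comm _ _ _, hgc c hft (k := k + 1) (by push_cast; rw [hq]; ring),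
          hgc c hs hq]
        congr 1
        exact fracF_eq_of_smul hf _ _ _ _ (by simp only [smul_eq_mul]; ring)
    have h2 := key y
    rw [DirectSum.decompose_of_mem_same ℬ hy] at h2
    exact h2
  · have key : ∀ b, g ((DirectSum.decompose ℬ b (e * d) : B) • ringSemi ψ s) =
        scal hf' hd e (DirectSum.decompose ℬ b (e * d)).2 ⊗ₜ fracF hf hs k hq := by
      refine induction_on h ?_ (fun b b' hb hb' => ?_) fun c t => ?_
      · simp only [DirectSum.decompose_zero, DirectSum.zero_apply, ZeroMemClass.coe_zero, zero_smul, map_zero]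
        rw [show scal hf' hd e (zero_mem (ℬ (e * d))) = 0 from ext_val fun x => by
          refine Eq.trans (scal_val hf' hd e _ x) ?_
          show _ = (0 : GrTwist.A0 ℬ x.1).val
          rw [HomogeneousLocalization.val_zero, Localization.mk_zero], TensorProduct.zero_tmul]
      · simp only [DirectSum.decompose_add, DirectSum.add_apply, AddMemClass.coe_add, add_smul, map_add, hb, hb']
        rw [← TensorProduct.add_tmul, ← scal_add]
      · show g ((DirectSum.decompose ℬ (a'.hom c * m.hom t) (e * d) : B) * ψ s) = _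
        have ht := (DirectSum.decompose 𝒜 t (e * d)).2
        have e1 := hdec c t (e * d)
        generalize ((DirectSum.decompose 𝒜 t (e * d) : A)) = t' at ht e1
        refine (congrArg (fun z => g (z * ψ s)) e1).trans ?_
        rw [mul_assoc, show m.hom t' * ψ s = m.hom (t' * s) by rw [map_mul, hmψ s], hgc c (SetLike.mul_mem_graded ht hs) (k := e + k)
          (by push_cast; rw [hq]; ring)]
        rw [show fracF hf (SetLike.mul_mem_graded ht hs) (e + k) (by push_cast; rw [hq]; ring) =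
          scal hf hd e ht • fracF hf hs k hq from (scal_smul_fracF hf hd ht hs hq).symm]
        refine (TensorProduct.smul_tmul (scal hf hd e ht) (κ c) (fracF hf hs k hq)).symm.trans ?_
        congr 1
        show (Proj.map ψ hψ).appLE _ _ (TildeBaseChange.preimage_le ψ hψ) (scal hf hd e ht) * κ c = _
        rw [TildeBaseChange.appLE_scal]
        show _ * scal hf' hd 0 (show a'.hom c ∈ ℬ (0 * d) by rw [zero_mul]; exact ha' c) = _
        rw [scal_mul]
        refine scal_eq_of_mul hf' hd _ _ ?_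
        rw [e1, hmψ, add_zero]
        exact congrArg _ (mul_comm _ _)
    have h2 := key b
    simp only [DirectSum.decompose_of_mem_same ℬ hb] at h2
    exact h2
  · have key : ∀ y, ∃ z, E z = fracF hf' (DirectSum.decompose ℬ y q).2 k hq := by
      refine induction_on h ⟨0, ?_⟩ (fun y y' => ?_) fun c s => ?_
      · rw [map_zero, ← fracF_zero hf' k hq]
        exact fracF_eq_of_smul _ _ _ _ _ (by simp)
      · rintro ⟨z, hz⟩ ⟨z', hz'⟩
        refine ⟨z + z', ?_⟩
        rw [map_add, hz, hz', ← fracF_add]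
        exact fracF_eq_of_smul _ _ _ _ _ (by simp [DirectSum.decompose_add])
      · refine ⟨scal hf' hd 0 (show a'.hom c ∈ ℬ (0 * d) by rw [zero_mul]; exact ha' c) ⊗ₜ
          fracF hf (DirectSum.decompose 𝒜 s q).2 k hq, ?_⟩
        refine (TildeBaseChange.lift_tmul_fracF ψ hψ (ringSemi ψ) (fun _ _ ha => ψ.map_mem ha) hf n hE
          (show a'.hom c ∈ ℬ (0 * d) by rw [zero_mul]; exact ha' c) (DirectSum.decompose 𝒜 s q).2 hq).trans ?_
        refine fracF_eq_of_smul _ _ _ _ _ ?_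
        rw [hdec, hmψ, zero_add]
        rfl
    obtain ⟨z, hz⟩ := key y
    exact ⟨z, hz.trans (fracF_eq_of_smul _ _ _ _ _ (by rw [DirectSum.decompose_of_mem_same ℬ hy]))⟩

end Groth.Agent.EGAProj74.RingBaseChange
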