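import Groth.Prelude.Def_BlowUp2
import Groth.Agent.FlatMor68.FibreStalk
import Groth.Agent.FlatMor68.FlatInfNbhd
import Groth.Agent.Cohen12.CohenRing
import Mathlib.AlgebraicGeometry.Morphisms.FiniteType

/-! A section which is an effective Cartier divisor meets the fibres in regular points. -/

set_option autoImplicit false
set_option backward.isDefEq.respectTransparency false
universe u

open CategoryTheory CategoryTheory.Limits AlgebraicGeometry IsLocalRing

namespace Groth.Agent.EGAProj74.SectionDVR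

/-- Local algebra: a retraction with principal regular kernel. -/
theorem mem_of_mul_mem {R A : Type u} [CommRing R] [CommRing A] (σ : R →+* A) (ρ : A →+* R)
    (h : ∀ r, ρ (σ r) = r) {t : A} (ht : t ∈ nonZeroDivisors A) (hker : RingHom.ker ρ = Ideal.span {t})
    (I : Ideal R) {x : A} (hx : x * t ∈ I.map σ) : x ∈ I.map σ := by
  have key : ∀ y ∈ I.map σ, ρ y = 0 → ∃ z ∈ I.map σ, y = z * t := by
    have hI : ∀ y ∈ I.map σ, ∃ z ∈ I.map σ, y = σ (ρ y) + z * t := by
      intro y hy
      refine Submodule.span_induction (p := fun y _ => ∃ z ∈ I.map σ, y = σ (ρ y) + z * t) ?_ ?_ ?_ ?_ hy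
      · rintro _ ⟨r, hr, rfl⟩
        exact ⟨0, zero_mem _, by rw [h, zero_mul, add_zero]⟩
      · exact ⟨0, zero_mem _, by simp⟩
      · rintro a b - - ⟨z, hz, ha⟩ ⟨w, hw, hb⟩
        refine ⟨z + w, add_mem hz hw, ?_⟩
        rw [map_add, map_add]
        linear_combination ha + hb
      · rintro a b hb ⟨z, hz, hbz⟩
        have ha : a - σ (ρ a) ∈ RingHom.ker ρ := by rw [RingHom.mem_ker, map_sub, h, sub_self]
        rw [hker, Ideal.mem_span_singleton'] at ha
        obtain ⟨c, hc⟩ := ha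
        refine ⟨σ (ρ a) * z + c * b, add_mem (Ideal.mul_mem_left _ _ hz) (Ideal.mul_mem_left _ _ hb), ?_⟩
        rw [smul_eq_mul, map_mul, map_mul]
        linear_combination (σ (ρ a)) * hbz - b * hc
    intro y hy h0
    obtain ⟨z, hz, hyz⟩ := hI y hy
    exact ⟨z, hz, by rwa [h0, map_zero, zero_add] at hyz⟩
  have ht0 : ρ t = 0 := RingHom.mem_ker.1 (hker.ge (Ideal.mem_span_singleton_self t))
  obtain ⟨z, hz, hzx⟩ := key _ hx (by rw [map_mul, ht0, mul_zero])
  have : x = z := (mul_cancel_right_mem_nonZeroDivisors ht).1 hzx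
  rw [this]
  exact hz

/-- The maximal ideal upstairs. -/
theorem maximalIdeal_eq {R A : Type u} [CommRing R] [CommRing A] [IsLocalRing R] [IsLocalRing A]
    (σ : R →+* A) (ρ : A →+* R) [IsLocalHom σ] [IsLocalHom ρ]
    (h : ∀ r, ρ (σ r) = r) {t : A} (hker : RingHom.ker ρ = Ideal.span {t}) :
    maximalIdeal A = (maximalIdeal R).map σ ⊔ Ideal.span {t} := by
  refine le_antisymm (fun a ha => ?_) (sup_le (Ideal.map_le_iff_le_comap.2 fun r hr => ?_) ?_)
  · have h1 : a - σ (ρ a) ∈ Ideal.span {t} := by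
      rw [← hker, RingHom.mem_ker, map_sub, h, sub_self]
    have h2 : ρ a ∈ maximalIdeal R := map_nonunit ρ a ha
    have : σ (ρ a) + (a - σ (ρ a)) ∈ (maximalIdeal R).map σ ⊔ Ideal.span {t} :=
      add_mem (Ideal.mem_sup_left (Ideal.mem_map_of_mem σ h2)) (Ideal.mem_sup_right h1)
    rwa [add_sub_cancel] at this
  · exact map_nonunit σ r hr
  · rw [Ideal.span_singleton_le_iff_mem]
    intro hu
    have h0 : ρ t = 0 := RingHom.mem_ker.1 (hker.ge (Ideal.mem_span_singleton_self t))
    exact not_isUnit_zero (h0 ▸ hu.map ρ)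

/-- A surjection out of a local ring, with kernel as expected. -/
theorem isDVR_of_data {A B : Type u} [CommRing A] [CommRing B] [IsLocalRing A] [IsLocalRing B]
    [IsNoetherianRing B] (φ : A →+* B) (hφ : Function.Surjective φ) {t : A}
    (hreg : ∀ x, x * t ∈ RingHom.ker φ → x ∈ RingHom.ker φ)
    (hmax : maximalIdeal A = RingHom.ker φ ⊔ Ideal.span {t}) :
    ∃ _ : IsDomain B, IsDiscreteValuationRing B := by
  refine Cohen12.isDVR_of_maximalIdeal_eq_span (φ t) ?_ ?_
  · rw [← IsLocalRing.map_maximalIdeal_of_surjective φ hφ, hmax, Ideal.map_sup, Ideal.map_span, Set.image_singleton,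
      (Ideal.map_eq_bot_iff_le_ker φ).2 le_rfl, bot_sup_eq]
  · refine mem_nonZeroDivisors_iff_right.2 fun y hy => ?_
    obtain ⟨x, rfl⟩ := hφ y
    exact hreg x (by rw [RingHom.mem_ker, map_mul, hy])

variable {X V : Scheme.{u}} (π : V ⟶ X) (j : X ⟶ V) [IsClosedImmersion j]

theorem exists_data (hj : j ≫ π = 𝟙 X) (hJ : BlowUp.IsEffCartierIdeal j.ker) (x : X) (v : V) (hv : v = j x) :
    ∃ t : V.presheaf.stalk v,
      (∀ a, a * t ∈ (maximalIdeal (X.presheaf.stalk (π v))).map (π.stalkMap v).hom →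
        a ∈ (maximalIdeal (X.presheaf.stalk (π v))).map (π.stalkMap v).hom) ∧
      maximalIdeal (V.presheaf.stalk v) =
        (maximalIdeal (X.presheaf.stalk (π v))).map (π.stalkMap v).hom ⊔ Ideal.span {t} := by
  subst hv
  obtain ⟨U, hxU, f, hf, hU⟩ := hJ (j x)
  let t := (V.presheaf.germ U.1 (j x) hxU).hom f
  letI := Groth.Agent.Div89.stalkAlg U.1 (j x) hxU
  haveI := Groth.Agent.Div89.isLocalization_stalk U (j x) hxU
  haveI := Groth.Agent.Div89.primeAt_isPrime U (j x) hxU
  have ht : t ∈ nonZeroDivisors (V.presheaf.stalk (j x)) := by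
    refine mem_nonZeroDivisors_iff_right.2 fun y hy => ?_
    obtain ⟨⟨a, s⟩, has⟩ := IsLocalization.surj (Groth.Agent.Div89.primeAt U (j x) hxU).primeCompl y
    have h1 : algebraMap Γ(V, U.1) (V.presheaf.stalk (j x)) (a * f) = 0 := by
      rw [map_mul, ← has]
      calc y * algebraMap _ _ (s : Γ(V, U.1)) * t = (y * t) * algebraMap _ _ (s : Γ(V, U.1)) := by ring
        _ = 0 := by rw [hy, zero_mul]
    obtain ⟨c, hc⟩ := (IsLocalization.map_eq_zero_iff (Groth.Agent.Div89.primeAt U (j x) hxU).primeCompl _ _).1 h1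
    rw [← mul_assoc] at hc
    have h2 := (mem_nonZeroDivisors_iff_right.1 hf) _ hc
    have h3 : algebraMap Γ(V, U.1) (V.presheaf.stalk (j x)) a = 0 :=
      (IsLocalization.map_eq_zero_iff (Groth.Agent.Div89.primeAt U (j x) hxU).primeCompl _ _).2 ⟨c, h2⟩
    exact (IsLocalization.map_units _ s).mul_left_eq_zero.1 (has.trans h3)
  have hker : RingHom.ker (j.stalkMap x).hom = Ideal.span {t} := by
    rw [FlatMor68.FlatInfNbhd.ker_stalkMap_closedImmersion j x, Groth.Agent.Div89.stalkIdeal_eq _ U _ hxU, hU,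
      Ideal.map_span, Set.image_singleton]
  let σ := (π.stalkMap (j x)).hom
  let ρ := (j.stalkMap x).hom
  have hbij : Function.Bijective (ρ.comp σ) := by
    haveI : IsIso ((j ≫ π).stalkMap x) := by
      have : IsIso (j ≫ π) := hj ▸ inferInstance
      infer_instance
    have h := ConcreteCategory.bijective_of_isIso ((j ≫ π).stalkMap x)
    rw [Scheme.Hom.stalkMap_comp] at h
    exact h
  let e := RingEquiv.ofBijective _ hbij
  let ρ' : V.presheaf.stalk (j x) →+* X.presheaf.stalk (π (j x)) := e.symm.toRingHom.comp ρ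
  have hs : ∀ r, ρ' (σ r) = r := fun r => e.symm_apply_apply r
  have hker' : RingHom.ker ρ' = Ideal.span {t} := by
    rw [← hker]
    exact RingHom.ker_equiv_comp ρ e.symm
  haveI : IsLocalHom σ := π.toLRSHom.prop (j x)
  haveI : IsLocalHom ρ' := IsLocalHom.of_surjective ρ' fun r => ⟨σ r, hs r⟩
  exact ⟨t, fun a ha => mem_of_mul_mem σ ρ' hs ht hker' _ ha, maximalIdeal_eq σ ρ' hs hker'⟩

end Groth.Agent.EGAProj74.SectionDVR
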