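import Groth.Agent.EGAProj74.FormProj
import Groth.Agent.Csa25.FormMap
import Groth.Agent.Var76.ProjCoord
import Groth.Agent.Clim57.Scheme
import Groth.Agent.Curves2.ProjLineProper
import Mathlib.FieldTheory.IsAlgClosed.Basic
import Mathlib.RingTheory.Jacobson.Ring

/-! Closed immersions into projective space: separation of points and of tangent vectors. -/

set_option autoImplicit false
set_option backward.isDefEq.respectTransparency false

universe u

open CategoryTheory CategoryTheory.Limits AlgebraicGeometry TopologicalSpace Opposite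

noncomputable section

namespace Groth.Agent.EGAProj74.SepTangents

open Var76.LineBundle Var76.ZeroScheme Amp73 Var76.BertiniScheme

set_option maxHeartbeats 1000000

variable {k : Type u} [Field k] {n : ℕ}


/-- The function `T_j / T_i`. -/
def ratio (i j : Fin (n + 1)) : Γ((CohB1.ProjSpace n k), (Var76.ProjCoord.U k n i)) :=
  Proj.awayToSection (CohB1.polyGrading n k) (MvPolynomial.X i)
    (Var76.ProjCoord.frac k n i (Var76.ProjCoord.X₁ k n j))

/-- The function `(∑ c_j T_j) / T_i`. -/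
def lin (i : Fin (n + 1)) (c : Fin (n + 1) → k) : Γ((CohB1.ProjSpace n k), (Var76.ProjCoord.U k n i)) :=
  ∑ j, const (k := k) (CohB1.ProjSpace n k) ((Var76.ProjCoord.U k n i)) (c j) * ratio i j

theorem ratio_smul (i j : Fin (n + 1)) :
    ratio (k := k) i j • res (Twist.twistProjSpace n k 1) (le_top : (Var76.ProjCoord.U k n i) ≤ ⊤) (ProjUP.coord n k i) = res (Twist.twistProjSpace n k 1) le_top (ProjUP.coord n k j) :=
  Csa25.away_smul_globalOf (Var76.ProjCoord.X₁ k n i) (Var76.ProjCoord.X₁ k n j)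

theorem ratio_self (i : Fin (n + 1)) : ratio (k := k) (n := n) i i = 1 := by
  have h : Var76.ProjCoord.frac k n i (Var76.ProjCoord.X₁ k n i) = 1 :=
    HomogeneousLocalization.val_injective _ (by
      rw [Var76.ProjCoord.frac, HomogeneousLocalization.val_mk, HomogeneousLocalization.val_one]
      exact Localization.mk_self_mk (M := MvPolynomial (Fin (n + 1)) k) _ _)
  rw [ratio, h]
  exact map_one _

theorem isFrame_coord (i : Fin (n + 1)) : IsFrame (Twist.twistProjSpace n k 1) ((Var76.ProjCoord.U k n i)) (res (Twist.twistProjSpace n k 1) le_top (ProjUP.coord n k i)) := by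
  have h := isFrame_genLocus (FormProj.formHom (Var76.ProjCoord.X₁ k n i))
  rw [FormProj.genLocus_form] at h
  exact (congrArg (fun m => IsFrame (Twist.twistProjSpace n k 1) ((Var76.ProjCoord.U k n i)) m) (Var76.Frames.val_ofSection _ _ _)).mp h

/-- Every function on a chart is a constant modulo the linear fractions at a rational point. -/
theorem exists_const_sub_mem [IsAlgClosed k] (i : Fin (n + 1)) (m : Ideal Γ((CohB1.ProjSpace n k), (Var76.ProjCoord.U k n i))) [hm : m.IsMaximal]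
    (a : Γ((CohB1.ProjSpace n k), (Var76.ProjCoord.U k n i))) : ∃ c, a - const (k := k) (CohB1.ProjSpace n k) ((Var76.ProjCoord.U k n i)) c ∈ m := by
  letI : Algebra k Γ((CohB1.ProjSpace n k), (Var76.ProjCoord.U k n i)) := (const (k := k) (CohB1.ProjSpace n k) ((Var76.ProjCoord.U k n i))).toAlgebra
  haveI : Algebra.FiniteType k Γ((CohB1.ProjSpace n k), (Var76.ProjCoord.U k n i)) :=
    Algebra.FiniteType.of_surjective (MvPolynomial.aeval (ratio i)) fun x => by
      obtain ⟨p, hp⟩ := Var76.ProjCoord.exists_eval₂_eq k n i x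
      exact ⟨p, hp⟩
  letI := Ideal.Quotient.field m
  haveI : Algebra.FiniteType k (Γ((CohB1.ProjSpace n k), (Var76.ProjCoord.U k n i)) ⧸ m) :=
    Algebra.FiniteType.of_surjective (Ideal.Quotient.mkₐ k m) Ideal.Quotient.mk_surjective
  haveI : Module.Finite k (Γ((CohB1.ProjSpace n k), (Var76.ProjCoord.U k n i)) ⧸ m) := finite_of_finite_type_of_isJacobsonRing _ _
  haveI : Algebra.IsIntegral k (Γ((CohB1.ProjSpace n k), (Var76.ProjCoord.U k n i)) ⧸ m) :=
    Algebra.IsIntegral.of_finite k _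
  obtain ⟨c, hc⟩ := (IsAlgClosed.algebraMap_bijective_of_isIntegral
    (k := k) (K := Γ((CohB1.ProjSpace n k), (Var76.ProjCoord.U k n i)) ⧸ m)).2 (Ideal.Quotient.mk m a)
  exact ⟨c, Ideal.Quotient.eq.1 hc.symm⟩

theorem le_span_lin [IsAlgClosed k] (i : Fin (n + 1)) (m : Ideal Γ((CohB1.ProjSpace n k), (Var76.ProjCoord.U k n i))) [m.IsMaximal] :
    m ≤ Ideal.span {a | ∃ c, a = lin i c ∧ a ∈ m} := by
  classical
  let J := Ideal.span {a | ∃ c, a = lin i c ∧ a ∈ m}
  have hJm : J ≤ m := Ideal.span_le.2 (by rintro _ ⟨c, rfl, h⟩; exact h)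
  let χ := const (k := k) (CohB1.ProjSpace n k) ((Var76.ProjCoord.U k n i))
  have hj : ∀ j, ∃ l, ratio i j - χ l ∈ J := by
    intro j
    obtain ⟨l, hl⟩ := exists_const_sub_mem i m (ratio i j)
    refine ⟨l, Ideal.subset_span ⟨Pi.single j 1 - Pi.single i l, ?_, hl⟩⟩
    simp [lin, χ, Pi.single_apply, sub_mul, ite_mul, Finset.sum_sub_distrib, ratio_self, apply_ite χ]
  have key : ∀ a, ∃ c, a - χ c ∈ J := by
    intro a
    obtain ⟨p, rfl⟩ := Var76.ProjCoord.exists_eval₂_eq k n i a
    induction p using MvPolynomial.induction_on with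
    | C c => exact ⟨c, by simp [χ]⟩
    | add p q hp hq =>
      obtain ⟨c, hc⟩ := hp
      obtain ⟨d, hd⟩ := hq
      refine ⟨c + d, ?_⟩
      rw [MvPolynomial.eval₂_add, map_add, add_sub_add_comm]
      exact add_mem hc hd
    | mul_X p j hp =>
      obtain ⟨c, hc⟩ := hp
      obtain ⟨l, hl⟩ := hj j
      refine ⟨c * l, ?_⟩
      rw [MvPolynomial.eval₂_mul, MvPolynomial.eval₂_X, map_mul]
      show _ * ratio i j - _ ∈ J
      have e : ∀ x y z w : Γ((CohB1.ProjSpace n k), (Var76.ProjCoord.U k n i)), x * y - z * w = (x - z) * y + z * (y - w) := fun x y z w => by ring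
      rw [e]
      exact add_mem (Ideal.mul_mem_right _ _ hc) (Ideal.mul_mem_left _ _ hl)
  intro a ha
  obtain ⟨c, hc⟩ := key a
  by_cases h : c = 0
  · have := hc
    rw [h, map_zero, sub_zero] at this
    exact this
  · refine absurd (Ideal.eq_top_of_isUnit_mem m ?_ ((IsUnit.mk0 c h).map χ)) (Ideal.IsMaximal.ne_top ‹_›)
    simpa using sub_mem ha (hJm hc)

section Map

variable {X : Scheme.{u}} {f : X ⟶ (CohB1.ProjSpace n k)} {pX : X ⟶ Spec (CommRingCat.of k)}


/-- The section `∑ c_j f^* T_j`. -/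
abbrev sect (pX : X ⟶ Spec (CommRingCat.of k)) (f : X ⟶ (CohB1.ProjSpace n k)) (c : Fin (n + 1) → k) :=
  ∑ j, ProjUP.toGlobal pX (c j) • ProjUP.pullSec f (Twist.twistProjSpace n k 1) (ProjUP.coord n k j)

/-- The germ of `f^* T_i`. -/
abbrev gen (f : X ⟶ (CohB1.ProjSpace n k)) (i : Fin (n + 1)) (x : X) :=
  (((Scheme.Modules.pullback f).obj (Twist.twistProjSpace n k 1)).presheaf.germ ⊤ x trivial).hom (ProjUP.pullSec f (Twist.twistProjSpace n k 1) (ProjUP.coord n k i))

theorem isFrame_pull (f : X ⟶ (CohB1.ProjSpace n k)) (i : Fin (n + 1)) :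
    IsFrame ((Scheme.Modules.pullback f).obj (Twist.twistProjSpace n k 1)) (f ⁻¹ᵁ (Var76.ProjCoord.U k n i)) (res ((Scheme.Modules.pullback f).obj (Twist.twistProjSpace n k 1)) le_top (ProjUP.pullSec f (Twist.twistProjSpace n k 1) (ProjUP.coord n k i))) := by
  have h := isFrame_pullS f (Var76.Reg.isInvertible_twist (n := n) (A := k) 1) (isFrame_coord i)
  rw [← res_pullS] at h
  exact h

theorem isGen_gen {i : Fin (n + 1)} {x : X} (hx : f x ∈ (Var76.ProjCoord.U k n i)) :
    Mero90.IsGen (gen f i x) := by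
  have h := Mero90.isGen_germ (isFrame_pull f i) ⟨x, hx⟩
  rwa [TopCat.Presheaf.germ_res_apply] at h

theorem res_sect (hf : f ≫ CohB1.ProjSpace.toSpec n k = pX) (i : Fin (n + 1)) (c : Fin (n + 1) → k) :
    res ((Scheme.Modules.pullback f).obj (Twist.twistProjSpace n k 1)) (le_top : f ⁻¹ᵁ (Var76.ProjCoord.U k n i) ≤ ⊤) (sect pX f c) =
      f.app ((Var76.ProjCoord.U k n i)) (lin i c) • res ((Scheme.Modules.pullback f).obj (Twist.twistProjSpace n k 1)) le_top (ProjUP.pullSec f (Twist.twistProjSpace n k 1) (ProjUP.coord n k i)) := by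
  rw [lin, map_sum, Finset.sum_smul]
  refine (map_sum (((Scheme.Modules.pullback f).obj (Twist.twistProjSpace n k 1)).presheaf.map (homOfLE (le_top : f ⁻¹ᵁ (Var76.ProjCoord.U k n i) ≤ ⊤)).op).hom _ _).trans ?_
  refine Finset.sum_congr rfl fun j _ => ?_
  refine (res_smul _ _ _ _).trans ?_
  rw [map_mul, mul_smul]
  congr 1
  · letI : X.Over (Spec (CommRingCat.of k)) := ⟨pX⟩
    rw [Var76.ProjCoord.app_const f hf]
    rfl
  · show res ((Scheme.Modules.pullback f).obj (Twist.twistProjSpace n k 1)) (f.preimage_mono le_top) (pullS f (Twist.twistProjSpace n k 1) ⊤ (ProjUP.coord n k j)) =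
      _ • res ((Scheme.Modules.pullback f).obj (Twist.twistProjSpace n k 1)) (f.preimage_mono le_top) (pullS f (Twist.twistProjSpace n k 1) ⊤ (ProjUP.coord n k i))
    rw [res_pullS, res_pullS, ← pullS_smul, ratio_smul]
    all_goals exact le_top

theorem germ_sect (hf : f ≫ CohB1.ProjSpace.toSpec n k = pX) {i : Fin (n + 1)} (c : Fin (n + 1) → k)
    {x : X} (hx : f x ∈ (Var76.ProjCoord.U k n i)) :
    (((Scheme.Modules.pullback f).obj (Twist.twistProjSpace n k 1)).presheaf.germ ⊤ x trivial).hom (sect pX f c) =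
      (f.stalkMap x).hom ((CohB1.ProjSpace n k).presheaf.germ ((Var76.ProjCoord.U k n i)) (f x) hx (lin i c)) • gen f i x := by
  have h := congrArg (((Scheme.Modules.pullback f).obj (Twist.twistProjSpace n k 1)).presheaf.germ (f ⁻¹ᵁ (Var76.ProjCoord.U k n i)) x hx) (res_sect hf i c)
  rw [TopCat.Presheaf.germ_res_apply, Mero.germ_smul, TopCat.Presheaf.germ_res_apply,
    ← Scheme.Hom.germ_stalkMap_apply] at h
  exact h

end Map

theorem mem_smul_top_iff {A M : Type*} [CommRing A] [AddCommGroup M] [Module A M] {g : M}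
    (hg : Function.Bijective fun a : A => a • g) (I : Ideal A) {a : A} :
    a • g ∈ I • (⊤ : Submodule A M) ↔ a ∈ I := by
  refine ⟨fun h => ?_, fun h => Submodule.smul_mem_smul h Submodule.mem_top⟩
  have key : ∀ z ∈ I • (⊤ : Submodule A M), ∃ b ∈ I, b • g = z := fun z hz => by
    refine Submodule.smul_induction_on (p := fun z => ∃ b ∈ I, b • g = z) hz (fun r hr m _ => ?_)
      fun z w hz hw => ?_
    · obtain ⟨d, rfl⟩ := hg.2 m
      exact ⟨r * d, Ideal.mul_mem_right _ _ hr, mul_smul _ _ _⟩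
    · obtain ⟨b, hb, rfl⟩ := hz
      obtain ⟨d, hd, rfl⟩ := hw
      exact ⟨b + d, add_mem hb hd, add_smul _ _ _⟩
  obtain ⟨b, hb, hbg⟩ := key _ h
  exact hg.1 hbg ▸ hb

section Crit

variable {X : Scheme.{u}} {pX : X ⟶ Spec (CommRingCat.of k)} {f : X ⟶ (CohB1.ProjSpace n k)}
  (hf : f ≫ CohB1.ProjSpace.toSpec n k = pX)


include hf

theorem germ_mem_iff {i : Fin (n + 1)} (c : Fin (n + 1) → k) {x : X} (hx : f x ∈ (Var76.ProjCoord.U k n i)) :
    (((Scheme.Modules.pullback f).obj (Twist.twistProjSpace n k 1)).presheaf.germ ⊤ x trivial).hom (sect pX f c) ∈ (IsLocalRing.maximalIdeal ↑(X.presheaf.stalk x) • (⊤ : Submodule ↑(X.presheaf.stalk x) ↑(((Scheme.Modules.pullback f).obj (Twist.twistProjSpace n k 1)).presheaf.stalk x))) ↔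
      (CohB1.ProjSpace n k).presheaf.germ ((Var76.ProjCoord.U k n i)) (f x) hx (lin i c) ∈ IsLocalRing.maximalIdeal ((CohB1.ProjSpace n k).presheaf.stalk (f x)) := by
  rw [germ_sect hf c hx, mem_smul_top_iff (isGen_gen hx)]
  simp only [IsLocalRing.mem_maximalIdeal, mem_nonunits_iff]
  exact not_congr (isUnit_map_iff (f.stalkMap x).hom _)

theorem germ_lin_mem_iff {i : Fin (n + 1)} (a : Γ((CohB1.ProjSpace n k), (Var76.ProjCoord.U k n i))) {y : (CohB1.ProjSpace n k)} (hy : y ∈ (Var76.ProjCoord.U k n i)) :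
    (CohB1.ProjSpace n k).presheaf.germ ((Var76.ProjCoord.U k n i)) y hy a ∈ IsLocalRing.maximalIdeal ((CohB1.ProjSpace n k).presheaf.stalk y) ↔
      a ∈ ((Var76.ProjCoord.isAffineOpen_U k n i).primeIdealOf ⟨y, hy⟩).asIdeal := by
  letI := (CohB1.ProjSpace n k).presheaf.algebra_section_stalk (U := (Var76.ProjCoord.U k n i)) ⟨y, hy⟩
  haveI := (Var76.ProjCoord.isAffineOpen_U k n i).isLocalization_stalk ⟨y, hy⟩
  exact IsLocalization.AtPrime.to_map_mem_maximal_iff _ _ a

theorem sep_iff [IsAlgClosed k] {p q : X} (hp : IsClosed ({f p} : Set (CohB1.ProjSpace n k))) (hq : IsClosed ({f q} : Set (CohB1.ProjSpace n k))) :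
    (∃ c, (((Scheme.Modules.pullback f).obj (Twist.twistProjSpace n k 1)).presheaf.germ ⊤ p trivial).hom (sect pX f c) ∈ (IsLocalRing.maximalIdeal ↑(X.presheaf.stalk p) • (⊤ : Submodule ↑(X.presheaf.stalk p) ↑(((Scheme.Modules.pullback f).obj (Twist.twistProjSpace n k 1)).presheaf.stalk p))) ∧
      (((Scheme.Modules.pullback f).obj (Twist.twistProjSpace n k 1)).presheaf.germ ⊤ q trivial).hom (sect pX f c) ∉ (IsLocalRing.maximalIdeal ↑(X.presheaf.stalk q) • (⊤ : Submodule ↑(X.presheaf.stalk q) ↑(((Scheme.Modules.pullback f).obj (Twist.twistProjSpace n k 1)).presheaf.stalk q)))) ↔ f p ≠ f q := by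
  classical
  obtain ⟨i, hqi⟩ := Var76.ProjCoord.exists_mem_U k n (f q)
  constructor
  · rintro ⟨c, h1, h2⟩ e
    have hpi : f p ∈ (Var76.ProjCoord.U k n i) := e ▸ hqi
    rw [germ_mem_iff hf c hpi, germ_lin_mem_iff hf] at h1
    rw [germ_mem_iff hf c hqi, germ_lin_mem_iff hf] at h2
    exact h2 (by simpa only [e] using h1)
  intro hne
  by_cases hpi : f p ∈ (Var76.ProjCoord.U k n i)
  · let hU := Var76.ProjCoord.isAffineOpen_U k n i
    let m := (hU.primeIdealOf ⟨f p, hpi⟩).asIdeal
    let m' := (hU.primeIdealOf ⟨f q, hqi⟩).asIdeal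
    haveI hm : m.IsMaximal := hU.primeIdealOf_isMaximal_of_isClosed _ hp
    haveI hm' : m'.IsMaximal := hU.primeIdealOf_isMaximal_of_isClosed _ hq
    by_contra hno
    push Not at hno
    have hle : m ≤ m' := (le_span_lin i m).trans (Ideal.span_le.2 (by
      rintro _ ⟨c, rfl, hc⟩
      have := hno c ((germ_mem_iff hf c hpi).2 ((germ_lin_mem_iff hf _ hpi).2 hc))
      exact (germ_lin_mem_iff hf _ hqi).1 ((germ_mem_iff hf c hqi).1 this)))
    have he : hU.primeIdealOf ⟨f p, hpi⟩ = hU.primeIdealOf ⟨f q, hqi⟩ :=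
      PrimeSpectrum.ext (hm.eq_of_le hm'.ne_top hle)
    exact hne ((hU.fromSpec_primeIdealOf ⟨f p, hpi⟩).symm.trans
      ((congrArg hU.fromSpec he).trans (hU.fromSpec_primeIdealOf ⟨f q, hqi⟩)))
  · have hs : sect pX f (Pi.single i 1) = ProjUP.pullSec f (Twist.twistProjSpace n k 1) (ProjUP.coord n k i) := by
      simp [sect, Pi.single_apply, apply_ite (ProjUP.toGlobal pX), ite_smul]
    refine ⟨Pi.single i 1, ?_, ?_⟩
    · obtain ⟨j, hpj⟩ := Var76.ProjCoord.exists_mem_U k n (f p)
      rw [germ_mem_iff hf _ hpj]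
      intro hu
      apply hpi
      have hl : lin j (Pi.single i (1 : k)) = ratio (n := n) j i := by
        simp [lin, Pi.single_apply, apply_ite (const (k := k) (CohB1.ProjSpace n k) ((Var76.ProjCoord.U k n j))), ite_mul]
      rw [hl] at hu
      have h1 := genLocus_inf_eq_basicOpen (FormProj.formHom (Var76.ProjCoord.X₁ k n i)) (isFrame_coord j)
        (c := ratio j i) ((ratio_smul j i).trans (Var76.Frames.val_ofSection _ _ _).symm)
      rw [FormProj.genLocus_form] at h1
      exact (h1.ge ((CohB1.ProjSpace n k).mem_basicOpen _ _ hpj |>.2 hu)).1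
    · rw [hs, show (((Scheme.Modules.pullback f).obj (Twist.twistProjSpace n k 1)).presheaf.germ ⊤ q trivial).hom _ = (1 : X.presheaf.stalk q) • gen f i q from
        (one_smul _ _).symm, mem_smul_top_iff (isGen_gen hqi)]
      exact fun h => h isUnit_one

theorem tangent_iff [IsAlgClosed k] {p : X} (hp : IsClosed ({f p} : Set (CohB1.ProjSpace n k))) :
    (IsLocalRing.maximalIdeal ↑(X.presheaf.stalk p) • (⊤ : Submodule ↑(X.presheaf.stalk p) ↑(((Scheme.Modules.pullback f).obj (Twist.twistProjSpace n k 1)).presheaf.stalk p))) ≤ Submodule.span ↑(X.presheaf.stalk p)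
          {v | ∃ c : Fin (n + 1) → k, v = (((Scheme.Modules.pullback f).obj (Twist.twistProjSpace n k 1)).presheaf.germ ⊤ p trivial).hom (sect pX f c) ∧ v ∈ (IsLocalRing.maximalIdeal ↑(X.presheaf.stalk p) • (⊤ : Submodule ↑(X.presheaf.stalk p) ↑(((Scheme.Modules.pullback f).obj (Twist.twistProjSpace n k 1)).presheaf.stalk p)))} ⊔
        (IsLocalRing.maximalIdeal ↑(X.presheaf.stalk p) ^ 2 •
          (⊤ : Submodule ↑(X.presheaf.stalk p) ↑(((Scheme.Modules.pullback f).obj (Twist.twistProjSpace n k 1)).presheaf.stalk p))) ↔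
      IsLocalRing.maximalIdeal ↑(X.presheaf.stalk p) ≤
        Ideal.map (f.stalkMap p).hom (IsLocalRing.maximalIdeal ((CohB1.ProjSpace n k).presheaf.stalk (f p))) ⊔
          IsLocalRing.maximalIdeal ↑(X.presheaf.stalk p) ^ 2 := by
  obtain ⟨i, hi⟩ := Var76.ProjCoord.exists_mem_U k n (f p)
  let hU := Var76.ProjCoord.isAffineOpen_U k n i
  let m := (hU.primeIdealOf ⟨f p, hi⟩).asIdeal
  haveI hm : m.IsMaximal := hU.primeIdealOf_isMaximal_of_isClosed _ hp
  let φ := (f.stalkMap p).hom
  let J := Ideal.map φ (IsLocalRing.maximalIdeal ((CohB1.ProjSpace n k).presheaf.stalk (f p)))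
  have hJ : J = Ideal.span {b | ∃ c, b = φ ((CohB1.ProjSpace n k).presheaf.germ ((Var76.ProjCoord.U k n i)) (f p) hi (lin i c)) ∧ lin i c ∈ m} := by
    letI := (CohB1.ProjSpace n k).presheaf.algebra_section_stalk (U := (Var76.ProjCoord.U k n i)) ⟨f p, hi⟩
    haveI := hU.isLocalization_stalk ⟨f p, hi⟩
    refine le_antisymm ?_ (Ideal.span_le.2 ?_)
    · show Ideal.map φ _ ≤ _
      rw [← IsLocalization.AtPrime.map_eq_maximalIdeal m ((CohB1.ProjSpace n k).presheaf.stalk (f p)), Ideal.map_map]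
      refine (Ideal.map_mono (le_span_lin i m)).trans ?_
      rw [Ideal.map_span, Ideal.span_le]
      rintro _ ⟨_, ⟨c, rfl, hc⟩, rfl⟩
      exact Ideal.subset_span ⟨c, rfl, hc⟩
    · rintro _ ⟨c, rfl, hc⟩
      exact Ideal.mem_map_of_mem _ ((germ_lin_mem_iff hf _ hi).2 hc)
  have hspan : Submodule.span ↑(X.presheaf.stalk p)
      {v | ∃ c : Fin (n + 1) → k, v = (((Scheme.Modules.pullback f).obj (Twist.twistProjSpace n k 1)).presheaf.germ ⊤ p trivial).hom (sect pX f c) ∧ v ∈ (IsLocalRing.maximalIdeal ↑(X.presheaf.stalk p) • (⊤ : Submodule ↑(X.presheaf.stalk p) ↑(((Scheme.Modules.pullback f).obj (Twist.twistProjSpace n k 1)).presheaf.stalk p)))} =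
      J • (⊤ : Submodule ↑(X.presheaf.stalk p) ↑(((Scheme.Modules.pullback f).obj (Twist.twistProjSpace n k 1)).presheaf.stalk p)) := by
    refine le_antisymm (Submodule.span_le.2 ?_) ?_
    · rintro _ ⟨c, rfl, hc⟩
      rw [germ_mem_iff hf c hi] at hc
      rw [germ_sect hf c hi]
      exact Submodule.smul_mem_smul (Ideal.mem_map_of_mem _ hc) Submodule.mem_top
    · rw [Submodule.smul_le]
      intro b hb v _
      obtain ⟨d, rfl⟩ := (isGen_gen (f := f) hi).2 v
      show b • d • gen f i p ∈ _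
      rw [smul_comm]
      refine Submodule.smul_mem _ d ?_
      rw [hJ] at hb
      induction hb using Submodule.span_induction with
      | mem b hb =>
        obtain ⟨c, rfl, hc⟩ := hb
        refine Submodule.subset_span ⟨c, (germ_sect hf c hi).symm, ?_⟩
        rw [← germ_sect hf c hi]
        exact (germ_mem_iff hf c hi).2 ((germ_lin_mem_iff hf _ hi).2 hc)
      | zero => rw [zero_smul]; exact zero_mem _
      | add a b _ _ ha hb => rw [add_smul]; exact add_mem ha hb
      | smul r b _ hb => rw [smul_eq_mul, mul_smul]; exact Submodule.smul_mem _ r hb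
  rw [hspan, ← Submodule.sup_smul]
  refine ⟨fun h a ha => ?_, fun h => Submodule.smul_mono_left h⟩
  exact (mem_smul_top_iff (isGen_gen hi) _).1 (h (Submodule.smul_mem_smul ha Submodule.mem_top))

/-- The criterion. -/
theorem crit [IsAlgClosed k] [IsProper pX] :
    IsClosedImmersion f ↔
      (∀ p q : X, IsClosed ({p} : Set X) → IsClosed ({q} : Set X) → p ≠ q →
        ∃ c, (((Scheme.Modules.pullback f).obj (Twist.twistProjSpace n k 1)).presheaf.germ ⊤ p trivial).hom (sect pX f c) ∈ (IsLocalRing.maximalIdeal ↑(X.presheaf.stalk p) • (⊤ : Submodule ↑(X.presheaf.stalk p) ↑(((Scheme.Modules.pullback f).obj (Twist.twistProjSpace n k 1)).presheaf.stalk p))) ∧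
          (((Scheme.Modules.pullback f).obj (Twist.twistProjSpace n k 1)).presheaf.germ ⊤ q trivial).hom (sect pX f c) ∉ (IsLocalRing.maximalIdeal ↑(X.presheaf.stalk q) • (⊤ : Submodule ↑(X.presheaf.stalk q) ↑(((Scheme.Modules.pullback f).obj (Twist.twistProjSpace n k 1)).presheaf.stalk q)))) ∧
      ∀ p : X, IsClosed ({p} : Set X) →
        (IsLocalRing.maximalIdeal ↑(X.presheaf.stalk p) • (⊤ : Submodule ↑(X.presheaf.stalk p) ↑(((Scheme.Modules.pullback f).obj (Twist.twistProjSpace n k 1)).presheaf.stalk p))) ≤ Submodule.span ↑(X.presheaf.stalk p)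
          {v | ∃ c : Fin (n + 1) → k, v = (((Scheme.Modules.pullback f).obj (Twist.twistProjSpace n k 1)).presheaf.germ ⊤ p trivial).hom (sect pX f c) ∧ v ∈ (IsLocalRing.maximalIdeal ↑(X.presheaf.stalk p) • (⊤ : Submodule ↑(X.presheaf.stalk p) ↑(((Scheme.Modules.pullback f).obj (Twist.twistProjSpace n k 1)).presheaf.stalk p)))} ⊔
        (IsLocalRing.maximalIdeal ↑(X.presheaf.stalk p) ^ 2 •
          (⊤ : Submodule ↑(X.presheaf.stalk p) ↑(((Scheme.Modules.pullback f).obj (Twist.twistProjSpace n k 1)).presheaf.stalk p))) := by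
  haveI : IsProper (CohB1.ProjSpace.toSpec n k) := Curves2.ProjLine.isProper_toSpec k n
  haveI : IsProper (f ≫ CohB1.ProjSpace.toSpec n k) := by rw [hf]; infer_instance
  haveI : IsProper f := IsProper.of_comp f (CohB1.ProjSpace.toSpec n k)
  have hcl : ∀ p : X, IsClosed ({p} : Set X) → IsClosed ({f p} : Set (CohB1.ProjSpace n k)) := fun p hp => by
    simpa [Set.image_singleton] using f.isClosedMap _ hp
  constructor
  · intro h
    refine ⟨fun p q hp hq hne => (sep_iff hf (hcl p hp) (hcl q hq)).2 fun e => hne (f.isClosedEmbedding.injective e),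
      fun p hp => (tangent_iff hf (hcl p hp)).2 ?_⟩
    refine le_trans ?_ le_sup_left
    intro a ha
    obtain ⟨b, rfl⟩ := f.stalkMap_surjective p a
    refine Ideal.mem_map_of_mem _ ?_
    simp only [IsLocalRing.mem_maximalIdeal, mem_nonunits_iff] at ha ⊢
    exact fun hu => ha (hu.map _)
  rintro ⟨h1, h2⟩
  refine Clim57.isClosedImmersion_of_cotangent f (CohB1.ProjSpace.toSpec n k) ?_ fun p hp => ?_
  · intro p hp q hq e
    by_contra hne
    exact (sep_iff hf (hcl p hp) (hcl q hq)).1 (h1 p q hp hq hne) e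
  · refine le_antisymm (sup_le ?_ (Ideal.pow_le_self two_ne_zero)) ((tangent_iff hf (hcl p hp)).1 (h2 p hp))
    exact Ideal.map_le_iff_le_comap.2 fun a ha hu => ha ((isUnit_map_iff (f.stalkMap p).hom a).1 hu)

/-- The criterion, with separation in either order. -/
theorem crit' [IsAlgClosed k] [IsProper pX] :
    IsClosedImmersion f ↔
      (∀ p q : X, IsClosed ({p} : Set X) → IsClosed ({q} : Set X) → p ≠ q →
        ∃ c, ((((Scheme.Modules.pullback f).obj (Twist.twistProjSpace n k 1)).presheaf.germ ⊤ p trivial).hom (sect pX f c) ∈ (IsLocalRing.maximalIdeal ↑(X.presheaf.stalk p) • (⊤ : Submodule ↑(X.presheaf.stalk p) ↑(((Scheme.Modules.pullback f).obj (Twist.twistProjSpace n k 1)).presheaf.stalk p))) ∧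
          (((Scheme.Modules.pullback f).obj (Twist.twistProjSpace n k 1)).presheaf.germ ⊤ q trivial).hom (sect pX f c) ∉ (IsLocalRing.maximalIdeal ↑(X.presheaf.stalk q) • (⊤ : Submodule ↑(X.presheaf.stalk q) ↑(((Scheme.Modules.pullback f).obj (Twist.twistProjSpace n k 1)).presheaf.stalk q)))) ∨
          ((((Scheme.Modules.pullback f).obj (Twist.twistProjSpace n k 1)).presheaf.germ ⊤ q trivial).hom (sect pX f c) ∈ (IsLocalRing.maximalIdeal ↑(X.presheaf.stalk q) • (⊤ : Submodule ↑(X.presheaf.stalk q) ↑(((Scheme.Modules.pullback f).obj (Twist.twistProjSpace n k 1)).presheaf.stalk q))) ∧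
          (((Scheme.Modules.pullback f).obj (Twist.twistProjSpace n k 1)).presheaf.germ ⊤ p trivial).hom (sect pX f c) ∉ (IsLocalRing.maximalIdeal ↑(X.presheaf.stalk p) • (⊤ : Submodule ↑(X.presheaf.stalk p) ↑(((Scheme.Modules.pullback f).obj (Twist.twistProjSpace n k 1)).presheaf.stalk p))))) ∧
      ∀ p : X, IsClosed ({p} : Set X) →
        (IsLocalRing.maximalIdeal ↑(X.presheaf.stalk p) • (⊤ : Submodule ↑(X.presheaf.stalk p) ↑(((Scheme.Modules.pullback f).obj (Twist.twistProjSpace n k 1)).presheaf.stalk p))) ≤ Submodule.span ↑(X.presheaf.stalk p)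
          {v | ∃ c : Fin (n + 1) → k, v = (((Scheme.Modules.pullback f).obj (Twist.twistProjSpace n k 1)).presheaf.germ ⊤ p trivial).hom (sect pX f c) ∧ v ∈ (IsLocalRing.maximalIdeal ↑(X.presheaf.stalk p) • (⊤ : Submodule ↑(X.presheaf.stalk p) ↑(((Scheme.Modules.pullback f).obj (Twist.twistProjSpace n k 1)).presheaf.stalk p)))} ⊔
        (IsLocalRing.maximalIdeal ↑(X.presheaf.stalk p) ^ 2 •
          (⊤ : Submodule ↑(X.presheaf.stalk p) ↑(((Scheme.Modules.pullback f).obj (Twist.twistProjSpace n k 1)).presheaf.stalk p))) := by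
  haveI : IsProper (CohB1.ProjSpace.toSpec n k) := Curves2.ProjLine.isProper_toSpec k n
  haveI : IsProper (f ≫ CohB1.ProjSpace.toSpec n k) := by rw [hf]; infer_instance
  haveI : IsProper f := IsProper.of_comp f (CohB1.ProjSpace.toSpec n k)
  have hcl : ∀ p : X, IsClosed ({p} : Set X) → IsClosed ({f p} : Set (CohB1.ProjSpace n k)) := fun p hp => by
    simpa [Set.image_singleton] using f.isClosedMap _ hp
  rw [crit hf]
  refine and_congr_left' ⟨fun h p q hp hq hne => (h p q hp hq hne).imp fun c hc => Or.inl hc,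
    fun h p q hp hq hne => (sep_iff hf (hcl p hp) (hcl q hq)).2 fun e => ?_⟩
  obtain ⟨c, hc | hc⟩ := h p q hp hq hne
  · exact (sep_iff hf (hcl p hp) (hcl q hq)).1 ⟨c, hc⟩ e
  · exact (sep_iff hf (hcl q hq) (hcl p hp)).1 ⟨c, hc⟩ e.symm

end Crit

end Groth.Agent.EGAProj74.SepTangents
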