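import Groth.Agent.EGA73.TwistInvertible
import Groth.Agent.Var76.ZeroScheme

/-! `M(a)~ ⊗ O(b) → M(a+b)~` over opens with unit sections. -/

set_option autoImplicit false
set_option backward.isDefEq.respectTransparency false

universe u

open CategoryTheory Limits AlgebraicGeometry TopologicalSpace Opposite GrTilde

noncomputable section

namespace Groth.Agent.EGAProj74.ShiftLocal

open Groth.Agent.EGA73 Groth.Agent.Var76

variable {R A : Type u} [CommRing R] [CommRing A] [Algebra R A] {𝒜 : ℕ → Submodule R A} [GradedAlgebra 𝒜]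
  {M : Type u} [AddCommGroup M] [Module R M] [Module A M] {ℳ : ℕ → Submodule R M}
  [SetLike.GradedSMul 𝒜 ℳ]

variable (𝒜 ℳ) in
/-- The multiplication map. -/
def mulHom (a b : ℤ) : CohB1.tensorMod (tilde 𝒜 ℳ a) (Twist.twist 𝒜 b) ⟶ tilde 𝒜 ℳ (a + b) :=
  (Mod48.shf (O := (Proj 𝒜).sheaf)).map
      (show CohB1.tensorPre (tilde 𝒜 ℳ a) (Twist.twist 𝒜 b) ⟶
        Mod48.pre (O := (Proj 𝒜).sheaf) (tilde 𝒜 ℳ (a + b)) from mulPre 𝒜 ℳ a b) ≫
    ((Mod48.shfCounitIso (O := (Proj 𝒜).sheaf)).app _).hom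

theorem mulHom_unit (a b : ℤ) (V : (Opens (ProjectiveSpectrum.top 𝒜))ᵒᵖ)
    (p : (CohB1.tensorPre (tilde 𝒜 ℳ a) (Twist.twist 𝒜 b)).obj V) :
    (mulHom 𝒜 ℳ a b).app V.unop
      ((Mod48.shfU (O := (Proj 𝒜).sheaf) (CohB1.tensorPre (tilde 𝒜 ℳ a) (Twist.twist 𝒜 b))).app V p) =
      mulApp 𝒜 ℳ a b V p := by
  have h := Mod48.shfAdj.right_triangle_components (tilde 𝒜 ℳ (a + b) : ModSite.Mod (Proj 𝒜).sheaf)
  have h2 := Mod48.shfU_naturality (O := (Proj 𝒜).sheaf)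
    (show CohB1.tensorPre (tilde 𝒜 ℳ a) (Twist.twist 𝒜 b) ⟶
        Mod48.pre (O := (Proj 𝒜).sheaf) (tilde 𝒜 ℳ (a + b)) from mulPre 𝒜 ℳ a b)
  have h3 : Mod48.shfU (O := (Proj 𝒜).sheaf) (CohB1.tensorPre (tilde 𝒜 ℳ a) (Twist.twist 𝒜 b)) ≫
      Mod48.fgt.map (mulHom 𝒜 ℳ a b) = mulPre 𝒜 ℳ a b := by
    rw [mulHom, Functor.map_comp, ← Category.assoc, ← h2, Category.assoc]
    exact (congrArg (_ ≫ ·) h).trans (Category.comp_id _)
  exact congr(PresheafOfModules.Hom.app $h3 V p)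

variable {a b : ℤ} {W : (Proj 𝒜).Opens}

theorem bijective_small {V : (Proj 𝒜).Opens} (e : TwistUnit (𝒜 := 𝒜) b V) :
    Function.Bijective ((mulHom 𝒜 ℳ a b).app V) := by
  let P := CohB1.tensorPre (tilde 𝒜 ℳ a) (Twist.twist 𝒜 b)
  have hloc : Mod48.IsLocalIso (Mod48.shfU (O := (Proj 𝒜).sheaf) P) :=
    (Mod48.isIso_shf_map_iff_isLocalIso _).1 inferInstance
  refine ⟨?_, fun t => ?_⟩
  · rw [injective_iff_map_eq_zero]
    intro s hs
    refine ZeroScheme.eq_of_locally _ s 0 fun x hx => ?_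
    obtain ⟨V', i, ⟨p, hp⟩, hxV'⟩ := hloc.surj.imageSieve_mem (U := V) s x hx
    refine ⟨V', i.le, hxV', ?_⟩
    have h1 : mulApp 𝒜 ℳ a b (op V') p = 0 := by
      rw [← mulHom_unit a b (op V') p]
      refine (congrArg ((mulHom 𝒜 ℳ a b).app V') hp).trans ?_
      refine (ConcreteCategory.congr_hom ((mulHom 𝒜 ℳ a b).mapPresheaf.naturality i.op) s).trans ?_
      refine (congrArg ((tilde 𝒜 ℳ (a + b)).presheaf.map i.op) hs).trans ?_
      exact map_zero _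
    have h2 : p = 0 := (mulApp_bijective (e.res i.le)).1 (h1.trans (map_zero _).symm)
    subst h2
    refine (hp.symm.trans (map_zero _)).trans ?_
    exact (map_zero _).symm
  · obtain ⟨p, hp⟩ := (mulApp_bijective (ℳ := ℳ) (a := a) e).2 t
    exact ⟨_, (mulHom_unit a b (op V) p).trans hp⟩

theorem isIso_restrict (hcov : ∀ x ∈ W, ∃ U : (Proj 𝒜).Opens, x ∈ U ∧ Nonempty (TwistUnit (𝒜 := 𝒜) b U)) :
    IsIso ((Scheme.Modules.restrictFunctor W.ι).map (mulHom 𝒜 ℳ a b)) := by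
  rw [Scheme.Modules.Hom.isIso_iff_isIso_app]
  intro W'
  rw [ConcreteCategory.isIso_iff_bijective]
  show Function.Bijective ((mulHom 𝒜 ℳ a b).app (W.ι ''ᵁ W'))
  have key : ∀ V : (Proj 𝒜).Opens, V ≤ W → Function.Bijective ((mulHom 𝒜 ℳ a b).app V) := by
    intro V hV
    choose U hxU hU using hcov
    let V' : V → (Proj 𝒜).Opens := fun x => V ⊓ U x.1 (hV x.2)
    have hle : ∀ x, V' x ≤ V := fun x => inf_le_left
    have hb : ∀ (x : V) (V'' : (Proj 𝒜).Opens), V'' ≤ V' x → Function.Bijective ((mulHom 𝒜 ℳ a b).app V'') :=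
      fun x V'' h => bijective_small ((hU x.1 (hV x.2)).some.res (h.trans inf_le_right))
    have nat : ∀ {V₁ V₂ : (Proj 𝒜).Opens} (h : V₁ ≤ V₂) (s : Γ(CohB1.tensorMod (tilde 𝒜 ℳ a) (Twist.twist 𝒜 b), V₂)),
        (mulHom 𝒜 ℳ a b).app V₁ (LineBundle.res _ h s) = LineBundle.res _ h ((mulHom 𝒜 ℳ a b).app V₂ s) :=
      fun h s => ConcreteCategory.congr_hom ((mulHom 𝒜 ℳ a b).mapPresheaf.naturality (homOfLE h).op) s
    refine ⟨fun s t h => ZeroScheme.eq_of_locally _ s t fun x hx => ?_, fun t => ?_⟩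
    · refine ⟨V' ⟨x, hx⟩, hle _, ⟨hx, hxU x (hV hx)⟩, (hb ⟨x, hx⟩ _ le_rfl).1 ?_⟩
      rw [nat, nat, h]
    · choose s hs using fun x => (hb x (V' x) le_rfl).2 (LineBundle.res _ (hle x) t)
      obtain ⟨g, hg, -⟩ := TopCat.Sheaf.existsUnique_gluing'
        ⟨(CohB1.tensorMod (tilde 𝒜 ℳ a) (Twist.twist 𝒜 b)).presheaf,
          (CohB1.tensorMod (tilde 𝒜 ℳ a) (Twist.twist 𝒜 b)).isSheaf⟩ V' V (fun x => homOfLE (hle x))
        (fun x hx => Opens.mem_iSup.2 ⟨⟨x, hx⟩, ⟨hx, hxU x (hV hx)⟩⟩) s fun x y => by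
          refine (hb x _ inf_le_left).1 ?_
          show (mulHom 𝒜 ℳ a b).app _ (LineBundle.res _ inf_le_left (s x)) =
            (mulHom 𝒜 ℳ a b).app _ (LineBundle.res _ inf_le_right (s y))
          rw [nat, nat, hs, hs, LineBundle.res_res, LineBundle.res_res]
      refine ⟨g, ZeroScheme.eq_of_locally _ _ t fun x hx => ⟨V' ⟨x, hx⟩, hle _, ⟨hx, hxU x (hV hx)⟩, ?_⟩⟩
      rw [← nat]
      exact (congrArg _ (hg ⟨x, hx⟩)).trans (hs ⟨x, hx⟩)
  exact key _ (W.ι_image_le W')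

theorem notMem_left {f g : A} {x : ProjectiveSpectrum 𝒜} (h : f * g ∉ x.asHomogeneousIdeal) :
    f ∉ x.asHomogeneousIdeal := fun e => h (Ideal.mul_mem_right _ _ e)

theorem notMem_right {f g : A} {x : ProjectiveSpectrum 𝒜} (h : f * g ∉ x.asHomogeneousIdeal) :
    g ∉ x.asHomogeneousIdeal := fun e => h (Ideal.mul_mem_left _ _ e)

/-- `(f / g) ^ n` as a unit section on `D₊(f g)`. -/
def fracUnit {j d : ℕ} (f : 𝒜 (j + d)) (g : 𝒜 j) (n : ℤ) :
    TwistUnit (𝒜 := 𝒜) (n * d) (ProjectiveSpectrum.basicOpen 𝒜 ((f : A) * g)) where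
  fwd := ofTildeFun _ _ (fracSect (i := n.toNat * (j + d) + (-n).toNat * j) (j := n.toNat * j + (-n).toNat * (j + d))
    (SetLike.mul_mem_graded (SetLike.pow_mem_graded n.toNat f.2) (SetLike.pow_mem_graded (-n).toNat g.2))
    (SetLike.mul_mem_graded (SetLike.pow_mem_graded n.toNat g.2) (SetLike.pow_mem_graded (-n).toNat f.2))
    (fun x => EGA73.mul_notMem (EGA73.pow_notMem (notMem_right x.2) _) (EGA73.pow_notMem (notMem_left x.2) _)) (by
      obtain ⟨k, rfl | rfl⟩ := n.eq_nat_or_neg <;> simp <;> ring))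
  bwd := ofTildeFun _ _ (fracSect (i := n.toNat * j + (-n).toNat * (j + d)) (j := n.toNat * (j + d) + (-n).toNat * j)
    (SetLike.mul_mem_graded (SetLike.pow_mem_graded n.toNat g.2) (SetLike.pow_mem_graded (-n).toNat f.2))
    (SetLike.mul_mem_graded (SetLike.pow_mem_graded n.toNat f.2) (SetLike.pow_mem_graded (-n).toNat g.2))
    (fun x => EGA73.mul_notMem (EGA73.pow_notMem (notMem_left x.2) _) (EGA73.pow_notMem (notMem_right x.2) _)) (by
      obtain ⟨k, rfl | rfl⟩ := n.eq_nat_or_neg <;> simp <;> ring))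
  mul_eq x := by
    show Localization.mk _ _ * Localization.mk _ _ = 1
    rw [Localization.mk_mul, ← Localization.mk_self (1 : x.1.asHomogeneousIdeal.toIdeal.primeCompl),
      Localization.mk_eq_mk_iff, Localization.r_iff_exists]
    exact ⟨1, by simp; ring⟩

end Groth.Agent.EGAProj74.ShiftLocal
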