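import Groth.Agent.EGAProj74.LineContraction
import Groth.Agent.EGAProj74.ContractionStein
import Groth.Agent.EGAProj74.Descend

/-! The vertex section of the cone of a relatively ample line bundle. -/

set_option autoImplicit false
set_option backward.isDefEq.respectTransparency false

universe u

open CategoryTheory CategoryTheory.Limits AlgebraicGeometry TopologicalSpace Opposite

noncomputable section

namespace Groth.Agent.EGAProj74.SteinLine

open Groth.Agent.EGAProj74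

variable {X Y : Scheme.{u}} {L : X.Modules} (hLq : Coh.IsQCoh L) (hL : PicF.IsInvertible L)
  {𝒜 : RelProj.QCGrAlg X} {j : L ⟶ 𝒜.toModule} (hA : RelProj.IsGrSymAlg L 𝒜 j)
  {aug : 𝒜.toQCAlg ⟶ RelSpec.QCAlg.unit X} (haug : RelCone.IsAugmentation 𝒜 aug)
  {j0 : X ⟶ 𝒜.toQCAlg.spec} (hj0 : RelCone.IsVertex 𝒜 aug j0)
  (V0 : 𝒜.toQCAlg.spec.Opens) (hV0 : (V0 : Set 𝒜.toQCAlg.spec) = (Set.range j0.base)ᶜ)
  (p : X ⟶ Y) [IsProper p] (hθ : IsIso p.c) (hamp : RelAmple.IsRelAmple p L)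
  (q' : 𝒜.toQCAlg.spec ⟶ (RelSpec.QCAlg.directImage (𝒜.toQCAlg.π ≫ p)).spec)
  (hq'π : q' ≫ (RelSpec.QCAlg.directImage (𝒜.toQCAlg.π ≫ p)).π = 𝒜.toQCAlg.π ≫ p)
  (hq' : AffAlg.algHom (RelSpec.QCAlg.directImage (𝒜.toQCAlg.π ≫ p)).π (𝒜.toQCAlg.π ≫ p) q' hq'π =
    (RelSpec.QCAlg.directImage (𝒜.toQCAlg.π ≫ p)).gammaMap)

include hθ in
theorem surjective_p : Function.Surjective p.base :=
  ContractionStein.surjective_of_injective_app p p.isClosedMap fun O => by
    haveI := hθ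
    exact (ConcreteCategory.bijective_of_isIso (p.c.app (op O))).1

include hLq hL hA haug hj0 hV0 hθ hamp hq' in
theorem exists_vertex :
    ∃ ε' : Y ⟶ (RelSpec.QCAlg.directImage (𝒜.toQCAlg.π ≫ p)).spec,
      ε' ≫ (RelSpec.QCAlg.directImage (𝒜.toQCAlg.π ≫ p)).π = 𝟙 Y ∧ j0 ≫ q' = p ≫ ε' ∧
      IsProper q' ∧ Function.Surjective q'.base ∧ (∀ O, IsIso (q'.app O)) ∧
      IsOpenImmersion (V0.ι ≫ q') ∧ Set.range (V0.ι ≫ q').base = (Set.range ε'.base)ᶜ := by
  have hj : j0 ≫ (𝒜.toQCAlg.π ≫ p) = p := by rw [← Category.assoc, hj0.comp_π, Category.id_comp]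
  obtain ⟨ε, q, w, hεg, hqg, hw, hwg, hjq, hq, hε⟩ := ContractionStein.exists_iso _ q' hq'π hq' hj hθ
  obtain ⟨hoi, -, -, h⟩ :=
    LineContraction.contraction_props hLq hA haug hj0 V0 hV0 hL p hamp hj hεg hqg hq hε
  obtain ⟨hqp, hr⟩ := h inferInstance
  have hq'e : q' = q ≫ w.inv := by rw [← hw, Category.assoc, w.hom_inv_id, Category.comp_id]
  haveI := hqp
  haveI hp' : IsProper q' := by rw [hq'e]; infer_instance
  have hiso := ContractionStein.isIso_app _ q' hq'π hq'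
  refine ⟨ε ≫ w.inv, ?_, ?_, hp', ?_, hiso, ?_, ?_⟩
  · rw [Category.assoc, ← hwg, w.inv_hom_id_assoc, hεg]
  · rw [hq'e, ← Category.assoc, hjq, Category.assoc]
  · exact ContractionStein.surjective_of_injective_app q' q'.isClosedMap fun O => by
      haveI := hiso O
      exact (ConcreteCategory.bijective_of_isIso (q'.app O)).1
  · haveI := hoi
    rw [hq'e, ← Category.assoc]; infer_instance
  · have hb : Function.Bijective w.inv.base := w.inv.homeomorph.bijective
    rw [hq'e, ← Category.assoc]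
    simp only [Scheme.Hom.comp_base, TopCat.coe_comp, Set.range_comp] at hr ⊢
    rw [hr, Set.image_compl_eq hb]

end Groth.Agent.EGAProj74.SteinLine
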