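import Groth.Agent.EGAProj74.Descend
import Mathlib.AlgebraicGeometry.Morphisms.UniversallyInjective
import Mathlib.AlgebraicGeometry.Morphisms.ClosedImmersion
import Mathlib.AlgebraicGeometry.Morphisms.Proper

/-! Maps between two contractions of the same section. -/

set_option autoImplicit false
set_option backward.isDefEq.respectTransparency false

universe u

open CategoryTheory CategoryTheory.Limits AlgebraicGeometry TopologicalSpace Opposite

noncomputable section

namespace Groth.Agent.EGAProj74.SteinMaps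

variable {X Y V C' C : Scheme.{u}} {p : X ⟶ Y} (hp : Function.Surjective p.base) {j0 : X ⟶ V}
  {V0 : V.Opens} (hV0 : (V0 : Set V) = (Set.range j0.base)ᶜ)
  {ε' : Y ⟶ C'} {q' : V ⟶ C'} (hjq' : j0 ≫ q' = p ≫ ε') [IsOpenImmersion (V0.ι ≫ q')]
  (hr : Set.range (V0.ι ≫ q').base = (Set.range ε'.base)ᶜ)
  {ε : Y ⟶ C} {q : V ⟶ C} (hjq : j0 ≫ q = p ≫ ε)

include hV0 hjq' hr in
theorem apply_mem_range_iff (v : V) : q' v ∈ Set.range ε'.base ↔ v ∈ Set.range j0.base := by
  refine ⟨fun h => ?_, ?_⟩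
  · by_contra hv
    exact (hr.le ⟨⟨v, hV0.ge hv⟩, rfl⟩) h
  · rintro ⟨x, rfl⟩
    exact ⟨p x, by rw [← Scheme.Hom.comp_apply, ← Scheme.Hom.comp_apply, hjq']⟩

include hV0 hjq' hr hjq in
theorem fibres (hε' : Function.Injective ε'.base) (a b : V) (h : q' a = q' b) : q a = q b := by
  by_cases ha : a ∈ Set.range j0.base
  · have hb : b ∈ Set.range j0.base :=
      (apply_mem_range_iff hV0 hjq' hr b).1 (h ▸ (apply_mem_range_iff hV0 hjq' hr a).2 ha)
    obtain ⟨x, rfl⟩ := ha
    obtain ⟨x', rfl⟩ := hb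
    rw [← Scheme.Hom.comp_apply, ← Scheme.Hom.comp_apply, hjq', Scheme.Hom.comp_apply, Scheme.Hom.comp_apply] at h
    rw [← Scheme.Hom.comp_apply, ← Scheme.Hom.comp_apply, hjq, Scheme.Hom.comp_apply, Scheme.Hom.comp_apply,
      hε' h]
  · have hb : b ∉ Set.range j0.base := fun hb =>
      ha ((apply_mem_range_iff hV0 hjq' hr a).1 (h.symm ▸ (apply_mem_range_iff hV0 hjq' hr b).2 hb))
    have := (V0.ι ≫ q').isOpenEmbedding.injective (a₁ := ⟨a, hV0.ge ha⟩) (a₂ := ⟨b, hV0.ge hb⟩) h
    exact congrArg q.base (congrArg Subtype.val this)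

theorem exists_lift_of_mem_range (K : Type u) [Field K] [IsClosedImmersion ε'] (a : Spec (.of K) ⟶ C')
    (h : a (IsLocalRing.closedPoint K) ∈ Set.range ε'.base) : ∃ a', a' ≫ ε' = a := by
  haveI : Surjective (pullback.fst a ε') := ⟨fun t => by
    obtain ⟨y, hy⟩ := h
    rw [Subsingleton.elim t (IsLocalRing.closedPoint K)]
    obtain ⟨z, hz, -⟩ := Scheme.Pullback.exists_preimage_pullback (f := a) (g := ε') (IsLocalRing.closedPoint K) y hy.symm
    exact ⟨z, hz⟩⟩
  haveI : IsIso (pullback.fst a ε') := isIso_of_isClosedImmersion_of_surjective _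
  exact ⟨inv (pullback.fst a ε') ≫ pullback.snd a ε', by
    rw [Category.assoc, ← pullback.condition, IsIso.inv_hom_id_assoc]⟩

variable {u : C' ⟶ C} (hu : q' ≫ u = q)

include hjq' hjq hu hp in
theorem comp_eq (hinj : ∀ U : Y.Opens, Function.Injective (p.app U)) : ε' ≫ u = ε := by
  refine Descend.hom_ext p hp hinj ?_
  rw [← reassoc_of% hjq', hu, hjq]

variable [IsOpenImmersion (V0.ι ≫ q)] (hrq : Set.range (V0.ι ≫ q).base = (Set.range ε.base)ᶜ)

include hu hr hrq in
theorem restrict_props (W : C'.Opens) (hW : (W : Set C') = (Set.range ε'.base)ᶜ) :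
    IsOpenImmersion (W.ι ≫ u) ∧ Set.range (W.ι ≫ u).base = (Set.range ε.base)ᶜ := by
  have hrange : Set.range W.ι.base = Set.range (V0.ι ≫ q').base := by
    rw [hr, Scheme.Opens.range_ι, hW]
  let e := IsOpenImmersion.isoOfRangeEq W.ι (V0.ι ≫ q') hrange
  have he : W.ι ≫ u = e.hom ≫ (V0.ι ≫ q) := by
    rw [← hu, ← Category.assoc V0.ι, ← Category.assoc,
      IsOpenImmersion.isoOfRangeEq_hom_fac]
  refine ⟨he ▸ inferInstance, ?_⟩
  have hs : Function.Surjective e.hom.base := e.hom.homeomorph.surjective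
  rw [he, Scheme.Hom.comp_base, TopCat.coe_comp, hs.range_comp, hrq]

include hu hr hrq in
theorem universallyInjective (hεu : ε' ≫ u = ε) [IsClosedImmersion ε'] {g : C ⟶ Y} (hε : ε ≫ g = 𝟙 Y) :
    UniversallyInjective u := by
  refine ((tfae_universallyInjective u).out 1 0 rfl rfl).1 fun K _ a b e => ?_
  replace e : a ≫ u = b ≫ u := e
  let W : C'.Opens := ⟨(Set.range ε'.base)ᶜ, ε'.isClosedEmbedding.isClosed_range.isOpen_compl⟩
  obtain ⟨hoi, hWr⟩ := restrict_props hr hu hrq W rfl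
  have key : ∀ z : C', z ∈ Set.range ε'.base ↔ u z ∈ Set.range ε.base := by
    intro z
    refine ⟨?_, fun hz => by_contra fun hzW => ?_⟩
    · rintro ⟨y, rfl⟩
      exact ⟨y, by rw [← Scheme.Hom.comp_apply, hεu]⟩
    · exact hWr.le ⟨⟨z, hzW⟩, rfl⟩ hz
  have hz : ∀ c : Spec (.of K) ⟶ C', u (c (IsLocalRing.closedPoint K)) = (c ≫ u) (IsLocalRing.closedPoint K) :=
    fun c => rfl
  by_cases ha : a (IsLocalRing.closedPoint K) ∈ Set.range ε'.base
  · have hb : b (IsLocalRing.closedPoint K) ∈ Set.range ε'.base := by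
      rw [key, hz, ← e, ← hz, ← key]; exact ha
    obtain ⟨a', rfl⟩ := exists_lift_of_mem_range K a ha
    obtain ⟨b', rfl⟩ := exists_lift_of_mem_range K b hb
    have h2 := congrArg (· ≫ g) e
    simp only [Category.assoc, reassoc_of% hεu, hε, Category.comp_id] at h2
    rw [h2]
  · have hb : b (IsLocalRing.closedPoint K) ∉ Set.range ε'.base := fun hb => ha (by
      rw [key, hz, e, ← hz, ← key]; exact hb)
    have hrange : ∀ c : Spec (.of K) ⟶ C', c (IsLocalRing.closedPoint K) ∉ Set.range ε'.base →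
        Set.range c.base ⊆ Set.range W.ι.base := by
      rintro c hc _ ⟨t, rfl⟩
      rw [Scheme.Opens.range_ι, Subsingleton.elim t (IsLocalRing.closedPoint K)]
      exact hc
    let a1 := IsOpenImmersion.lift W.ι a (hrange a ha)
    let b1 := IsOpenImmersion.lift W.ι b (hrange b hb)
    have hab : a1 = b1 := by
      haveI := hoi
      rw [← cancel_mono (W.ι ≫ u), ← Category.assoc, IsOpenImmersion.lift_fac, ← Category.assoc,
        IsOpenImmersion.lift_fac, e]
    rw [← IsOpenImmersion.lift_fac W.ι a (hrange a ha), ← IsOpenImmersion.lift_fac W.ι b (hrange b hb)]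
    exact congrArg (· ≫ W.ι) hab

end Groth.Agent.EGAProj74.SteinMaps
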