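import Groth.Agent.EGAProj74.ContractionStein
import Groth.Agent.Props58.Comp
import Groth.Agent.SchBasics.NormalizationChar
import Groth.Agent.NormalPush99.Basic

/-! Integrality and normality of the spectrum of a direct image algebra. -/

set_option autoImplicit false
set_option backward.isDefEq.respectTransparency false

universe u

open CategoryTheory CategoryTheory.Limits AlgebraicGeometry TopologicalSpace Opposite

noncomputable section

namespace Groth.Agent.EGAProj74.SteinNormal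

variable {Y V : Scheme.{u}} (q0 : V ⟶ Y) [QuasiCompact q0] [QuasiSeparated q0]

theorem exists_q' : ∃ (q' : V ⟶ (RelSpec.QCAlg.directImage q0).spec)
    (h : q' ≫ (RelSpec.QCAlg.directImage q0).π = q0),
      AffAlg.algHom (RelSpec.QCAlg.directImage q0).π q0 q' h = (RelSpec.QCAlg.directImage q0).gammaMap :=
  EGA73.exists_over _ q0 (RelSpec.QCAlg.directImage q0).gammaMap
    (RelSpec.QCAlg.directImage q0).π_c_gammaMap

theorem isIntegral [IsIntegral V] : IsIntegral (RelSpec.QCAlg.directImage q0).spec := by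
  obtain ⟨q', hq'π, hq'⟩ := exists_q' q0
  have hd := ContractionStein.denseRange_of_injective_app q' fun O => by
    haveI := ContractionStein.isIso_app q0 q' hq'π hq' O
    exact (ConcreteCategory.bijective_of_isIso (q'.app O)).1
  haveI : Nonempty (RelSpec.QCAlg.directImage q0).spec := ⟨q' (Classical.arbitrary V)⟩
  haveI : IrreducibleSpace (RelSpec.QCAlg.directImage q0).spec := by
    have h := ((PreirreducibleSpace.isPreirreducible_univ (X := V)).image q'.base q'.continuous.continuousOn).closure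
    rw [Set.image_univ, hd.closure_range] at h
    exact { isPreirreducible_univ := h, toNonempty := inferInstance }
  haveI : AlgebraicGeometry.IsReduced (RelSpec.QCAlg.directImage q0).spec := ⟨fun O => by
    haveI := ContractionStein.isIso_app q0 q' hq'π hq' O
    exact isReduced_of_injective (q'.app O).hom (ConcreteCategory.bijective_of_isIso (q'.app O)).1⟩
  exact isIntegral_of_irreducibleSpace_of_isReduced (RelSpec.QCAlg.directImage q0).spec

variable (hloc : ∀ v : V, ∃ U : V.Opens, v ∈ U ∧ IsIntegral (U : Scheme.{u})) (hV : Pi1.IsNormalScheme V)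

include hloc hV in
theorem isOpen_component (Z : Set V) (hZ : Z ∈ irreducibleComponents V) : IsOpen Z := by
  refine Props58.isOpen_irreducibleComponent (fun v Z₁ h₁ Z₂ h₂ =>
    Props58.eq_of_isDomain_stalk v (hV v).1 Z₁ h₁ Z₂ h₂) (fun v => ?_) hZ
  obtain ⟨U, hvU, hU⟩ := hloc v
  haveI := hU
  refine ⟨U, hvU, ?_⟩
  show (irreducibleComponents (U : Scheme.{u})).Finite
  rw [irreducibleComponents_eq_singleton]
  exact Set.finite_singleton _

theorem exists_idempotent (O Z : V.Opens) (hZ : IsClosed (Z : Set V)) :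
    ∃ e : Γ(V, O), V.basicOpen e = O ⊓ Z ∧
      V.presheaf.map (homOfLE (inf_le_left : O ⊓ Z ≤ O)).op e = 1 := by
  let Zc : V.Opens := ⟨(Z : Set V)ᶜ, hZ.isOpen_compl⟩
  let P : ULift.{u} Bool → V.Opens := fun b => if b.down then O ⊓ Z else O ⊓ Zc
  let s : ∀ b : ULift.{u} Bool, Γ(V, P b) := fun b => if b.down then 1 else 0
  have hle : ∀ b, P b ≤ O := fun b => by
    simp only [P]; split <;> exact inf_le_left
  have hcov : O ≤ iSup P := fun v hv => by
    by_cases h : v ∈ Z
    · exact Opens.mem_iSup.2 ⟨⟨true⟩, ⟨hv, h⟩⟩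
    · exact Opens.mem_iSup.2 ⟨⟨false⟩, ⟨hv, h⟩⟩
  have hcompat : TopCat.Presheaf.IsCompatible V.presheaf P s := by
    intro a b
    by_cases hab : a = b
    · subst hab; rfl
    · have : Subsingleton Γ(V, P a ⊓ P b) := by
        have hbot : P a ⊓ P b = ⊥ := by
          rw [eq_bot_iff]
          intro v hv
          obtain ⟨_ | _⟩ := a <;> obtain ⟨_ | _⟩ := b
          · exact absurd rfl hab
          · exact hv.1.2 hv.2.2
          · exact hv.2.2 hv.1.2
          · exact absurd rfl hab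
        rw [hbot]; exact CommRingCat.subsingleton_of_isTerminal V.sheaf.isTerminalOfEmpty
      exact Subsingleton.elim _ _
  obtain ⟨e, he, -⟩ := TopCat.Sheaf.existsUnique_gluing' V.sheaf P O (fun b => homOfLE (hle b)) hcov s hcompat
  have h1 : V.presheaf.map (homOfLE (inf_le_left : O ⊓ Z ≤ O)).op e = 1 := he ⟨true⟩
  refine ⟨e, le_antisymm ?_ ?_, h1⟩
  · intro v hv
    refine ⟨V.basicOpen_le e hv, by_contra fun hvZ => ?_⟩
    have h0 : V.presheaf.map (homOfLE (inf_le_left : O ⊓ Zc ≤ O)).op e = 0 := he ⟨false⟩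
    have : v ∈ V.basicOpen (V.presheaf.map (homOfLE (inf_le_left : O ⊓ Zc ≤ O)).op e) := by
      rw [Scheme.basicOpen_res]; exact ⟨⟨V.basicOpen_le e hv, hvZ⟩, hv⟩
    rw [h0, Scheme.basicOpen_zero] at this
    exact this.elim
  · intro v hv
    have : v ∈ V.basicOpen (V.presheaf.map (homOfLE (inf_le_left : O ⊓ Z ≤ O)).op e) := by
      rw [h1, Scheme.basicOpen_of_isUnit _ isUnit_one]; exact hv
    rw [Scheme.basicOpen_res] at this
    exact this.2

include hloc hV in
theorem isNormal : Pi1.IsNormalScheme (RelSpec.QCAlg.directImage q0).spec := by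
  obtain ⟨q', hq'π, hq'⟩ := exists_q' q0
  have hiso := ContractionStein.isIso_app q0 q' hq'π hq'
  intro c
  obtain ⟨U, hU, hcU, -⟩ := exists_isAffineOpen_mem_and_subset (U := (⊤ : Y.Opens)) (x := (RelSpec.QCAlg.directImage q0).π c) trivial
  have hO : IsCompact ((q' ⁻¹ᵁ ((RelSpec.QCAlg.directImage q0).π ⁻¹ᵁ U) : V.Opens) : Set V) := by
    rw [← Scheme.Hom.comp_preimage, hq'π]; exact q0.isCompact_preimage hU.isCompact
  let comp : irreducibleComponents V → V.Opens := fun Z => ⟨Z.1, isOpen_component hloc hV Z.1 Z.2⟩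
  obtain ⟨t, ht⟩ := hO.elim_finite_subcover (fun Z => (comp Z : Set V)) (fun Z => (comp Z).2)
    fun v _ => Set.mem_iUnion.2
      ⟨⟨_, irreducibleComponent_mem_irreducibleComponents v⟩, mem_irreducibleComponent⟩
  choose e he he1 using fun Z => exists_idempotent (q' ⁻¹ᵁ ((RelSpec.QCAlg.directImage q0).π ⁻¹ᵁ U)) (comp Z)
    (isClosed_of_mem_irreducibleComponents Z.1 Z.2)
  haveI := hiso ((RelSpec.QCAlg.directImage q0).π ⁻¹ᵁ U)
  have hbij := ConcreteCategory.bijective_of_isIso (q'.app ((RelSpec.QCAlg.directImage q0).π ⁻¹ᵁ U))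
  choose et het using fun Z => hbij.2 (e Z)
  obtain ⟨Z, -, hcZ⟩ : ∃ Z ∈ t, c ∈ (RelSpec.QCAlg.directImage q0).spec.basicOpen (et Z) := by
    by_contra h
    push Not at h
    have h0 : ∏ Z ∈ t, (1 - et Z) = 0 := by
      refine hbij.1 ?_
      rw [map_zero, map_prod]
      simp only [map_sub, map_one, het]
      refine TopCat.Presheaf.section_ext V.sheaf _ _ _ fun v hv => ?_
      obtain ⟨Z, hZt, hvZ⟩ := Set.mem_iUnion₂.1 (ht hv)
      rw [map_zero]
      erw [map_prod]
      refine Finset.prod_eq_zero hZt ?_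
      have h2 := congrArg (V.presheaf.germ _ v (show v ∈ q' ⁻¹ᵁ ((RelSpec.QCAlg.directImage q0).π ⁻¹ᵁ U) ⊓ comp Z from ⟨hv, hvZ⟩)) (he1 Z)
      rw [TopCat.Presheaf.germ_res_apply, map_one] at h2
      rw [map_sub, map_one, sub_eq_zero]
      exact h2.symm
    have hc : IsUnit ((RelSpec.QCAlg.directImage q0).spec.presheaf.germ ((RelSpec.QCAlg.directImage q0).π ⁻¹ᵁ U) c hcU (∏ Z ∈ t, (1 - et Z))) := by
      rw [map_prod]
      refine IsUnit.prod_iff.2 fun Z hZ => ?_
      rw [map_sub, map_one]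
      refine (IsLocalRing.isUnit_or_isUnit_one_sub_self _).resolve_left fun hu => h Z hZ ?_
      exact ((RelSpec.QCAlg.directImage q0).spec.mem_basicOpen _ c hcU).2 hu
    rw [h0, map_zero, isUnit_zero_iff] at hc
    exact zero_ne_one hc
  let D := (RelSpec.QCAlg.directImage q0).spec.basicOpen (et Z)
  have hD : IsAffineOpen D := (hU.preimage (RelSpec.QCAlg.directImage q0).π).basicOpen _
  have hpre : q' ⁻¹ᵁ D = q' ⁻¹ᵁ ((RelSpec.QCAlg.directImage q0).π ⁻¹ᵁ U) ⊓ comp Z := by
    rw [Scheme.preimage_basicOpen, het, he]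
  haveI := hiso D
  haveI : Nonempty (q' ⁻¹ᵁ D : Scheme.{u}) := by
    by_contra hn
    have hbot : q' ⁻¹ᵁ D = ⊥ := Opens.ext (Set.eq_empty_iff_forall_notMem.2 fun v hv => hn ⟨⟨v, hv⟩⟩)
    haveI : Subsingleton Γ(V, q' ⁻¹ᵁ D) := by
      rw [hbot]; exact CommRingCat.subsingleton_of_isTerminal V.sheaf.isTerminalOfEmpty
    haveI := (ConcreteCategory.bijective_of_isIso (q'.app D)).1.subsingleton
    have : c ∈ (RelSpec.QCAlg.directImage q0).spec.basicOpen (1 : Γ((RelSpec.QCAlg.directImage q0).spec, D)) := by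
      rw [Scheme.basicOpen_of_isUnit _ isUnit_one]; exact hcZ
    rw [Subsingleton.elim (1 : Γ((RelSpec.QCAlg.directImage q0).spec, D)) 0, Scheme.basicOpen_zero] at this
    exact this.elim
  haveI : IsIntegral (q' ⁻¹ᵁ D : Scheme.{u}) := by
    have hirr : IsPreirreducible ((q' ⁻¹ᵁ D : V.Opens) : Set V) := by
      refine (Z.2.1.isPreirreducible).open_subset (q' ⁻¹ᵁ D).2 ?_
      rw [hpre]; exact fun v hv => hv.2
    haveI : PreirreducibleSpace (q' ⁻¹ᵁ D : Scheme.{u}) := Subtype.preirreducibleSpace hirr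
    haveI : IrreducibleSpace (q' ⁻¹ᵁ D : Scheme.{u}) := { toPreirreducibleSpace := inferInstance, toNonempty := inferInstance }
    haveI : ∀ v : (q' ⁻¹ᵁ D : Scheme.{u}), _root_.IsReduced ((q' ⁻¹ᵁ D : Scheme.{u}).presheaf.stalk v) := fun v =>
      have := (SchBasics.isNormalScheme_of_isOpenImmersion (q' ⁻¹ᵁ D).ι (fun w => hV _) v).1
      inferInstance
    haveI := isReduced_of_isReduced_stalk (q' ⁻¹ᵁ D : Scheme.{u})
    exact isIntegral_of_irreducibleSpace_of_isReduced _
  haveI : Nonempty (⊤ : (q' ⁻¹ᵁ D : Scheme.{u}).Opens) := ⟨⟨Classical.arbitrary _, trivial⟩⟩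
  haveI := NormalPush99.isIntegrallyClosed_of_opens
    (SchBasics.isNormalScheme_of_isOpenImmersion (q' ⁻¹ᵁ D).ι fun w => hV _) (⊤ : (q' ⁻¹ᵁ D : Scheme.{u}).Opens)
  let ed : Γ((RelSpec.QCAlg.directImage q0).spec, D) ≃+* Γ((q' ⁻¹ᵁ D : Scheme.{u}), ⊤) :=
    (asIso (q'.app D) ≪≫ (q' ⁻¹ᵁ D).topIso.symm).commRingCatIsoToRingEquiv
  haveI : IsDomain Γ((RelSpec.QCAlg.directImage q0).spec, D) := ed.toMulEquiv.isDomain Γ((q' ⁻¹ᵁ D : Scheme.{u}), ⊤)
  haveI : IsIntegrallyClosed Γ((RelSpec.QCAlg.directImage q0).spec, D) := IsIntegrallyClosed.of_equiv ed.symm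
  let P := (hD.primeIdealOf ⟨c, hcZ⟩).asIdeal
  letI := (RelSpec.QCAlg.directImage q0).spec.presheaf.algebra_section_stalk ⟨c, hcZ⟩
  haveI : IsLocalization.AtPrime ((RelSpec.QCAlg.directImage q0).spec.presheaf.stalk c) P := hD.isLocalization_stalk ⟨c, hcZ⟩
  exact ⟨IsLocalization.isDomain_of_le_nonZeroDivisors ((RelSpec.QCAlg.directImage q0).spec.presheaf.stalk c) P.primeCompl_le_nonZeroDivisors,
    isIntegrallyClosed_of_isLocalization ((RelSpec.QCAlg.directImage q0).spec.presheaf.stalk c) P.primeCompl P.primeCompl_le_nonZeroDivisors⟩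

end Groth.Agent.EGAProj74.SteinNormal
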