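import Mathlib

/-!
Symmetric algebras commute with localization.
-/

set_option autoImplicit false

universe u

noncomputable section

namespace Groth.Agent.EGAProj74

variable {R R' M M' : Type u} [CommRing R] [CommRing R'] [AddCommGroup M] [AddCommGroup M']
  [Module R M] [Module R' M']

/-- The map of symmetric algebras over a map of rings and a semilinear map of modules. -/
def symMap (φ : R →+* R') (f : M →ₛₗ[φ] M') : SymmetricAlgebra R M →+* SymmetricAlgebra R' M' :=
  letI := ((algebraMap R' (SymmetricAlgebra R' M')).comp φ).toAlgebra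
  (SymmetricAlgebra.lift (A := SymmetricAlgebra R' M')
    { toFun := fun m => SymmetricAlgebra.ι R' M' (f m)
      map_add' := fun a b => by rw [map_add, map_add]
      map_smul' := fun r m => by
        rw [LinearMap.map_smulₛₗ, map_smul, Algebra.smul_def, RingHom.id_apply, Algebra.smul_def]
        rfl }).toRingHom

@[simp] theorem symMap_algebraMap (φ : R →+* R') (f : M →ₛₗ[φ] M') (r : R) :
    symMap φ f (algebraMap R _ r) = algebraMap R' _ (φ r) := by
  letI := ((algebraMap R' (SymmetricAlgebra R' M')).comp φ).toAlgebra
  exact AlgHom.commutes _ r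

@[simp] theorem symMap_ι (φ : R →+* R') (f : M →ₛₗ[φ] M') (m : M) :
    symMap φ f (SymmetricAlgebra.ι R M m) = SymmetricAlgebra.ι R' M' (f m) := by
  letI := ((algebraMap R' (SymmetricAlgebra R' M')).comp φ).toAlgebra
  exact SymmetricAlgebra.lift_ι_apply _ m

theorem sym_ringHom_ext {B : Type u} [CommRing B] {F G : SymmetricAlgebra R M →+* B}
    (h : ∀ r, F (algebraMap R _ r) = G (algebraMap R _ r))
    (h' : ∀ m, F (SymmetricAlgebra.ι R M m) = G (SymmetricAlgebra.ι R M m)) : F = G := by
  refine RingHom.ext fun x => ?_
  induction x using SymmetricAlgebra.induction with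
  | algebraMap r => exact h r
  | ι m => exact h' m
  | mul a b ha hb => rw [map_mul, map_mul, ha, hb]
  | add a b ha hb => rw [map_add, map_add, ha, hb]

variable [Algebra R R'] [Module R M'] [IsScalarTower R R' M']

theorem isLocalization_symMap (r : R) [IsLocalization.Away r R'] (f : M →ₗ[R] M')
    [IsLocalizedModule (Submonoid.powers r) f] (φ : M →ₛₗ[algebraMap R R'] M') (hφ : ∀ m, φ m = f m) :
    letI := (symMap (algebraMap R R') φ).toAlgebra
    IsLocalization.Away (algebraMap R (SymmetricAlgebra R M) r) (SymmetricAlgebra R' M') := by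
  letI := (symMap (algebraMap R R') φ).toAlgebra
  let c := algebraMap R (SymmetricAlgebra R M) r
  let L := Localization.Away c
  have hr : IsUnit (algebraMap R' (SymmetricAlgebra R' M') (algebraMap R R' r)) :=
    (IsLocalization.map_units R' (⟨r, Submonoid.mem_powers r⟩ : Submonoid.powers r)).map _
  have hc : IsUnit (symMap (algebraMap R R') φ c) := by rwa [symMap_algebraMap]
  have hrL : IsUnit ((algebraMap (SymmetricAlgebra R M) L).comp (algebraMap R _) r) :=
    IsLocalization.map_units L (⟨c, Submonoid.mem_powers c⟩ : Submonoid.powers c)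
  let toL : R' →+* L := IsLocalization.Away.lift r hrL
  letI : Algebra R' L := toL.toAlgebra
  have : IsScalarTower R R' L := .of_algebraMap_eq fun a => by
    rw [IsScalarTower.algebraMap_apply R (SymmetricAlgebra R M) L]
    exact (IsLocalization.Away.lift_eq r hrL a).symm
  let lM : M →ₗ[R] L := (IsScalarTower.toAlgHom R (SymmetricAlgebra R M) L).toLinearMap.comp
    (SymmetricAlgebra.ι R M)
  have hunit : ∀ x : Submonoid.powers r, IsUnit (algebraMap R (Module.End R L) x.1) := fun x => by
    obtain ⟨_, k, rfl⟩ := x
    simp only [map_pow]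
    refine IsUnit.pow k ?_
    rw [Module.End.isUnit_iff]
    have hb := hrL.mul_right_injective
    obtain ⟨v, hv⟩ := hrL
    have hsm : ∀ y : L, algebraMap R (Module.End R L) r y = v * y := fun y => by
      rw [Module.algebraMap_end_apply, Algebra.smul_def, hv,
        IsScalarTower.algebraMap_apply R (SymmetricAlgebra R M) L]
      rfl
    exact ⟨fun a b h => by simpa [hsm] using h, fun y => ⟨v⁻¹ * y, by rw [hsm]; simp⟩⟩
  let lM' : M' →ₗ[R'] L :=
    (IsLocalizedModule.lift (Submonoid.powers r) f lM hunit).extendScalarsOfIsLocalization (Submonoid.powers r) R'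
  let back : SymmetricAlgebra R' M' →ₐ[R'] L := SymmetricAlgebra.lift lM'
  let fwd : L →+* SymmetricAlgebra R' M' := IsLocalization.Away.lift c hc
  have hfwd : ∀ x, fwd (algebraMap _ L x) = symMap (algebraMap R R') φ x := IsLocalization.Away.lift_eq c hc
  have hb1 : ∀ a : R, back (algebraMap R' _ (algebraMap R R' a)) =
      algebraMap (SymmetricAlgebra R M) L (algebraMap R _ a) := fun a => by
    rw [back.commutes]
    exact IsLocalization.Away.lift_eq r hrL a
  have hb2 : ∀ m : M, back (SymmetricAlgebra.ι R' M' (f m)) =
      algebraMap (SymmetricAlgebra R M) L (SymmetricAlgebra.ι R M m) := fun m => by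
    refine (SymmetricAlgebra.lift_ι_apply _ _).trans ?_
    exact IsLocalizedModule.lift_apply (Submonoid.powers r) f lM hunit m
  have hbf : (back.toRingHom.comp fwd) = RingHom.id L := by
    refine IsLocalization.ringHom_ext (Submonoid.powers c) (sym_ringHom_ext (fun a => ?_) fun m => ?_)
    · change back (fwd (algebraMap _ L _)) = algebraMap _ L _
      rw [hfwd, symMap_algebraMap, hb1]
    · change back (fwd (algebraMap _ L _)) = algebraMap _ L _
      rw [hfwd, symMap_ι, hφ, hb2]
  have hfb : fwd.comp back.toRingHom = RingHom.id _ := by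
    have hR : (fwd.comp back.toRingHom).comp (algebraMap R' _) = algebraMap R' (SymmetricAlgebra R' M') := by
      refine IsLocalization.ringHom_ext (Submonoid.powers r) (RingHom.ext fun a => ?_)
      change fwd (back (algebraMap R' _ (algebraMap R R' a))) = _
      rw [hb1, hfwd, symMap_algebraMap]
      rfl
    refine sym_ringHom_ext (fun a => congr($hR a)) fun m' => ?_
    obtain ⟨⟨m, ⟨_, k, rfl⟩⟩, hm⟩ := IsLocalizedModule.surj (Submonoid.powers r) f m'
    have hk : algebraMap R' _ (algebraMap R R' r) ^ k * SymmetricAlgebra.ι R' M' m' =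
        SymmetricAlgebra.ι R' M' (f m) := by
      rw [← map_pow, ← Algebra.smul_def, ← map_smul, ← map_pow, algebraMap_smul]
      exact congrArg _ hm
    refine (hr.pow k).mul_left_cancel ?_
    rw [RingHom.id_apply, hk]
    refine Eq.trans ?_ ((congrArg (fwd.comp back.toRingHom) hk).trans ?_)
    · rw [map_mul, map_pow]
      exact congrArg (fun t => t ^ k * _) (congr($hR (algebraMap R R' r))).symm
    · change fwd (back _) = _
      rw [hb2, hfwd, symMap_ι, hφ]
  exact IsLocalization.isLocalization_of_algEquiv (Submonoid.powers c)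
    { RingEquiv.ofRingHom fwd back.toRingHom hfb hbf with commutes' := hfwd }

end Groth.Agent.EGAProj74
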