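import Groth.Agent.EGAProj74.AlgExtend
import Groth.Agent.EGAProj74.SymLocal
import Groth.Agent.QC70.Hom
import Groth.Prelude.Def_Coh

/-!
The symmetric algebra of a quasi-coherent module.
-/

set_option autoImplicit false
set_option backward.isDefEq.respectTransparency.types false

universe u

open CategoryTheory CategoryTheory.Limits AlgebraicGeometry TopologicalSpace Opposite
open Groth.Agent.QC70

noncomputable section

namespace Groth.Agent.EGAProj74

variable {S : Scheme.{u}} (E : S.Modules)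

/-- Restriction of sections, semilinear over restriction of functions. -/
def resSemi {U V : S.Opens} (h : V ≤ U) :
    Γ(E, U) →ₛₗ[(S.presheaf.map (homOfLE h).op).hom] Γ(E, V) where
  toFun := res E h
  map_add' := res_add h
  map_smul' := res_smul h

@[simp] theorem resSemi_apply {U V : S.Opens} (h : V ≤ U) (m : Γ(E, U)) : resSemi E h m = res E h m := rfl

/-- Restriction on symmetric algebras. -/
def symRes {U V : S.Opens} (h : V ≤ U) :
    SymmetricAlgebra Γ(S, U) Γ(E, U) →+* SymmetricAlgebra Γ(S, V) Γ(E, V) :=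
  symMap _ (resSemi E h)

theorem symRes_self {U : S.Opens} : symRes E (le_refl U) = RingHom.id _ :=
  sym_ringHom_ext (fun r => by simp [symRes])
    fun m => by rw [symRes, symMap_ι]; exact congrArg _ (res_self m)

theorem symRes_comp {U V W : S.Opens} (h : V ≤ U) (h' : W ≤ V) :
    (symRes E h').comp (symRes E h) = symRes E (h'.trans h) :=
  sym_ringHom_ext (fun r => by simp [symRes]; exact resO_resO h h' r)
    fun m => by simp [symRes, res_res]

/-- The symmetric algebras of the sections over affine opens. -/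
def symFun : S.AffineZariskiSiteᵒᵖ ⥤ CommRingCat.{u} where
  obj U := CommRingCat.of (SymmetricAlgebra Γ(S, U.unop.1) Γ(E, U.unop.1))
  map i := CommRingCat.ofHom (symRes E (Scheme.AffineZariskiSite.toOpens_mono i.unop.le))
  map_id _ := CommRingCat.hom_ext (symRes_self E)
  map_comp _ _ := CommRingCat.hom_ext (symRes_comp E _ _).symm

/-- Its structure map. -/
def symStr : (Scheme.AffineZariskiSite.toOpensFunctor S).op ⋙ S.presheaf ⟶ symFun E where
  app U := CommRingCat.ofHom (algebraMap Γ(S, U.unop.1) (SymmetricAlgebra Γ(S, U.unop.1) Γ(E, U.unop.1)))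
  naturality U V i := by
    ext r
    exact (symMap_algebraMap _ (resSemi E (Scheme.AffineZariskiSite.toOpens_mono i.unop.le)) r).symm

variable {E}

theorem symStr_coequifibered (hE : E.IsQuasicoherent) : (symStr E).Coequifibered := by
  refine Scheme.AffineZariskiSite.coequifibered_iff_forall_isLocalizationAway.mpr fun U r => ?_
  let h := S.basicOpen_le r
  letI : Algebra Γ(S, U.1) Γ(S, S.basicOpen r) := (S.presheaf.map (homOfLE h).op).hom.toAlgebra
  letI : Module Γ(S, U.1) Γ(E, S.basicOpen r) := Module.compHom _ (S.presheaf.map (homOfLE h).op).hom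
  have : IsScalarTower Γ(S, U.1) Γ(S, S.basicOpen r) Γ(E, S.basicOpen r) :=
    IsScalarTower.of_algebraMap_smul fun _ _ => rfl
  have : IsLocalization.Away r Γ(S, S.basicOpen r) := U.2.isLocalization_basicOpen r
  let f : Γ(E, U.1) →ₗ[Γ(S, U.1)] Γ(E, S.basicOpen r) :=
    { toFun := res E h, map_add' := res_add h, map_smul' := res_smul h }
  have hloc := @isLocAt_of_isQuasicoherent S E U.1 U.2 hE
  have hu : ∀ x : Submonoid.powers r, IsUnit (resO S h x.1) := fun x =>
    IsLocalization.map_units Γ(S, S.basicOpen r) x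
  have : IsLocalizedModule (Submonoid.powers r) f := by
    refine { map_units := fun x => ?_, surj := fun y => ?_, exists_of_eq := fun {a b} e => ?_ }
    · rw [Module.End.isUnit_iff]
      obtain ⟨v, hv⟩ := hu x
      have hsm : ∀ y : Γ(E, S.basicOpen r),
          algebraMap Γ(S, U.1) (Module.End Γ(S, U.1) Γ(E, S.basicOpen r)) x.1 y = (v : Γ(S, S.basicOpen r)) • y :=
        fun y => by rw [hv]; rfl
      refine ⟨fun a b e => ?_, fun y => ⟨(v⁻¹).1 • y, ?_⟩⟩
      · rw [hsm, hsm] at e
        exact v.isUnit.smul_left_cancel.mp e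
      · rw [hsm, smul_smul, Units.mul_inv, one_smul]
    · obtain ⟨n, t, ht⟩ := hloc.exists_of r y
      refine ⟨⟨t, ⟨r ^ n, n, rfl⟩⟩, ?_⟩
      refine Eq.trans ?_ ht.symm
      exact congrArg (· • y) (resO_pow h r n)
    · obtain ⟨n, hn⟩ := hloc.eq_zero_of r (a - b) (by
        rw [res_sub]; exact sub_eq_zero.mpr e)
      exact ⟨⟨r ^ n, n, rfl⟩, sub_eq_zero.mp ((smul_sub _ _ _).symm.trans hn)⟩
  exact isLocalization_symMap r f (resSemi E h) fun _ => rfl

/-- The affine data of the symmetric algebra. -/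
def symData (hE : E.IsQuasicoherent) : AffAlgData S := ⟨symFun E, symStr E, symStr_coequifibered hE⟩

/-- Linear maps of sections over affine opens that commute with restriction give a morphism of modules. -/
theorem existsUnique_hom_of_affine {M N : S.Modules} [hM : M.IsQuasicoherent]
    (l : ∀ U : S.AffineZariskiSite, Γ(M, U.1) →ₗ[Γ(S, U.1)] Γ(N, U.1))
    (hres : ∀ (U : S.AffineZariskiSite) (r : Γ(S, U.1)) (m : Γ(M, U.1)),
      l (U.basicOpen r) (res M (S.basicOpen_le r) m) = res N (S.basicOpen_le r) (l U m)) :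
    ∃! φ : M ⟶ N, ∀ (U : S.AffineZariskiSite) (m : Γ(M, U.1)), φ.app U.1 m = l U m := by
  let φ : ∀ U : S.AffineZariskiSite, HomOn M N U.1 := fun U => HomOn.ofLinear U.2 (l U)
  have hφ : ∀ (U : S.AffineZariskiSite) (r : Γ(S, U.1)),
      ((φ U).mono (S.basicOpen_le r)).app _ le_rfl = (φ (U.basicOpen r)).app _ le_rfl := by
    intro U r
    refine LinearMap.ext fun s => ?_
    obtain ⟨n, t, ht⟩ := (isLocAt_of_isQuasicoherent M U.2).exists_of r s
    have hu : IsUnit (resO S (S.basicOpen_le r) r) := RingedSpace.isUnit_res_basicOpen _ r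
    refine (hu.pow n).smul_left_cancel.mp ?_
    refine (((φ U).app (S.basicOpen r) (S.basicOpen_le r)).map_smul _ s).symm.trans
      (Eq.trans ?_ (((φ (U.basicOpen r)).app (S.basicOpen r) le_rfl).map_smul _ s))
    rw [← ht]
    refine ((φ U).app_res le_rfl (S.basicOpen_le r) t).trans ?_
    rw [HomOn.ofLinear_app_self]
    refine (hres U r t).symm.trans ?_
    exact (LinearMap.congr_fun (HomOn.ofLinear_app_self (U.basicOpen r).2 (l (U.basicOpen r))) _).symm
  have hcomp : HomOn.Compatible φ := by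
    intro i j V hi hj s
    refine section_ext N _ _ fun p hp => ?_
    obtain ⟨a, b, e, hpa⟩ := exists_basicOpen_le_affine_inter i.2 j.2 p ⟨hi hp, hj hp⟩
    refine ⟨V ⊓ S.basicOpen a, inf_le_left, ⟨hp, hpa⟩, ?_⟩
    rw [← (φ i).app_res, ← (φ j).app_res]
    have hij : j.basicOpen b = i.basicOpen a := Subtype.ext e.symm
    have h1 := HomOn.ext_of_affine (i.2.basicOpen a) (isLocAt_of_isQuasicoherent M (i.2.basicOpen a))
      ((φ i).mono (S.basicOpen_le a)) (φ (i.basicOpen a)) (hφ i a)
      (inf_le_right : V ⊓ S.basicOpen a ≤ S.basicOpen a) (res M inf_le_left s)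
    have h2 := HomOn.ext_of_affine (j.2.basicOpen b) (isLocAt_of_isQuasicoherent M (j.2.basicOpen b))
      ((φ j).mono (S.basicOpen_le b)) (φ (j.basicOpen b)) (hφ j b)
      (le_trans (inf_le_right : V ⊓ S.basicOpen a ≤ S.basicOpen a) e.le) (res M inf_le_left s)
    refine h1.trans ?_
    refine Eq.trans ?_ h2.symm
    have key : ∀ (k k' : S.AffineZariskiSite) (_ : k' = k) (W : S.Opens) (hk : W ≤ k.1) (hk' : W ≤ k'.1)
        (t : Γ(M, W)), (φ k).app W hk t = (φ k').app W hk' t := by
      rintro k k' rfl W hk hk' t; rfl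
    exact key _ _ hij _ _ _ _
  have hcov : (⊤ : S.Opens) ≤ ⨆ U : S.AffineZariskiSite, U.1 := fun x _ => by
    obtain ⟨_, ⟨V, hV, rfl⟩, hxV, -⟩ :=
      S.isBasis_affineOpens.exists_subset_of_mem_open (Set.mem_univ x) isOpen_univ
    exact Opens.mem_iSup.mpr ⟨⟨V, hV⟩, hxV⟩
  refine ⟨(HomOn.glue hcomp hcov).toHom, fun U m => ?_, fun ψ hψ => ?_⟩
  · rw [HomOn.toHom_app, HomOn.glue_app hcomp hcov _ U le_rfl, HomOn.ofLinear_app_self]
  · ext W s
    refine HomOn.glue_unique hcomp hcov le_top _ _ fun i => ?_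
    rw [← QC70.app_res, ← QC70.app_res, HomOn.toHom_app,
      HomOn.glue_app hcomp hcov _ i inf_le_right]
    exact HomOn.ext_of_affine i.2 (isLocAt_of_isQuasicoherent M i.2) (HomOn.ofHom ψ i.1) (φ i)
      (LinearMap.ext fun m => (hψ i m).trans (LinearMap.congr_fun (HomOn.ofLinear_app_self i.2 (l i)) m).symm)
      inf_le_right _

/-- An algebra that is affinely the symmetric algebra, compatibly with restriction. -/
structure SymEquiv (E : S.Modules) (A : RelSpec.QCAlg S) where
  /-- the identification -/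
  g : ∀ U : S.AffineZariskiSite, A.presheaf.obj (op U.1) ≃+* SymmetricAlgebra Γ(S, U.1) Γ(E, U.1)
  gstr : ∀ (U : S.AffineZariskiSite) (r : Γ(S, U.1)), g U ((A.str.app (op U.1)).hom r) = algebraMap _ _ r
  gres : ∀ {U V : S.AffineZariskiSite} (i : V ⟶ U) (x : A.presheaf.obj (op U.1)),
      g V ((A.presheaf.map (homOfLE (Scheme.AffineZariskiSite.toOpens_mono i.le)).op).hom x) =
        symRes E (Scheme.AffineZariskiSite.toOpens_mono i.le) (g U x)

theorem exists_symEquiv (hE : E.IsQuasicoherent) :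
    ∃ A : RelSpec.QCAlg S, Nonempty (SymEquiv E A) :=
  ⟨(symData hE).alg, ⟨
    { g := fun U => (asIso ((symData hE).gamma U)).commRingCatIsoToRingEquiv
      gstr := fun U r => congr($((symData hE).str_gamma U).hom r)
      gres := fun i x => congr($((symData hE).gamma_res i).hom x) }⟩⟩

variable {A : RelSpec.QCAlg S}

theorem SymEquiv.exists_gen (G : SymEquiv E A) [E.IsQuasicoherent] :
    ∃ j : E ⟶ A.toModule, ∀ (U : S.AffineZariskiSite) (m : Γ(E, U.1)),
      G.g U (j.app U.1 m) = SymmetricAlgebra.ι _ _ m := by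
  let l : ∀ U : S.AffineZariskiSite, Γ(E, U.1) →ₗ[Γ(S, U.1)] Γ(A.toModule, U.1) := fun U =>
    { toFun := fun m => (G.g U).symm (SymmetricAlgebra.ι _ _ m)
      map_add' := fun a b => by rw [map_add, map_add]; rfl
      map_smul' := fun r a => (G.g U).injective (by
        rw [RingEquiv.apply_symm_apply, RingHom.id_apply]
        refine Eq.trans ?_ (map_mul (G.g U) _ _).symm
        rw [G.gstr, RingEquiv.apply_symm_apply, ← Algebra.smul_def, map_smul]) }
  obtain ⟨j, hj, -⟩ := existsUnique_hom_of_affine l fun U r m => by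
    apply (G.g (U.basicOpen r)).injective
    refine ((G.g _).apply_symm_apply _).trans ?_
    refine Eq.trans ?_ (G.gres (homOfLE (U.basicOpen_le r)) ((G.g U).symm (SymmetricAlgebra.ι _ _ m))).symm
    rw [RingEquiv.apply_symm_apply]
    exact (symMap_ι _ (resSemi E (S.basicOpen_le r)) m).symm
  exact ⟨j, fun U m => by rw [hj U m]; exact (G.g U).apply_symm_apply _⟩

theorem SymEquiv.existsUnique_lift (G : SymEquiv E A) [E.IsQuasicoherent] {j : E ⟶ A.toModule}
    (hj : ∀ (U : S.AffineZariskiSite) (m : Γ(E, U.1)), G.g U (j.app U.1 m) = SymmetricAlgebra.ι _ _ m)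
    (B : RelSpec.QCAlg S) (φ : E ⟶ B.toModule) :
    ∃! ψ : A ⟶ B, j ≫ RelSpec.QCAlg.Hom.toModuleMap ψ = φ := by
  let φl : ∀ U : S.AffineZariskiSite,
      letI := (B.str.app (op U.1)).hom.toAlgebra
      Γ(E, U.1) →ₗ[Γ(S, U.1)] B.presheaf.obj (op U.1) := fun U =>
    letI := (B.str.app (op U.1)).hom.toAlgebra
    { toFun := fun m => φ.app U.1 m
      map_add' := fun a b => map_add _ a b
      map_smul' := fun r a => φ.app_smul r a }
  let ext : ∀ U : S.AffineZariskiSite, SymmetricAlgebra Γ(S, U.1) Γ(E, U.1) →+* B.presheaf.obj (op U.1) := fun U =>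
    letI := (B.str.app (op U.1)).hom.toAlgebra
    (SymmetricAlgebra.lift (φl U)).toRingHom
  have ext_alg : ∀ U r, ext U (algebraMap _ _ r) = (B.str.app (op U.1)).hom r := fun U r => by
    letI := (B.str.app (op U.1)).hom.toAlgebra
    exact AlgHom.commutes _ r
  have ext_ι : ∀ U m, ext U (SymmetricAlgebra.ι _ _ m) = φ.app U.1 m := fun U m => by
    letI := (B.str.app (op U.1)).hom.toAlgebra
    exact SymmetricAlgebra.lift_ι_apply _ m
  have hnat : ∀ {U V : S.AffineZariskiSite} (h : V.1 ≤ U.1) (x : SymmetricAlgebra Γ(S, U.1) Γ(E, U.1)),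
      ext V (symRes E h x) = (B.presheaf.map (homOfLE h).op).hom (ext U x) := by
    intro U V h
    refine RingHom.congr_fun (sym_ringHom_ext
      (F := (ext V).comp (symRes E h)) (G := (B.presheaf.map (homOfLE h).op).hom.comp (ext U))
      (fun r => ?_) fun m => ?_)
    · rw [RingHom.comp_apply, RingHom.comp_apply, symRes, symMap_algebraMap, ext_alg, ext_alg]
      exact congr($(B.str.naturality (homOfLE h).op).hom r)
    · rw [RingHom.comp_apply, RingHom.comp_apply, symRes, symMap_ι, ext_ι, ext_ι]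
      exact QC70.app_res φ h m
  obtain ⟨ψ, hψ, huniq⟩ := existsUnique_algHom (A := A) (B := B)
    (fun U => CommRingCat.ofHom ((ext U).comp (G.g U).toRingHom))
    (fun {U V} i => CommRingCat.hom_ext (RingHom.ext fun x =>
      (congrArg (ext V) (G.gres i x)).trans (hnat _ _)))
    (fun U => CommRingCat.hom_ext (RingHom.ext fun r => (congrArg (ext U) (G.gstr U r)).trans (ext_alg U r)))
  have hjm : ∀ (U : S.AffineZariskiSite) (m : Γ(E, U.1)),
      j.app U.1 m = (G.g U).symm (SymmetricAlgebra.ι _ _ m) := fun U m => by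
    rw [← hj]; exact ((G.g U).symm_apply_apply _).symm
  refine ⟨ψ, ?_, fun χ hχ => huniq χ fun U => CommRingCat.hom_ext ?_⟩
  · obtain ⟨φ', -, hu⟩ := existsUnique_hom_of_affine (M := E) (N := B.toModule)
      (fun U => ({ toFun := fun m => φ.app U.1 m, map_add' := fun a b => map_add _ a b,
                   map_smul' := fun r a => φ.app_smul r a } : Γ(E, U.1) →ₗ[Γ(S, U.1)] Γ(B.toModule, U.1)))
      (fun U r m => QC70.app_res φ _ m)
    refine (hu _ fun U m => ?_).trans (hu φ fun U m => rfl).symm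
    refine (congr($(hψ U).hom (j.app U.1 m))).trans ?_
    change ext U (G.g U (j.app U.1 m)) = φ.app U.1 m
    rw [hj, ext_ι]
  · have H : (χ.hom.app (op U.1)).hom.comp (G.g U).symm.toRingHom = ext U := by
      refine sym_ringHom_ext (fun r => ?_) fun m => ?_
      · change (χ.hom.app (op U.1)).hom ((G.g U).symm (algebraMap _ _ r)) = _
        refine Eq.trans ?_ (ext_alg U r).symm
        rw [← G.gstr, RingEquiv.symm_apply_apply]
        exact congr(($χ.comm).app (op U.1) r)
      · change (χ.hom.app (op U.1)).hom ((G.g U).symm (SymmetricAlgebra.ι _ _ m)) = _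
        rw [← hjm, ext_ι]
        exact congr($(hχ).app U.1 m)
    exact RingHom.ext fun x =>
      (congrArg (χ.hom.app (op U.1)).hom ((G.g U).symm_apply_apply x).symm).trans (RingHom.congr_fun H _)

theorem exists_isSymAlg (hE : E.IsQuasicoherent) :
    ∃ (A : RelSpec.QCAlg S) (j : E ⟶ A.toModule), RelSpec.IsSymAlg E A j ∧
      ∀ (U : S.Opens) (_ : IsAffineOpen U),
        ∃ e : A.presheaf.obj (op U) ≃+* SymmetricAlgebra Γ(S, U) Γ(E, U),
          (∀ r, e ((A.str.app (op U)).hom r) = algebraMap _ _ r) ∧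
            ∀ m, e (j.app U m) = SymmetricAlgebra.ι _ _ m := by
  obtain ⟨A, ⟨G⟩⟩ := exists_symEquiv hE
  have := hE
  obtain ⟨j, hj⟩ := G.exists_gen
  exact ⟨A, j, G.existsUnique_lift hj, fun U hU => ⟨G.g ⟨U, hU⟩, G.gstr ⟨U, hU⟩, hj ⟨U, hU⟩⟩⟩

end Groth.Agent.EGAProj74
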