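import Groth.Agent.EGAProj74.AffPushout
import Groth.Agent.EGAProj74.BundleSum
import Groth.Agent.EGAProj74.GrSymExists
import Groth.Agent.EGAProj74.VectorBundle

/-! The symmetric algebra of a sum. -/

set_option autoImplicit false
set_option backward.isDefEq.respectTransparency.types false

universe u

open CategoryTheory CategoryTheory.Limits AlgebraicGeometry TopologicalSpace Opposite

noncomputable section

namespace Groth.Agent.EGAProj74

theorem isPushout_symAlg_biprod {S : Scheme.{u}} {E F : S.Modules} (hE : E.IsQuasicoherent) (hF : F.IsQuasicoherent)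
    {AE AF A : RelSpec.QCAlg S} {jE : E ⟶ AE.toModule} {jF : F ⟶ AF.toModule} {j : E ⊞ F ⟶ A.toModule}
    (hAE : RelSpec.IsSymAlg E AE jE) (hAF : RelSpec.IsSymAlg F AF jF) (hA : RelSpec.IsSymAlg (E ⊞ F) A j)
    (ψE : AE ⟶ A) (ψF : AF ⟶ A)
    (hψE : jE ≫ RelSpec.QCAlg.Hom.toModuleMap ψE = biprod.inl ≫ j)
    (hψF : jF ≫ RelSpec.QCAlg.Hom.toModuleMap ψF = biprod.inr ≫ j)
    (U : S.Opens) (hU : IsAffineOpen U) :
    IsPushout (AE.str.app (op U)) (AF.str.app (op U)) (ψE.hom.app (op U)) (ψF.hom.app (op U)) := by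
  have hw : AE.str.app (op U) ≫ ψE.hom.app (op U) = AF.str.app (op U) ≫ ψF.hom.app (op U) := by
    rw [← NatTrans.comp_app, ← NatTrans.comp_app, ψE.comm, ψF.comm]
  refine IsPushout.of_isColimit (c := PushoutCocone.mk (ψE.hom.app (op U)) (ψF.hom.app (op U)) hw)
    (PushoutCocone.isColimitAux' _ fun s => ?_)
  let a := s.inl.hom
  let b := s.inr.hom
  have hab : ∀ r, a ((AE.str.app (op U)).hom r) = b ((AF.str.app (op U)).hom r) := fun r => congr($(s.condition).hom r)
  letI := secAlgebra A U
  letI : Algebra Γ(S, U) s.pt := (a.comp (AE.str.app (op U)).hom).toAlgebra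
  let l : Γ(E ⊞ F, U) →ₗ[Γ(S, U)] s.pt :=
    { toFun := fun m => a (jE.app U ((biprod.fst : E ⊞ F ⟶ E).app U m)) + b (jF.app U ((biprod.snd : E ⊞ F ⟶ F).app U m))
      map_add' := fun x y => by
        rw [map_add, map_add, map_add, map_add, show ∀ p q, a (p + q : Γ(AE.toModule, U)) = a p + a q from map_add a,
          show ∀ p q, b (p + q : Γ(AF.toModule, U)) = b p + b q from map_add b]
        exact add_add_add_comm _ _ _ _
      map_smul' := fun r x => by
        rw [Scheme.Modules.Hom.app_smul, Scheme.Modules.Hom.app_smul, Scheme.Modules.Hom.app_smul,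
          Scheme.Modules.Hom.app_smul]
        show a ((AE.str.app (op U)).hom r * _) + b ((AF.str.app (op U)).hom r * _) = _
        rw [map_mul a, map_mul b, ← hab, ← mul_add]
        rfl }
  have hsym := isSymmetricAlgebra_symGen (j := j) (isQuasicoherent_biprod hE hF) hA U hU
  let φ : A.presheaf.obj (op U) →ₐ[Γ(S, U)] s.pt := hsym.lift l
  have hl₁ : ∀ e, l ((biprod.inl : E ⟶ E ⊞ F).app U e) = a (jE.app U e) := fun e => by
    show a (jE.app U ((biprod.inl ≫ biprod.fst : E ⟶ E).app U e)) +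
      b (jF.app U ((biprod.inl ≫ biprod.snd : E ⟶ F).app U e)) = _
    rw [biprod.inl_fst, biprod.inl_snd, show (0 : E ⟶ F).app U e = 0 from rfl, map_zero]
    exact (congrArg _ (map_zero b)).trans (add_zero _)
  have hl₂ : ∀ f, l ((biprod.inr : F ⟶ E ⊞ F).app U f) = b (jF.app U f) := fun f => by
    show a (jE.app U ((biprod.inr ≫ biprod.fst : F ⟶ E).app U f)) +
      b (jF.app U ((biprod.inr ≫ biprod.snd : F ⟶ F).app U f)) = _
    rw [biprod.inr_fst, biprod.inr_snd, show (0 : F ⟶ E).app U f = 0 from rfl, map_zero]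
    exact (congrArg (· + _) (map_zero a)).trans (zero_add _)
  have hE' : ∀ e, (ψE.hom.app (op U)).hom (jE.app U e) = j.app U ((biprod.inl : E ⟶ E ⊞ F).app U e) :=
    fun e => congr(($hψE).app U e)
  have hF' : ∀ f, (ψF.hom.app (op U)).hom (jF.app U f) = j.app U ((biprod.inr : F ⟶ E ⊞ F).app U f) :=
    fun f => congr(($hψF).app U f)
  refine ⟨CommRingCat.ofHom φ.toRingHom, ?_, ?_, ?_⟩
  · refine CommRingCat.hom_ext (RingHom.eq_of_eqOn_set_dense (closure_symAlg hE hAE U hU) ?_)
    rintro _ (⟨r, rfl⟩ | ⟨m, rfl⟩)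
    · show φ ((ψE.hom.app (op U)).hom ((AE.str.app (op U)).hom r)) = _
      rw [show (ψE.hom.app (op U)).hom ((AE.str.app (op U)).hom r) = (A.str.app (op U)).hom r from
        congr(($(ψE.comm)).app (op U) r)]
      exact φ.commutes r
    · show φ ((ψE.hom.app (op U)).hom (jE.app U m)) = _
      rw [hE']
      exact (hsym.lift_eq l _).trans (hl₁ m)
  · refine CommRingCat.hom_ext (RingHom.eq_of_eqOn_set_dense (closure_symAlg hF hAF U hU) ?_)
    rintro _ (⟨r, rfl⟩ | ⟨m, rfl⟩)
    · show φ ((ψF.hom.app (op U)).hom ((AF.str.app (op U)).hom r)) = _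
      rw [show (ψF.hom.app (op U)).hom ((AF.str.app (op U)).hom r) = (A.str.app (op U)).hom r from
        congr(($(ψF.comm)).app (op U) r)]
      exact (φ.commutes r).trans (hab r)
    · show φ ((ψF.hom.app (op U)).hom (jF.app U m)) = _
      rw [hF']
      exact (hsym.lift_eq l _).trans (hl₂ m)
  · intro m hm₁ hm₂
    let m' : A.presheaf.obj (op U) →ₐ[Γ(S, U)] s.pt :=
      { toRingHom := m.hom
        commutes' := fun r => by
          show m.hom ((A.str.app (op U)).hom r) = a ((AE.str.app (op U)).hom r)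
          rw [← show (ψE.hom.app (op U)).hom ((AE.str.app (op U)).hom r) = (A.str.app (op U)).hom r from
            congr(($(ψE.comm)).app (op U) r)]
          exact congr($(hm₁).hom _) }
    have e : m' = φ := by
      refine hsym.algHom_ext (LinearMap.ext fun x => ?_)
      show m.hom (j.app U x) = φ (j.app U x)
      refine Eq.trans ?_ (hsym.lift_eq l x).symm
      have hx : x = (biprod.inl : E ⟶ E ⊞ F).app U ((biprod.fst : E ⊞ F ⟶ E).app U x) +
          (biprod.inr : F ⟶ E ⊞ F).app U ((biprod.snd : E ⊞ F ⟶ F).app U x) :=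
        (congr(($(biprod.total (X := E) (Y := F))).app U x)).symm
      conv_lhs => rw [hx, map_add, ← hE', ← hF']
      refine (map_add m.hom _ _).trans ?_
      exact congrArg₂ (· + ·) congr($(hm₁).hom _) congr($(hm₂).hom _)
    exact CommRingCat.hom_ext (RingHom.ext fun x => AlgHom.congr_fun e x)

end Groth.Agent.EGAProj74
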