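import Mathlib.LinearAlgebra.SymmetricAlgebra.Basic
import Mathlib.RingTheory.GradedAlgebra.Basic
import Mathlib.Algebra.DirectSum.Decomposition
import Mathlib.Algebra.Polynomial.AlgebraMap

/-!
The grading of a symmetric algebra by the powers of its module.
-/

set_option autoImplicit false

universe u

open Polynomial

noncomputable section

namespace Groth.Agent.EGAProj74

variable {R A M : Type u} [CommRing R] [CommRing A] [Algebra R A] [AddCommGroup M] [Module R M]
  (ι : M →ₗ[R] A) (hsym : IsSymmetricAlgebra ι)

/-- The span of the products of `n` elements of the module. -/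
def symPart (n : ℕ) : Submodule R A := LinearMap.range ι ^ n

theorem symPart_mul (i j : ℕ) : symPart ι i * symPart ι j = symPart ι (i + j) := (pow_add _ i j).symm

theorem ι_mem_symPart (m : M) : ι m ∈ symPart ι 1 := by
  rw [symPart, pow_one]; exact ⟨m, rfl⟩

theorem algebraMap_mem_symPart (r : R) : algebraMap R A r ∈ symPart ι 0 := by
  rw [symPart, pow_zero, Submodule.mem_one]; exact ⟨r, rfl⟩

/-- The map recording degrees. -/
def symDelta : A →ₐ[R] A[X] :=
  hsym.lift { toFun := fun m => C (ι m) * X
              map_add' := fun a b => by rw [map_add, map_add, add_mul]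
              map_smul' := fun r a => by rw [map_smul, RingHom.id_apply, ← smul_C, smul_mul_assoc] }

theorem symDelta_of_mem {n : ℕ} {x : A} (hx : x ∈ symPart ι n) : symDelta ι hsym x = C x * X ^ n := by
  induction n generalizing x with
  | zero =>
    rw [symPart, pow_zero, Submodule.mem_one] at hx
    obtain ⟨r, rfl⟩ := hx
    rw [AlgHom.commutes, pow_zero, mul_one]
    rfl
  | succ n ih =>
    rw [← symPart_mul] at hx
    refine Submodule.mul_induction_on hx (fun a ha b hb => ?_) (fun a b ha hb => ?_)
    · rw [symPart, pow_one] at hb
      obtain ⟨m, rfl⟩ := hb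
      rw [map_mul, ih ha, show symDelta ι hsym (ι m) = C (ι m) * X from hsym.lift_eq _ m, map_mul, pow_succ]
      ring
    · rw [map_add, ha, hb, map_add, add_mul]

include hsym in
theorem iSup_symPart : ⨆ n, symPart ι n = ⊤ := by
  refine top_le_iff.mp fun x _ => ?_
  induction x using hsym.induction with
  | algebraMap r => exact Submodule.mem_iSup_of_mem 0 (algebraMap_mem_symPart ι r)
  | ι m => exact Submodule.mem_iSup_of_mem 1 (ι_mem_symPart ι m)
  | add a b ha hb => exact add_mem (ha trivial) (hb trivial)
  | mul a b ha hb =>
    have hle : (⨆ n, symPart ι n) * (⨆ n, symPart ι n) ≤ ⨆ n, symPart ι n := by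
      rw [Submodule.iSup_mul]
      refine iSup_le fun i => ?_
      rw [Submodule.mul_iSup]
      refine iSup_le fun j => ?_
      rw [symPart_mul]
      exact le_iSup _ (i + j)
    exact hle (Submodule.mul_mem_mul (ha trivial) (hb trivial))

include hsym in
theorem isInternal_symPart : DirectSum.IsInternal (symPart ι) := by
  refine DirectSum.isInternal_submodule_of_iSupIndep_of_iSup_eq_top ?_ (iSup_symPart ι hsym)
  rw [iSupIndep_def]
  intro n
  rw [Submodule.disjoint_def]
  intro x hx hx'
  have h0 : ∀ y ∈ ⨆ m, ⨆ (_ : m ≠ n), symPart ι m, (symDelta ι hsym y).coeff n = 0 := by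
    intro y hy
    induction hy using Submodule.iSup_induction' with
    | mem m y hy =>
      by_cases hm : m = n
      · subst hm
        simp at hy
        simp [hy]
      · simp only [ne_eq, hm, not_false_eq_true, iSup_pos] at hy
        simp [symDelta_of_mem ι hsym hy, Ne.symm hm]
    | zero => simp
    | add a b _ _ ha hb => rw [map_add, coeff_add, ha, hb, add_zero]
  simpa [symDelta_of_mem ι hsym hx] using h0 x hx'

/-- The same family as additive subgroups. -/
def symDeg (n : ℕ) : AddSubgroup A := (symPart ι n).toAddSubgroup

/-- The grading. -/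
@[reducible] def symGradedRing : GradedRing (symDeg ι) :=
  have : DirectSum.IsInternal (symDeg ι) := isInternal_symPart ι hsym
  { this.chooseDecomposition with
    one_mem := by
      show (1 : A) ∈ symPart ι 0
      rw [← map_one (algebraMap R A)]
      exact algebraMap_mem_symPart ι 1
    mul_mem := fun i j a b ha hb => (symPart_mul ι i j).le (Submodule.mul_mem_mul ha hb) }

end Groth.Agent.EGAProj74
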