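import Groth.Agent.EGAProj74.AlgExtend
import Groth.Agent.EGAProj74.BundleSum
import Groth.Prelude.Def_RelSpec2

/-! `Sym(E ⊕ O) = Sym(E)[z]`. -/

set_option autoImplicit false
set_option backward.isDefEq.respectTransparency.types false

universe u

open CategoryTheory CategoryTheory.Limits AlgebraicGeometry TopologicalSpace Opposite

noncomputable section

namespace Groth.Agent.EGAProj74

variable {Y : Scheme.{u}} {𝒮 𝒮h : RelProj.QCGrAlg Y} {ι : 𝒮.toQCAlg ⟶ 𝒮h.toQCAlg}
  {z : 𝒮h.presheaf.obj (op ⊤)} (hz : RelCone.IsPolyOver 𝒮 𝒮h ι z)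

include hz

/-- Ring homomorphisms out of `𝒮[z]` agree if they agree on `𝒮` and `z`. -/
theorem poly_ringHom_ext {U : Y.Opens} (hU : IsAffineOpen U) {R : Type u} [CommRing R]
    {F G : 𝒮h.presheaf.obj (op U) →+* R}
    (h₁ : ∀ x, F ((ι.hom.app (op U)).hom x) = G ((ι.hom.app (op U)).hom x))
    (h₂ : F (RelCone.restrictTop 𝒮h z U) = G (RelCone.restrictTop 𝒮h z U)) : F = G := by
  have e : F.comp (Polynomial.eval₂RingHom (ι.hom.app (op U)).hom (RelCone.restrictTop 𝒮h z U)) =
      G.comp (Polynomial.eval₂RingHom (ι.hom.app (op U)).hom (RelCone.restrictTop 𝒮h z U)) :=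
    Polynomial.ringHom_ext (fun a => by simpa using h₁ a) (by simpa using h₂)
  exact (RingHom.cancel_right (hz.bij U hU).2).1 e

/-- The universal property of `𝒮[z]`. -/
theorem existsUnique_poly_hom (B : RelSpec.QCAlg Y) (ψ₀ : 𝒮.toQCAlg ⟶ B) (ζ : B.presheaf.obj (op ⊤)) :
    ∃! ψ : 𝒮h.toQCAlg ⟶ B, ι ≫ ψ = ψ₀ ∧
      ∀ U : Y.AffineZariskiSite, (ψ.hom.app (op U.1)).hom (RelCone.restrictTop 𝒮h z U.1) =
        (B.presheaf.map (homOfLE le_top).op).hom ζ := by
  let zB : ∀ U : Y.Opens, B.presheaf.obj (op U) := fun U => (B.presheaf.map (homOfLE le_top).op).hom ζ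
  let f : ∀ U : Y.AffineZariskiSite, 𝒮h.presheaf.obj (op U.1) →+* B.presheaf.obj (op U.1) := fun U =>
    (Polynomial.eval₂RingHom (ψ₀.hom.app (op U.1)).hom (zB U.1)).comp (hz.polyEquiv U.1 U.2).symm.toRingHom
  have fι : ∀ (U : Y.AffineZariskiSite) x, f U ((ι.hom.app (op U.1)).hom x) = (ψ₀.hom.app (op U.1)).hom x := by
    intro U x
    have e : hz.polyEquiv U.1 U.2 (Polynomial.C x) = (ι.hom.app (op U.1)).hom x := by
      rw [RelCone.IsPolyOver.polyEquiv_apply, Polynomial.eval₂_C]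
    rw [← e]; simp [f]
  have fz : ∀ U : Y.AffineZariskiSite, f U (RelCone.restrictTop 𝒮h z U.1) = zB U.1 := by
    intro U
    have e : hz.polyEquiv U.1 U.2 Polynomial.X = RelCone.restrictTop 𝒮h z U.1 := by
      rw [RelCone.IsPolyOver.polyEquiv_apply, Polynomial.eval₂_X]
    rw [← e]; simp [f]
  have hres : ∀ {U V : Y.AffineZariskiSite} (i : V ⟶ U),
      (f V).comp (𝒮h.presheaf.map (homOfLE (Scheme.AffineZariskiSite.toOpens_mono i.le)).op).hom =
        (B.presheaf.map (homOfLE (Scheme.AffineZariskiSite.toOpens_mono i.le)).op).hom.comp (f U) := by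
    intro U V i
    refine poly_ringHom_ext hz U.2 (fun x => ?_) ?_
    · simp only [RingHom.comp_apply]
      rw [show (𝒮h.presheaf.map (homOfLE (Scheme.AffineZariskiSite.toOpens_mono i.le)).op).hom
        ((ι.hom.app (op U.1)).hom x) = (ι.hom.app (op V.1)).hom ((𝒮.presheaf.map _).hom x) from
        congr($(ι.hom.naturality (homOfLE (Scheme.AffineZariskiSite.toOpens_mono i.le)).op).hom x).symm, fι, fι]
      exact congr($(ψ₀.hom.naturality (homOfLE (Scheme.AffineZariskiSite.toOpens_mono i.le)).op).hom x)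
    · simp only [RingHom.comp_apply]
      rw [fz, show (𝒮h.presheaf.map (homOfLE (Scheme.AffineZariskiSite.toOpens_mono i.le)).op).hom
        (RelCone.restrictTop 𝒮h z U.1) = RelCone.restrictTop 𝒮h z V.1 from by
          simp only [RelCone.restrictTop, ← CommRingCat.comp_apply, ← Functor.map_comp]; rfl, fz]
      simp only [zB, ← CommRingCat.comp_apply, ← Functor.map_comp]
      rfl
  obtain ⟨ψ, hψ, huniq⟩ := existsUnique_algHom (A := 𝒮h.toQCAlg) (B := B) (fun U => CommRingCat.ofHom (f U))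
    (fun i => CommRingCat.hom_ext (hres i))
    (fun U => CommRingCat.hom_ext (RingHom.ext fun r => by
      show f U ((𝒮h.str.app (op U.1)).hom r) = (B.str.app (op U.1)).hom r
      rw [← show (ι.hom.app (op U.1)).hom ((𝒮.str.app (op U.1)).hom r) = (𝒮h.str.app (op U.1)).hom r from
        congr(($(ι.comm)).app (op U.1) r), fι]
      exact congr(($(ψ₀.comm)).app (op U.1) r)))
  refine ⟨ψ, ⟨algHom_ext_affine fun U => CommRingCat.hom_ext (RingHom.ext fun x => ?_), fun U => ?_⟩, ?_⟩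
  · show (ψ.hom.app (op U.1)).hom ((ι.hom.app (op U.1)).hom x) = _
    rw [hψ U]
    exact fι U x
  · rw [hψ U]
    exact fz U
  · rintro χ ⟨h₁, h₂⟩
    refine huniq χ fun U => CommRingCat.hom_ext (poly_ringHom_ext hz U.2 (fun x => ?_) ?_)
    · exact (congr(($(congrArg RelSpec.QCAlg.Hom.hom h₁)).app (op U.1) x)).trans (fι U x).symm
    · exact (h₂ U).trans (fz U).symm

end Groth.Agent.EGAProj74
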