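import Groth.Agent.EGAProj74.RelSpecBasic
import Groth.Agent.EGAProj74.GrSymExists
import Groth.Agent.EGAProj74.VectorBundle
import Groth.Agent.SchBasics.PullSpan
import Groth.Agent.QCPull72.Sections

/-! The symmetric algebra commutes with inverse images. -/

set_option autoImplicit false
set_option backward.isDefEq.respectTransparency.types false

universe u

open CategoryTheory CategoryTheory.Limits AlgebraicGeometry TopologicalSpace Opposite

noncomputable section

namespace Groth.Agent.EGAProj74

open Groth.Agent.QC70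

theorem isQBaseChange_symAlg {S S' : Scheme.{u}} (g : S' ⟶ S) {E : S.Modules} (hE : E.IsQuasicoherent)
    {A : RelSpec.QCAlg S} {j : E ⟶ A.toModule} (hA : RelSpec.IsSymAlg E A j)
    {B : RelSpec.QCAlg S'} {j' : (Scheme.Modules.pullback g).obj E ⟶ B.toModule}
    (hB : RelSpec.IsSymAlg ((Scheme.Modules.pullback g).obj E) B j')
    (u : RelSpec.QHom g A B)
    (hu : ∀ (U : S.Opens) (x : Γ(E, U)),
      (u.app U).hom ((j.app U) x) =
        (j'.app (g ⁻¹ᵁ U)) (((Scheme.Modules.pullbackPushforwardAdjunction g).unit.app E).app U x)) :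
    RelSpec.IsQBaseChange u := by
  intro U hU U' hU' hle
  have := hE
  let G := (Scheme.Modules.pullback g).obj E
  have hG : G.IsQuasicoherent := QCPull72.isQuasicoherent_pullback g E
  have key : ∀ m : Γ(E, U), (u.appLE U U' hle).hom (j.app U m) =
      j'.app U' (res G hle (OmegaSh.pullSect g E U m)) := fun m => by
    show (B.presheaf.map (homOfLE hle).op).hom ((u.app U).hom (j.app U m)) = _
    rw [hu]
    exact (app_res j' hle _).symm
  refine IsPushout.of_isColimit (c := PushoutCocone.mk (B.str.app (op U')) (u.appLE U U' hle)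
    (u.str_appLE U U' hle).symm) (PushoutCocone.isColimitAux' _ fun s => ?_)
  let b := s.inr.hom
  have hab : ∀ r, s.inl.hom ((g.appLE U U' hle).hom r) = b ((A.str.app (op U)).hom r) :=
    fun r => congr($(s.condition).hom r)
  letI : Algebra Γ(S', U') s.pt := s.inl.hom.toAlgebra
  let g0 : Γ(E, U) →+ s.pt :=
    { toFun := fun m => b (j.app U m)
      map_zero' := (congrArg b (map_zero (j.app U).hom)).trans (map_zero b)
      map_add' := fun x y => (congrArg b (map_add (j.app U).hom x y)).trans (map_add b _ _) }
  have hex := SchBasics.exists_linear_pullSect_module g E hU' hU hle s.pt g0 fun r m => by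
    refine (congrArg b (j.app_smul r m)).trans ((map_mul b _ _).trans ?_)
    rw [← hab]
    rfl
  let l := hex.choose
  have hl := hex.choose_spec
  letI := secAlgebra B U'
  have hBsym := isSymmetricAlgebra_symGen (j := j') hG hB U' hU'
  let φ : B.presheaf.obj (op U') →ₐ[Γ(S', U')] s.pt := hBsym.lift l
  refine ⟨CommRingCat.ofHom φ.toRingHom, ?_, ?_, ?_⟩
  · exact CommRingCat.hom_ext (RingHom.ext φ.commutes)
  · refine CommRingCat.hom_ext (RingHom.eq_of_eqOn_set_dense (closure_symAlg hE hA U hU) ?_)
    rintro _ (⟨r, rfl⟩ | ⟨m, rfl⟩)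
    · show φ ((u.appLE U U' hle).hom ((A.str.app (op U)).hom r)) = b ((A.str.app (op U)).hom r)
      rw [show (u.appLE U U' hle).hom ((A.str.app (op U)).hom r) =
        (B.str.app (op U')).hom ((g.appLE U U' hle).hom r) from congr($(u.str_appLE U U' hle).hom r)]
      exact (φ.commutes _).trans (hab r)
    · show φ ((u.appLE U U' hle).hom (j.app U m)) = b (j.app U m)
      rw [key]
      exact (hBsym.lift_eq l _).trans (hl m)
  · intro m hm₁ hm₂
    let m' : B.presheaf.obj (op U') →ₐ[Γ(S', U')] s.pt :=
      { toRingHom := m.hom, commutes' := fun r => congr($(hm₁).hom r) }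
    have e : m' = φ := by
      refine hBsym.algHom_ext (LinearMap.ext_on (SchBasics.span_pullSect g E hU' hU hle) ?_)
      rintro _ ⟨x, rfl⟩
      show m.hom (j'.app U' (res G hle (OmegaSh.pullSect g E U x))) = φ _
      rw [← key]
      exact (congr($(hm₂).hom (j.app U x))).trans ((hBsym.lift_eq l _).trans (hl x)).symm
    exact CommRingCat.hom_ext (RingHom.ext fun x => AlgHom.congr_fun e x)

end Groth.Agent.EGAProj74
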