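import Groth.Agent.EGAProj74.SymAlgUnique
import Groth.Prelude.Def_RelProj4

/-!
An algebra map over a morphism out of a symmetric algebra is determined by the generators.
-/

set_option autoImplicit false
set_option backward.isDefEq.respectTransparency.types false

universe u

open CategoryTheory CategoryTheory.Limits AlgebraicGeometry TopologicalSpace Opposite

noncomputable section

namespace Groth.Agent.EGAProj74

variable {X S : Scheme.{u}} {q : X ⟶ S} {E : S.Modules} {𝒯 : RelProj.QCGrAlg S} {j : E ⟶ 𝒯.toModule}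
  {B : RelSpec.QCAlg X}

theorem qHom_app_ext (hE : E.IsQuasicoherent) (hj : RelProj.IsGrSymAlg E 𝒯 j)
    {u v : RelSpec.QHom q 𝒯.toQCAlg B}
    (h : ∀ (U : S.Opens), IsAffineOpen U → ∀ m : Γ(E, U), (u.app U).hom (j.app U m) = (v.app U).hom (j.app U m))
    (U : S.Opens) : u.app U = v.app U := by
  refine CommRingCat.hom_ext (RingHom.ext fun t => ?_)
  let ι := {W : S.Opens // IsAffineOpen W ∧ W ≤ U}
  refine TopCat.Sheaf.eq_of_locally_eq' ⟨B.presheaf, B.isSheaf⟩ (fun W : ι => q ⁻¹ᵁ W.1) (q ⁻¹ᵁ U)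
    (fun W => homOfLE (q.preimage_mono W.2.2)) (fun z hz => ?_) _ _ fun W => ?_
  · obtain ⟨W, hW, hzW, hWle⟩ := exists_isAffineOpen_mem_and_subset (U := U) (x := q.base z) hz
    exact Opens.mem_iSup.2 ⟨⟨W, hW, hWle⟩, hzW⟩
  · obtain ⟨W, hW, hWle⟩ := W
    have e : u.app W = v.app W := by
      refine CommRingCat.hom_ext (RingHom.eq_of_eqOn_set_top fun z hz => ?_)
      refine RingHom.eqOn_set_closure (f := (u.app W).hom) (g := (v.app W).hom) ?_
        ((closure_grSym hE hj W hW).ge hz)
      rintro _ (⟨r, rfl⟩ | ⟨m, rfl⟩)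
      · exact congr($(u.str_app W).hom r).trans congr($(v.str_app W).hom r).symm
      · exact h W hW m
    refine (congr($(u.naturality hWle).hom t)).trans (Eq.trans ?_ (congr($(v.naturality hWle).hom t)).symm)
    rw [e]

end Groth.Agent.EGAProj74
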