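import Groth.Agent.EGAProj74.GrT.TildeSections

/-!
Sections over standard opens of an exact sequence of graded modules form an exact sequence.
-/

set_option autoImplicit false
set_option backward.isDefEq.respectTransparency.types false

universe u

open CategoryTheory AlgebraicGeometry TopologicalSpace Opposite GrMod

noncomputable section

namespace Groth.Agent.EGAProj74

variable {A σ : Type u} [CommRing A] [SetLike σ A] [AddSubgroupClass σ A] {𝒜 : ℕ → σ}
  [GradedRing 𝒜] {M₁ τ₁ : Type u} [AddCommGroup M₁] [Module A M₁] [SetLike τ₁ M₁] [AddSubgroupClass τ₁ M₁]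
  {ℳ₁ : ℕ → τ₁} [SetLike.GradedSMul 𝒜 ℳ₁] [DirectSum.Decomposition ℳ₁]
  {M₂ τ₂ : Type u} [AddCommGroup M₂] [Module A M₂] [SetLike τ₂ M₂] [AddSubgroupClass τ₂ M₂]
  {ℳ₂ : ℕ → τ₂} [SetLike.GradedSMul 𝒜 ℳ₂] [DirectSum.Decomposition ℳ₂]
  {M₃ τ₃ : Type u} [AddCommGroup M₃] [Module A M₃] [SetLike τ₃ M₃] [AddSubgroupClass τ₃ M₃]
  {ℳ₃ : ℕ → τ₃} [SetLike.GradedSMul 𝒜 ℳ₃] [DirectSum.Decomposition ℳ₃]

theorem exact_map_app_basicOpen (u : M₁ →ₗ[A] M₂) (hu : ∀ (i : ℕ) (m : M₁), m ∈ ℳ₁ i → u m ∈ ℳ₂ i)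
    (v : M₂ →ₗ[A] M₃) (hv : ∀ (i : ℕ) (m : M₂), m ∈ ℳ₂ i → v m ∈ ℳ₃ i)
    (hex : Function.Exact u v) (n : ℤ) {d : ℕ} (hd : 0 < d) (f : A) (hf : f ∈ 𝒜 d) :
    Function.Exact ((GrMod.map 𝒜 u hu n).app (Proj.basicOpen 𝒜 f))
      ((GrMod.map 𝒜 v hv n).app (Proj.basicOpen 𝒜 f)) := by
  classical
  intro t
  constructor
  · intro ht
    obtain ⟨k, i, m, hm, hi, hts⟩ := GrT.exists_frac_eq hd hf
      (t : sect 𝒜 ℳ₂ n (op (ProjectiveSpectrum.basicOpen 𝒜 f)))
    obtain ⟨N, hN⟩ := GrT.exists_pow_smul_eq_zero_of_frac (ℳ := ℳ₃) hd hf (hv i m hm)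
      (fun x : ProjectiveSpectrum.basicOpen 𝒜 f => GrT.pow_notMem x.2 k) (fun x => by
        have h0 := congrArg (fun q : Γ(tilde 𝒜 ℳ₃ n, Proj.basicOpen 𝒜 f) => val q x) ht
        have e := map_app_val v hv n (Proj.basicOpen 𝒜 f) t x
        rw [show val t x = _ from hts x] at e
        exact ((e.trans (GrMod.locMap_mk v x.1 m _)).symm.trans h0))
    obtain ⟨m₀, hm₀⟩ := (hex (f ^ N • m)).mp (by rw [map_smul, hN])
    have hfN : f ^ N ∈ 𝒜 (N * d) := by simpa using SetLike.pow_mem_graded N hf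
    have hdeg : f ^ N • m ∈ ℳ₂ (N * d + i) := SetLike.GradedSMul.smul_mem hfN hm
    have hum : u (DirectSum.decompose ℳ₁ m₀ (N * d + i)) = f ^ N • m := by
      have key : ∀ y : M₁, u (DirectSum.decompose ℳ₁ y (N * d + i)) = DirectSum.decompose ℳ₂ (u y) (N * d + i) := by
        intro y
        induction y using DirectSum.Decomposition.inductionOn ℳ₁ with
        | zero => simp
        | @homogeneous l y =>
          by_cases hlk : l = N * d + i
          · subst hlk
            rw [DirectSum.decompose_of_mem_same _ y.2, DirectSum.decompose_of_mem_same _ (hu _ _ y.2)]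
          · rw [DirectSum.decompose_of_mem_ne _ y.2 hlk, DirectSum.decompose_of_mem_ne _ (hu _ _ y.2) hlk, map_zero]
        | add p q hp hq => simp [DirectSum.decompose_add, hp, hq]
      rw [key, hm₀, DirectSum.decompose_of_mem_same _ hdeg]
    have hden : f ^ (N + k) ∈ 𝒜 ((N + k) * d) := by simpa using SetLike.pow_mem_graded (N + k) hf
    refine ⟨GrT.fracSect (U := ProjectiveSpectrum.basicOpen 𝒜 f) (n := n)
      (SetLike.coe_mem (DirectSum.decompose ℳ₁ m₀ (N * d + i))) hden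
      (fun x => GrT.pow_notMem x.2 _) (i := N * d + i) (by push_cast; rw [hi]; ring), GrT.sect_ext fun x => ?_⟩
    refine (GrMod.locMap_mk u x.1 _ _).trans (Eq.trans ?_ (hts x).symm)
    refine GrT.frac_congr ?_
    rw [hum, smul_smul, pow_add, mul_comm]
  · rintro ⟨s, rfl⟩
    refine GrT.sect_ext fun x => ?_
    refine (map_app_val v hv n _ _ x).trans ?_
    rw [map_app_val u hu n _ s x]
    induction (val s x) using LocalizedModule.induction_on with
    | h m a =>
      erw [GrMod.locMap_mk, GrMod.locMap_mk]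
      rw [show v (u m) = 0 from (hex (u m)).mpr ⟨m, rfl⟩, LocalizedModule.zero_mk]
      rfl

end Groth.Agent.EGAProj74
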