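import Groth.Agent.EGAProj74.GrLoc
import Groth.Agent.EGAProj74.RelBasic
import Groth.Agent.EGAProj74.AffGlue

/-!
The transition maps between the modules attached to a graded module on the charts of a relative Proj.
-/

set_option autoImplicit false
set_option backward.isDefEq.respectTransparency.types false

universe u

open CategoryTheory CategoryTheory.Limits AlgebraicGeometry TopologicalSpace Opposite
open scoped HomogeneousIdeal

noncomputable section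

namespace Groth.Agent.EGAProj74

variable {S P : Scheme.{u}} {𝒮 : RelProj.QCGrAlg S} {p : P ⟶ S}
  {chart : ∀ (U : S.Opens) (hU : IsAffineOpen U), (((p ⁻¹ᵁ U : P.Opens) : Scheme.{u}) ≅ Proj (𝒮.deg U hU))}
  (hP : RelProj.IsRelProj 𝒮 p chart) (ℳ : RelProj.GrModule 𝒮) (n : ℤ)

variable (p chart) in
/-- The member of the family at the affine open `U`. -/
abbrev tildeObj (U : S.Opens) (hU : IsAffineOpen U) : P.Modules :=
  (Scheme.Modules.pushforward (RelProj.emb p chart U hU)).obj (GrMod.tilde (𝒮.deg U hU) (ℳ.deg U hU) n)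

/-- The module pushed forward twice. -/
abbrev tildeObj₂ {U V : S.Opens} (hU : IsAffineOpen U) (hV : IsAffineOpen V) (i : V ≤ U) : P.Modules :=
  (Scheme.Modules.pushforward (RelProj.emb p chart U hU)).obj
    ((Scheme.Modules.pushforward (Proj.map (𝒮.res hU hV i) (irrelevant_le_map_res 𝒮 hU hV i))).obj
      (GrMod.tilde (𝒮.deg V hV) (ℳ.deg V hV) n))

variable (p chart) in
/-- The comap, pushed forward to `P`. -/
def tildeMap₁ {U V : S.Opens} (hU : IsAffineOpen U) (hV : IsAffineOpen V) (i : V ≤ U) :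
    tildeObj p chart ℳ n U hU ⟶ tildeObj₂ (p := p) (chart := chart) ℳ n hU hV i :=
  (Scheme.Modules.pushforward (RelProj.emb p chart U hU)).map
    (GrMod.comap (𝒮.res hU hV i) (irrelevant_le_map_res 𝒮 hU hV i) (ℳ.res hU hV i)
      (fun d m hm => ℳ.res_mem hU hV i d m hm) n)

/-- Functoriality of the direct image, along the identity of chart immersions. -/
def tildeMap₂ {U V : S.Opens} (hU : IsAffineOpen U) (hV : IsAffineOpen V) (i : V ≤ U) :
    tildeObj₂ (p := p) (chart := chart) ℳ n hU hV i ⟶ tildeObj p chart ℳ n V hV :=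
  ((Scheme.Modules.pushforwardComp (Proj.map (𝒮.res hU hV i) (irrelevant_le_map_res 𝒮 hU hV i))
      (RelProj.emb p chart U hU)).hom.app (GrMod.tilde (𝒮.deg V hV) (ℳ.deg V hV) n)) ≫
    (Scheme.Modules.pushforwardCongr (map_res_emb' hP hU hV i)).hom.app
      (GrMod.tilde (𝒮.deg V hV) (ℳ.deg V hV) n)

/-- The transition map from `U` to a smaller affine open `V`. -/
def tildeMap {U V : S.Opens} (hU : IsAffineOpen U) (hV : IsAffineOpen V) (i : V ≤ U) :
    tildeObj p chart ℳ n U hU ⟶ tildeObj p chart ℳ n V hV :=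
  tildeMap₁ p chart ℳ n hU hV i ≫ tildeMap₂ hP ℳ n hU hV i

include hP in
theorem emb_comap {U V : S.Opens} (hU : IsAffineOpen U) (hV : IsAffineOpen V) (i : V ≤ U)
    (y : Proj (𝒮.deg V hV)) :
    (RelProj.emb p chart U hU).base
      (ProjectiveSpectrum.comap (𝒮.res hU hV i) (irrelevant_le_map_res 𝒮 hU hV i) y) =
      (RelProj.emb p chart V hV).base y :=
  congr($(map_res_emb' hP hU hV i).base y)

theorem tildeMap_val {U V : S.Opens} (hU : IsAffineOpen U) (hV : IsAffineOpen V) (i : V ≤ U) (W : P.Opens)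
    (s : Γ(tildeObj p chart ℳ n U hU, W)) (y : Proj (𝒮.deg V hV))
    (hy : (RelProj.emb p chart V hV).base y ∈ W) :
    GrMod.val (V := RelProj.emb p chart V hV ⁻¹ᵁ W) ((tildeMap hP ℳ n hU hV i).app W s) ⟨y, hy⟩ =
      GrMod.locModMap (𝒮.res hU hV i) (irrelevant_le_map_res 𝒮 hU hV i) (ℳ.res hU hV i) y
        (GrMod.val (V := RelProj.emb p chart U hU ⁻¹ᵁ W) s
          ⟨_, show _ ∈ W from Eq.subst (motive := fun t => t ∈ W) (emb_comap hP hU hV i y).symm hy⟩) := rfl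

theorem tildeObj_ext {U : S.Opens} (hU : IsAffineOpen U) {W : P.Opens}
    (s t : Γ(tildeObj p chart ℳ n U hU, W))
    (h : ∀ (x : Proj (𝒮.deg U hU)) (hx : (RelProj.emb p chart U hU).base x ∈ W),
      GrMod.val (V := RelProj.emb p chart U hU ⁻¹ᵁ W) s ⟨x, hx⟩ =
        GrMod.val (V := RelProj.emb p chart U hU ⁻¹ᵁ W) t ⟨x, hx⟩) : s = t :=
  Subtype.ext (funext fun x => Subtype.ext (h x.1 x.2))

/-- Pulling a section back along two equal composites gives the same value. -/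
theorem locModMap_val_congr {U E : S.Opens} (hU : IsAffineOpen U) (hE : IsAffineOpen E) (i : E ≤ U)
    {W : (Proj (𝒮.deg U hU)).Opens} (s : Γ(GrMod.tilde (𝒮.deg U hU) (ℳ.deg U hU) n, W))
    (y : Proj (𝒮.deg E hE)) {V : S.Opens} (hV : IsAffineOpen V) (i₁ : V ≤ U) (i₂ : E ≤ V)
    (h₁ : ProjectiveSpectrum.comap (𝒮.res hU hV i₁) (irrelevant_le_map_res 𝒮 hU hV i₁)
      (ProjectiveSpectrum.comap (𝒮.res hV hE i₂) (irrelevant_le_map_res 𝒮 hV hE i₂) y) ∈ W)
    (h₂ : ProjectiveSpectrum.comap (𝒮.res hU hE i) (irrelevant_le_map_res 𝒮 hU hE i) y ∈ W) :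
    GrMod.locModMap (𝒮.res hV hE i₂) (irrelevant_le_map_res 𝒮 hV hE i₂) (ℳ.res hV hE i₂) y
        (GrMod.locModMap (𝒮.res hU hV i₁) (irrelevant_le_map_res 𝒮 hU hV i₁) (ℳ.res hU hV i₁) _
          (GrMod.val s ⟨_, h₁⟩)) =
      GrMod.locModMap (𝒮.res hU hE i) (irrelevant_le_map_res 𝒮 hU hE i) (ℳ.res hU hE i) y
        (GrMod.val s ⟨_, h₂⟩) := by
  obtain ⟨N, hN, iN, d, j, m, a, nin, -, w⟩ := (s : GrMod.sect _ _ n (op W)).2 ⟨_, h₂⟩
  have e : ProjectiveSpectrum.comap (𝒮.res hU hV i₁) (irrelevant_le_map_res 𝒮 hU hV i₁)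
      (ProjectiveSpectrum.comap (𝒮.res hV hE i₂) (irrelevant_le_map_res 𝒮 hV hE i₂) y) =
      ProjectiveSpectrum.comap (𝒮.res hU hE i) (irrelevant_le_map_res 𝒮 hU hE i) y := by
    refine ProjectiveSpectrum.ext (HomogeneousIdeal.ext ?_)
    ext c
    exact Iff.of_eq (congrArg (· ∈ y.asHomogeneousIdeal) (res_res_apply 𝒮 i₁ i₂ c))
  have hN₁ : _ ∈ N := Eq.subst (motive := fun t => t ∈ N) e.symm hN
  refine (congrArg _ (congrArg _ (w ⟨_, hN₁⟩))).trans (Eq.trans ?_ (congrArg _ (w ⟨_, hN⟩)).symm)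
  erw [GrMod.locModMap_mk, GrMod.locModMap_mk]
  have em : ℳ.res hV hE i₂ (ℳ.res hU hV i₁ (m : ℳ.mod.val.obj (op U))) = ℳ.res hU hE i m := by
    change ℳ.mod.val.presheaf.map _ (ℳ.mod.val.presheaf.map _ _) = ℳ.mod.val.presheaf.map _ _
    rw [← ConcreteCategory.comp_apply, ← Functor.map_comp]
    rfl
  congr 1
  exact Subtype.ext (res_res_apply 𝒮 i₁ i₂ a)

theorem tildeMap_comp {U V E : S.Opens} (hU : IsAffineOpen U) (hV : IsAffineOpen V) (hE : IsAffineOpen E)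
    (i : V ≤ U) (j : E ≤ V) :
    tildeMap hP ℳ n hU hV i ≫ tildeMap hP ℳ n hV hE j = tildeMap hP ℳ n hU hE (j.trans i) := by
  ext W s
  exact tildeObj_ext ℳ n hE _ _ fun y hy => locModMap_val_congr ℳ n hU hE (j.trans i) s y hV i j _ _

theorem tildeMap_self {U : S.Opens} (hU : IsAffineOpen U) (i : U ≤ U) :
    tildeMap hP ℳ n hU hU i = 𝟙 (tildeObj p chart ℳ n U hU) := by
  ext W s
  refine tildeObj_ext ℳ n hU _ _ fun y hy => (tildeMap_val hP ℳ n hU hU i W s y hy).trans ?_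
  have e : ProjectiveSpectrum.comap (𝒮.res hU hU i) (irrelevant_le_map_res 𝒮 hU hU i) y = y := by
    refine ProjectiveSpectrum.ext (HomogeneousIdeal.ext ?_)
    ext c
    exact Iff.of_eq (congrArg (· ∈ y.asHomogeneousIdeal) (congr($(𝒮.presheaf.map_id (op U)).hom c)))
  obtain ⟨N, hN, iN, d, j, m, a, nin, -, w⟩ :=
    (s : GrMod.sect _ _ n (op (RelProj.emb p chart U hU ⁻¹ᵁ W))).2 ⟨y, hy⟩
  have hN₁ : _ ∈ N := Eq.subst (motive := fun t => t ∈ N) e.symm hN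
  refine (congrArg _ (w ⟨_, hN₁⟩)).trans (Eq.trans ?_ (w ⟨_, hN⟩).symm)
  erw [GrMod.locModMap_mk]
  have em : ℳ.res hU hU i (m : ℳ.mod.val.obj (op U)) = m :=
    congr($(ℳ.mod.val.presheaf.map_id (op U)) (m : ℳ.mod.val.obj (op U)))
  congr 1
  exact Subtype.ext (congr($(𝒮.presheaf.map_id (op U)).hom a))

/-- The section given by one fraction. -/
theorem exists_fracSection {U : S.Opens} (hU : IsAffineOpen U) {O : P.Opens} {d j : ℕ}
    {m : ℳ.mod.val.obj (op U)} (hm : m ∈ ℳ.deg U hU d) {a : 𝒮.presheaf.obj (op U)} (ha : a ∈ 𝒮.deg U hU j)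
    (hden : ∀ x : Proj (𝒮.deg U hU), (RelProj.emb p chart U hU).base x ∈ O → a ∉ x.asHomogeneousIdeal)
    (hdj : (d : ℤ) = j + n) :
    ∃ s : Γ(tildeObj p chart ℳ n U hU, O), ∀ (x : Proj (𝒮.deg U hU))
      (hx : (RelProj.emb p chart U hU).base x ∈ O),
      GrMod.val (V := RelProj.emb p chart U hU ⁻¹ᵁ O) s ⟨x, hx⟩ = LocalizedModule.mk m ⟨a, hden x hx⟩ :=
  ⟨(⟨fun x => ⟨LocalizedModule.mk m ⟨a, hden x.1 x.2⟩,
      Submodule.subset_span ⟨d, j, ⟨m, hm⟩, ⟨a, ha⟩, hden x.1 x.2, hdj, rfl⟩⟩,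
    fun x => ⟨_, x.2, 𝟙 _, d, j, ⟨m, hm⟩, ⟨a, ha⟩, fun x' => hden x'.1 x'.2, Or.inl hdj, fun _ => rfl⟩⟩ :
    GrMod.sect (𝒮.deg U hU) (ℳ.deg U hU) n (op (RelProj.emb p chart U hU ⁻¹ᵁ O))), fun _ _ => rfl⟩

omit n in
/-- A section over a smaller affine open killed near a point comes from one killed near the point below it. -/
theorem exists_smul_eq_zero_comap {U E : S.Opens} (hU : IsAffineOpen U) (hE : IsAffineOpen E) (i : E ≤ U)
    {r : Γ(S, U)} (e : E = S.basicOpen r) (hℳ : Coh.IsQCoh ((AMod.toOS 𝒮.toQCAlg).obj ℳ.mod))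
    {y : Proj (𝒮.deg E hE)} {m : ℳ.mod.val.obj (op U)} {c : 𝒮.presheaf.obj (op E)}
    (hc : c ∉ y.asHomogeneousIdeal) (h : c • ℳ.res hU hE i m = 0) :
    ∃ b : 𝒮.presheaf.obj (op U),
      b ∉ (ProjectiveSpectrum.comap (𝒮.res hU hE i) (irrelevant_le_map_res 𝒮 hU hE i) y).asHomogeneousIdeal ∧
        b • m = 0 := by
  let := (𝒮.presheaf.map (homOfLE i).op).hom.toAlgebra
  have := isLocalization_res 𝒮 hU i e
  obtain ⟨l, c₁, hc₁⟩ := IsLocalization.Away.surj ((𝒮.str.app (op U)).hom r) c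
  have hu := isUnit_res_str 𝒮 hU i e
  have h0 : ℳ.res hU hE i (c₁ • m) = 0 := by
    rw [LinearMap.map_smulₛₗ]
    change (𝒮.presheaf.map (homOfLE i).op).hom c₁ • _ = 0
    rw [show (𝒮.presheaf.map (homOfLE i).op).hom c₁ = _ from hc₁.symm, mul_comm, mul_smul, h, smul_zero]
  obtain ⟨k, hk⟩ := exists_pow_smul_eq_zero_res hU i e ℳ hℳ h0
  refine ⟨(𝒮.str.app (op U)).hom r ^ k * c₁, fun hmem => ?_, by rw [mul_smul]; exact hk⟩
  have hmem' : 𝒮.res hU hE i ((𝒮.str.app (op U)).hom r ^ k * c₁) ∈ y.asHomogeneousIdeal.toIdeal := hmem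
  rw [RelProj.QCGrAlg.res_apply, map_mul, map_pow,
    show (𝒮.presheaf.map (homOfLE i).op).hom c₁ = _ from hc₁.symm, mul_comm c, ← mul_assoc] at hmem'
  exact hc ((Ideal.unit_mul_mem_iff_mem _ ((hu.pow k).mul (hu.pow l))).mp hmem')

/-- A basic open of one affine open which is also basic in another, around a point. -/
theorem exists_common_basic {U V : S.Opens} (hU : IsAffineOpen U) (hV : IsAffineOpen V) {z : S}
    (hz : z ∈ U ⊓ V) : ∃ (E : S.Opens) (_ : IsAffineOpen E) (r : Γ(S, U)) (r' : Γ(S, V)),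
      E = S.basicOpen r ∧ E = S.basicOpen r' ∧ z ∈ E := by
  obtain ⟨r, r', h, hzr⟩ := exists_basicOpen_le_affine_inter hU hV z hz
  exact ⟨S.basicOpen r, hU.basicOpen r, r, r', rfl, h, hzr⟩

omit ℳ n in
include hP in
theorem exists_comap_eq {U E : S.Opens} (hU : IsAffineOpen U) (hE : IsAffineOpen E) (i : E ≤ U)
    (x : Proj (𝒮.deg U hU)) (hx : p.base ((RelProj.emb p chart U hU).base x) ∈ E) :
    ∃ y : Proj (𝒮.deg E hE),
      ProjectiveSpectrum.comap (𝒮.res hU hE i) (irrelevant_le_map_res 𝒮 hU hE i) y = x := by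
  obtain ⟨y, hy⟩ : (RelProj.emb p chart U hU).base x ∈ (RelProj.emb p chart E hE).opensRange := by
    rw [opensRange_emb]; exact hx
  exact ⟨y, (RelProj.emb p chart U hU).isOpenEmbedding.injective ((emb_comap hP hU hE i y).trans hy)⟩

theorem tildeMap_injective {U V : S.Opens} (hU : IsAffineOpen U) (hV : IsAffineOpen V) (i : V ≤ U)
    (hℳ : Coh.IsQCoh ((AMod.toOS 𝒮.toQCAlg).obj ℳ.mod)) {W : P.Opens} (hW : W ≤ p ⁻¹ᵁ V) :
    Function.Injective ((tildeMap hP ℳ n hU hV i).app W) := by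
  refine (injective_iff_map_eq_zero ((tildeMap hP ℳ n hU hV i).app W).hom).mpr fun s hs => ?_
  refine tildeObj_ext ℳ n hU _ _ fun x hx => ?_
  change GrMod.val (V := RelProj.emb p chart U hU ⁻¹ᵁ W) s ⟨x, hx⟩ = 0
  have hxV : p.base ((RelProj.emb p chart U hU).base x) ∈ V := hW hx
  obtain ⟨E, hE, r, r', e, e', hzE⟩ := exists_common_basic hU hV ⟨i hxV, hxV⟩
  have iEV : E ≤ V := e'.le.trans (S.basicOpen_le r')
  obtain ⟨y, rfl⟩ := exists_comap_eq hP hU hE (iEV.trans i) x hzE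
  have hy : (RelProj.emb p chart E hE).base y ∈ W :=
    Eq.subst (motive := fun t => t ∈ W) (emb_comap hP hU hE (iEV.trans i) y) hx
  have hE0 : (tildeMap hP ℳ n hU hE (iEV.trans i)).app W s = 0 := by
    rw [← tildeMap_comp hP ℳ n hU hV hE i iEV]
    exact (congrArg ((tildeMap hP ℳ n hV hE iEV).app W) hs).trans
      (map_zero ((tildeMap hP ℳ n hV hE iEV).app W).hom)
  have h0 : GrMod.locModMap (𝒮.res hU hE (iEV.trans i)) (irrelevant_le_map_res 𝒮 hU hE (iEV.trans i))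
      (ℳ.res hU hE (iEV.trans i)) y (GrMod.val (V := RelProj.emb p chart U hU ⁻¹ᵁ W) s ⟨_, hx⟩) = 0 :=
    (tildeMap_val hP ℳ n hU hE (iEV.trans i) W s y hy).symm.trans
      (congrArg (fun t => GrMod.val (V := RelProj.emb p chart E hE ⁻¹ᵁ W) t ⟨y, hy⟩) hE0)
  obtain ⟨N, hN, iN, d, j, m, a, nin, -, w⟩ :=
    (s : GrMod.sect _ _ n (op (RelProj.emb p chart U hU ⁻¹ᵁ W))).2 ⟨_, hx⟩
  have hw : GrMod.val (V := RelProj.emb p chart U hU ⁻¹ᵁ W) s ⟨_, hx⟩ =
      LocalizedModule.mk (m : ℳ.mod.val.obj (op U)) ⟨(a : 𝒮.presheaf.obj (op U)), nin ⟨_, hN⟩⟩ := w ⟨_, hN⟩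
  rw [hw] at h0
  erw [GrMod.locModMap_mk] at h0
  obtain ⟨⟨c, hc⟩, hcm⟩ := (LocalizedModule.mk_eq (m' := (0 : ℳ.mod.val.obj (op E))) (s' := 1)).mp
    (h0.trans (LocalizedModule.zero_mk 1).symm)
  obtain ⟨b, hb, hbm⟩ := exists_smul_eq_zero_comap ℳ hU hE (iEV.trans i) e hℳ hc (by simpa using hcm)
  rw [hw, ← LocalizedModule.zero_mk ⟨(a : 𝒮.presheaf.obj (op U)), nin ⟨_, hN⟩⟩, LocalizedModule.mk_eq]
  exact ⟨⟨b, hb⟩, by simp [Submonoid.smul_def, smul_smul, mul_comm b, mul_smul, hbm]⟩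

set_option maxHeartbeats 800000 in
theorem tildeMap_surjective {U V : S.Opens} (hU : IsAffineOpen U) (hV : IsAffineOpen V) (i : V ≤ U)
    (hℳ : Coh.IsQCoh ((AMod.toOS 𝒮.toQCAlg).obj ℳ.mod)) {W : P.Opens} (hW : W ≤ p ⁻¹ᵁ V) :
    Function.Surjective ((tildeMap hP ℳ n hU hV i).app W) := by
  intro t
  have key : ∀ z : W, ∃ (O : P.Opens) (h : O ≤ W) (_ : z.1 ∈ O) (s : Γ(tildeObj p chart ℳ n U hU, O)),
      (tildeMap hP ℳ n hU hV i).app O s = mres _ h t := by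
    intro z
    have hzV : p.base z.1 ∈ V := hW z.2
    obtain ⟨y, hy⟩ : z.1 ∈ (RelProj.emb p chart V hV).opensRange := by rw [opensRange_emb]; exact hzV
    have hyW : (RelProj.emb p chart V hV).base y ∈ W := hy ▸ z.2
    obtain ⟨N, hN, iN, d, j, m', a', nin, hdj, w⟩ :=
      (t : GrMod.sect _ _ n (op (RelProj.emb p chart V hV ⁻¹ᵁ W))).2 ⟨y, hyW⟩
    obtain ⟨E, hE, r, r', e, e', hzE⟩ := exists_common_basic hU hV ⟨i hzV, hzV⟩
    have iEV : E ≤ V := e'.le.trans (S.basicOpen_le r')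
    have iEU : E ≤ U := iEV.trans i
    obtain ⟨k, m, hm, hmr⟩ := exists_deg_res_mod hU hE iEU e ℳ hℳ (ℳ.res_mem hV hE iEV d _ m'.2)
    obtain ⟨l, a, ha, har⟩ := exists_deg_res 𝒮 hU hE iEU e ((𝒮.res hV hE iEV).map_mem a'.2)
    let R := (𝒮.str.app (op U)).hom r
    let R' := (𝒮.str.app (op V)).hom r'
    let M₀ : ℳ.mod.val.obj (op U) := R ^ l • m
    let A₀ : 𝒮.presheaf.obj (op U) := R ^ k * a
    have hM₀ : M₀ ∈ ℳ.deg U hU d := by
      have := SetLike.GradedSMul.smul_mem (SetLike.pow_mem_graded l (𝒮.str_mem U hU r)) hm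
        (A := 𝒮.deg U hU) (B := ℳ.deg U hU)
      simpa using this
    have hA₀ : A₀ ∈ 𝒮.deg U hU j := by
      simpa using SetLike.mul_mem_graded (SetLike.pow_mem_graded k (𝒮.str_mem U hU r)) ha
    have hAE : 𝒮.res hU hE iEU A₀ = 𝒮.res hU hE iEU R ^ (k + l) * 𝒮.res hV hE iEV a' := by
      rw [map_mul, map_pow, pow_add, mul_assoc]
      exact congrArg _ har
    have hME : ℳ.res hU hE iEU M₀ = 𝒮.res hU hE iEU R ^ (k + l) • ℳ.res hV hE iEV m' := by
      rw [LinearMap.map_smulₛₗ, add_comm, pow_add, mul_smul]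
      exact congrArg₂ (· • ·) (map_pow (𝒮.res hU hE iEU).toRingHom R l) hmr
    let O : P.Opens := W ⊓ p ⁻¹ᵁ E ⊓ RelProj.emb p chart V hV ''ᵁ N ⊓
      RelProj.emb p chart U hU ''ᵁ Proj.basicOpen (𝒮.deg U hU) A₀
    have hOW : O ≤ W := fun _ h => h.1.1.1
    have hunit := isUnit_res_str 𝒮 hU iEU e
    have hzO : z.1 ∈ O := by
      refine ⟨⟨⟨z.2, hzE⟩, ⟨y, hN, hy⟩⟩, ?_⟩
      obtain ⟨yE, hyE⟩ := exists_comap_eq hP hV hE iEV y (hy.symm ▸ hzE)
      refine ⟨ProjectiveSpectrum.comap (𝒮.res hU hE iEU) (irrelevant_le_map_res 𝒮 hU hE iEU) yE, ?_, ?_⟩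
      · intro hmem
        have hmem' : 𝒮.res hU hE iEU A₀ ∈ yE.asHomogeneousIdeal.toIdeal := hmem
        rw [hAE] at hmem'
        have h2 := (Ideal.unit_mul_mem_iff_mem _ (hunit.pow (k + l))).mp hmem'
        exact nin ⟨y, hN⟩ (Eq.subst (motive := fun q : ProjectiveSpectrum (𝒮.deg V hV) =>
          (a' : 𝒮.presheaf.obj (op V)) ∈ q.asHomogeneousIdeal) hyE h2)
      · rw [← hy, ← hyE]
        exact (emb_comap hP hU hE iEU yE).trans (emb_comap hP hV hE iEV yE).symm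
    have hden : ∀ x : Proj (𝒮.deg U hU), (RelProj.emb p chart U hU).base x ∈ O → A₀ ∉ x.asHomogeneousIdeal := by
      intro x hx
      obtain ⟨x', hx', hxx⟩ := hx.2
      exact (RelProj.emb p chart U hU).isOpenEmbedding.injective hxx ▸ hx'
    have hNO : ∀ y' : Proj (𝒮.deg V hV), (RelProj.emb p chart V hV).base y' ∈ O → y' ∈ N := by
      intro y' hy'
      obtain ⟨y'', hy'', hyy⟩ := hy'.1.2
      exact (RelProj.emb p chart V hV).isOpenEmbedding.injective hyy ▸ hy''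
    rcases hdj with hdj | h0
    swap
    · refine ⟨O, hOW, hzO, 0, tildeObj_ext ℳ n hV _ _ fun y' hy' => ?_⟩
      refine Eq.trans ?_ (w ⟨y', hNO y' hy'⟩).symm
      rw [h0, LocalizedModule.zero_mk, map_zero]
      rfl
    · obtain ⟨f, hf⟩ := exists_fracSection ℳ n (p := p) (chart := chart) hU hM₀ hA₀ hden hdj
      refine ⟨O, hOW, hzO, f, tildeObj_ext ℳ n hV _ _ fun y' hy' => ?_⟩
      refine (tildeMap_val hP ℳ n hU hV i O f y' hy').trans ?_
      refine ((congrArg _ (hf _ _)).trans (GrMod.locModMap_mk _ _ _ _ _ _)).trans ?_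
      refine Eq.trans ?_ (w ⟨y', hNO y' hy'⟩).symm
      rw [LocalizedModule.mk_eq]
      obtain ⟨q, hq⟩ := exists_pow_smul_eq_zero_res hV iEV e' ℳ hℳ
        (m := (a' : 𝒮.presheaf.obj (op V)) • ℳ.res hU hV i M₀ - 𝒮.res hU hV i A₀ • (m' : ℳ.mod.val.obj (op V))) (by
        change ℳ.res hV hE iEV _ = 0
        have e1 : ℳ.res hV hE iEV (ℳ.res hU hV i M₀) = ℳ.res hU hE iEU M₀ := by
          change ℳ.mod.val.presheaf.map _ (ℳ.mod.val.presheaf.map _ _) = ℳ.mod.val.presheaf.map _ _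
          rw [← ConcreteCategory.comp_apply, ← Functor.map_comp]
          rfl
        have e2 : 𝒮.res hV hE iEV (𝒮.res hU hV i A₀) = 𝒮.res hU hE iEU A₀ := res_res_apply 𝒮 i iEV A₀
        rw [map_sub, sub_eq_zero]
        refine (LinearMap.map_smulₛₗ (ℳ.res hV hE iEV) _ _).trans
          (Eq.trans ?_ (LinearMap.map_smulₛₗ (ℳ.res hV hE iEV) _ _).symm)
        rw [e1, hME]
        change 𝒮.res hV hE iEV a' • _ = 𝒮.res hV hE iEV (𝒮.res hU hV i A₀) • _
        rw [e2, hAE, smul_smul, mul_comm])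
      refine ⟨⟨R' ^ q, fun hmem => ?_⟩, ?_⟩
      · obtain ⟨yE, hyE⟩ := exists_comap_eq hP hV hE iEV y' hy'.1.1.2
        subst hyE
        have hmem' : 𝒮.res hV hE iEV (R' ^ q) ∈ yE.asHomogeneousIdeal.toIdeal := hmem
        rw [map_pow] at hmem'
        exact yE.isPrime.ne_top (Ideal.eq_top_of_isUnit_mem _ hmem' ((isUnit_res_str 𝒮 hV iEV e').pow q))
      · rw [smul_sub, sub_eq_zero] at hq
        simpa [Submonoid.smul_def] using hq
  choose O hOW hzO s hs using key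
  have hcov : W ≤ ⨆ z : W, O z := fun z hz => Opens.mem_iSup.mpr ⟨⟨z, hz⟩, hzO _⟩
  obtain ⟨g, hg, -⟩ := TopCat.Sheaf.existsUnique_gluing'
    ⟨(tildeObj p chart ℳ n U hU).presheaf, (tildeObj p chart ℳ n U hU).isSheaf⟩ O W (fun z => homOfLE (hOW z))
    hcov s fun a b => by
      refine tildeMap_injective hP ℳ n hU hV i hℳ ((inf_le_left.trans (hOW a)).trans hW) ?_
      change (tildeMap hP ℳ n hU hV i).app _ (mres _ inf_le_left (s a)) =
        (tildeMap hP ℳ n hU hV i).app _ (mres _ inf_le_right (s b))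
      rw [mres_app, mres_app, hs, hs, mres_mres, mres_mres]
  refine ⟨g, ?_⟩
  refine TopCat.Sheaf.eq_of_locally_eq'
    (F := ⟨(tildeObj p chart ℳ n V hV).presheaf, (tildeObj p chart ℳ n V hV).isSheaf⟩)
    O W (fun z => homOfLE (hOW z)) hcov _ _ fun z => ?_
  change mres _ (hOW z) _ = mres _ (hOW z) _
  rw [← mres_app, ← hs z]
  exact congrArg _ (hg z)

end Groth.Agent.EGAProj74
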