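import Groth.Agent.EGAProj74.TildeMap

/-!
The family of modules attached to a graded module on the charts of a relative Proj, and its gluing.
-/

set_option autoImplicit false
set_option backward.isDefEq.respectTransparency.types false

universe u

open CategoryTheory CategoryTheory.Limits AlgebraicGeometry TopologicalSpace Opposite
open scoped HomogeneousIdeal

noncomputable section

namespace Groth.Agent.EGAProj74

variable {S P : Scheme.{u}} {p : P ⟶ S}

theorem bijective_mres_pushforward {Q : Scheme.{u}} (f : Q ⟶ P) (M : Q.Modules) {W W' : P.Opens} (h : W' ≤ W)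
    (he : f ⁻¹ᵁ W ≤ f ⁻¹ᵁ W') :
    Function.Bijective (mres ((Scheme.Modules.pushforward f).obj M) h) := by
  have : IsIso ((Opens.map f.base).map (homOfLE h)) := ⟨homOfLE he, Subsingleton.elim _ _, Subsingleton.elim _ _⟩
  exact (ConcreteCategory.isIso_iff_bijective (M.presheaf.map ((Opens.map f.base).map (homOfLE h)).op)).mp
    inferInstance

namespace AffSystem

variable (𝒢 : AffSystem p)

/-- Compatibility along all inclusions follows from compatibility along basic opens. -/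
theorem comm_of_basic {F : P.Modules} (lam : ∀ U : S.affineOpens, F ⟶ 𝒢.D.obj (op U))
    (h : ∀ {V E : S.affineOpens} (j : E ⟶ V), (∃ r : Γ(S, V.1), E.1 = S.basicOpen r) → lam V ≫ 𝒢.D.map j.op = lam E)
    {U V : S.affineOpens} (i : V ⟶ U) : lam U ≫ 𝒢.D.map i.op = lam V := by
  ext W x
  refine (𝒢.supp V W (W ⊓ p ⁻¹ᵁ V.1) inf_le_left le_rfl).injective ?_
  let ι := {E : S.affineOpens // (∃ r : Γ(S, U.1), E.1 = S.basicOpen r) ∧ ∃ r' : Γ(S, V.1), E.1 = S.basicOpen r'}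
  have hι : ∀ E : ι, E.1.1 ≤ V.1 ∧ E.1.1 ≤ U.1 := fun E =>
    ⟨E.2.2.choose_spec.le.trans (S.basicOpen_le _), E.2.1.choose_spec.le.trans (S.basicOpen_le _)⟩
  refine TopCat.Sheaf.eq_of_locally_eq' (F := ⟨(𝒢.D.obj (op V)).presheaf, (𝒢.D.obj (op V)).isSheaf⟩)
    (fun E : ι => W ⊓ p ⁻¹ᵁ E.1.1) (W ⊓ p ⁻¹ᵁ V.1)
    (fun E => homOfLE (inf_le_inf_left _ (p.preimage_mono (hι E).1))) ?_ _ _ fun E => ?_
  · intro z hz
    obtain ⟨E, hE, r, r', e, e', hzE⟩ := exists_common_basic U.2 V.2 (z := p.base z) ⟨i.le hz.2, hz.2⟩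
    exact Opens.mem_iSup.mpr ⟨⟨⟨E, hE⟩, ⟨r, e⟩, ⟨r', e'⟩⟩, hz.1, hzE⟩
  · change mres _ _ (mres _ _ _) = mres _ _ (mres _ _ _)
    rw [mres_mres, mres_mres]
    refine (𝒢.bij (homOfLE (hι E).1 : E.1 ⟶ V) _ inf_le_right).injective ?_
    rw [mres_app, mres_app]
    have h1 : lam V ≫ 𝒢.D.map (homOfLE (hι E).1 : E.1 ⟶ V).op = lam E.1 := h _ (by
      exact E.2.2)
    have h2 : lam U ≫ 𝒢.D.map (homOfLE (hι E).2 : E.1 ⟶ U).op = lam E.1 := h _ (by
      exact E.2.1)
    refine congrArg (mres _ _) ?_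
    refine Eq.trans ?_ (congr($(h2.trans h1.symm).app W x))
    exact 𝒢.map_map i (homOfLE (hι E).1) W ((lam U).app W x)

end AffSystem

variable {𝒮 : RelProj.QCGrAlg S}
  {chart : ∀ (U : S.Opens) (hU : IsAffineOpen U), (((p ⁻¹ᵁ U : P.Opens) : Scheme.{u}) ≅ Proj (𝒮.deg U hU))}
  (hP : RelProj.IsRelProj 𝒮 p chart) (ℳ : RelProj.GrModule 𝒮)
  (hℳ : Coh.IsQCoh ((AMod.toOS 𝒮.toQCAlg).obj ℳ.mod)) (n : ℤ)

/-- The family attached to a quasi-coherent graded module. -/
def tildeSys : AffSystem p where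
  D :=
    { obj := fun U => tildeObj p chart ℳ n U.unop.1 U.unop.2
      map := fun {U V} i => tildeMap hP ℳ n U.unop.2 V.unop.2 i.unop.le
      map_id := fun U => tildeMap_self hP ℳ n U.unop.2 _
      map_comp := fun {U V E} i j => (tildeMap_comp hP ℳ n U.unop.2 V.unop.2 E.unop.2 i.unop.le j.unop.le).symm }
  supp U W W' h h' := bijective_mres_pushforward _ _ h fun y hy => by
    refine h' ⟨hy, ?_⟩
    change (RelProj.emb p chart U.1 U.2).base y ∈ p ⁻¹ᵁ U.1
    rw [← opensRange_emb (chart := chart) U.1 U.2]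
    exact ⟨y, rfl⟩
  bij {U V} i W hW := ⟨tildeMap_injective hP ℳ n U.2 V.2 i.le hℳ hW,
    tildeMap_surjective hP ℳ n U.2 V.2 i.le hℳ hW⟩

variable {hP ℳ n}

theorem isRelTilde_of_isSol {F : P.Modules}
    {lam : ∀ (U : S.Opens) (hU : IsAffineOpen U),
      F ⟶ (Scheme.Modules.pushforward (RelProj.emb p chart U hU)).obj (GrMod.tilde (𝒮.deg U hU) (ℳ.deg U hU) n)}
    (h : (tildeSys hP ℳ hℳ n).IsSol F fun U => lam U.1 U.2) : RelProj.IsRelTilde 𝒮 p chart ℳ n F lam where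
  bijective U hU W hW := h.bij ⟨U, hU⟩ W hW
  compat U hU r W s y hy hy' := by
    have e := congr($(h.comm (U := ⟨U, hU⟩) (V := ⟨S.basicOpen r, hU.basicOpen r⟩)
      (homOfLE (S.basicOpen_le r))).app W s)
    exact (congrArg (fun t => GrMod.val (V := RelProj.emb p chart (S.basicOpen r) (hU.basicOpen r) ⁻¹ᵁ W) t ⟨y, hy⟩)
      e.symm).trans (tildeMap_val hP ℳ n hU (hU.basicOpen r) (S.basicOpen_le r) W ((lam U hU).app W s) y hy)

theorem isSol_of_isRelTilde {F : P.Modules}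
    {lam : ∀ (U : S.Opens) (hU : IsAffineOpen U),
      F ⟶ (Scheme.Modules.pushforward (RelProj.emb p chart U hU)).obj (GrMod.tilde (𝒮.deg U hU) (ℳ.deg U hU) n)}
    (h : RelProj.IsRelTilde 𝒮 p chart ℳ n F lam) : (tildeSys hP ℳ hℳ n).IsSol F fun U => lam U.1 U.2 where
  bij U W hW := h.bijective U.1 U.2 W hW
  comm {U V} i := by
    refine AffSystem.comm_of_basic (tildeSys hP ℳ hℳ n) (fun U => lam U.1 U.2) ?_ i
    rintro ⟨V, hV⟩ ⟨E, hE⟩ j ⟨r', e'⟩
    change E = S.basicOpen r' at e'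
    subst e'
    ext W s
    refine tildeObj_ext ℳ n (hV.basicOpen r') _ _ fun y hy => ?_
    refine (tildeMap_val hP ℳ n hV (hV.basicOpen r') j.le W ((lam V hV).app W s) y hy).trans ?_
    exact (h.compat V hV r' W s y hy _).symm

include hP hℳ in
theorem exists_isRelTilde :
    ∃ (F : P.Modules) (lam : ∀ (U : S.Opens) (hU : IsAffineOpen U),
      F ⟶ (Scheme.Modules.pushforward (RelProj.emb p chart U hU)).obj (GrMod.tilde (𝒮.deg U hU) (ℳ.deg U hU) n)),
      RelProj.IsRelTilde 𝒮 p chart ℳ n F lam := by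
  exact ⟨_, fun U hU => (tildeSys hP ℳ hℳ n).π ⟨U, hU⟩, isRelTilde_of_isSol hℳ (AffSystem.isSol_glued _)⟩

end Groth.Agent.EGAProj74
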