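import Groth.Agent.EGAProj74.ConeFibreRel

/-!
Graded rings which are polynomial rings in two generators of degree one over their degree-zero part.
-/

set_option autoImplicit false

universe u

open CategoryTheory AlgebraicGeometry HomogeneousLocalization
open scoped HomogeneousIdeal

noncomputable section

namespace Groth.Agent.EGAProj74

theorem val_mk_mul_pow {A : Type u} [CommRing A] {𝒜 : ℕ → AddSubgroup A} [GradedRing 𝒜] {d : ℕ} {f : A}
    (hf : f ∈ 𝒜 d) (n : ℕ) (a : A) (ha : a ∈ 𝒜 (n • d)) :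
    (Away.mk 𝒜 hf n a ha).val * algebraMap A (Localization.Away f) f ^ n = algebraMap A _ a := by
  rw [Away.val_mk, ← map_pow, ← Localization.mk_one_eq_algebraMap, ← Localization.mk_one_eq_algebraMap,
    Localization.mk_mul, mul_one, Localization.mk_eq_mk_iff, Localization.r_iff_exists]
  exact ⟨1, by simp [mul_comm]⟩

/-- `B = R[a, b]` with `a`, `b` of degree one. -/
structure TwoGen (R : Type u) [CommRing R] {B : Type u} [CommRing B] (ℬ : ℕ → AddSubgroup B) where
  ρ : R →+* B
  a : B
  b : B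
  ρ_mem : ∀ r, ρ r ∈ ℬ 0
  a_mem : a ∈ ℬ 1
  b_mem : b ∈ ℬ 1
  Φ : B ≃+* Polynomial (Polynomial R)
  Φ_ρ : ∀ r, Φ (ρ r) = Polynomial.C (Polynomial.C r)
  Φ_a : Φ a = Polynomial.C Polynomial.X
  Φ_b : Φ b = Polynomial.X

namespace TwoGen

variable {R B : Type u} [CommRing R] [CommRing B] {ℬ : ℕ → AddSubgroup B} (D : TwoGen R ℬ)
  {T : Type u} [CommRing T]

/-- The homomorphism with prescribed values on the generators. -/
def lift (g : R →+* T) (s t : T) : B →+* T :=
  (Polynomial.eval₂RingHom (Polynomial.eval₂RingHom g s) t).comp D.Φ.toRingHom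

@[simp] theorem lift_ρ (g : R →+* T) (s t : T) (r : R) : D.lift g s t (D.ρ r) = g r := by
  simp [lift, D.Φ_ρ]

@[simp] theorem lift_a (g : R →+* T) (s t : T) : D.lift g s t D.a = s := by simp [lift, D.Φ_a]

@[simp] theorem lift_b (g : R →+* T) (s t : T) : D.lift g s t D.b = t := by simp [lift, D.Φ_b]

include D in
theorem hom_ext {χ χ' : B →+* T} (h : ∀ r, χ (D.ρ r) = χ' (D.ρ r)) (ha : χ D.a = χ' D.a)
    (hb : χ D.b = χ' D.b) : χ = χ' := by
  have key : χ.comp D.Φ.symm.toRingHom = χ'.comp D.Φ.symm.toRingHom := by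
    refine Polynomial.ringHom_ext' (Polynomial.ringHom_ext' (RingHom.ext fun r => ?_) ?_) ?_
    · simp [← D.Φ_ρ, h]
    · simp [← D.Φ_a, ha]
    · simp [← D.Φ_b, hb]
  exact RingHom.ext fun x => by simpa using RingHom.congr_fun key (D.Φ x)

variable [GradedRing ℬ]

theorem mon_mem (r : R) (i j : ℕ) : D.ρ r * D.a ^ i * D.b ^ j ∈ ℬ (i + j) := by
  have := SetLike.mul_mem_graded (SetLike.mul_mem_graded (D.ρ_mem r) (SetLike.pow_mem_graded i D.a_mem))
    (SetLike.pow_mem_graded j D.b_mem)
  simpa using this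

include D in
/-- Every element of degree `n` is a sum of monomials of degree `n`. -/
theorem induction_deg {n : ℕ} {P : B → Prop} (h0 : P 0) (hadd : ∀ x y, P x → P y → P (x + y))
    (hmon : ∀ (r : R) (i j : ℕ), i + j = n → P (D.ρ r * D.a ^ i * D.b ^ j)) {x : B} (hx : x ∈ ℬ n) : P x := by
  classical
  suffices ∀ p : Polynomial (Polynomial R), P (DirectSum.decompose ℬ (D.Φ.symm p) n : B) by
    have := this (D.Φ x)
    rwa [RingEquiv.symm_apply_apply, DirectSum.decompose_of_mem_same ℬ hx] at this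
  intro p
  induction p using Polynomial.induction_on' with
  | add p q hp hq =>
    rw [map_add, DirectSum.decompose_add, DirectSum.add_apply, AddSubgroup.coe_add]
    exact hadd _ _ hp hq
  | monomial j c =>
    induction c using Polynomial.induction_on' with
    | add p q hp hq =>
      rw [map_add, map_add, DirectSum.decompose_add, DirectSum.add_apply, AddSubgroup.coe_add]
      exact hadd _ _ hp hq
    | monomial i r =>
      have e : D.Φ.symm (Polynomial.monomial j (Polynomial.monomial i r)) = D.ρ r * D.a ^ i * D.b ^ j := by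
        rw [RingEquiv.symm_apply_eq, map_mul, map_mul, map_pow, map_pow, D.Φ_ρ, D.Φ_a, D.Φ_b,
          ← map_pow, ← map_mul, Polynomial.C_mul_X_pow_eq_monomial, Polynomial.C_mul_X_pow_eq_monomial]
      rw [e]
      by_cases hn : i + j = n
      · subst hn
        rw [DirectSum.decompose_of_mem_same ℬ (D.mon_mem r i j)]
        exact hmon r i j rfl
      · rw [DirectSum.decompose_of_mem_ne ℬ (D.mon_mem r i j) hn]
        exact h0

include D in
theorem scale {χ χ' : B →+* T} {c : T} (h : ∀ r, χ' (D.ρ r) = χ (D.ρ r)) (ha : χ' D.a = c * χ D.a)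
    (hb : χ' D.b = c * χ D.b) {n : ℕ} {x : B} (hx : x ∈ ℬ n) : χ' x = c ^ n * χ x := by
  refine D.induction_deg (P := fun x => χ' x = c ^ n * χ x) (by simp) (fun x y hx hy => ?_) (fun r i j hn => ?_) hx
  · rw [map_add, map_add, hx, hy, mul_add]
  · subst hn
    rw [map_mul, map_mul, map_pow, map_pow, h, ha, hb, map_mul, map_mul, map_pow, map_pow]
    ring

variable {τ : Type u} [SetLike τ T] [AddSubgroupClass τ T] {𝒯 : ℕ → τ} [GradedRing 𝒯]

/-- The graded homomorphism with prescribed values on the generators. -/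
def gradedLift (g : R →+* T) (s t : T) (hg : ∀ r, g r ∈ 𝒯 0) (hs : s ∈ 𝒯 1) (ht : t ∈ 𝒯 1) : ℬ →+*ᵍ 𝒯 where
  __ := D.lift g s t
  map_mem {n} {x} hx := by
    refine D.induction_deg (P := fun x => D.lift g s t x ∈ 𝒯 n) (by rw [map_zero]; exact zero_mem _)
      (fun x y hx hy => by rw [map_add]; exact add_mem hx hy) (fun r i j hn => ?_) hx
    subst hn
    rw [map_mul, map_mul, map_pow, map_pow, lift_ρ, lift_a, lift_b]
    have := SetLike.mul_mem_graded (SetLike.mul_mem_graded (hg r) (SetLike.pow_mem_graded i hs))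
      (SetLike.pow_mem_graded j ht)
    simpa using this

@[simp] theorem gradedLift_apply (g : R →+* T) (s t : T) (hg : ∀ r, g r ∈ 𝒯 0) (hs : s ∈ 𝒯 1) (ht : t ∈ 𝒯 1)
    (x : B) : D.gradedLift g s t hg hs ht x = D.lift g s t x := rfl

omit [GradedRing ℬ] in
/-- `B_(a) → T`, setting `a = 1` and `b = t`. -/
def awayLift (g : R →+* T) (t : T) : Away ℬ D.a →+* T :=
  (IsLocalization.Away.lift (S := Localization.Away D.a) D.a (g := D.lift g 1 t) (by simp)).comp
    (algebraMap (Away ℬ D.a) (Localization.Away D.a))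

/-- If `T = R[t]` then `B_(a) = T`. -/
theorem awayLift_bijective (g : R →+* T) (t : T) (ψ : T ≃+* Polynomial R)
    (hg : ∀ r, ψ (g r) = Polynomial.C r) (ht : ψ t = Polynomial.X) : Function.Bijective (D.awayLift g t) := by
  let L := Localization.Away D.a
  let F : L := algebraMap B L D.a
  have hF : IsUnit F := IsLocalization.Away.algebraMap_isUnit D.a
  let ρ' : R →+* Away ℬ D.a := (fromZeroRingHom ℬ (Submonoid.powers D.a)).comp
    { toFun := fun r => ⟨D.ρ r, D.ρ_mem r⟩
      map_one' := Subtype.ext (map_one _)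
      map_mul' := fun x y => Subtype.ext (map_mul _ x y)
      map_zero' := Subtype.ext (map_zero _)
      map_add' := fun x y => Subtype.ext (map_add _ x y) }
  let q : Away ℬ D.a := Away.mk ℬ D.a_mem 1 D.b (by simpa using D.b_mem)
  let γ : T →+* Away ℬ D.a := (Polynomial.eval₂RingHom ρ' q).comp ψ.toRingHom
  have hρ' : ∀ r, (ρ' r).val = algebraMap B L (D.ρ r) := fun r => by
    exact (val_mk _).trans (Localization.mk_one_eq_algebraMap _)
  have hq : q.val * F = algebraMap B L D.b := by
    simpa using ConeFib.val_mk_eq D.a_mem 1 D.b (by simpa using D.b_mem)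
  have hlift : ∀ x, IsLocalization.Away.lift (S := L) D.a (g := D.lift g 1 t) (by simp) (algebraMap B L x) =
      D.lift g 1 t x := fun x => IsLocalization.Away.lift_eq _ _ x
  constructor
  · refine Function.LeftInverse.injective (g := γ) fun y => ?_
    obtain ⟨n, x, hx, rfl⟩ := Away.mk_surjective ℬ D.a_mem y
    refine val_injective _ ((hF.pow n).mul_right_cancel ?_)
    rw [ConeFib.val_mk_eq D.a_mem n x hx]
    have e : D.awayLift g t (Away.mk ℬ D.a_mem n x hx) = D.lift g 1 t x := by
      have := congrArg (IsLocalization.Away.lift (S := L) D.a (g := D.lift g 1 t) (by simp))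
        (ConeFib.val_mk_eq D.a_mem n x hx)
      rw [map_mul, map_pow, hlift, hlift] at this
      simp only [lift_a, one_pow, mul_one] at this
      exact this
    rw [e]
    refine D.induction_deg (P := fun x => (γ (D.lift g 1 t x)).val * F ^ n = algebraMap B L x) ?_
      (fun x y hx hy => ?_) (fun r i j hn => ?_) (by simpa using hx)
    · simp
    · rw [map_add, map_add, val_add, add_mul, hx, hy, map_add]
    · subst hn
      simp only [map_mul, map_pow, lift_ρ, lift_a, lift_b, one_pow, mul_one]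
      simp only [γ, RingHom.comp_apply, RingEquiv.toRingHom_eq_coe, RingEquiv.coe_toRingHom, hg, ht,
        Polynomial.coe_eval₂RingHom, Polynomial.eval₂_C, Polynomial.eval₂_X, val_mul, val_pow]
      rw [hρ', ← hq]
      ring
  · intro w
    obtain ⟨p, rfl⟩ := ψ.symm.surjective w
    induction p using Polynomial.induction_on' with
    | add p q hp hq =>
      obtain ⟨x, hx⟩ := hp
      obtain ⟨y, hy⟩ := hq
      exact ⟨x + y, by rw [map_add, map_add, hx, hy]⟩
    | monomial n r =>
      refine ⟨ρ' r * q ^ n, ψ.injective ?_⟩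
      have e1 : D.awayLift g t (ρ' r) = g r := by
        change IsLocalization.Away.lift (S := L) D.a (g := D.lift g 1 t) (by simp) (ρ' r).val = _
        rw [hρ', hlift, lift_ρ]
      have e2 : D.awayLift g t q = t := by
        have := congrArg (IsLocalization.Away.lift (S := L) D.a (g := D.lift g 1 t) (by simp)) hq
        rw [map_mul, hlift, hlift] at this
        simp only [lift_a, lift_b, mul_one] at this
        exact this
      rw [map_mul, map_pow, e1, e2, RingEquiv.apply_symm_apply, map_mul, map_pow, hg, ht,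
        Polynomial.C_mul_X_pow_eq_monomial]

end TwoGen

section scaled

variable {A B : Type u} [CommRing A] [CommRing B] {𝒜 : ℕ → AddSubgroup A} [GradedRing 𝒜]
  {ℬ : ℕ → AddSubgroup B} [GradedRing ℬ]

/-- Rescaling a graded homomorphism by a unit does not change the morphism of homogeneous spectra. -/
theorem proj_map_scaled (χ χ' : 𝒜 →+*ᵍ ℬ) (h : ℬ₊ ≤ (𝒜₊).map χ) (h' : ℬ₊ ≤ (𝒜₊).map χ') (c : Bˣ)
    (hc : (c⁻¹ : Bˣ).1 ∈ ℬ 0) (hχ : ∀ (n : ℕ) (a : A), a ∈ 𝒜 n → χ' a = c.1 ^ n * χ a) :
    Proj.map χ' h' = Proj.map χ h := by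
  refine (Proj.mapAffineOpenCover χ h).openCover.hom_ext _ _ fun s => ?_
  simp only [Scheme.AffineOpenCover.openCover_f, Proj.mapAffineOpenCover_f]
  suffices H : ∀ (d : ℕ) (hd : 0 < d) (f : A) (hf : f ∈ 𝒜 d),
      Proj.awayι ℬ (χ f) (χ.2 hf) hd ≫ Proj.map χ' h' = Proj.awayι ℬ (χ f) (χ.2 hf) hd ≫ Proj.map χ h from
    H s.1 s.1.2 s.2 s.2.2
  intro d hd f hf
  have hcd : (c⁻¹ : Bˣ).1 ^ d ∈ ℬ 0 := by simpa using SetLike.pow_mem_graded d hc
  have hx : χ f = χ' f * (c⁻¹ : Bˣ).1 ^ d := by
    rw [hχ d f hf, mul_comm _ (χ f), mul_assoc, ← mul_pow, Units.mul_inv, one_pow, mul_one]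
  have key : (awayMap ℬ hcd hx).comp (Away.map χ' f) = Away.map χ f := by
    refine RingHom.ext fun q => ?_
    obtain ⟨n, a, ha, rfl⟩ := Away.mk_surjective 𝒜 hf q
    refine val_injective _ ?_
    rw [RingHom.comp_apply, Away.map_mk _ _ _ _ _ ha, Away.map_mk _ _ _ _ _ ha]
    refine ((IsLocalization.Away.algebraMap_isUnit (S := Localization.Away (χ f)) (χ f)).pow n).mul_right_cancel ?_
    refine Eq.trans ?_ (val_mk_mul_pow (χ.2 hf) n (χ a) (χ.2 ha)).symm
    obtain ⟨v, hv⟩ : ∃ v, (Away.mk ℬ (χ'.2 hf) n (χ' a) (χ'.2 ha)).val = v := ⟨_, rfl⟩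
    have h1 := congrArg (Localization.awayLift (algebraMap B (Localization.Away (χ f))) _
      (isUnit_of_dvd_unit (map_dvd _ ⟨_, hx⟩) (IsLocalization.Away.algebraMap_isUnit (χ f))))
      (val_mk_mul_pow (χ'.2 hf) n (χ' a) (χ'.2 ha))
    rw [map_mul, map_pow, ← val_awayMap ℬ hcd hx] at h1
    have key2 : ∀ y, Localization.awayLift (algebraMap B (Localization.Away (χ f))) (χ' f)
        (isUnit_of_dvd_unit (map_dvd _ ⟨_, hx⟩) (IsLocalization.Away.algebraMap_isUnit (χ f)))
        (algebraMap B (Localization.Away (χ' f)) y) = algebraMap B (Localization.Away (χ f)) y :=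
      fun y => IsLocalization.Away.lift_eq _ _ y
    replace h1 : (awayMap ℬ hcd hx (Away.mk ℬ (χ'.2 hf) n (χ' a) (χ'.2 ha))).val *
        algebraMap B (Localization.Away (χ f)) (χ' f) ^ n = algebraMap B _ (χ' a) :=
      (congrArg (fun u => _ * u ^ n) (key2 _).symm).trans (h1.trans (key2 _))
    rw [show algebraMap B (Localization.Away (χ f)) (χ f) =
        algebraMap B _ (χ' f) * algebraMap B _ ((c⁻¹ : Bˣ).1 ^ d) by rw [← map_mul, ← hx],
      mul_pow, ← mul_assoc, h1, ← map_pow, ← map_mul]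
    refine congrArg _ ?_
    rw [hχ (n • d) a ha, smul_eq_mul, ← pow_mul, Nat.mul_comm d n, mul_comm _ (χ a), mul_assoc, ← mul_pow,
      Units.mul_inv, one_pow, mul_one]
  have e := Proj.SpecMap_awayMap_awayι ℬ (χ'.2 hf) hd hcd hx
  rw [Proj.awayι_comp_map χ h hd f hf, ← key, CommRingCat.ofHom_comp, Spec.map_comp_assoc,
    ← Proj.awayι_comp_map χ' h' hd f hf]
  exact ((Category.assoc _ _ _).symm.trans (congrArg (· ≫ Proj.map χ' h') e)).symm

end scaled

end Groth.Agent.EGAProj74
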