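import Groth.Agent.EGAProj74.ClosedSubProj
import Groth.Agent.Var76.ProjCoord
import Groth.Agent.GrSerre43.Normal
import Groth.Agent.Curves2.ProjLineProper
import Mathlib.AlgebraicGeometry.Artinian
import Mathlib.RingTheory.Polynomial.UniqueFactorization

/-!
Quadrics on a zero-dimensional closed subscheme which spans all but one dimension in degree one.
-/

set_option autoImplicit false
set_option backward.isDefEq.respectTransparency false

universe u

open CategoryTheory CategoryTheory.Limits AlgebraicGeometry TopologicalSpace Opposite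

noncomputable section

namespace Groth.Agent.EGAProj74.TwoSurj

open Groth.Agent.Amp73 Var76.LineBundle Var76.BertiniScheme

section algebra

variable {k A : Type*} [Field k] [CommRing A] [Algebra k A] {ι : Type*}

/-- A separating family spanning a hyperplane has all products spanning everything. -/
theorem span_mul_eq_top (a : ι → A) (v : A) (hspan : ∀ x, ∃ w ∈ Submodule.span k (Set.range a), ∃ t : k, x = w + t • v)
    (hgen : Ideal.span (Set.range a) = ⊤)
    (hsep : ∀ (J : Ideal A) (j : ι) (c : ι → k), IsUnit (Ideal.Quotient.mk J (a j)) →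
      (∀ l, a l - c l • a j ∈ J) → ∀ x : A, ∃ b : k, x - algebraMap k A b ∈ J) :
    Submodule.span k (Set.range fun p : ι × ι => a p.1 * a p.2) = ⊤ := by
  by_contra hne
  obtain ⟨φ, hφ, hker⟩ := Submodule.exists_le_ker_of_lt_top _ (lt_top_iff_ne_top.2 hne)
  let W := Submodule.span k (Set.range a)
  have hWW : ∀ w ∈ W, ∀ w' ∈ W, φ (w * w') = 0 := by
    intro w hw w' hw'
    induction hw using Submodule.span_induction with
    | mem x hx =>
      obtain ⟨i, rfl⟩ := hx
      induction hw' using Submodule.span_induction with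
      | mem y hy =>
        obtain ⟨j, rfl⟩ := hy
        exact hker (Submodule.subset_span ⟨(i, j), rfl⟩)
      | zero => simp
      | add x y _ _ hx hy => rw [mul_add, map_add, hx, hy, add_zero]
      | smul c x _ hx => rw [mul_smul_comm, map_smul, hx, smul_zero]
    | zero => simp
    | add x y _ _ hx hy => rw [add_mul, map_add, hx, hy, add_zero]
    | smul c x _ hx => rw [smul_mul_assoc, map_smul, hx, smul_zero]
  let J : Ideal A :=
    { carrier := {x | ∀ y, φ (x * y) = 0}
      add_mem' := fun {x y} hx hy z => by rw [add_mul, map_add, hx z, hy z, add_zero]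
      zero_mem' := fun z => by simp
      smul_mem' := fun c x hx z => by rw [smul_eq_mul, mul_comm c, mul_assoc]; exact hx _ }
  have hJ : ∀ x ∈ J, φ x = 0 := fun x hx => by simpa using hx 1
  have hone : (1 : A) ∉ J := fun h => hφ (LinearMap.ext fun x => by simpa using h x)
  have hi : ∀ i, a i ∈ W := fun i => Submodule.subset_span ⟨i, rfl⟩
  have hrel : ∀ i j, φ (a i * v) • a j - φ (a j * v) • a i ∈ J := fun i j y => by
    obtain ⟨w, hw, t, rfl⟩ := hspan y
    simp only [sub_mul, mul_add, smul_mul_assoc, mul_smul_comm, map_sub, map_add, map_smul, hWW _ (hi i) w hw,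
      hWW _ (hi j) w hw, smul_eq_mul]
    ring
  by_cases hz : ∀ i, φ (a i * v) = 0
  · refine hone ((hgen.symm.le.trans (Ideal.span_le.2 ?_)) trivial)
    rintro _ ⟨i, rfl⟩ y
    obtain ⟨w, hw, t, rfl⟩ := hspan y
    rw [mul_add, map_add, mul_smul_comm, map_smul, hWW _ (hi i) w hw, hz i, smul_zero, add_zero]
  push Not at hz
  obtain ⟨j, hj⟩ := hz
  let c : ι → k := fun l => φ (a l * v) / φ (a j * v)
  have hc : ∀ l, a l - c l • a j ∈ J := fun l => by
    have h := J.mul_mem_left (algebraMap k A (φ (a j * v))⁻¹) (hrel j l)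
    rw [← Algebra.smul_def, smul_sub, smul_smul, smul_smul, inv_mul_cancel₀ hj, one_smul] at h
    simpa [c, div_eq_inv_mul] using h
  have hunit : IsUnit (Ideal.Quotient.mk J (a j)) := by
    have h : Ideal.span (Set.range a) ≤ Ideal.span {a j} ⊔ J := by
      refine Ideal.span_le.2 ?_
      rintro _ ⟨l, rfl⟩
      rw [show a l = c l • a j + (a l - c l • a j) by abel]
      refine Submodule.add_mem_sup ?_ (hc l)
      rw [Algebra.smul_def]
      exact Ideal.mul_mem_left _ _ (Ideal.subset_span rfl)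
    have h1 : (1 : A) ∈ Ideal.span {a j} ⊔ J := h (hgen.symm.le trivial)
    obtain ⟨x, hx, y, hy, hxy⟩ := Submodule.mem_sup.1 h1
    obtain ⟨z, rfl⟩ := Ideal.mem_span_singleton'.1 hx
    refine IsUnit.of_mul_eq_one (Ideal.Quotient.mk J z) ?_
    rw [← map_mul, mul_comm, ← sub_eq_zero, ← map_one (Ideal.Quotient.mk J), ← map_sub, Ideal.Quotient.eq_zero_iff_mem,
      show z * a j - 1 = -y by rw [← hxy]; ring]
    exact J.neg_mem hy
  obtain ⟨b, hb⟩ := hsep J j c hunit hc (a j)
  have hb0 : b ≠ 0 := by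
    rintro rfl
    rw [map_zero, sub_zero, ← Ideal.Quotient.eq_zero_iff_mem] at hb
    rw [hb, isUnit_zero_iff] at hunit
    exact hone (Ideal.Quotient.eq_zero_iff_mem.1 (by rw [map_one]; exact hunit.symm))
  have hφ1 : φ 1 = 0 := by
    have h : a j * a j - algebraMap k A (b * b) ∈ J := by
      rw [show a j * a j - algebraMap k A (b * b) = (a j + algebraMap k A b) * (a j - algebraMap k A b) by
        rw [map_mul]; ring]
      exact J.mul_mem_left _ hb
    have h' := hJ _ h
    rw [map_sub, hWW _ (hi j) _ (hi j), zero_sub, neg_eq_zero, Algebra.algebraMap_eq_smul_one, map_smul,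
      smul_eq_zero] at h'
    exact h'.resolve_left (mul_ne_zero hb0 hb0)
  refine hφ (LinearMap.ext fun x => ?_)
  obtain ⟨b', hb'⟩ := hsep J j c hunit hc x
  have h' := hJ _ hb'
  rw [map_sub, Algebra.algebraMap_eq_smul_one, map_smul, hφ1, smul_zero, sub_zero] at h'
  exact h'

end algebra

variable {k : Type u} [Field k] {N : ℕ}

open ClosedSubProj (D hX frame)

theorem exists_globalOf_eq (m : ℕ) (s : Γ(Twist.twist (CohB1.polyGrading N k) (m : ℤ), ⊤)) :
    ∃ G : CohB1.polyGrading N k m, Twist.globalOf (CohB1.polyGrading N k) G = s := by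
  refine (GrSerre43.normal_bijective (CohB1.polyGrading N k) ?_
    (UniqueFactorizationMonoid.instIsIntegrallyClosed) m).2 s
  intro h
  have h0 := (ClosedSubProj.hX (R := k) (n := N) 0)
  rw [h, Submodule.mem_bot] at h0
  exact MvPolynomial.X_ne_zero _ h0

theorem const_top (W : (CohB1.ProjSpace N k).Opens) (c : k) :
    (CohB1.ProjSpace N k).presheaf.map (homOfLE (le_top : W ≤ ⊤)).op (const (k := k) (CohB1.ProjSpace N k) ⊤ c) =
      const (k := k) (CohB1.ProjSpace N k) W c := by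
  simp only [const, ← ConcreteCategory.comp_apply, ← CommRingCat.comp_apply, Category.assoc, Scheme.Hom.appLE_map]

variable {Z : Scheme.{u}} (i : Z ⟶ Proj (CohB1.polyGrading N k))

/-- The constants on the subscheme. -/
def kappa : k →+* Γ(Z, ⊤) :=
  (i.app ⊤).hom.comp (const (k := k) (CohB1.ProjSpace N k) ⊤)

theorem res_kappa (j : Fin (N + 1)) (c : k) :
    Z.presheaf.map (homOfLE (le_top : i ⁻¹ᵁ D k j ≤ ⊤)).op (kappa i c) =
      i.app (D k j) (const (k := k) (CohB1.ProjSpace N k) (D k j) c) := by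
  rw [← const_top (D k j) c]
  exact congr($(i.naturality (homOfLE (le_top : D k j ≤ ⊤)).op) (const (k := k) (CohB1.ProjSpace N k) ⊤ c)).symm

/-- The inverse image of a global section. -/
def psec {m : ℕ} (s : Γ(Twist.twist (CohB1.polyGrading N k) (m : ℤ), ⊤)) :
    Γ((Scheme.Modules.pullback i).obj (Twist.twist (CohB1.polyGrading N k) (m : ℤ)), ⊤) :=
  pullS i (Twist.twist (CohB1.polyGrading N k) (m : ℤ)) ⊤ s

theorem psec_add {m : ℕ} (s t : Γ(Twist.twist (CohB1.polyGrading N k) (m : ℤ), ⊤)) :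
    psec i (s + t) = psec i s + psec i t :=
  map_add _ _ _

theorem psec_smul {m : ℕ} (c : k) (s : Γ(Twist.twist (CohB1.polyGrading N k) (m : ℤ), ⊤)) :
    psec i (const (k := k) (CohB1.ProjSpace N k) ⊤ c • s) = kappa i c • psec i s :=
  pullS_smul i _ _ _ _

theorem psec_sum {m : ℕ} {α : Type*} (T : Finset α) (s : α → Γ(Twist.twist (CohB1.polyGrading N k) (m : ℤ), ⊤)) :
    psec i (∑ l ∈ T, s l) = ∑ l ∈ T, psec i (s l) :=
  map_sum (((Scheme.Modules.pullbackPushforwardAdjunction i).unit.app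
    (Twist.twist (CohB1.polyGrading N k) (m : ℤ))).app ⊤).hom _ _

/-- A form as a global section. -/
def gsec {m : ℕ} (G : CohB1.polyGrading N k m) : Γ(Twist.twist (CohB1.polyGrading N k) (m : ℤ), ⊤) :=
  Twist.globalOf (CohB1.polyGrading N k) G

theorem gsec_zero {m : ℕ} : gsec (N := N) (k := k) (m := m) 0 = 0 :=
  Subtype.ext (funext fun _ => Subtype.ext (Localization.mk_zero _))

theorem globalOf_add {m : ℕ} (G H : CohB1.polyGrading N k m) : gsec (G + H) = gsec G + gsec H :=
  Subtype.ext (funext fun _ => Subtype.ext (Localization.add_mk_self _ _ _).symm)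

set_option maxHeartbeats 800000 in
-- unfolding the points of `Proj`
theorem globalOf_smul {m : ℕ} (c : k) (G : CohB1.polyGrading N k m) :
    gsec (c • G) = const (k := k) (CohB1.ProjSpace N k) ⊤ c • gsec G := by
  refine Subtype.ext (funext fun x => Subtype.ext ?_)
  refine Eq.trans ?_ (Twist.coe_smul_val _ x.1 _ _).symm
  obtain ⟨j, hj⟩ := FormProj.exists_mem_basicOpen_X (R := k) (n := N) x.1
  have hc : ((const (k := k) (CohB1.ProjSpace N k) ⊤ c).1 x).val =
      Localization.mk (MvPolynomial.C c) (1 : x.1.asHomogeneousIdeal.toIdeal.primeCompl) := by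
    have h := congr(CommRingCat.Hom.hom $(Var76.ProjCoord.const_eq k N j) c)
    exact (congrArg (fun s => (s.1 ⟨x.1, hj⟩).val) (const_top (D k j) c)).trans
      (congrArg (fun s => (s.1 ⟨x.1, hj⟩).val) h)
  rw [hc]
  show Localization.mk (c • (G : MvPolynomial (Fin (N + 1)) k)) _ = Localization.mk _ _ * Localization.mk _ _
  rw [Localization.mk_mul, MvPolynomial.smul_eq_C_mul]
  congr 1
  exact Subtype.ext (mul_one _).symm

/-- The inverse image of a form. -/
def pform {m : ℕ} (G : CohB1.polyGrading N k m) :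
    Γ((Scheme.Modules.pullback i).obj (Twist.twist (CohB1.polyGrading N k) (m : ℤ)), ⊤) :=
  psec i (gsec G)

theorem pform_sum {m : ℕ} {α : Type*} (T : Finset α) (c : α → k) (G : α → CohB1.polyGrading N k m) :
    pform i (∑ l ∈ T, c l • G l) = ∑ l ∈ T, kappa i (c l) • pform i (G l) := by
  classical
  induction T using Finset.induction_on with
  | empty =>
    simp only [Finset.sum_empty]
    rw [pform, gsec_zero]
    exact map_zero _
  | @insert a T ha ih =>
    rw [Finset.sum_insert ha, Finset.sum_insert ha, ← ih]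
    simp only [pform]
    rw [globalOf_add, psec_add, globalOf_smul, psec_smul]

/-- The frame `X_j ^ m` on the chart of the subscheme. -/
def eloc (m : ℕ) (j : Fin (N + 1)) :
    Γ((Scheme.Modules.pullback i).obj (Twist.twist (CohB1.polyGrading N k) (m : ℤ)), i ⁻¹ᵁ D k j) :=
  pullS i (Twist.twist (CohB1.polyGrading N k) (m : ℤ)) (D k j) (frame k m j)

theorem isFrame_eloc (m : ℕ) (j : Fin (N + 1)) :
    IsFrame ((Scheme.Modules.pullback i).obj (Twist.twist (CohB1.polyGrading N k) (m : ℤ))) (i ⁻¹ᵁ D k j)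
      (eloc i m j) :=
  isFrame_pullS i (Var76.Reg.isInvertible_twist (n := N) (A := k) (m : ℤ)) (ClosedSubProj.isFrame_frame m j)

theorem res_pform {m : ℕ} (G : CohB1.polyGrading N k m) (j : Fin (N + 1)) :
    res ((Scheme.Modules.pullback i).obj (Twist.twist (CohB1.polyGrading N k) (m : ℤ)))
        (le_top : i ⁻¹ᵁ D k j ≤ ⊤) (pform i G) = ClosedSubProj.coeff i G j • eloc i m j :=
  ClosedSubProj.res_pullSec i G j

/-- One frame for each degree, built from a choice of charts at the points. -/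
theorem exists_global_frame [DiscreteTopology Z] (jc : Z → Fin (N + 1)) (hjc : ∀ z, i z ∈ D k (jc z)) (m : ℕ) :
    ∃ e : Γ((Scheme.Modules.pullback i).obj (Twist.twist (CohB1.polyGrading N k) (m : ℤ)), ⊤),
      IsFrame _ ⊤ e ∧ ∀ (z : Z) (V : Z.Opens) (hV : V ≤ i ⁻¹ᵁ D k (jc z)), (V : Set Z) ⊆ {z} →
        res _ (le_top : V ≤ ⊤) e = res _ hV (eloc i m (jc z)) := by
  let M := (Scheme.Modules.pullback i).obj (Twist.twist (CohB1.polyGrading N k) (m : ℤ))
  let pt : Z → Z.Opens := fun z => ⟨{z}, isOpen_discrete _⟩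
  have hpt : ∀ z, pt z ≤ i ⁻¹ᵁ D k (jc z) := fun z w hw => by rw [show w = z from hw]; exact hjc z
  obtain ⟨e, he, -⟩ := TopCat.Sheaf.existsUnique_gluing' ⟨M.presheaf, M.isSheaf⟩ pt ⊤ (fun _ => homOfLE le_top)
    (fun z _ => Opens.mem_iSup.mpr ⟨z, rfl⟩) (fun z => res M (hpt z) (eloc i m (jc z))) (fun z w => by
      by_cases h : z = w
      · subst h; rfl
      · refine TopCat.Sheaf.eq_of_locally_eq' (F := ⟨M.presheaf, M.isSheaf⟩)
          (fun x : Empty => (⊥ : Z.Opens)) _ (fun x => x.elim) ?_ _ _ (fun x => x.elim)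
        intro x hx
        exact absurd ((show x = z from hx.1).symm.trans (show x = w from hx.2)) h)
  have hres : ∀ z, res M (le_top : pt z ≤ ⊤) e = res M (hpt z) (eloc i m (jc z)) := he
  refine ⟨e, isFrame_of_locally _ fun z _ => ⟨pt z, le_top, rfl, ?_⟩, fun z V hV hVz => ?_⟩
  · rw [hres z]
    intro V hV
    have h := isFrame_eloc i m (jc z) V (hV.trans (hpt z))
    have e' : res M hV (res M (hpt z) (eloc i m (jc z))) = res M (hV.trans (hpt z)) (eloc i m (jc z)) :=
      Groth.Agent.Var76.LineBundle.res_res M (hpt z) hV _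
    show Function.Bijective fun a => a • res M hV (res M (hpt z) (eloc i m (jc z)))
    rw [e']
    exact h
  · rw [← Groth.Agent.Var76.LineBundle.res_res _ (le_top : pt z ≤ ⊤) (show V ≤ pt z from hVz), hres z, res_res]

theorem coeff_mul {a b : ℕ} (G : CohB1.polyGrading N k a) (H : CohB1.polyGrading N k b) (j : Fin (N + 1))
    (hGH : (G : MvPolynomial (Fin (N + 1)) k) * H ∈ CohB1.polyGrading N k (a + b)) :
    ClosedSubProj.coeff i ⟨_, hGH⟩ j = ClosedSubProj.coeff i G j * ClosedSubProj.coeff i H j := by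
  rw [ClosedSubProj.coeff, ClosedSubProj.coeff, ClosedSubProj.coeff, ← map_mul, FracSections.scal_mul]

theorem coeff_self (j : Fin (N + 1)) :
    ClosedSubProj.coeff i ⟨MvPolynomial.X j, hX j⟩ j = 1 := by
  rw [ClosedSubProj.coeff, ← map_one (i.app (D k j)).hom, ← FracSections.scal_self (hX j) one_pos 1]
  exact ClosedSubProj.app_scal_eq_of_mul i _ _ (by simp)

theorem awayToSection_frac (j l : Fin (N + 1)) :
    Proj.awayToSection (CohB1.polyGrading N k) (MvPolynomial.X j)
        (Var76.ProjCoord.frac k N j (Var76.ProjCoord.X₁ k N l)) =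
      FracSections.scal (hX j) one_pos 1 (b := MvPolynomial.X l) (by rw [mul_one]; exact hX l) := by
  refine FracSections.ext_val fun x => ?_
  refine Eq.trans ?_ (FracSections.scal_val _ _ _ _ x).symm
  show Localization.mk (MvPolynomial.X l : MvPolynomial (Fin (N + 1)) k) _ = Localization.mk _ _
  congr 1
  exact Subtype.ext (pow_one _).symm

set_option maxHeartbeats 1600000 in
-- many dependent chart computations
theorem surjective_two [IsClosedImmersion i] (hdim : topologicalKrullDim Z ≤ 0)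
    (hcodim : ∃ v : Γ((Scheme.Modules.pullback i).obj (Twist.twist (CohB1.polyGrading N k) ((1 : ℕ) : ℤ)), ⊤),
      ∀ t, ∃ (s : Γ(Twist.twist (CohB1.polyGrading N k) ((1 : ℕ) : ℤ), ⊤)) (c : k),
        t = psec i s + kappa i c • v)
    (t : Γ((Scheme.Modules.pullback i).obj (Twist.twist (CohB1.polyGrading N k) ((2 : ℕ) : ℤ)), ⊤)) :
    ∃ s : Γ(Twist.twist (CohB1.polyGrading N k) ((2 : ℕ) : ℤ), ⊤), psec i s = t := by
  classical
  have : IsProper (CohB1.ProjSpace.toSpec N k) := Curves2.ProjLine.isProper_toSpec k N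
  have : IsLocallyNoetherian (CohB1.ProjSpace N k) :=
    LocallyOfFiniteType.isLocallyNoetherian (CohB1.ProjSpace.toSpec N k)
  have : IsLocallyNoetherian (Proj (CohB1.polyGrading N k)) := ‹IsLocallyNoetherian (CohB1.ProjSpace N k)›
  have : IsLocallyNoetherian Z := LocallyOfFiniteType.isLocallyNoetherian i
  have := IsLocallyArtinian.of_topologicalKrullDim_le_zero hdim
  have : CompactSpace (Proj (CohB1.polyGrading N k)) :=
    QuasiCompact.compactSpace_of_compactSpace (CohB1.ProjSpace.toSpec N k)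
  have : CompactSpace Z := QuasiCompact.compactSpace_of_compactSpace i
  have : IsArtinianScheme Z := ⟨⟩
  choose jc hjc using fun z : Z => FormProj.exists_mem_basicOpen_X (R := k) (n := N) (i z)
  obtain ⟨e₁, he₁, he₁'⟩ := exists_global_frame i jc hjc 1
  obtain ⟨e₂, he₂, he₂'⟩ := exists_global_frame i jc hjc 2
  let M₁ := (Scheme.Modules.pullback i).obj (Twist.twist (CohB1.polyGrading N k) ((1 : ℕ) : ℤ))
  let M₂ := (Scheme.Modules.pullback i).obj (Twist.twist (CohB1.polyGrading N k) ((2 : ℕ) : ℤ))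
  have hb₁ : Function.Bijective fun a : Γ(Z, ⊤) => a • e₁ := by simpa only [res_self] using he₁ ⊤ le_rfl
  have hb₂ : Function.Bijective fun a : Γ(Z, ⊤) => a • e₂ := by simpa only [res_self] using he₂ ⊤ le_rfl
  choose a ha using fun l => hb₁.2 (pform i (m := 1) ⟨MvPolynomial.X l, hX l⟩)
  dsimp only at ha
  let pt : Z → Z.Opens := fun z => ⟨{z}, isOpen_discrete _⟩
  have hpt : ∀ z, pt z ≤ i ⁻¹ᵁ D k (jc z) := fun z w hw => by rw [show w = z from hw]; exact hjc z
  have hpt' : ∀ (z : Z) (l : Fin (N + 1)), Z.presheaf.map (homOfLE (le_top : pt z ≤ ⊤)).op (a l) =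
      Z.presheaf.map (homOfLE (hpt z)).op (ClosedSubProj.coeff i ⟨MvPolynomial.X l, hX l⟩ (jc z)) := by
    intro z l
    refine ((isFrame_eloc i 1 (jc z)) (pt z) (hpt z)).1 ?_
    have h := congrArg (res M₁ (le_top : pt z ≤ ⊤)) (ha l)
    rw [res_smul, he₁' z (pt z) (hpt z) subset_rfl, ← Groth.Agent.Var76.LineBundle.res_res _ (le_top : i ⁻¹ᵁ D k (jc z) ≤ ⊤) (hpt z),
      res_pform, res_smul] at h
    exact h
  have hbasic : ∀ j, Z.basicOpen (a j) = i ⁻¹ᵁ D k j := by
    intro j
    ext z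
    have e1 : z ∈ Z.basicOpen (a j) ↔ z ∈ Z.basicOpen (Z.presheaf.map (homOfLE (le_top : pt z ≤ ⊤)).op (a j)) := by
      rw [Scheme.basicOpen_res]
      exact ⟨fun h => ⟨rfl, h⟩, fun h => h.2⟩
    have e2 : z ∈ Z.basicOpen (Z.presheaf.map (homOfLE (hpt z)).op
        (ClosedSubProj.coeff i ⟨MvPolynomial.X j, hX j⟩ (jc z))) ↔ i z ∈ D k j := by
      rw [Scheme.basicOpen_res, ClosedSubProj.basicOpen_coeff_one]
      exact ⟨fun h => h.2.2, fun h => ⟨rfl, hjc z, h⟩⟩
    rw [SetLike.mem_coe, e1, hpt', e2]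
    rfl
  have hgen : Ideal.span (Set.range a) = ⊤ := by
    rw [← (isAffineOpen_top Z).iSup_basicOpen_eq_self_iff]
    refine top_le_iff.mp fun z _ => Opens.mem_iSup.mpr ⟨⟨a (jc z), _, rfl⟩, ?_⟩
    rw [hbasic]
    exact hjc z
  let : Algebra k Γ(Z, ⊤) := (kappa i).toAlgebra
  have halg : ∀ (c : k) (x : Γ(Z, ⊤)), c • x = kappa i c * x := fun c x => rfl
  obtain ⟨v, hv⟩ := hcodim
  obtain ⟨v', rfl⟩ := hb₁.2 v
  dsimp only at hv
  have hspan : ∀ x, ∃ w ∈ Submodule.span k (Set.range a), ∃ t : k, x = w + t • v' := by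
    intro x
    obtain ⟨s, c, hs⟩ := hv (x • e₁)
    obtain ⟨G, rfl⟩ := exists_globalOf_eq 1 s
    obtain ⟨cl, hcl⟩ : ∃ cl : Fin (N + 1) → k, ∑ l, cl l • (⟨MvPolynomial.X l, hX l⟩ : CohB1.polyGrading N k 1) = G := by
      have hG : (G : MvPolynomial (Fin (N + 1)) k) ∈
          Submodule.span k (Set.range (MvPolynomial.X : Fin (N + 1) → MvPolynomial (Fin (N + 1)) k)) := by
        rw [← MvPolynomial.homogeneousSubmodule_one_eq_span_X]
        exact G.2
      obtain ⟨cl, hcl⟩ := (Submodule.mem_span_range_iff_exists_fun k).1 hG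
      exact ⟨cl, Subtype.ext (by simp [hcl])⟩
    refine ⟨∑ l, cl l • a l, Submodule.sum_mem _ fun l _ => Submodule.smul_mem _ _
      (Submodule.subset_span ⟨l, rfl⟩), c, hb₁.1 ?_⟩
    show x • e₁ = (∑ l, cl l • a l + c • v') • e₁
    refine hs.trans ?_
    rw [add_smul, halg, mul_smul]
    congr 1
    show pform i G = _
    rw [← hcl, pform_sum, Finset.sum_smul]
    exact Finset.sum_congr rfl fun l _ => by rw [halg, mul_smul, ha l]
  have hsep : ∀ (J : Ideal Γ(Z, ⊤)) (j : Fin (N + 1)) (c : Fin (N + 1) → k), IsUnit (Ideal.Quotient.mk J (a j)) →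
      (∀ l, a l - c l • a j ∈ J) → ∀ x : Γ(Z, ⊤), ∃ b : k, x - algebraMap k Γ(Z, ⊤) b ∈ J := by
    intro J j c hunit hc x
    have hloc := (isAffineOpen_top Z).isLocalization_basicOpen (a j)
    let ψ₀ : Γ(Z, Z.basicOpen (a j)) →+* Γ(Z, ⊤) ⧸ J :=
      @IsLocalization.Away.lift _ _ _ _ _ _ _ (a j) hloc _ hunit
    let ψ : Γ(Z, i ⁻¹ᵁ D k j) →+* Γ(Z, ⊤) ⧸ J :=
      ψ₀.comp (Z.presheaf.map (homOfLE (hbasic j).le).op).hom
    have hψ : ∀ y : Γ(Z, ⊤), ψ (Z.presheaf.map (homOfLE (le_top : i ⁻¹ᵁ D k j ≤ ⊤)).op y) = Ideal.Quotient.mk J y := by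
      intro y
      show ψ₀ ((Z.presheaf.map (homOfLE (hbasic j).le).op).hom _) = _
      rw [← ConcreteCategory.comp_apply, ← Functor.map_comp]
      exact @IsLocalization.Away.lift_eq _ _ _ _ _ _ _ (a j) hloc _ hunit y
    have hrel : ∀ l, ClosedSubProj.coeff i ⟨MvPolynomial.X l, hX l⟩ j *
        Z.presheaf.map (homOfLE (le_top : i ⁻¹ᵁ D k j ≤ ⊤)).op (a j) =
          Z.presheaf.map (homOfLE (le_top : i ⁻¹ᵁ D k j ≤ ⊤)).op (a l) := by
      intro l
      refine (he₁ (i ⁻¹ᵁ D k j) le_top).1 ?_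
      show (_ * _) • res M₁ _ e₁ = _ • res M₁ _ e₁
      have hl := congrArg (res M₁ (le_top : i ⁻¹ᵁ D k j ≤ ⊤)) (ha l)
      have hj := congrArg (res M₁ (le_top : i ⁻¹ᵁ D k j ≤ ⊤)) (ha j)
      rw [res_smul, res_pform] at hl hj
      rw [coeff_self, one_smul] at hj
      rw [mul_smul]
      exact (congrArg _ hj).trans hl.symm
    have hψr : ∀ l, ψ (ClosedSubProj.coeff i ⟨MvPolynomial.X l, hX l⟩ j) =
        Ideal.Quotient.mk J (algebraMap k Γ(Z, ⊤) (c l)) := fun l => by
      refine hunit.mul_right_cancel ?_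
      rw [← map_mul (Ideal.Quotient.mk J), ← Algebra.smul_def, ← hψ (a j), ← map_mul, hrel l, hψ]
      exact Ideal.Quotient.eq.2 (hc l)
    obtain ⟨y, hy⟩ := i.app_surjective (D k j) (Proj.isAffineOpen_basicOpen _ _ (hX j) one_pos)
      (Z.presheaf.map (homOfLE (le_top : i ⁻¹ᵁ D k j ≤ ⊤)).op x)
    obtain ⟨P, hP⟩ := Var76.ProjCoord.exists_eval₂_eq k N j y
    refine ⟨MvPolynomial.eval c P, Ideal.Quotient.eq.1 ?_⟩
    rw [← hψ x, ← hy, ← hP]
    show (ψ.comp (i.app (D k j)).hom) (MvPolynomial.eval₂ _ _ P) = _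
    rw [MvPolynomial.eval₂_comp_left]
    have e1 : (ψ.comp (i.app (D k j)).hom).comp (const (k := k) (CohB1.ProjSpace N k) (D k j)) =
        (Ideal.Quotient.mk J).comp (algebraMap k Γ(Z, ⊤)) := RingHom.ext fun b => by
      show ψ (i.app (D k j) (const (k := k) (CohB1.ProjSpace N k) (D k j) b)) = _
      rw [← res_kappa, hψ]
      rfl
    show MvPolynomial.eval₂ _ _ P = Ideal.Quotient.mk J (algebraMap k Γ(Z, ⊤) (MvPolynomial.eval c P))
    rw [MvPolynomial.eval, MvPolynomial.coe_eval₂Hom, ← RingHom.comp_apply, MvPolynomial.eval₂_comp_left,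
      RingHom.comp_id]
    refine (congrArg (fun f => MvPolynomial.eval₂ f _ P) e1).trans ?_
    congr 1
    funext l
    show ψ (i.app (D k j) (Proj.awayToSection _ _ _)) = _
    rw [awayToSection_frac]
    exact hψr l
  have hprod : ∀ (p : Fin (N + 1) × Fin (N + 1)) (hp : (MvPolynomial.X p.1 * MvPolynomial.X p.2 :
      MvPolynomial (Fin (N + 1)) k) ∈ CohB1.polyGrading N k 2),
      pform i ⟨_, hp⟩ = (a p.1 * a p.2) • e₂ := by
    intro p hp
    refine TopCat.Sheaf.eq_of_locally_eq' (F := ⟨M₂.presheaf, M₂.isSheaf⟩) pt ⊤ (fun _ => homOfLE le_top)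
      (fun z _ => Opens.mem_iSup.mpr ⟨z, rfl⟩) _ _ fun z => ?_
    change res M₂ (le_top : pt z ≤ ⊤) _ = res M₂ (le_top : pt z ≤ ⊤) _
    rw [res_smul, he₂' z (pt z) (hpt z) subset_rfl,
      ← Groth.Agent.Var76.LineBundle.res_res M₂ (le_top : i ⁻¹ᵁ D k (jc z) ≤ ⊤) (hpt z), res_pform, res_smul]
    congr 1
    rw [coeff_mul i ⟨_, hX p.1⟩ ⟨_, hX p.2⟩ (jc z) hp]
    show Z.presheaf.map (homOfLE (hpt z)).op _ = Z.presheaf.map (homOfLE (le_top : pt z ≤ ⊤)).op _
    rw [map_mul, map_mul, hpt', hpt']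
  obtain ⟨x, rfl⟩ := hb₂.2 t
  have hx : x ∈ Submodule.span k (Set.range fun p : Fin (N + 1) × Fin (N + 1) => a p.1 * a p.2) := by
    rw [span_mul_eq_top a v' hspan hgen hsep]
    trivial
  obtain ⟨cp, rfl⟩ := (Submodule.mem_span_range_iff_exists_fun k).1 hx
  have hmem : ∀ p : Fin (N + 1) × Fin (N + 1), (MvPolynomial.X p.1 * MvPolynomial.X p.2 :
      MvPolynomial (Fin (N + 1)) k) ∈ CohB1.polyGrading N k 2 := fun p => SetLike.mul_mem_graded (hX p.1) (hX p.2)
  refine ⟨gsec (∑ p, cp p • ⟨_, hmem p⟩), ?_⟩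
  show pform i _ = (∑ p, cp p • (a p.1 * a p.2)) • e₂
  rw [pform_sum, Finset.sum_smul]
  exact Finset.sum_congr rfl fun p _ => by rw [halg, mul_smul, hprod p (hmem p)]

end Groth.Agent.EGAProj74.TwoSurj
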