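import Groth.Agent.EGA73.GradedGrowth
import Groth.Prelude.Def_RelProj

/-! A Veronese subalgebra generated in one degree, simultaneously over finitely many opens. -/

set_option autoImplicit false
set_option backward.isDefEq.respectTransparency.types false

universe u

open DirectSum

noncomputable section

namespace Groth.Agent.EGAProj74.VeroneseGen

variable {R A : Type u} [CommRing R] [CommRing A] [Algebra R A] (𝒜 : ℕ → Submodule R A) [GradedAlgebra 𝒜]

/-- Every large multiple of a split degree generates its Veronese subring. -/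
theorem eq_pow_of_split {L N : ℕ} (h : ∀ n, N ≤ n → 𝒜 (n + L) ≤ 𝒜 L * 𝒜 n) {d : ℕ} (hLd : L ∣ d) (hNd : N ≤ d)
    {m : ℕ} (hm : 0 < m) : 𝒜 (m * d) = (𝒜 d : Submodule R A) ^ m := by
  obtain ⟨j, rfl⟩ := hLd
  induction m, hm using Nat.le_induction with
  | base => simp
  | succ m hm ih =>
    rw [pow_succ', ← ih, Nat.succ_mul]
    refine le_antisymm ?_ ?_
    · rw [Nat.mul_comm L j]
      refine EGA73.le_mul_of_split 𝒜 h j _ ?_
      rw [Nat.mul_comm j L]
      exact hNd.trans (Nat.le_mul_of_pos_left _ hm)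
    · rw [Nat.add_comm]
      exact EGA73.mul_graded_le 𝒜 _ _

end Groth.Agent.EGAProj74.VeroneseGen

namespace Groth.Agent.EGAProj74.VeroneseGen

variable {A : Type u} [CommRing A] (𝒜 : ℕ → AddSubgroup A) [GradedRing 𝒜] {R : Type u} [CommRing R] [Algebra R A]

/-- The pieces as submodules over a ring mapping to degree zero. -/
def pieces (h : ∀ r, algebraMap R A r ∈ 𝒜 0) (n : ℕ) : Submodule R A where
  carrier := 𝒜 n
  add_mem' := add_mem
  zero_mem' := zero_mem _
  smul_mem' r x hx := by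
    rw [Algebra.smul_def]
    have h' := SetLike.mul_mem_graded (A := 𝒜) (h r) hx
    rwa [zero_add] at h'

/-- A graded ring as a graded algebra over such a ring. -/
@[instance_reducible]
def graded (h : ∀ r, algebraMap R A r ∈ 𝒜 0) : GradedAlgebra (pieces 𝒜 h) where
  toGradedMonoid :=
    { one_mem := SetLike.one_mem_graded 𝒜
      mul_mem := fun {_ _ _ _} hx hy => SetLike.mul_mem_graded (A := 𝒜) hx hy }
  toDecomposition :=
    DirectSum.IsInternal.chooseDecomposition (pieces 𝒜 h) (DirectSum.Decomposition.isInternal 𝒜)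

/-- For finitely generated graded rings, `d` works as soon as it is a multiple of some `L` and beyond some `N`. -/
theorem exists_bound {R : Type u} [CommRing R] (φ : R →+* A) (hφ : ∀ r, φ r ∈ 𝒜 0) (hft : φ.FiniteType) :
    ∃ L N : ℕ, 0 < L ∧ ∀ d, L ∣ d → N ≤ d → 0 < d →
      (∀ n, 0 < n → AddSubgroup.toIntSubmodule (𝒜 (n * d)) = AddSubgroup.toIntSubmodule (𝒜 d) ^ n) ∧
      ∃ T : Finset A, (↑T : Set A) ⊆ (𝒜 d : Set A) ∧ AddSubgroup.toIntSubmodule (𝒜 d) =
        AddSubgroup.toIntSubmodule (𝒜 0) * Submodule.span ℤ (↑T : Set A) := by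
  classical
  let := φ.toAlgebra
  let := graded 𝒜 (R := R) hφ
  let 𝒜' : ℕ → Submodule R A := pieces 𝒜 hφ
  have hint : ∀ n, AddSubgroup.toIntSubmodule (𝒜 n) = (𝒜' n).restrictScalars ℤ := fun _ => rfl
  let φ₀ : R →+* 𝒜' 0 :=
    { toFun := fun r => ⟨φ r, hφ r⟩
      map_one' := Subtype.ext (map_one φ)
      map_mul' := fun a b => Subtype.ext (map_mul φ a b)
      map_zero' := Subtype.ext (map_zero φ)
      map_add' := fun a b => Subtype.ext (map_add φ a b) }
  have : Algebra.FiniteType (𝒜' 0) A := by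
    have h : ((algebraMap (𝒜' 0) A).comp φ₀).FiniteType := hft
    exact RingHom.finiteType_algebraMap.mp (RingHom.FiniteType.of_comp_finiteType h)
  obtain ⟨L, N, hL, hN⟩ := EGA73.exists_split_degree 𝒜'
  refine ⟨L, N, hL, fun d hLd hNd hd => ⟨fun n hn => ?_, ?_⟩⟩
  · rw [hint, hint, eq_pow_of_split 𝒜' hN hLd hNd hn, Submodule.restrictScalars_pow hn.ne']
  obtain ⟨r, e, w, hw, he, -, hmon⟩ := EGA73.exists_monomial_generators 𝒜'
  let T : Finset A := ((Finset.univ : Finset (Fin r → Fin (d + 1))).filter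
    (fun k => ∑ i, (k i : ℕ) * w i = d)).image fun k => ∏ i, e i ^ (k i : ℕ)
  have hT : (↑T : Set A) ⊆ (𝒜 d : Set A) := by
    intro t ht
    obtain ⟨k, hk, rfl⟩ := Finset.mem_image.1 (Finset.mem_coe.1 ht)
    have h := EGA73.prod_pow_mem 𝒜' he fun i => (k i : ℕ)
    rwa [(Finset.mem_filter.1 hk).2] at h
  let Q : Submodule ℤ A := AddSubgroup.toIntSubmodule (𝒜 0) * Submodule.span ℤ (↑T : Set A)
  have hQ : ∀ c ∈ 𝒜 0, ∀ q ∈ Q, c * q ∈ Q := fun c hc q hq => by
    refine Submodule.mul_induction_on hq (fun x hx y hy => ?_) fun x y hx hy => by rw [mul_add]; exact add_mem hx hy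
    rw [← mul_assoc]
    have h := SetLike.mul_mem_graded (A := 𝒜) hc (show x ∈ 𝒜 0 from hx)
    rw [zero_add] at h
    exact Submodule.mul_mem_mul h hy
  refine ⟨T, hT, le_antisymm (fun a ha => ?_) ?_⟩
  · let P : Submodule (𝒜' 0) A :=
      { carrier := Q
        add_mem' := fun h h' => add_mem h h'
        zero_mem' := zero_mem _
        smul_mem' := fun c q h => hQ c.1 c.2 q h }
    refine (Submodule.span_le (p := P)).2 ?_ (hmon d a ha)
    rintro _ ⟨k, hk, rfl⟩
    have hk' : ∀ i, k i < d + 1 := fun i =>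
      Nat.lt_succ_of_le ((Nat.le_mul_of_pos_right _ (hw i)).trans
        ((Finset.single_le_sum (f := fun i => k i * w i) (fun _ _ => Nat.zero_le _) (Finset.mem_univ i)).trans hk.le))
    show ∏ i, e i ^ k i ∈ Q
    rw [← one_mul (∏ i, e i ^ k i)]
    exact Submodule.mul_mem_mul (show (1 : A) ∈ 𝒜 0 from SetLike.one_mem_graded 𝒜) (Submodule.subset_span
      (Finset.mem_coe.2 (Finset.mem_image.2 ⟨fun i => ⟨k i, hk' i⟩, Finset.mem_filter.2 ⟨Finset.mem_univ _, hk⟩, rfl⟩)))
  · refine Submodule.mul_le.2 fun a ha b hb => ?_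
    have hb' : b ∈ AddSubgroup.toIntSubmodule (𝒜 d) := Submodule.span_le.2 hT hb
    have h := SetLike.mul_mem_graded (A := 𝒜) (i := 0) (j := d) ha hb'
    rwa [zero_add] at h

end Groth.Agent.EGAProj74.VeroneseGen
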