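import Groth.Agent.EGA73.TildeQCoh
import Groth.Agent.EGA73.VeroneseProj
import Groth.Agent.EGA73.ProjMor
import Groth.Agent.EGAProj74.BundleChart
import Groth.Agent.EGAProj74.TwistComap
import Groth.Prelude.Def_GrMod2

/-! Modules attached to the Veronese of a graded module. -/

set_option autoImplicit false
set_option backward.isDefEq.respectTransparency false

universe u

open CategoryTheory CategoryTheory.Limits AlgebraicGeometry TopologicalSpace Opposite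
open GrTilde HomogeneousLocalization

noncomputable section

namespace Groth.Agent.EGAProj74.VeroneseTilde

variable {R A : Type u} [CommRing R] [CommRing A] [Algebra R A] {𝒜 : ℕ → Submodule R A} [GradedAlgebra 𝒜]
  {B : Type u} [CommRing B] [Algebra R B] {ℬ : ℕ → Submodule R B} [GradedAlgebra ℬ] {d : ℕ} {φ : B →ₐ[R] A}
  (hd : 0 < d) (hdeg : ∀ n : ℕ, Submodule.map φ.toLinearMap (ℬ n) = 𝒜 (n * d))

local notation "e₀" => EGA73.VeroneseProj.hom hd hdeg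

/-- The morphism on points. -/
abbrev pt (x : ProjectiveSpectrum 𝒜) : ProjectiveSpectrum ℬ := (e₀).base (show Proj 𝒜 from x)

theorem mem_pt {x : ProjectiveSpectrum 𝒜} {b : B} :
    b ∈ (pt hd hdeg x).asHomogeneousIdeal ↔ φ b ∈ x.asHomogeneousIdeal :=
  SetLike.ext_iff.1 (EGA73.VeroneseProj.hom_base hd hdeg x) b

/-- The map of local rings. -/
def locMap (x : ProjectiveSpectrum 𝒜) : Twist.Loc ℬ (pt hd hdeg x) →+* Twist.Loc 𝒜 x :=
  Localization.localRingHom _ _ φ.toRingHom (EGA73.VeroneseProj.hom_base hd hdeg x)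

theorem locMap_mk (x : ProjectiveSpectrum 𝒜) (b s : B) (hs : s ∉ (pt hd hdeg x).asHomogeneousIdeal) :
    locMap hd hdeg x (Localization.mk b ⟨s, hs⟩) =
      Localization.mk (φ b) (⟨φ s, fun h => hs ((mem_pt hd hdeg).2 h)⟩ : x.asHomogeneousIdeal.toIdeal.primeCompl) := by
  rw [Localization.mk_eq_mk', Localization.mk_eq_mk']
  exact Localization.localRingHom_mk' _ _ _ _ b ⟨s, hs⟩

/-- The morphism on functions of a standard open. -/
theorem app_away {n : ℕ} (hn : 0 < n) {g : B} (hg : g ∈ ℬ n)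
    (e : Proj.basicOpen 𝒜 (φ g) ≤ e₀ ⁻¹ᵁ Proj.basicOpen ℬ g) :
    Proj.awayToSection ℬ g ≫ (e₀).appLE _ _ e =
      CommRingCat.ofHom (EGA73.VeroneseProj.awayHom hdeg hg) ≫ Proj.awayToSection 𝒜 (φ g) := by
  refine EGA73.ProjMor.awayToSection_appLE_eq e₀ hg hn _ e _ ?_
  rw [Spec.map_comp, Category.assoc]
  show _ = _ ≫ _ ≫ EGA73.VeroneseProj.chartMap hdeg hn hg
  rw [← EGA73.VeroneseProj.chart_hom hd hdeg hn hg, ← Category.assoc, ← Category.assoc]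
  congr 1
  have h1 := Iso.hom_inv_id_assoc (Proj.basicOpenIsoSpec 𝒜 (φ g) (EGA73.veronese_mem hdeg hg) (Nat.mul_pos hn hd))
    (Proj.basicOpen 𝒜 (φ g)).ι
  exact h1.symm

/-- The morphism on functions, pointwise. -/
theorem val_app {U : (Proj ℬ).Opens} (c : Γ(Proj ℬ, U)) (x : (e₀ ⁻¹ᵁ U : (Proj 𝒜).Opens)) :
    ((((e₀).app U c : Γ(Proj 𝒜, e₀ ⁻¹ᵁ U)) : Twist.O (𝒜 := 𝒜) (op (e₀ ⁻¹ᵁ U))).1 x).val =
      locMap hd hdeg x.1 (((c : Twist.O (𝒜 := ℬ) (op U)).1 ⟨pt hd hdeg x.1, x.2⟩).val) := by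
  obtain ⟨n, g, hn, hg, hgx, hgU⟩ := EGA73.exists_basicOpen_le ℬ (U := U) (x := pt hd hdeg x.1) x.2
  let W : (Proj ℬ).Opens := Proj.basicOpen ℬ g
  let c' : Γ(Proj ℬ, W) := (Proj ℬ).presheaf.map (homOfLE (show W ≤ U from hgU)).op c
  obtain ⟨q, hq⟩ := (ConcreteCategory.bijective_of_isIso (Proj.basicOpenIsoAway ℬ g hg hn).hom).2 c'
  obtain ⟨m, b, hb, rfl⟩ := Away.mk_surjective ℬ hg q
  have hle : Proj.basicOpen 𝒜 (φ g) ≤ e₀ ⁻¹ᵁ W :=
    (EGA73.VeroneseProj.hom_preimage_basicOpen hd hdeg hn hg).ge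
  have hxg : x.1 ∈ Proj.basicOpen 𝒜 (φ g) := (EGA73.VeroneseProj.hom_preimage_basicOpen hd hdeg hn hg).le hgx
  have h2 := congr(CommRingCat.Hom.hom $(app_away hd hdeg hn hg hle) (Away.mk ℬ hg m b hb))
  change (e₀).appLE W _ hle ((Proj.basicOpenIsoAway ℬ g hg hn).hom (Away.mk ℬ hg m b hb)) = _ at h2
  rw [hq] at h2
  change _ = Proj.awayToSection 𝒜 (φ g) (EGA73.VeroneseProj.awayHom hdeg hg (Away.mk ℬ hg m b hb)) at h2
  have hb' : φ b ∈ 𝒜 (m • (n * d)) := by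
    have := EGA73.veronese_mem hdeg hb
    rwa [smul_eq_mul, mul_assoc] at this
  rw [EGA73.VeroneseProj.awayHom_mk hdeg hg m b hb hb'] at h2
  have h3 : (e₀).appLE W _ hle c' =
      (Proj 𝒜).presheaf.map (homOfLE (hle.trans ((e₀).preimage_mono hgU))).op ((e₀).app U c) := by
    show ((Proj ℬ).presheaf.map _ ≫ (e₀).appLE W _ hle) c = ((e₀).app U ≫ (Proj 𝒜).presheaf.map _) c
    rw [Scheme.Hom.map_appLE]
    rfl
  rw [h3] at h2
  have h4 := congrArg (fun s : Twist.O (𝒜 := 𝒜) (op (Proj.basicOpen 𝒜 (φ g))) => (s.1 ⟨x.1, hxg⟩).val) h2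
  have h5 := congrArg (fun s : Twist.O (𝒜 := ℬ) (op W) => (s.1 ⟨pt hd hdeg x.1, hgx⟩).val) hq
  dsimp only at h4 h5
  refine h4.trans ?_
  refine Eq.trans ?_ (congrArg (locMap hd hdeg x.1) h5)
  have hden : g ^ m ∉ (pt hd hdeg x.1).asHomogeneousIdeal := EGA73.pow_notMem hgx m
  refine (awayToSection_mk_val _ ⟨x.1, hxg⟩ (EGA73.pow_notMem hxg m)).trans ?_
  refine Eq.trans ?_ (congrArg (locMap hd hdeg x.1) (awayToSection_mk_val _ ⟨pt hd hdeg x.1, hgx⟩ hden)).symm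
  refine Eq.trans ?_ (locMap_mk hd hdeg x.1 b (g ^ m) hden).symm
  rw [Localization.mk_eq_mk_iff]
  exact Localization.r_iff_exists.2 ⟨1, by simp [Away.mk, map_pow]⟩

section Modules

variable {M : Type u} [AddCommGroup M] [Module R M] [Module A M] {ℳ : ℕ → Submodule R M}
  [SetLike.GradedSMul 𝒜 ℳ] [DirectSum.Decomposition ℳ]
  {N : Type u} [AddCommGroup N] [Module R N] [Module B N] {𝒩 : ℕ → Submodule R N} [SetLike.GradedSMul ℬ 𝒩]
  (v : N →ₛₗ[φ.toRingHom] M)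

/-- The map of localized modules. -/
def locMod (x : ProjectiveSpectrum 𝒜) (q : LocMod ℬ (M := N) (pt hd hdeg x)) : LocMod 𝒜 (M := M) x :=
  q.liftOn (fun ms => LocalizedModule.mk (v ms.1) ⟨φ ms.2.1, fun h => ms.2.2 ((mem_pt hd hdeg).2 h)⟩) (by
    rintro ⟨m, s⟩ ⟨m', s'⟩ ⟨c, hc⟩
    refine LocalizedModule.mk_eq.2 ⟨⟨φ c.1, fun h => c.2 ((mem_pt hd hdeg).2 h)⟩, ?_⟩
    have h := congrArg v hc
    simp only [Submonoid.smul_def, map_smulₛₗ] at h ⊢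
    exact h)

theorem locMod_mk (x : ProjectiveSpectrum 𝒜) (m : N) (s : B) (hs : s ∉ (pt hd hdeg x).asHomogeneousIdeal) :
    locMod hd hdeg v x (LocalizedModule.mk m ⟨s, hs⟩) =
      LocalizedModule.mk (v m) (⟨φ s, fun h => hs ((mem_pt hd hdeg).2 h)⟩ : x.asHomogeneousIdeal.toIdeal.primeCompl) := rfl

theorem locMod_add (x : ProjectiveSpectrum 𝒜) (q q' : LocMod ℬ (M := N) (pt hd hdeg x)) :
    locMod hd hdeg v x (q + q') = locMod hd hdeg v x q + locMod hd hdeg v x q' := by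
  induction q, q' using LocalizedModule.induction_on₂ with
  | h m m' s t =>
    rw [LocalizedModule.mk_add_mk]
    show LocalizedModule.mk _ _ = LocalizedModule.mk _ _ + LocalizedModule.mk _ _
    rw [LocalizedModule.mk_add_mk]
    simp only [Submonoid.smul_def, map_add, map_smulₛₗ, Submonoid.coe_mul, map_mul]
    rfl

theorem locMod_smul (x : ProjectiveSpectrum 𝒜) (r : Twist.Loc ℬ (pt hd hdeg x))
    (q : LocMod ℬ (M := N) (pt hd hdeg x)) :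
    locMod hd hdeg v x (r • q) = locMap hd hdeg x r • locMod hd hdeg v x q := by
  induction q using LocalizedModule.induction_on with
  | _ m s =>
    induction r using Localization.induction_on with
    | H rt =>
      rw [LocalizedModule.mk_smul_mk, locMap_mk hd hdeg x rt.1 rt.2.1 rt.2.2]
      show LocalizedModule.mk _ _ = _ • LocalizedModule.mk _ _
      rw [LocalizedModule.mk_smul_mk]
      simp only [map_smulₛₗ, Submonoid.coe_mul, map_mul]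
      rfl

variable (hvdeg : ∀ n : ℕ, (𝒩 n : Set N).image v = (ℳ (n * d) : Set M))

include hvdeg in
theorem v_mem {i : ℕ} {m : N} (hm : m ∈ 𝒩 i) : v m ∈ ℳ (i * d) := (hvdeg i).le ⟨m, hm, rfl⟩

include hvdeg in
theorem exists_image_frac (n : ℤ) {U : (Proj ℬ).Opens} (s : sect ℬ 𝒩 n (op U))
    (x : (e₀ ⁻¹ᵁ U : (Proj 𝒜).Opens)) :
    ∃ (V : (Proj ℬ).Opens) (i j : ℕ) (m : N) (b : B), V ≤ U ∧ pt hd hdeg x.1 ∈ V ∧ v m ∈ ℳ (i * d) ∧
      φ b ∈ 𝒜 (j * d) ∧ (((i * d : ℕ) : ℤ) = (j * d : ℕ) + n * d ∨ v m = 0) ∧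
      ∀ (y : (e₀ ⁻¹ᵁ U : (Proj 𝒜).Opens)), pt hd hdeg y.1 ∈ V → ∃ hb : φ b ∉ y.1.asHomogeneousIdeal,
        locMod hd hdeg v y.1 (s.1 ⟨pt hd hdeg y.1, y.2⟩).1 = LocalizedModule.mk (v m) ⟨φ b, hb⟩ := by
  obtain ⟨V, hxV, iV, i, j, ⟨m, hm⟩, ⟨b, hb⟩, nin, hij, w⟩ := s.2 ⟨pt hd hdeg x.1, x.2⟩
  refine ⟨V, i, j, m, b, iV.le, hxV, v_mem v hvdeg hm, EGA73.veronese_mem hdeg hb, ?_, fun y hy => ?_⟩
  · rcases hij with h | h
    · refine Or.inl ?_
      push_cast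
      rw [h]
      ring
    · exact Or.inr (by rw [show m = 0 from h, map_zero])
  · exact ⟨fun h => nin ⟨_, hy⟩ ((mem_pt hd hdeg).2 h),
      (congrArg (locMod hd hdeg v y.1) (w ⟨_, hy⟩)).trans (locMod_mk hd hdeg v y.1 m b (nin ⟨_, hy⟩))⟩

include hvdeg in
theorem locMod_mem (n : ℤ) {U : (Proj ℬ).Opens} (s : sect ℬ 𝒩 n (op U))
    (x : (e₀ ⁻¹ᵁ U : (Proj 𝒜).Opens)) :
    locMod hd hdeg v x.1 (s.1 ⟨pt hd hdeg x.1, x.2⟩).1 ∈ tildeAt 𝒜 ℳ (n * d) x.1 := by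
  obtain ⟨V, i, j, m, b, -, hxV, hm, hb, hij, w⟩ := exists_image_frac hd hdeg v hvdeg n s x
  obtain ⟨hb', hw⟩ := w x hxV
  rw [hw]
  rcases hij with h | h
  · exact Submodule.subset_span ⟨i * d, j * d, ⟨v m, hm⟩, ⟨φ b, hb⟩, hb', h, rfl⟩
  · rw [h, LocalizedModule.zero_mk]
    exact zero_mem _

/-- Pulling back a section. -/
def pullSect (n : ℤ) (U : (Proj ℬ).Opens) (s : sect ℬ 𝒩 n (op U)) :
    sect 𝒜 ℳ (n * d) (op (e₀ ⁻¹ᵁ U)) :=
  ⟨fun x => ⟨locMod hd hdeg v x.1 (s.1 ⟨pt hd hdeg x.1, x.2⟩).1, locMod_mem hd hdeg v hvdeg n s x⟩, fun x => by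
    obtain ⟨V, i, j, m, b, hVU, hxV, hm, hb, hij, w⟩ := exists_image_frac hd hdeg v hvdeg n s x
    refine ⟨(show Opens (ProjectiveSpectrum.top 𝒜) from e₀ ⁻¹ᵁ V), hxV, homOfLE ((e₀).preimage_mono hVU),
      i * d, j * d, ⟨v m, hm⟩, ⟨φ b, hb⟩, fun y => ?_, hij, fun y => ?_⟩
    · exact (w ⟨y.1, (e₀).preimage_mono hVU y.2⟩ y.2).1
    · exact (w ⟨y.1, (e₀).preimage_mono hVU y.2⟩ y.2).2⟩

/-- The comparison map. -/
def comap (n : ℤ) :
    tilde ℬ 𝒩 n ⟶ (Scheme.Modules.pushforward e₀).obj (tilde 𝒜 ℳ (n * d)) := by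
  refine (Scheme.Modules.fullyFaithfulToPresheafOfModules (X := Proj ℬ)).preimage
    (PresheafOfModules.homMk
      { app := fun U => AddCommGrpCat.ofHom
          { toFun := pullSect hd hdeg v hvdeg n U.unop
            map_zero' := ?_
            map_add' := ?_ }
        naturality := fun _ _ _ => rfl } ?_)
  · exact Subtype.ext (funext fun x => Subtype.ext (by
      show locMod hd hdeg v x.1 0 = 0
      rw [← LocalizedModule.zero_mk (1 : (pt hd hdeg x.1).asHomogeneousIdeal.toIdeal.primeCompl)]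
      refine (locMod_mk hd hdeg v x.1 0 _ _).trans ?_
      rw [map_zero, LocalizedModule.zero_mk]))
  · exact fun s t => Subtype.ext (funext fun x => Subtype.ext (locMod_add hd hdeg v x.1 _ _))
  · intro U c s
    refine Subtype.ext (funext fun x => Subtype.ext ?_)
    refine (locMod_smul hd hdeg v x.1 _ _).trans ?_
    exact congrArg (fun r => r • locMod hd hdeg v x.1 _) (val_app hd hdeg (c : Γ(Proj ℬ, U.unop)) x).symm

include hvdeg in
theorem locMod_injective (hv : Function.Injective v) (x : ProjectiveSpectrum 𝒜) {n : ℤ} {i j i' j' : ℕ}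
    {m m' : N} {b b' : B} (hm : m ∈ 𝒩 i) (hb : b ∈ ℬ j) (hm' : m' ∈ 𝒩 i') (hb' : b' ∈ ℬ j')
    (hbx : b ∉ (pt hd hdeg x).asHomogeneousIdeal) (hbx' : b' ∉ (pt hd hdeg x).asHomogeneousIdeal)
    (hij : (i : ℤ) = j + n ∨ m = 0) (hij' : (i' : ℤ) = j' + n ∨ m' = 0)
    (h : locMod hd hdeg v x (LocalizedModule.mk m ⟨b, hbx⟩) = locMod hd hdeg v x (LocalizedModule.mk m' ⟨b', hbx'⟩)) :
    (LocalizedModule.mk m ⟨b, hbx⟩ : LocMod ℬ (M := N) (pt hd hdeg x)) = LocalizedModule.mk m' ⟨b', hbx'⟩ := by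
  obtain ⟨⟨a, ha⟩, hca⟩ := LocalizedModule.mk_eq.1 h
  simp only [Submonoid.smul_def] at hca
  -- the difference is homogeneous
  have hz : v (b' • m - b • m') = φ b' • v m - φ b • v m' := by
    rw [map_sub, map_smulₛₗ, map_smulₛₗ]; rfl
  obtain ⟨l, hl⟩ : ∃ l, b' • m - b • m' ∈ 𝒩 l := by
    have h1 : b' • m ∈ 𝒩 (j' + i) := SetLike.GradedSMul.smul_mem hb' hm
    have h2 : b • m' ∈ 𝒩 (j + i') := SetLike.GradedSMul.smul_mem hb hm'
    rcases hij with he1 | he1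
    · rcases hij' with he2 | he2
      · exact ⟨j' + i, sub_mem h1 ((show j + i' = j' + i by omega) ▸ h2)⟩
      · exact ⟨j' + i, sub_mem h1 (by rw [show m' = 0 from he2, smul_zero]; exact zero_mem _)⟩
    · exact ⟨j + i', sub_mem (by rw [show m = 0 from he1, smul_zero]; exact zero_mem _) h2⟩
  have hzero : a • v (b' • m - b • m') = 0 := by
    rw [hz, smul_sub, sub_eq_zero]
    exact hca
  obtain ⟨l', c, hc, hcx, hcz⟩ := EGA73.exists_homogeneous_killer 𝒜 ℳ (v_mem v hvdeg hl) x ha hzero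
  have hcd : c ^ d ∈ 𝒜 (l' * d) := by
    have := SetLike.pow_mem_graded d hc
    rwa [smul_eq_mul, mul_comm] at this
  obtain ⟨c', -, hc'⟩ := EGA73.veronese_exists hdeg hcd
  refine LocalizedModule.mk_eq.2 ⟨⟨c', fun hm => hcx (x.isPrime.mem_of_pow_mem d
    (hc' ▸ (mem_pt hd hdeg).1 hm))⟩, ?_⟩
  simp only [Submonoid.smul_def]
  rw [← sub_eq_zero, ← smul_sub]
  refine hv ?_
  rw [map_zero, map_smulₛₗ]
  show φ c' • v (b' • m - b • m') = 0
  rw [hc', ← Nat.sub_add_cancel hd, pow_succ, mul_smul, hcz, smul_zero]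


include hvdeg in
theorem pullSect_injective (hv : Function.Injective v) (hφ : Function.Injective φ)
    (n : ℤ) (U : (Proj ℬ).Opens) : Function.Injective (pullSect hd hdeg v hvdeg n U) := by
  have := EGA73.VeroneseProj.isIso_hom hd hdeg hφ
  intro s t hst
  refine Subtype.ext (funext fun y => Subtype.ext ?_)
  obtain ⟨x, hx⟩ := (e₀).surjective y.1
  have hxU : x ∈ e₀ ⁻¹ᵁ U := by
    show (e₀) x ∈ U
    rw [hx]; exact y.2
  have he : (⟨pt hd hdeg x, hxU⟩ : U) = y := Subtype.ext hx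
  rw [← he]
  have h := congrArg (fun q : sect 𝒜 ℳ (n * d) (op (e₀ ⁻¹ᵁ U)) => (q.1 ⟨x, hxU⟩).1) hst
  change locMod hd hdeg v x (s.1 ⟨pt hd hdeg x, hxU⟩).1 = locMod hd hdeg v x (t.1 ⟨pt hd hdeg x, hxU⟩).1 at h
  obtain ⟨V, hxV, iV, i, j, ⟨m, hm⟩, ⟨b, hb⟩, nin, hij, w⟩ := s.2 ⟨pt hd hdeg x, hxU⟩
  obtain ⟨V', hxV', iV', i', j', ⟨m', hm'⟩, ⟨b', hb'⟩, nin', hij', w'⟩ := t.2 ⟨pt hd hdeg x, hxU⟩
  have ws : (s.1 ⟨pt hd hdeg x, hxU⟩).1 = LocalizedModule.mk m ⟨b, nin ⟨_, hxV⟩⟩ := w ⟨_, hxV⟩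
  have wt : (t.1 ⟨pt hd hdeg x, hxU⟩).1 = LocalizedModule.mk m' ⟨b', nin' ⟨_, hxV'⟩⟩ := w' ⟨_, hxV'⟩
  rw [ws, wt] at h ⊢
  exact locMod_injective hd hdeg v hvdeg hv x hm hb hm' hb' _ _ hij hij' h

include hvdeg in
theorem pullSect_surjective (hv : Function.Injective v) (hφ : Function.Injective φ)
    (n : ℤ) (U : (Proj ℬ).Opens) : Function.Surjective (pullSect hd hdeg v hvdeg n U) := by
  have := EGA73.VeroneseProj.isIso_hom hd hdeg hφ
  intro t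
  have key : ∀ y : U, ∃ x : (e₀ ⁻¹ᵁ U : (Proj 𝒜).Opens), pt hd hdeg x.1 = y.1 := fun y => by
    obtain ⟨x, hx⟩ := (e₀).surjective y.1
    exact ⟨⟨x, by show (e₀) x ∈ U; rw [hx]; exact y.2⟩, hx⟩
  have hloc : ∀ x : (e₀ ⁻¹ᵁ U : (Proj 𝒜).Opens), ∃ (V : (Proj 𝒜).Opens) (i j : ℕ) (m : 𝒩 i) (b : ℬ j),
      x.1 ∈ V ∧ V ≤ e₀ ⁻¹ᵁ U ∧ ((i : ℤ) = j + n ∨ m.1 = 0) ∧
      ∀ (y : (e₀ ⁻¹ᵁ U : (Proj 𝒜).Opens)), y.1 ∈ V → ∃ hb : b.1 ∉ (pt hd hdeg y.1).asHomogeneousIdeal,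
        (t.1 y).1 = locMod hd hdeg v y.1 (LocalizedModule.mk m.1 ⟨b.1, hb⟩) := by
    intro x
    obtain ⟨V, hxV, iV, i, j, ⟨m, hm⟩, ⟨h, hh⟩, nin, hij, w⟩ := t.2 x
    have hhd : h ^ d ∈ 𝒜 (j * d) := by
      have := SetLike.pow_mem_graded d hh
      rwa [smul_eq_mul, mul_comm] at this
    obtain ⟨b, hb, hbh⟩ := EGA73.veronese_exists hdeg hhd
    have hsc : h ^ (d - 1) • m ∈ ℳ ((d - 1) * j + i) := by
      have h1 : h ^ (d - 1) ∈ 𝒜 ((d - 1) * j) := by simpa using SetLike.pow_mem_graded (d - 1) hh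
      exact SetLike.GradedSMul.smul_mem (A := 𝒜) h1 hm
    obtain ⟨m', i', hm', hij', hvm⟩ : ∃ (m' : N) (i' : ℕ), m' ∈ 𝒩 i' ∧ ((i' : ℤ) = j + n ∨ m' = 0) ∧
        v m' = h ^ (d - 1) • m := by
      rcases hij with he | he
      · change (i : ℤ) = j + n * d at he
        have hd1 : ((d - 1 : ℕ) : ℤ) = (d : ℤ) - 1 := by omega
        have hnat : ((((d - 1) * j + i : ℕ)) : ℤ) = ((j : ℤ) + n) * d := by
          push_cast
          rw [hd1, he]
          ring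
        have hpos : 0 ≤ (j : ℤ) + n := by
          by_contra hneg
          have : ((j : ℤ) + n) * d < 0 := mul_neg_of_neg_of_pos (by omega) (by exact_mod_cast hd)
          omega
        obtain ⟨i', hi'⟩ := Int.eq_ofNat_of_zero_le hpos
        have hi2 : (d - 1) * j + i = i' * d := by
          rw [hi'] at hnat
          exact_mod_cast hnat
        obtain ⟨m', hm', hvm⟩ := (hvdeg i').ge (hi2 ▸ hsc : h ^ (d - 1) • m ∈ ℳ (i' * d))
        exact ⟨m', i', hm', Or.inl hi'.symm, hvm⟩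
      · exact ⟨0, 0, zero_mem _, Or.inr rfl, by rw [show m = 0 from he, smul_zero, map_zero]⟩
    refine ⟨V, i', j, ⟨m', hm'⟩, ⟨b, hb⟩, hxV, iV.le, hij', fun y hy => ?_⟩
    have hby : b ∉ (pt hd hdeg y.1).asHomogeneousIdeal := fun hb' =>
      nin ⟨y.1, hy⟩ (y.1.isPrime.mem_of_pow_mem d (hbh ▸ (mem_pt hd hdeg).1 hb'))
    refine ⟨hby, (w ⟨y.1, hy⟩).trans ?_⟩
    rw [locMod_mk]
    refine LocalizedModule.mk_eq.2 ⟨1, ?_⟩
    simp only [one_smul, Submonoid.smul_def]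
    rw [hbh, hvm, smul_smul, ← pow_succ', Nat.sub_add_cancel hd]
  choose x hx using key
  choose V i j m b hxV hVU hij hw using hloc
  let f : ∀ y : U, LocMod ℬ (M := N) y.1 := fun y =>
    (hx y) ▸ LocalizedModule.mk (m (x y)).1 ⟨(b (x y)).1, (hw (x y) (x y) (hxV (x y))).1⟩
  have hf : ∀ (z : (e₀ ⁻¹ᵁ U : (Proj 𝒜).Opens)) (y : (e₀ ⁻¹ᵁ U : (Proj 𝒜).Opens)) (hy : y.1 ∈ V z),
      f ⟨pt hd hdeg y.1, y.2⟩ = LocalizedModule.mk (m z).1 ⟨(b z).1, (hw z y hy).1⟩ := by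
    intro z y hy
    have hinj : x ⟨pt hd hdeg y.1, y.2⟩ = y :=
      Subtype.ext ((e₀).isOpenEmbedding.injective (hx ⟨pt hd hdeg y.1, y.2⟩))
    have h1 : f ⟨pt hd hdeg y.1, y.2⟩ =
        LocalizedModule.mk (m y).1 ⟨(b y).1, (hw y y (hxV y)).1⟩ := by
      simp only [f]
      generalize hx ⟨pt hd hdeg y.1, y.2⟩ = hpx
      revert hpx
      rw [hinj]
      intro hpx
      rfl
    rw [h1]
    refine locMod_injective hd hdeg v hvdeg hv y.1 (m y).2 (b y).2 (m z).2 (b z).2 _ _ (hij y) (hij z) ?_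
    rw [← (hw z y hy).2, ← (hw y y (hxV y)).2]
  let V' : (e₀ ⁻¹ᵁ U : (Proj 𝒜).Opens) → (Proj ℬ).Opens := fun z => (e₀) ''ᵁ V z
  have hmem : ∀ y : U, f y ∈ tildeAt ℬ 𝒩 n y.1 := fun y => by
    have he : (⟨pt hd hdeg (x y).1, (x y).2⟩ : U) = y := Subtype.ext (hx y)
    rw [← he, hf (x y) (x y) (hxV _)]
    rcases hij (x y) with h | h
    · exact Submodule.subset_span ⟨i (x y), j (x y), m (x y), b (x y), _, h, rfl⟩
    · rw [h, LocalizedModule.zero_mk]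
      exact zero_mem _
  refine ⟨⟨fun y => ⟨f y, hmem y⟩, fun y => ?_⟩, ?_⟩
  · have hle : V' (x y) ≤ U := by
      rintro _ ⟨z, hz, rfl⟩
      exact hVU (x y) hz
    refine ⟨(show Opens (ProjectiveSpectrum.top ℬ) from V' (x y)), ⟨(x y).1, hxV _, hx y⟩, homOfLE hle,
      i (x y), j (x y), m (x y), b (x y), fun w => ?_, hij _, fun w => ?_⟩
    · obtain ⟨z, hz, hzw⟩ := w.2
      exact hzw ▸ (hw (x y) ⟨z, hVU _ hz⟩ hz).1
    · obtain ⟨_, z, hz, rfl⟩ := w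
      exact hf (x y) ⟨z, hVU _ hz⟩ hz
  · refine Subtype.ext (funext fun z => Subtype.ext ?_)
    show locMod hd hdeg v z.1 (f ⟨pt hd hdeg z.1, z.2⟩) = (t.1 z).1
    rw [hf z z (hxV z), (hw z z (hxV z)).2]

include hvdeg in
theorem nonempty_iso (hv : Function.Injective v) (hφ : Function.Injective φ) (e : Proj 𝒜 ≅ Proj ℬ)
    (he : e.hom = e₀) (n : ℤ) :
    Nonempty (tilde 𝒜 ℳ (n * d) ≅ (Scheme.Modules.pullback e.hom).obj (tilde ℬ 𝒩 n)) := by
  rw [he]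
  have := EGA73.VeroneseProj.isIso_hom hd hdeg hφ
  have h := isIso_pullback_adjunct e₀ (comap hd hdeg v hvdeg n) fun W _ =>
    ⟨pullSect_injective hd hdeg v hvdeg hv hφ n W, pullSect_surjective hd hdeg v hvdeg hv hφ n W⟩
  exact ⟨(@asIso _ _ _ _ _ h).symm⟩

end Modules

/-- A morphism with the prescribed charts is the canonical one. -/
theorem eq_hom (r : Proj 𝒜 ⟶ Proj ℬ)
    (he : ∀ (n : ℕ) (g : B) (hn : 0 < n) (hg : g ∈ ℬ n)
        (θ : CommRingCat.of (HomogeneousLocalization.Away ℬ g) ⟶ CommRingCat.of (HomogeneousLocalization.Away 𝒜 (φ g))),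
        (algebraMap (HomogeneousLocalization.Away 𝒜 (φ g)) (Localization.Away (φ g))).comp θ.hom =
          (Localization.awayMap φ.toRingHom g).comp
            (algebraMap (HomogeneousLocalization.Away ℬ g) (Localization.Away g)) →
        Proj.awayι 𝒜 (φ g) ((hdeg n).le (Submodule.mem_map_of_mem hg)) (Nat.mul_pos hn hd) ≫ r =
          Spec.map θ ≫ Proj.awayι ℬ g hg hn) : r = e₀ := by
  refine (EGA73.VeroneseProj.cover hd hdeg).hom_ext _ _ fun s => ?_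
  refine (he s.1.1 s.2.1 s.1.2 s.2.2 (CommRingCat.ofHom (EGA73.VeroneseProj.awayHom hdeg s.2.2)) ?_).trans
    (EGA73.VeroneseProj.chart_hom hd hdeg s.1.2 s.2.2).symm
  exact RingHom.ext fun q => EGA73.VeroneseProj.val_awayHom hdeg s.2.2 q


end Groth.Agent.EGAProj74.VeroneseTilde
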