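import Groth.Agent.EGAProj74.BundleSquare
import Groth.Agent.EGAProj74.BundleImm

/-!
Very ampleness through classifying data.
-/

set_option autoImplicit false
set_option backward.isDefEq.respectTransparency.types false

universe u

open CategoryTheory CategoryTheory.Limits AlgebraicGeometry TopologicalSpace Opposite
open scoped HomogeneousIdeal

noncomputable section

namespace Groth.Agent.EGAProj74

open Var76.LineBundle Var76.ZeroScheme

variable {X S : Scheme.{u}} {g : X ⟶ S} {L : X.Modules}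

/-- `v` is generating and classified by an immersion. -/
def IsImmData {E : S.Modules} (v : E ⟶ (Scheme.Modules.pushforward g).obj L) : Prop :=
  IsGenerating v ∧ ∃ (P : Scheme.{u}) (𝒮 : RelProj.QCGrAlg S) (j : E ⟶ 𝒮.toModule)
    (hj : RelProj.IsGrSymAlg E 𝒮 j) (p : P ⟶ S)
    (chart : ∀ (U : S.Opens) (hU : IsAffineOpen U), ((p ⁻¹ᵁ U : P.Opens) : Scheme.{u}) ≅ Proj (𝒮.deg U hU))
    (_ : RelProj.IsRelProj 𝒮 p chart) (r : X ⟶ P), IsImmersion r ∧ Classifies chart hj v r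

theorem exists_immData (h : RelProj.IsRelVeryAmple g L) :
    ∃ (E : S.Modules) (v : E ⟶ (Scheme.Modules.pushforward g).obj L), Coh.IsQCoh E ∧ IsImmData v := by
  obtain ⟨E, hE, 𝒮, j, hj, P, p, chart, hP, O1, lam, hO1, i, hi, hip, ⟨e⟩⟩ := h
  obtain ⟨φ, hφ⟩ := exists_canonical hE hj hO1 hP
  obtain ⟨v, hv, hc⟩ := exists_data_of_hom hE hj hO1 hφ i hip
  exact ⟨E, v ≫ (Scheme.Modules.pushforward g).map e.inv, hE, hv.map e.symm,
    P, 𝒮, j, hj, p, chart, hP, i, hi, hc.map hE hj hO1 hφ hv e.symm⟩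

theorem IsImmData.isRelVeryAmple {E : S.Modules} (hE : Coh.IsQCoh E)
    {v : E ⟶ (Scheme.Modules.pushforward g).obj L} (h : IsImmData v) : RelProj.IsRelVeryAmple g L := by
  obtain ⟨hv, P, 𝒮, j, hj, p, chart, hP, r, hr, hc⟩ := h
  obtain ⟨O1, lam, hO1⟩ := exists_isRelTwist (hP := hP) 1
  obtain ⟨φ, hφ⟩ := exists_canonical hE hj hO1 hP
  obtain ⟨τ, -⟩ := exists_iso_of_classifies' hE hj hO1 hφ hv hc
  exact ⟨E, hE, 𝒮, j, hj, P, p, chart, hP, O1, lam, hO1, r, hr, hc.comp_eq, ⟨τ.symm⟩⟩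

/-- Transfer of immersion data along linear maps on affine pieces. -/
theorem isImmData_of_transfer {E E' : S.Modules} {L' : X.Modules} (hE : E.IsQuasicoherent)
    (hE' : E'.IsQuasicoherent) {v : E ⟶ (Scheme.Modules.pushforward g).obj L} (h : IsImmData v)
    {v' : E' ⟶ (Scheme.Modules.pushforward g).obj L'} (hv' : IsGenerating v')
    {ι : Type u} (U : ι → S.affineOpens)
    (e : ∀ i, Γ(E, (U i).1)) (ℓ : ∀ i, Γ(E, (U i).1) →ₗ[Γ(S, (U i).1)] Γ(E', (U i).1))
    (hcov : ∀ x : X, ∃ i, x ∈ genOpen v' (U i) (ℓ i (e i)))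
    (hle : ∀ i, genOpen v' (U i) (ℓ i (e i)) ≤ genOpen v (U i) (e i))
    (hcoef : ∀ i (m : Γ(E, (U i).1)) (a : Γ(X, genOpen v' (U i) (ℓ i (e i)))),
      a • res L ((hle i).trans (genOpen_le (v := v) (U := U i) (e := e i))) (v.app (U i).1 (e i)) =
        res L ((hle i).trans (genOpen_le (v := v) (U := U i) (e := e i))) (v.app (U i).1 m) →
      a • res L' (genOpen_le (v := v') (U := U i) (e := ℓ i (e i))) (v'.app (U i).1 (ℓ i (e i))) =
        res L' (genOpen_le (v := v') (U := U i) (e := ℓ i (e i))) (v'.app (U i).1 (ℓ i m))) :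
    IsImmData v' := by
  obtain ⟨hv, P, 𝒮, j, hj, p, chart, hP, r, hr, hc⟩ := h
  obtain ⟨𝒮', j', hj', P', p', chart', hP', O1', lam', hO1'⟩ := exists_projBundle (show Coh.IsQCoh E' from hE')
  obtain ⟨φ', hφ'⟩ := exists_canonical hE' hj' hO1' hP'
  obtain ⟨r', hr'⟩ := exists_classifies hE' hj' hP' hO1' hφ' hv'
  exact ⟨hv', P', 𝒮', j', hj', p', chart', hP', r',
    isImmersion_of_transfer hE hj hP hE' hj' hO1' hφ' hc hv' hr' U e ℓ hcov hle hcoef, hr'⟩

end Groth.Agent.EGAProj74
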