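import Groth.Agent.EGAProj74.VeryAmpleBasic

/-!
Very ample modules and immersions.
-/

set_option autoImplicit false
set_option backward.isDefEq.respectTransparency.types false

universe u

open CategoryTheory CategoryTheory.Limits AlgebraicGeometry TopologicalSpace Opposite

noncomputable section

namespace Groth.Agent.EGAProj74

theorem isRelVeryAmple_of_iso {X S : Scheme.{u}} {q : X ⟶ S} {L L' : X.Modules}
    (h : RelProj.IsRelVeryAmple q L) (e : L ≅ L') : RelProj.IsRelVeryAmple q L' := by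
  obtain ⟨E, hE, 𝒮, j, hj, P, p, chart, hP, O1, lam, hO1, i, hi, hip, ⟨τ⟩⟩ := h
  exact ⟨E, hE, 𝒮, j, hj, P, p, chart, hP, O1, lam, hO1, i, hi, hip, ⟨e.symm ≪≫ τ⟩⟩

theorem isRelVeryAmple_comp_immersion {X X' S : Scheme.{u}} {q : X ⟶ S} {L : X.Modules}
    (h : RelProj.IsRelVeryAmple q L) (a : X' ⟶ X) [IsImmersion a] {q' : X' ⟶ S} (hq : a ≫ q = q') :
    RelProj.IsRelVeryAmple q' ((Scheme.Modules.pullback a).obj L) := by
  obtain ⟨E, hE, 𝒮, j, hj, P, p, chart, hP, O1, lam, hO1, i, hi, hip, ⟨τ⟩⟩ := h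
  exact ⟨E, hE, 𝒮, j, hj, P, p, chart, hP, O1, lam, hO1, a ≫ i, inferInstance, by rw [Category.assoc, hip, hq],
    ⟨(Scheme.Modules.pullback a).mapIso τ ≪≫ (Scheme.Modules.pullbackComp a i).app O1⟩⟩

end Groth.Agent.EGAProj74
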