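import Groth.Agent.EGAProj74.BundlePiece
import Groth.Agent.EGAProj74.VeryAmpleData
import Groth.Agent.EGAProj74.VeryAmpleImm
import Groth.Agent.EGAProj74.GrSymExists
import Groth.Agent.EGAProj74.Fundamental
import Groth.Agent.QCqs72.Basic

/-!
Very ampleness is local on the base.
-/

set_option autoImplicit false
set_option backward.isDefEq.respectTransparency.types false

universe u

open CategoryTheory CategoryTheory.Limits AlgebraicGeometry TopologicalSpace Opposite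
open scoped HomogeneousIdeal

noncomputable section

namespace Groth.Agent.EGAProj74

open Var76.LineBundle Var76.ZeroScheme

variable {X S : Scheme.{u}}

theorem isRelVeryAmple_morphismRestrict (q : X ⟶ S) {L : X.Modules} (h : RelProj.IsRelVeryAmple q L)
    (U : S.Opens) : RelProj.IsRelVeryAmple (q ∣_ U) (L.restrict (q ⁻¹ᵁ U).ι) := by
  obtain ⟨E, hE, 𝒮, j, hj, P, p, chart, hP, O1, lam, hO1, i, hi, hip, ⟨τ⟩⟩ := h
  obtain ⟨φ, hφ⟩ := exists_canonical hE hj hO1 hP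
  have := (show E.IsQuasicoherent from hE)
  have hE' : Coh.IsQCoh ((Scheme.Modules.pullback U.ι).obj E) := QCPull72.isQuasicoherent_pullback U.ι E
  obtain ⟨𝒮', j', hj', P', p', chart', hP', O1', lam', hO1'⟩ := exists_projBundle hE'
  obtain ⟨g, hpb, ⟨θ⟩⟩ := exists_baseChange hE hj hP hO1 hφ U.ι 𝒮' j' hj' p' chart' hP' O1' lam' hO1'
  let a := (q ⁻¹ᵁ U).ι
  have hw : (a ≫ i) ≫ p = (q ∣_ U) ≫ U.ι := by rw [morphismRestrict_ι, Category.assoc, hip]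
  let r := hpb.lift (a ≫ i) (q ∣_ U) hw
  have hrg : r ≫ g = a ≫ i := hpb.lift_fst _ _ _
  have : IsImmersion (r ≫ g) := by rw [hrg]; infer_instance
  exact ⟨_, hE', 𝒮', j', hj', P', p', chart', hP', O1', lam', hO1', r, IsImmersion.of_comp r g,
    hpb.lift_snd _ _ _, ⟨(Scheme.Modules.restrictFunctorIsoPullback a).app L ≪≫
      (Scheme.Modules.pullback a).mapIso τ ≪≫ (Scheme.Modules.pullbackComp a i).app O1 ≪≫
      (Scheme.Modules.pullbackCongr hrg.symm).app O1 ≪≫ ((Scheme.Modules.pullbackComp r g).app O1).symm ≪≫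
      (Scheme.Modules.pullback r).mapIso θ⟩⟩

set_option maxHeartbeats 1600000 in
theorem isRelVeryAmple_of_openCover (q : X ⟶ S) [QuasiCompact q] {L : X.Modules} (hL : PicF.IsInvertible L)
    (hqs : QuasiSeparated q)
    {κ : Type u} (U : κ → S.Opens) (hU : ⨆ i, U i = ⊤)
    (h : ∀ i, RelProj.IsRelVeryAmple (q ∣_ U i) (L.restrict (q ⁻¹ᵁ U i).ι)) : RelProj.IsRelVeryAmple q L := by
  have : L.IsQuasicoherent := Mero90.isQCoh_of_isInvertible hL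
  have hEq : ((Scheme.Modules.pushforward q).obj L).IsQuasicoherent := QCqs72.isQuasicoherent_pushforward (M := L) q
  let v : (Scheme.Modules.pushforward q).obj L ⟶ (Scheme.Modules.pushforward q).obj L := 𝟙 _
  choose E v₀ hE hv₀ using fun i => exists_immData (h i)
  have him : ∀ i (W : (U i : Scheme.{u}).Opens),
      q ⁻¹ᵁ ((U i).ι ''ᵁ W) ≤ (q ⁻¹ᵁ U i).ι ''ᵁ ((q ∣_ U i) ⁻¹ᵁ W) := fun i W =>
    (image_morphismRestrict_preimage q (U i) W).ge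
  have hgen : IsGenerating (g := q) (L := L) v := fun x => by
    obtain ⟨i, hi⟩ := Opens.mem_iSup.mp (hU.ge (trivial : q x ∈ (⊤ : S.Opens)))
    obtain ⟨W, e, V, hV, hx, hfr⟩ := (hv₀ i).1 ⟨x, hi⟩
    refine ⟨⟨(U i).ι ''ᵁ W.1, W.2.image_of_isOpenImmersion _⟩, res L (him i W.1) ((v₀ i).app W.1 e),
      (q ⁻¹ᵁ U i).ι ''ᵁ V, ((q ⁻¹ᵁ U i).ι.image_mono hV).trans (image_morphismRestrict_preimage q (U i) W.1).le,
      ⟨_, hx, rfl⟩, ?_⟩
    show IsFrame L _ (res L _ (res L (him i W.1) ((v₀ i).app W.1 e)))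
    rw [res_res]
    exact (Props58.PullTensor.isFrame_restrict_iff _ _ _ _).1 hfr
  obtain ⟨𝒮, j, hj, P, p, chart, hP, O1, lam, hO1⟩ := exists_projBundle (show Coh.IsQCoh _ from hEq)
  obtain ⟨φ, hφ⟩ := exists_canonical hEq hj hO1 hP
  obtain ⟨r, hr⟩ := exists_classifies hEq hj hP hO1 hφ hgen
  refine IsImmData.isRelVeryAmple hEq ⟨hgen, P, 𝒮, j, hj, p, chart, hP, r, ?_, hr⟩
  let ι := Σ i, Σ W : (U i : Scheme.{u}).affineOpens, Γ(E i, W.1)
  let W' : ι → S.affineOpens := fun t => ⟨(U t.1).ι ''ᵁ t.2.1.1, t.2.1.2.image_of_isOpenImmersion _⟩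
  let e' : ∀ t : ι, Γ((Scheme.Modules.pushforward q).obj L, (W' t).1) :=
    fun t => res L (him t.1 t.2.1.1) ((v₀ t.1).app t.2.1.1 t.2.2)
  refine isImmersion_of_pieces r (fun t : ι => dOpen j chart (W' t) (e' t)) (fun x => ?_) fun t => ?_
  · obtain ⟨i, hi⟩ := Opens.mem_iSup.mp (hU.ge (trivial : q x ∈ (⊤ : S.Opens)))
    obtain ⟨W, e, V, hV, hx, hfr⟩ := (hv₀ i).1 ⟨x, hi⟩
    refine ⟨⟨i, W, e⟩, (hr.coord (W' ⟨i, W, e⟩) (e' ⟨i, W, e⟩) ((q ⁻¹ᵁ U i).ι ''ᵁ V)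
      (((q ⁻¹ᵁ U i).ι.image_mono hV).trans (image_morphismRestrict_preimage q (U i) W.1).le) ?_).1 ⟨_, hx, rfl⟩⟩
    show IsFrame L _ (res L _ (res L (him i W.1) ((v₀ i).app W.1 e)))
    rw [res_res]
    exact (Props58.PullTensor.isFrame_restrict_iff _ _ _ _).1 hfr
  obtain ⟨i, W, e⟩ := t
  obtain ⟨hg₀, P₀, 𝒮₀, j₀, hj₀, p₀, chart₀, hP₀, r₀, hr₀, hc₀⟩ := hv₀ i
  let a := (q ⁻¹ᵁ U i).ι
  let α := (Scheme.Modules.restrictFunctorIsoPullback a).app L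
  let vr := pullData a v ≫ (Scheme.Modules.pushforward (a ≫ q)).map α.inv
  have hvr : IsGenerating vr := (hgen.pull a v).map α.symm
  have hcr : Classifies chart hj vr (a ≫ r) :=
    (hr.pull hEq hj hO1 hφ hgen).map hEq hj hO1 hφ (hgen.pull a v) α.symm
  have hval : ∀ (Z : S.Opens) (m : Γ(L, q ⁻¹ᵁ Z)),
      vr.app Z m = res L (a.image_preimage_le (q ⁻¹ᵁ Z)) m := fun Z m => by
    show α.inv.app (a ⁻¹ᵁ (q ⁻¹ᵁ Z)) (Amp73.pullS a L (q ⁻¹ᵁ Z) m) = _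
    rw [← Props58.PullTensor.app_pullS_openImm]
    exact congr($(α.hom_inv_id).app _ _)
  let ℓ : Γ(E i, W.1) → Γ((Scheme.Modules.pushforward q).obj L, (W' ⟨i, W, e⟩).1) :=
    fun m => res L (him i W.1) ((v₀ i).app W.1 m)
  have hle₀ : (a ≫ q) ⁻¹ᵁ (W' ⟨i, W, e⟩).1 ≤ (q ∣_ U i) ⁻¹ᵁ W.1 :=
    (a.preimage_mono (him i W.1)).trans (a.preimage_image_eq _).le
  have hres : ∀ (m : Γ(E i, W.1)) (V : (q ⁻¹ᵁ U i : X.Opens).toScheme.Opens)
      (hV : V ≤ (a ≫ q) ⁻¹ᵁ (W' ⟨i, W, e⟩).1),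
      res (L.restrict a) hV (vr.app (W' ⟨i, W, e⟩).1 (ℓ m)) =
        res (L.restrict a) (hV.trans hle₀) ((v₀ i).app W.1 m) := fun m V hV => by
    rw [hval]
    show res L (a.image_mono hV) (res L _ (res L (him i W.1) ((v₀ i).app W.1 m))) =
      res L (a.image_mono (hV.trans hle₀)) ((v₀ i).app W.1 m)
    rw [res_res, res_res]
  have hfG := isFrame_genOpen (v := vr) (U := W' ⟨i, W, e⟩) (e := ℓ e)
  rw [hres] at hfG
  have hle : genOpen vr (W' ⟨i, W, e⟩) (ℓ e) ≤ genOpen (v₀ i) W e :=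
    le_genOpen (genOpen_le.trans hle₀) hfG
  have hbase : ∀ (V : (q ⁻¹ᵁ U i : X.Opens).toScheme.Opens) (hV : V ≤ (a ≫ q) ⁻¹ᵁ (W' ⟨i, W, e⟩).1)
      (hV₀ : V ≤ (q ∣_ U i) ⁻¹ᵁ W.1), ((U i).ι.appIso W.1).inv ≫ (a ≫ q).appLE _ V hV =
        (q ∣_ U i).appLE W.1 V hV₀ := fun V hV hV₀ => by
    have h1 : (a ≫ q).appLE ((U i).ι ''ᵁ W.1) V hV = ((U i).ι.appIso W.1).hom ≫ (q ∣_ U i).appLE W.1 V hV₀ := by
      rw [Scheme.Hom.appIso_hom', Scheme.Hom.appLE_comp_appLE]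
      congr 1
      exact (morphismRestrict_ι q (U i)).symm
    refine (congrArg (fun t => ((U i).ι.appIso W.1).inv ≫ t) h1).trans ?_
    rw [Iso.inv_hom_id_assoc]
  have hsm : ∀ (s : Γ((U i : Scheme.{u}), W.1)) (m : Γ(E i, W.1)),
      ℓ (s • m) = ((U i).ι.appIso W.1).inv s • ℓ m := fun s m => by
    show res L (him i W.1) ((v₀ i).app W.1 (s • m)) = _
    rw [Scheme.Modules.Hom.app_smul]
    refine (res_smul L (him i W.1) _ _).trans ?_
    congr 1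
    show X.presheaf.map (homOfLE (him i W.1)).op (((q ⁻¹ᵁ U i).ι.appIso ((q ∣_ U i) ⁻¹ᵁ W.1)).inv
      ((q ∣_ U i).app W.1 s)) = q.app ((U i).ι ''ᵁ W.1) (((U i).ι.appIso W.1).inv s)
    rw [show (U i).ι.appIso W.1 = Iso.refl _ from Scheme.Opens.ι_appIso ..,
      show (q ⁻¹ᵁ U i).ι.appIso ((q ∣_ U i) ⁻¹ᵁ W.1) = Iso.refl _ from Scheme.Opens.ι_appIso ..]
    exact ConcreteCategory.congr_hom (show (q ∣_ U i).app W.1 ≫ X.presheaf.map (homOfLE (him i W.1)).op = q.app _ by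
      rw [morphismRestrict_app']
      exact (Scheme.Hom.appLE_map _ _ _).trans (Scheme.Hom.app_eq_appLE _).symm) s
  obtain ⟨π, hπ⟩ := exists_piece (show (E i).IsQuasicoherent from hE i) hj₀ hP₀ hEq hj hO1 hφ
    hc₀ hvr hcr W (W' ⟨i, W, e⟩) ((U i).ι.appIso W.1).inv hbase e ℓ
    (fun m n => by simp only [ℓ, map_add]; exact map_add (L.presheaf.map _).hom _ _)
    hsm hle (fun m c hc => by rw [hres, hres]; exact hc)
  · refine ⟨P₀, π, ?_⟩
    let D := dOpen j chart (W' ⟨i, W, e⟩) (ℓ e)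
    have himm : IsImmersion ((a ∣_ (r ⁻¹ᵁ D)) ≫ (r ∣_ D) ≫ π) := by
      have h2 : (a ∣_ (r ⁻¹ᵁ D)) ≫ (r ∣_ D) ≫ π = ((a ≫ r) ⁻¹ᵁ D).ι ≫ r₀ :=
        ((Category.assoc _ _ _).symm.trans (congrArg (fun t => t ≫ π) (morphismRestrict_comp a r D).symm)).trans hπ
      have hι : IsImmersion ((a ≫ r) ⁻¹ᵁ D).ι := inferInstance
      exact Eq.subst (motive := fun t => IsImmersion t) h2.symm (@IsImmersion.comp _ _ _ _ _ hι hr₀)
    have hD : r ⁻¹ᵁ D ≤ a.opensRange := by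
      rw [Scheme.Opens.opensRange_ι]
      have h1 := r.preimage_mono (dOpen_le (j := j) chart (W' ⟨i, W, e⟩) (ℓ e))
      refine h1.trans ((preimage_eq_of_comm (hr.comp_eq.trans (Category.id_comp q).symm) _).le.trans ?_)
      exact q.preimage_mono (((U i).ι.image_le_opensRange _).trans (U i).opensRange_ι.le)
    have : IsIso (a ∣_ (r ⁻¹ᵁ D)) := by
      rw [isIso_iff_isOpenImmersion_and_epi_base]
      refine ⟨inferInstance, (TopCat.epi_iff_surjective _).2 fun y => ?_⟩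
      obtain ⟨z, hz⟩ := hD y.2
      exact ⟨⟨z, show a z ∈ r ⁻¹ᵁ D by rw [hz]; exact y.2⟩, Subtype.ext (by rw [morphismRestrict_base]; exact hz)⟩
    exact (MorphismProperty.cancel_left_of_respectsIso @IsImmersion (a ∣_ (r ⁻¹ᵁ D)) _).1 himm

end Groth.Agent.EGAProj74
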