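import Groth.Agent.EGA73.QuasiProjective

/-!
High powers of an ample module tensored with an invertible module are very ample.
-/

set_option autoImplicit false
set_option backward.isDefEq.respectTransparency.types false

universe u

open CategoryTheory CategoryTheory.Limits AlgebraicGeometry Opposite TopologicalSpace

noncomputable section

namespace Groth.Agent.EGAProj74

open Groth.Agent.Var76.LineBundle Groth.Agent.EGA73.BundleImmersion Groth.Agent.Var76.ZeroScheme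
open Groth.Agent.Amp73 Groth.Agent.EGA73 Groth.Agent.EGA73.ChartSources

variable {X S : Scheme.{u}}

/-- High powers of a relatively ample module have charts everywhere. -/
theorem eventually_hasChart_tensor (q : X ⟶ S) [LocallyOfFiniteType q] [CompactSpace S] {L : X.Modules}
    (hL : RelAmple.IsRelAmple q L) {L' : X.Modules} (hL' : PicF.IsInvertible L') : ∃ n₀ : ℕ, 0 < n₀ ∧ ∀ n, n₀ ≤ n → ∀ x : X,
      ∃ (U : S.affineOpens) (T : Set Γ(CohB1.tensorMod (CohB1.tensorPow L n) L', q ⁻¹ᵁ U.1)), HasChart q U T x := by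
  classical
  have hloc : ∀ U : S.affineOpens, ∃ n₀ : ℕ, 0 < n₀ ∧ ∀ n, n₀ ≤ n → ∀ x ∈ q ⁻¹ᵁ U.1,
      ∃ (U' : S.affineOpens) (T : Set Γ(CohB1.tensorMod (CohB1.tensorPow L n) L', q ⁻¹ᵁ U'.1)), HasChart q U' T x := by
    intro U
    let j := (q ⁻¹ᵁ U.1).ι
    obtain ⟨n₀, hn₀, h⟩ := AmpleImmersion.eventually_exists_sections (q ∣_ U.1) (hL.2 U)
      (EGA73.isInvertible_restrict hL' j)
    refine ⟨n₀, hn₀, fun n hn x hx => ?_⟩
    obtain ⟨M, hM, φ, J, hJ, uJ, hu⟩ := h n hn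
    let N := CohB1.tensorMod (CohB1.tensorPow L n) L'
    let ψ : M ≅ N.restrict j := φ ≪≫ EGA73.tensIso (Iso.refl _) (powRestrict j L n) ≪≫
      EGA73.tensorRestrictIso j L' (CohB1.tensorPow L n) ≪≫ (Scheme.Modules.restrictFunctor j).mapIso (EGA73.tensComm _ _)
    obtain ⟨k, V, hV, hle, hzk, hGa, hcl⟩ := hu (⟨x, hx⟩ : (q ⁻¹ᵁ U.1 : Scheme.{u}))
    let U' : S.affineOpens := ⟨U.1.ι ''ᵁ V, hV.image_of_isOpenImmersion _⟩
    have hU' : q ⁻¹ᵁ U'.1 ≤ q ⁻¹ᵁ U.1 := q.preimage_mono ((U.1.ι.image_le_opensRange V).trans_eq U.1.opensRange_ι)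
    have htop : q ⁻¹ᵁ U.1 ≤ j ''ᵁ ⊤ := j.image_top_eq_opensRange.ge.trans' (q ⁻¹ᵁ U.1).opensRange_ι.ge
    let σ : J → Γ(N, q ⁻¹ᵁ U.1) := fun i => res N htop (ψ.hom.app ⊤ (uJ i))
    let T : Set Γ(N, q ⁻¹ᵁ U'.1) := Set.range fun i => res N hU' (σ i)
    let G₀ := CohB1.genLocus M (Var76.Frames.ofSection M (uJ k))
    have hσ : ∀ (i : J) (V' : (q ⁻¹ᵁ U.1 : Scheme.{u}).Opens) (h' : j ''ᵁ V' ≤ q ⁻¹ᵁ U.1),
        res N h' (σ i) = ψ.hom.app V' (res M (le_top : V' ≤ ⊤) (uJ i)) := fun i V' h' => by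
      show res N h' (res N htop _) = _
      rw [res_res, Mero90.app_res]
      rfl
    have hfl : flocus (σ k) = j ''ᵁ G₀ := by
      refine le_antisymm ?_ ?_
      · have h1 : flocus (σ k) = j ''ᵁ (j ⁻¹ᵁ flocus (σ k)) := by
          rw [j.image_preimage_eq_opensRange_inf, Scheme.Opens.opensRange_ι, inf_eq_right.2 (flocus_le _)]
        rw [h1]
        refine j.image_mono ((isFrame_iff_le_genLocus _ _).1 ?_)
        rw [Var76.Frames.val_ofSection, ← isFrame_app_iff ψ.hom, ← hσ k _ (h1.ge.trans (flocus_le _)),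
          isFrame_restrict_iff]
        have h2 := (isFrame_flocus (σ k)).res h1.ge
        rw [res_res] at h2
        exact h2
      · have h1 : j ''ᵁ G₀ ≤ q ⁻¹ᵁ U.1 := (j.image_le_opensRange _).trans_eq (Scheme.Opens.opensRange_ι _)
        refine le_flocus _ h1 ?_
        rw [hσ k G₀ h1, ← isFrame_restrict_iff, isFrame_app_iff, ← Var76.Frames.val_ofSection]
        exact isFrame_genLocus _
    have hGU : j ''ᵁ G₀ ≤ q ⁻¹ᵁ U'.1 := (j.image_mono hle).trans (image_morphismRestrict_preimage q U.1 V).le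
    refine ⟨U', T, hasChart_of_closure (s := res N hU' (σ k)) ⟨k, rfl⟩ hGU ?_ ⟨_, hzk, rfl⟩
      (hGa.image_of_isOpenImmersion _) (top_le_iff.1 (hcl.ge.trans (Subring.closure_mono ?_)))⟩
    · rw [flocus_res, hfl]
      exact inf_eq_left.2 hGU
    · rintro a (⟨t, rfl⟩ | ⟨i, hi⟩)
      · exact Set.mem_union_left _ ⟨t, (ConcreteCategory.congr_hom (morphismRestrict_appLE q U.1 V G₀ hle) t).symm⟩
      · refine Set.mem_union_right _ ⟨_, ⟨i, rfl⟩, ?_⟩
        have h1 := congrArg (ψ.hom.app G₀) hi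
        rw [Scheme.Modules.Hom.app_smul, ← hσ k _ (hGU.trans hU'), ← hσ i _ (hGU.trans hU')] at h1
        show (show Γ(X, j ''ᵁ G₀) from a) • res N hGU (res N hU' (σ k)) = res N hGU (res N hU' (σ i))
        refine (congrArg _ (res_res N hU' hGU (σ k))).trans (Eq.trans ?_ (res_res N hU' hGU (σ i)).symm)
        have h2 : (j.appIso G₀).inv a • res N (hGU.trans hU') (σ k) = res N (hGU.trans hU') (σ i) := h1
        rw [show j.appIso G₀ = Iso.refl _ from Scheme.Opens.ι_appIso (q ⁻¹ᵁ U.1) G₀] at h2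
        exact h2
  choose n₁ hn₁ hchart using hloc
  obtain ⟨T, hT⟩ := isCompact_univ.elim_finite_subcover (fun U : S.affineOpens => (U.1 : Set S)) (fun U => U.1.2)
    fun z _ => by
      obtain ⟨V, hV, hzV, -⟩ := exists_isAffineOpen_mem_and_subset (U := (⊤ : S.Opens)) (x := z) trivial
      exact Set.mem_iUnion.2 ⟨⟨V, hV⟩, hzV⟩
  refine ⟨T.sup n₁ + 1, Nat.succ_pos _, fun n hn x => ?_⟩
  obtain ⟨U, hU, hxU⟩ := Set.mem_iUnion₂.1 (hT (Set.mem_univ (q x)))
  exact hchart U n (((Finset.le_sup hU).trans (Nat.le_succ _)).trans hn) x hxU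

/-- EGA II 4.6.11, with a twist. -/
theorem eventually_isRelVeryAmple_tensor [CompactSpace S] (f : X ⟶ S) [LocallyOfFiniteType f] {L L' : X.Modules}
    (h : RelAmple.IsRelAmple f L) (hL' : PicF.IsInvertible L') :
    ∃ n₀ : ℕ, ∀ n : ℕ, n₀ ≤ n → RelProj.IsRelVeryAmple f (CohB1.tensorMod (CohB1.tensorPow L n) L') := by
  have := h.1
  have := RelAmpleComp.quasiSeparated_of_isRelAmple h
  obtain ⟨n₀, -, hd⟩ := eventually_hasChart_tensor f h hL'
  refine ⟨n₀, fun n hn => ?_⟩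
  obtain ⟨𝒯, j, P, p, chart, O1, lam, i, hF, hj, hP, hO1, hi, hip, hτ⟩ :=
    QuasiProjective.exists_immersion_pushforward f
      (EGA73.isInvertible_tensorMod (EGA73.isInvertible_tensorPow (Amp73.isInvertible_of_isRelAmple h) n) hL') (hd n hn)
  exact ⟨_, hF, 𝒯, j, hj, P, p, chart, hP, O1, lam, hO1, i, hi, hip, hτ⟩

end Groth.Agent.EGAProj74
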