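import Groth.Agent.EGAProj74.VeryAmpleData
import Groth.Agent.EGAProj74.GrSymExists
import Groth.Agent.EGAProj74.Fundamental
import Groth.Agent.QCqs72.Basic

/-!
An invertible module is very ample relative to a quasi-compact open immersion.
-/

set_option autoImplicit false
set_option backward.isDefEq.respectTransparency.types false

universe u

open CategoryTheory CategoryTheory.Limits AlgebraicGeometry TopologicalSpace Opposite
open scoped HomogeneousIdeal

noncomputable section

namespace Groth.Agent.EGAProj74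

open Var76.LineBundle

theorem isRelVeryAmple_of_isOpenImmersion {X S : Scheme.{u}} (q : X ⟶ S) [IsOpenImmersion q] [QuasiCompact q]
    {L : X.Modules} (hL : PicF.IsInvertible L) : RelProj.IsRelVeryAmple q L := by
  have : L.IsQuasicoherent := Mero90.isQCoh_of_isInvertible hL
  have hEq : ((Scheme.Modules.pushforward q).obj L).IsQuasicoherent := QCqs72.isQuasicoherent_pushforward (M := L) q
  have hv : IsGenerating (g := q) (L := L) (𝟙 ((Scheme.Modules.pushforward q).obj L)) := fun x => by
    obtain ⟨W, hxW, e, he⟩ := Mero90.exists_frame' hL x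
    obtain ⟨_, ⟨U, hU, rfl⟩, hxU, hUW⟩ := (Scheme.isBasis_affineOpens S).exists_subset_of_mem_open
      (show q x ∈ ((q ''ᵁ W : S.Opens) : Set S) from ⟨x, hxW, rfl⟩) (q ''ᵁ W).isOpen
    have hV : q ⁻¹ᵁ U ≤ W := fun y hy => by
      obtain ⟨z, hz, hzy⟩ := hUW hy
      rwa [← q.isOpenEmbedding.injective hzy]
    refine ⟨⟨U, hU⟩, res L hV e, q ⁻¹ᵁ U, le_rfl, hxU, ?_⟩
    show IsFrame L (q ⁻¹ᵁ U) (res L le_rfl (res L hV e))
    rw [res_res]
    exact he.res hV
  obtain ⟨𝒮, j, hj, P, p, chart, hP, O1, lam, hO1⟩ := exists_projBundle hEq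
  obtain ⟨φ, hφ⟩ := exists_canonical hEq hj hO1 hP
  obtain ⟨r, hr⟩ := exists_classifies hEq hj hP hO1 hφ hv
  have : IsImmersion (r ≫ p) := by rw [hr.comp_eq]; infer_instance
  exact IsImmData.isRelVeryAmple hEq ⟨hv, P, 𝒮, j, hj, p, chart, hP, r, IsImmersion.of_comp r p, hr⟩

end Groth.Agent.EGAProj74
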