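import Groth.Agent.EGAProj74.BundleSum
import Groth.Agent.EGAProj74.CoprodIso
import Groth.Agent.EGAProj74.VeryAmpleImm

/-!
Very ampleness on disjoint unions.
-/

set_option autoImplicit false
set_option backward.isDefEq.respectTransparency.types false

universe u

open CategoryTheory CategoryTheory.Limits AlgebraicGeometry TopologicalSpace Opposite
open scoped HomogeneousIdeal

noncomputable section

namespace Groth.Agent.EGAProj74

variable {S : Scheme.{u}}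

theorem exists_bundleMap {E F : S.Modules} (hE : Coh.IsQCoh E) (hF : Coh.IsQCoh F)
    {𝒮 : RelProj.QCGrAlg S} {j : E ⟶ 𝒮.toModule} (hj : RelProj.IsGrSymAlg E 𝒮 j)
    {𝒮' : RelProj.QCGrAlg S} {k : F ⟶ 𝒮'.toModule} (hk : RelProj.IsGrSymAlg F 𝒮' k)
    (q : E ⟶ F) (s : F ⟶ E) (hs : s ≫ q = 𝟙 F) :
    ∃ (π : 𝒮.toQCAlg ⟶ 𝒮'.toQCAlg) (hπ : RelProj.IsGradedHom π),
      j ≫ RelSpec.QCAlg.Hom.toModuleMap π = q ≫ k ∧
      ∀ (U : S.Opens) (hU : IsAffineOpen U),
        (𝒮'.deg U hU)₊ ≤ ((𝒮.deg U hU)₊).map (RelProj.gradedHomAt π hπ U hU) := by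
  obtain ⟨π, hπj, -⟩ := hj.1 𝒮'.toQCAlg (q ≫ k)
  have hgr : RelProj.IsGradedHom π := isGradedHom_of_grSym hE hj π fun U hU m => by
    rw [show (π.hom.app (op U)).hom (j.app U m) = k.app U (q.app U m) from congr(($hπj).app U m)]
    exact hk.2 U hU _
  refine ⟨π, hgr, hπj, fun U hU => ?_⟩
  rw [← SetLike.coe_subset_coe]
  change (𝒮'.deg U hU)₊.toIdeal ≤ _
  refine (irrelevant_le_span_one_of_gen (isGenDegOne_grSym hF hk U hU)).trans (Ideal.span_le.mpr fun x hx => ?_)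
  obtain ⟨m, rfl⟩ := exists_eq_of_mem_degOne hF hk U hU hx
  have h : RelProj.gradedHomAt π hgr U hU (jR j U (s.app U m)) = jR k U m :=
    (congr(($hπj).app U (s.app U m))).trans (congrArg (k.app U) congr(($hs).app U m))
  rw [← h]
  exact Ideal.mem_map_of_mem _ (HomogeneousIdeal.mem_irrelevant_of_mem _ one_pos (hj.2 U hU _))

theorem isRelVeryAmple_coprod {X X' : Scheme.{u}} (f : X ⨿ X' ⟶ S) (L : (X ⨿ X').Modules)
    (h₁ : RelProj.IsRelVeryAmple (coprod.inl ≫ f) ((Scheme.Modules.pullback (coprod.inl : X ⟶ X ⨿ X')).obj L))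
    (h₂ : RelProj.IsRelVeryAmple (coprod.inr ≫ f) ((Scheme.Modules.pullback (coprod.inr : X' ⟶ X ⨿ X')).obj L)) :
    RelProj.IsRelVeryAmple f L := by
  obtain ⟨E, hE, 𝒮E, jE, hjE, PE, pE, chartE, hPE, OE, lamE, hOE, i, hi, hip, ⟨a⟩⟩ := h₁
  obtain ⟨F, hF, 𝒮F, jF, hjF, PF, pF, chartF, hPF, OF, lamF, hOF, i', hi', hip', ⟨a'⟩⟩ := h₂
  have hsum : Coh.IsQCoh (E ⊞ F) := isQuasicoherent_biprod hE hF
  obtain ⟨𝒮, j, hj, P, p, chart, hP, O1, lam, hO1⟩ := exists_projBundle hsum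
  obtain ⟨πE, hπE, hjπE, hirrE⟩ := exists_bundleMap hsum hE hj hjE biprod.fst biprod.inl biprod.inl_fst
  obtain ⟨πF, hπF, hjπF, hirrF⟩ := exists_bundleMap hsum hF hj hjF biprod.snd biprod.inr biprod.inr_snd
  obtain ⟨gE, hgE, -⟩ := existsUnique_relProjMap (hirr := hirrE) hP hPE
  obtain ⟨gF, hgF, -⟩ := existsUnique_relProjMap (hirr := hirrF) hP hPF
  have hclosed := isClosedImmersion_biprod hE hF hjE hjF hj πE hπE hjπE πF hπF hjπF hirrE hirrF hP hPE hPF hgE hgF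
  obtain ⟨eE⟩ := nonempty_pullback_twist_iso hgE hP hPE hO1 hOE (isGenDegOne_grSym hsum hj)
  obtain ⟨eF⟩ := nonempty_pullback_twist_iso hgF hP hPF hO1 hOF (isGenDegOne_grSym hsum hj)
  let r : X ⨿ X' ⟶ P := coprod.map i i' ≫ coprod.desc gE gF
  have hl : coprod.inl ≫ r = i ≫ gE := by
    rw [show coprod.inl ≫ r = (coprod.inl ≫ coprod.map i i') ≫ coprod.desc gE gF from (Category.assoc _ _ _).symm,
      coprod.inl_map, Category.assoc, coprod.inl_desc]
  have hr : coprod.inr ≫ r = i' ≫ gF := by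
    rw [show coprod.inr ≫ r = (coprod.inr ≫ coprod.map i i') ≫ coprod.desc gE gF from (Category.assoc _ _ _).symm,
      coprod.inr_map, Category.assoc, coprod.inr_desc]
  have : IsImmersion (coprod.map i i') := IsZariskiLocalAtTarget.coprodMap i i' hi hi'
  have hrimm : IsImmersion r := inferInstance
  have hrp : r ≫ p = f := by
    ext
    · rw [reassoc_of% hl, relProjMap_over hP hPE hgE, hip]
    · rw [reassoc_of% hr, relProjMap_over hP hPF hgF, hip']
  obtain ⟨τ⟩ := nonempty_iso_coprod (M := L) (N := (Scheme.Modules.pullback r).obj O1)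
    (a ≪≫ (Scheme.Modules.pullback i).mapIso eE.symm ≪≫ (Scheme.Modules.pullbackComp i gE).app O1 ≪≫
      (Scheme.Modules.pullbackCongr hl.symm).app O1 ≪≫ ((Scheme.Modules.pullbackComp coprod.inl r).app O1).symm)
    (a' ≪≫ (Scheme.Modules.pullback i').mapIso eF.symm ≪≫ (Scheme.Modules.pullbackComp i' gF).app O1 ≪≫
      (Scheme.Modules.pullbackCongr hr.symm).app O1 ≪≫ ((Scheme.Modules.pullbackComp coprod.inr r).app O1).symm)
  exact ⟨E ⊞ F, hsum, 𝒮, j, hj, P, p, chart, hP, O1, lam, hO1, r, hrimm, hrp, ⟨τ⟩⟩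

end Groth.Agent.EGAProj74
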