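import Groth.Prelude.Def_RelProj

/-! An algebra as a graded algebra concentrated in degree zero. -/

set_option autoImplicit false

universe u

open CategoryTheory AlgebraicGeometry TopologicalSpace Opposite DirectSum

noncomputable section

namespace Groth.Agent.EGAProj74.ZeroGrading

variable {A : Type u} [CommRing A]

/-- Everything in degree zero. -/
def deg (d : ℕ) : AddSubgroup A := if d = 0 then ⊤ else ⊥

theorem mem_deg {d : ℕ} {x : A} : x ∈ deg d ↔ d = 0 ∨ x = 0 := by
  unfold deg
  split <;> simp_all

theorem isInternal : DirectSum.IsInternal (deg : ℕ → AddSubgroup A) := by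
  classical
  refine ⟨fun z z' hz => ?_, fun x => ⟨DirectSum.of (fun d => deg (A := A) d) 0 ⟨x, mem_deg.2 (Or.inl rfl)⟩, by simp⟩⟩
  have key : ∀ z : ⨁ d, deg (A := A) d, DirectSum.coeAddMonoidHom deg z = ((z 0 : deg (A := A) 0) : A) := by
    intro z
    induction z using DirectSum.induction_on with
    | zero => simp
    | of e y =>
      rw [DirectSum.coeAddMonoidHom_of]
      rcases eq_or_ne e 0 with rfl | he
      · rw [DirectSum.of_eq_same]
      · rw [DirectSum.of_eq_of_ne _ _ _ (Ne.symm he), ((mem_deg.1 y.2).resolve_left he)]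
        simp
    | add a b ha hb => simp [map_add, ha, hb]
  refine DFinsupp.ext fun d => ?_
  rcases eq_or_ne d 0 with rfl | hd
  · exact Subtype.ext ((key z).symm.trans (hz.trans (key z')))
  · exact Subtype.ext (((mem_deg.1 (z d).2).resolve_left hd).trans ((mem_deg.1 (z' d).2).resolve_left hd).symm)

/-- The graded ring. -/
@[instance_reducible]
def gradedRing : GradedRing (deg : ℕ → AddSubgroup A) where
  toGradedMonoid :=
    { one_mem := mem_deg.2 (Or.inl rfl)
      mul_mem := fun {i j _ _} hx hy => by
        rcases mem_deg.1 hx with rfl | rfl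
        · rcases mem_deg.1 hy with rfl | rfl
          · exact mem_deg.2 (Or.inl rfl)
          · exact mem_deg.2 (Or.inr (mul_zero _))
        · exact mem_deg.2 (Or.inr (zero_mul _)) }
  toDecomposition := isInternal.chooseDecomposition

/-- The graded algebra. -/
def grAlg {Y : Scheme.{u}} (𝒜 : RelSpec.QCAlg Y) : RelProj.QCGrAlg Y where
  toQCAlg := 𝒜
  deg _ _ := deg
  graded _ _ := gradedRing
  map_mem := fun {_ _} _ _ _ {_ _} hx => by
    rcases mem_deg.1 hx with h | h
    · exact mem_deg.2 (Or.inl h)
    · exact mem_deg.2 (Or.inr (by rw [h, map_zero]))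
  str_mem _ _ _ := mem_deg.2 (Or.inl rfl)

end Groth.Agent.EGAProj74.ZeroGrading
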